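import Cfsg.Agent.Lib.Rec3E.Defs
import Cfsg.Agent.Lib.Rec3C.O8Loc
import Cfsg.Agent.Lib.Rec3C.Tt

/-! The centraliser of an involution in `Ω₈⁺(2).3` and `Ω₈⁺(2).S₃` (plans/REC3E.md, O8C). -/

set_option autoImplicit false
set_option maxRecDepth 100000
set_option maxHeartbeats 400000

namespace CfsgLib.Rec3E

open Subgroup Cfsg CfsgLib.Tech CfsgLib.PComp CfsgLib.W2 CfsgLib.Rec3 CfsgLib.Rec3B CfsgLib.Rec3B.W4
open CfsgLib.U43 (SL)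

variable {G : Type*} [Group G] [Finite G]

open Rec3C V4 in
theorem o8c_P {ι : N4 → G} (h : O8 WP43 ι) {M : Subgroup G}
    (hz : Cx (ι (nv zz)) ⊓ Cx (ι (nl r4)) ≤ M) (hJ : NJG ι ⊓ Cx (ι (nl r4)) ≤ M) : Cx (ι (nl r4)) ≤ M := by
  have : Fact (Nat.Prime 3) := ⟨Nat.prime_three⟩
  obtain ⟨G0, k⟩ := h.exists_G0
  obtain ⟨κ, R, d⟩ := h.kd
  have hd := h.hd k d
  have := k.nrm
  have v : ∀ a ∈ A24, (κ a : G) = ι (emb3 a) := A3_vals.1 ▸ d.val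
  have mA : ∀ a ∈ A24, κ a ∈ M.subgroupOf (Cx (ι (nl r4))) := fun a ha =>
    hJ (mem_inf.2 ⟨show (κ a : G) ∈ _ by
      rw [v a ha]; exact h.toO4.mem_norm (show a ∈ A3 WP43 from A3_vals.1 ▸ ha), (κ a).2⟩)
  have mR : R ≤ M.subgroupOf (Cx (ι (nl r4))) := fun y hy => hz ⟨by
    have := Subtype.ext_iff.1 (d.RQ y hy z0 (by decide +kernel))
    rw [coe_mul, coe_mul, v _ (by decide +kernel), emb3_vals.2.2.2.1] at this
    exact mem_Cx.2 this.symm, y.2⟩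
  have m0 : G0.subgroupOf (Cx (ι (nl r4))) ≤ M.subgroupOf _ := by
    rw [hd.eq]
    refine sup_le (iSup_le fun i => cj_le_iff.2 fun x hx => ?_) (im_le.2 fun a ha => mA a (Ho.T_A ha))
    have := mA _ (hd.g_mem i)
    exact mul_mem (mul_mem this (mR hx)) (inv_mem this)
  intro g hg
  have s1 : (κ σ0 : G) ∉ G0 := fun e => absurd ((hd.mA σ0 (by decide +kernel)).1 e) (by decide +kernel)
  obtain ⟨n, e⟩ := mem_zpowers_of_prime_card (p := 3) (G := G ⧸ G0) k.idx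
    (g := ((κ σ0 : G) : G ⧸ G0)) (g' := (g : G ⧸ G0)) (fun e => s1 ((QuotientGroup.eq_one_iff _).1 e))
  have e0 : ((κ σ0 : G) ^ n)⁻¹ * g ∈ G0 := QuotientGroup.eq.1 e
  have e' : ((κ σ0 ^ n)⁻¹ * ⟨g, hg⟩ : Cx (ι (nl r4))) ∈ G0.subgroupOf _ := e0
  exact (mul_mem_cancel_left (inv_mem (zpow_mem (mA σ0 (by decide +kernel)) n))).1 (m0 e')

open Rec3C V4 in
theorem o8c_O {Γ : Subgroup GO} {ι : N4 → G} (h : O8 Γ ι) {M : Subgroup G}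
    (hz : Cx (ι (nv zz)) ⊓ Cx (ι (nl r4)) ≤ M) (hJ : NJG ι ⊓ Cx (ι (nl r4)) ≤ M) : Cx (ι (nl r4)) ≤ M := by
  rcases h.hΓ with rfl | rfl
  · exact o8c_P h hz hJ
  obtain ⟨K, -, hK, ht⟩ := h.exists_two
  obtain ⟨κ, h', val⟩ := h.restrict hK ht
  have c : ∀ {g : K} {a}, a ∈ NG WP43 → (g ∈ Cx (κ a) ↔ (g : G) ∈ Cx (ι a)) := fun ha => by
    rw [mem_Cx, mem_Cx, Subtype.ext_iff, coe_mul, coe_mul, val _ ha]
  have k := o8c_P h' (M := M.subgroupOf K)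
    (fun g hg => hz ⟨(c (nv_mem _ _)).1 hg.1, (c (nl_mem r4_P)).1 hg.2⟩) (fun g hg => hJ ⟨by
      obtain ⟨a, ha, rfl⟩ := h'.toO4.exists_eq hg.1
      change (κ a : G) ∈ NJG ι
      rw [val a ha]
      exact h.toO4.mem_norm (WP43_le ha), (c (nl_mem r4_P)).1 hg.2⟩)
  have t1 : ι (nl t12) ∈ Cx (ι (nl r4)) :=
    mem_Cx.2 ((h.comm_iff (nl_mem TtP.tF) (nl_mem TtP.rF)).2 (by decide +kernel))
  intro g hg
  by_cases m : g ∈ K
  · exact k (x := ⟨g, m⟩) ((c (nl_mem r4_P)).2 hg)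
  · exact (mul_mem_cancel_right (hJ ⟨h.toO4.mem_norm (nl_mem TtP.tF), t1⟩)).1
      (k (x := ⟨_, (mul_mem_iff_of_index_two hK).2 (iff_of_false m ht)⟩) ((c (nl_mem r4_P)).2 (mul_mem hg t1)))

theorem o8c {z g : G} {Q : Subgroup G} (h : Rec3C.XQ z Q) (hg : g * z * g⁻¹ ∈ Q) (hg' : g * z * g⁻¹ ∉ zpowers z)
    (π : Cx z →* SL × Multiplicative (ZMod 2)) (hk : ∀ c, π c = 1 ↔ (c : G) ∈ Q) (hs : ∀ s, ∃ c, π c = (s, 1))
    {t : Cx z} (ht : π t = (U43.SL.o 1, 1)) (tt : t * t = 1) (h1 : ¬ Q ≤ Cx (t : G)) (h2 : neg Q z t ≠ Q)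
    {J M : Subgroup G} (Jz : J ≤ Cx z) (Jc : ∀ u ∈ J, ∀ v ∈ J, u * v = v * u) (J81 : Nat.card J = 81)
    (hz : Cx z ⊓ Cx (t : G) ≤ M) (hJ : normalizer (J : Set G) ⊓ Cx (t : G) ≤ M) : Cx (t : G) ≤ M := by
  have : Fact (Nat.Prime 3) := ⟨Nat.prime_three⟩
  have tc : ∀ c ∈ Cx z, c * t * c⁻¹ * t ∈ Q := fun c hc => (hk (⟨c, hc⟩ * t * ⟨c, hc⟩⁻¹ * t)).1 (by
    rw [map_mul, map_mul, map_mul, map_inv, ht]
    exact (by decide +kernel : ∀ a : SL, ∀ b : Multiplicative (ZMod 2),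
      (a, b) * (U43.SL.o 1, 1) * (a, b)⁻¹ * (U43.SL.o 1, 1) = 1) _ _)
  obtain ⟨Γ, ι, k, rfl, rfl, hr, et⟩ := h.exists_O4 (Rec3C.O8LocP.card6 h hk hs) hg hg' t.2
    (congrArg Subtype.val tt) (fun c hc _ => tc c hc) h1 h2
  have tt' : (t : G) * t = 1 := congrArg Subtype.val tt
  obtain ⟨c, hc, e⟩ := (k.syl.of_le k.S_le_Cz le_top).exists_cj_le (IsPGroup.of_card (n := 4) J81) Jz
  have e1 := k.uniq e (fun x hx y hy => by
    have := congrArg (fun t => c * t * c⁻¹) (Jc _ (mem_cj.1 hx) _ (mem_cj.1 hy))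
    simpa [mul_assoc] using this) (by rw [card_cj, J81])
  have u1 := tc c hc
  have u2 : c * t * c⁻¹ * t * c ∈ Cx (t : G) := by
    have := h.exp _ u1
    rw [mem_Cx, ← mul_left_inj (c⁻¹ * t * c * t * c⁻¹ * t)]
    calc _ = (c * t * c⁻¹ * t) ^ 3 := by simp only [pow_succ, pow_zero, one_mul, mul_assoc]
      _ = t * (c * t * (c⁻¹ * ((t : G) * t) * c) * t * c⁻¹) * t := by
        rw [this, tt', mul_one, inv_mul_cancel, mul_one, mul_assoc c, tt', mul_one, mul_inv_cancel, mul_one, tt']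
      _ = _ := by group
  have u3 : c * t * c⁻¹ * t * c ∈ M := hz ⟨mul_mem (h.zc u1) hc, u2⟩
  have e2 : cj (c * t * c⁻¹ * t * c) J = Rec3C.JG ι := by
    rw [Tech.cj_mul, e1]
    exact k.wc_J ((cj_mono _ k.J_le_S).trans (mem_normalizer_iff_cj.1 (le_normalizer (k.Q_le_S u1))).le)
  generalize c * t * c⁻¹ * t * c = d at u2 u3 e2
  rw [← et] at hz hJ u2 ⊢
  refine o8c_O (Rec3C.O8LocP.of_O4 k hr hk hs ht tt et h1 h2) hz fun n hn => ?_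
  have : d⁻¹ * n * d ∈ M := hJ (mem_inf.2 ⟨mem_normalizer_iff_cj.2 (by
    rw [Tech.cj_mul, Tech.cj_mul, e2, mem_normalizer_iff_cj.1 hn.1, ← e2, cj_inv_cj]),
    mul_mem (mul_mem (inv_mem u2) (mem_inf.1 hn).2) u2⟩)
  exact (mul_mem_cancel_left (inv_mem u3)).1 ((mul_mem_cancel_right u3).1 this)

end CfsgLib.Rec3E
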