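import Cfsg.Agent.Lib.Rec3E.E6b
import Cfsg.Agent.Lib.Rec3E.O8C

/-! The centraliser of `b = a j * a k`, first step (plans/REC3E.md, B1). -/

set_option autoImplicit false
set_option maxRecDepth 100000
set_option maxHeartbeats 400000
set_option linter.unusedSectionVars false

namespace CfsgLib.Rec3E

open Subgroup Cfsg CfsgLib.Tech CfsgLib.PComp CfsgLib.W2 CfsgLib.Rec3 CfsgLib.Rec3B CfsgLib.Rec3B.W4
open CfsgLib.U43 (SL)

variable {G : Type*} [Group G] [Finite G]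
variable {z x σ : G} {Q : Subgroup G} {Qi : Fin 3 → Subgroup G} {r a b : Fin 3 → G} {π : Fin 3 → G → SL}
  {τ : G → Equiv.Perm (Fin 3)} {i j k : Fin 3} {φ : W4 →* G}

namespace B1x

open Es NBx

/-- the sign -/
def eps (t : Equiv.Perm (Fin 3)) : Multiplicative (ZMod 2) := if t ^ 3 = 1 then 1 else Multiplicative.ofAdd 1

theorem eps_mul : ∀ s t, eps (s * t) = eps s * eps t := by decide +kernel

theorem eps_one : eps 1 = 1 := by decide +kernel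

theorem eps_fix : ∀ (t : Equiv.Perm (Fin 3)) (i : Fin 3), t i = i → eps t = 1 → t = 1 := by decide +kernel

theorem fix_cases : ∀ (t : Equiv.Perm (Fin 3)) (i j k : Fin 3), i ≠ j → i ≠ k → j ≠ k → t i = i →
    t = 1 ∨ (t j = k ∧ t k = j) := by decide +kernel

theorem sl_gen : ∀ s t : SL, t ^ 3 = 1 → t ≠ 1 → s ^ 4 = 1 ∨ (s * t) ^ 4 = 1 ∨ (s * t * t) ^ 4 = 1 := by
  decide +kernel

theorem zp_one {K : Subgroup G} {y u : G} (y3 : y ^ 3 = 1) (hy : y ∉ K) (hu : u ∈ zpowers y) (uK : u ∈ K) :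
    u = 1 := by
  rcases three_cases y3 hu with e | e | e
  · exact e
  · exact absurd (e ▸ uK) hy
  · exact absurd (inv_mem_iff.1 (e ▸ uK)) hy

/-- the data of `B1` -/
structure BD (z : G) (Q : Subgroup G) (Qi : Fin 3 → Subgroup G) (r : Fin 3 → G) (π : Fin 3 → G → SL)
    (τ : G → Equiv.Perm (Fin 3)) (a b : Fin 3 → G) (x σ : G) (i j k : Fin 3) (y : G) : Prop
    extends EX z Q Qi r π τ a b x σ where
  ij : i ≠ j
  ik : i ≠ k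
  jk : j ≠ k
  hy : y = 1 ∨ y ∉ J5 z x a
  yJ : y ∈ JE z a
  yr : y ∈ Cx (r i)
  yQ : Qi i ≤ Cx y
  hJ : JE z a ≤ J5 z x a ⊔ zpowers y
  hc : Q ⊓ Cx (a j * a k) ≤ fx (a j * a k) y

section ex

variable (h : EX z Q Qi r π τ a b x σ) {g u w : G}
include h

theorem nh : NH z Q Qi r π τ := h.toET.toEH.toNH

theorem bQ (j : Fin 3) : b j ∈ Qi j := h.gen j ▸ subset_closure (by simp)

theorem acm (jk : j ≠ k) : a j * a k = a k * a j := h.cm j k jk _ (h.aQ j) _ (h.aQ k)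

theorem a_not (jk : j ≠ k) : a j ∉ Qi k := fun e => h.an j ((nh h).inf_le jk (h.aQ j) e)

theorem b_not (jk : j ≠ k) : b j ∉ Cx (a j * a k) := fun e => by
  have R := h.rel j k jk
  have e1 := mem_Cx.1 e
  rw [mul_assoc, ← R.bc.eq, ← mul_assoc, ← mul_assoc, R.ab, mul_left_inj, eq_comm, mul_eq_right] at e1
  exact h.z1 e1

theorem β_J : a j * a k ∈ JE z a := mul_mem (h.a_J j) (h.a_J k)

theorem β_Q : a j * a k ∈ Q := mul_mem (h.le j (h.aQ j)) (h.le k (h.aQ k))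

theorem A_J5 : AE z a ≤ J5 z x a := closure_mono (by
  intro u hu
  simp only [Set.mem_insert_iff, Set.mem_singleton_iff] at hu ⊢
  tauto)

theorem K1 (hw : g * z * g⁻¹ ∈ JE z a) (e : Qi i ≤ Cx (g * z * g⁻¹)) : g * z * g⁻¹ ∈ zpowers z := by
  obtain ⟨h1, h2, -⟩ := h.J_H0 hw
  by_contra hn
  refine h.wc g (h.ZT (i := i) hw ((h.πk i _ h1 (by rw [h2]; rfl)).2 fun q hq => ?_)) hn i e
  rw [mem_Cx'.1 (Cx_comm.1 (e hq)), mul_inv_cancel]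
  exact one_mem _

theorem fix_j (jk : j ≠ k) (hg : g ∈ Cx z) (t : τ g = 1) (e : g ∈ Cx (a j * a k)) :
    g * a j * g⁻¹ * (a j)⁻¹ ∈ zpowers z := by
  have H := nh h
  have c : ∀ l, g * a l * g⁻¹ ∈ Qi l := fun l => by simpa [t] using H.cj_mem hg (h.aQ l)
  have e1 : (a j)⁻¹ * (g * a j * g⁻¹) = a k * (g * a k * g⁻¹)⁻¹ := by
    rw [inv_mul_eq_iff_eq_mul, ← mul_assoc, ← mem_Cx'.1 e]; group
  have e2 := H.inf_le jk (mul_mem (inv_mem (h.aQ j)) (c j)) (e1 ▸ mul_mem (h.aQ k) (inv_mem (c k)))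
  rw [← zcj e2 (H.Qz j (h.aQ j))] at e2
  convert e2 using 1
  group

end ex

namespace BD

variable {y : G} (h : BD z Q Qi r π τ a b x σ i j k y) {g u w d : G}
include h

theorem all (l : Fin 3) : l = i ∨ l = j ∨ l = k := by
  have := h.ij; have := h.ik; have := h.jk; omega

theorem βQi : Qi i ≤ Cx (a j * a k) := fun q hq => Cx_comm.1 (mul_mem
  (mem_Cx.2 (h.cm j i h.ij.symm _ (h.aQ j) q hq)) (mem_Cx.2 (h.cm k i h.ik.symm _ (h.aQ k) q hq)))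

theorem β_not (l : Fin 3) : a j * a k ∉ Qi l := fun e => by
  have ej : a j * a k ∉ Qi j := fun e => a_not h.toEX h.jk.symm ((mul_mem_cancel_left (h.aQ j)).1 e)
  rcases h.all l with rfl | rfl | rfl
  · exact ej ((nh h.toEX).ZQi j (h.cen _ _ e fun q hq => mem_Cx.1 (h.βQi hq)))
  · exact ej e
  · exact a_not h.toEX h.jk ((mul_mem_cancel_right (h.aQ _)).1 e)

theorem β3 : (a j * a k) ^ 3 = 1 := h.exp _ (β_Q h.toEX)

theorem β_one (l : Fin 3) (hu : u ∈ zpowers (a j * a k)) (e : u ∈ Qi l) : u = 1 := zp_one h.β3 (h.β_not l) hu e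

theorem D_J : zpowers (a j * a k) ⊔ zpowers y ≤ JE z a :=
  sup_le (zpowers_le.2 (β_J h.toEX)) (zpowers_le.2 h.yJ)

theorem D_r : zpowers (a j * a k) ⊔ zpowers y ≤ Cx (r i) :=
  sup_le (zpowers_le.2 (mul_mem (h.rj i j h.ij (h.aQ j)) (h.rj i k h.ik (h.aQ k)))) (zpowers_le.2 h.yr)

theorem D_Qi (hd : d ∈ zpowers (a j * a k) ⊔ zpowers y) : Qi i ≤ Cx d := fun q hq => Cx_comm.1
  ((sup_le (zpowers_le.2 (Cx_comm.1 (h.βQi hq))) (zpowers_le.2 (Cx_comm.1 (h.yQ hq))) :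
    zpowers (a j * a k) ⊔ zpowers y ≤ Cx q) hd)

theorem J_N : JE z a ≤ fx (a j * a k) y := fun c hc => ⟨mem_Cx.2 (h.Jc c hc _ (β_J h.toEX)), by
  rw [h.Jc c hc _ h.yJ]; simp⟩

theorem J_norm {K : Subgroup G} (hK : K ≤ JE z a) : zpowers y ≤ normalizer (K : Set G) :=
  zpowers_le.2 (mem_normalizer_of_forall fun u hu => by rwa [h.Jc y h.yJ u (hK hu), mul_inv_cancel_right])

theorem D_J5 (hd : d ∈ zpowers (a j * a k) ⊔ zpowers y) (e : d ∈ J5 z x a) : d ∈ zpowers (a j * a k) := by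
  obtain ⟨u, hu, v, hv, rfl⟩ :=
    (Coprime.mem_sup_iff_of_le_normalizer (h.J_norm (zpowers_le.2 (β_J h.toEX)))).1 hd
  have u5 : u ∈ J5 z x a :=
    zpowers_le.2 (A_J5 h.toEX (h.toEX.QJ.le (mem_inf.2 ⟨β_Q h.toEX, β_J h.toEX⟩))) hu
  have : v = 1 := by
    rcases h.hy with rfl | k
    · simpa using hv
    · exact zp_one (h.J3 y h.yJ) k hv ((mul_mem_cancel_left u5).1 e)
  rwa [this, mul_one]

theorem D_Q (hd : d ∈ zpowers (a j * a k) ⊔ zpowers y) (e : d ∈ Q) : d ∈ zpowers (a j * a k) :=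
  h.D_J5 hd (A_J5 h.toEX (h.toEX.QJ.le (mem_inf.2 ⟨e, h.D_J hd⟩)))

theorem D_one (l : Fin 3) (hd : d ∈ zpowers (a j * a k) ⊔ zpowers y) (e : d ∈ Qi l) : d = 1 :=
  h.β_one l (h.D_Q hd (h.le l e)) e

theorem D_π (hd : d ∈ zpowers (a j * a k) ⊔ zpowers y) : π i d = 1 :=
  (h.πk i d (h.toEX.J_H0 (h.D_J hd)).1 (by rw [(h.toEX.J_H0 (h.D_J hd)).2.1]; rfl)).2 fun q hq => by
    rw [mem_Cx'.1 (Cx_comm.1 (h.D_Qi hd hq)), mul_inv_cancel]; exact one_mem _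

theorem N_D (hg : g ∈ fx (a j * a k) y) : g ∈ normalizer ((zpowers (a j * a k) ⊔ zpowers y : Subgroup G) : Set G) :=
  mem_normalizer_of_cj_le (by
    rw [cj_sup, cj_zpowers, cj_zpowers, mem_Cx'.1 hg.1]
    refine sup_le le_sup_left (zpowers_le.2 ?_)
    simpa using mul_mem (mem_sup_left hg.2) (mem_sup_right (mem_zpowers y) : y ∈ zpowers (a j * a k) ⊔ zpowers y))

theorem K1' (hw : w ∈ zpowers z) (e : w⁻¹ * (g * z * g⁻¹) ∈ zpowers (a j * a k) ⊔ zpowers y) :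
    g * z * g⁻¹ ∈ zpowers z := by
  have wJ : w ∈ JE z a := zpowers_le.2 h.toEX.z_J hw
  refine K1 (i := i) h.toEX ((mul_mem_cancel_left (inv_mem wJ)).1 (h.D_J e)) fun q hq => Cx_comm.1 ?_
  exact (mul_mem_cancel_left (inv_mem (mem_Cx.2 (Es.zc hw ((nh h.toEX).Qz i hq)).symm))).1
    (Cx_comm.1 (h.D_Qi e hq))

theorem K2 (e : g * r i * g⁻¹ * (r i)⁻¹ ∈ zpowers (a j * a k) ⊔ zpowers y) : g ∈ Cx (r i) := by
  refine ul_cx.1 (eq_one (h.J3 _ (h.D_J e)) ?_)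
  have c := mem_Cx.1 (h.D_r e)
  generalize hd : g * r i * g⁻¹ * (r i)⁻¹ = d at c
  have e1 : d * r i = g * r i * g⁻¹ := by rw [← hd]; group
  calc d * d = d * r i * (d * r i) * (r i * r i)⁻¹ := by
        rw [mul_assoc d, ← mul_assoc (r i), ← c]; group
    _ = 1 := by rw [e1, conj_mul, h.rr]; group

theorem τ_i (hg : g ∈ Cx z) (e : g ∈ Cx (a j * a k)) : τ g i = i := by
  have c : Qi (τ g i) ≤ Cx (a j * a k) := by
    rw [← h.τa g hg i, ← mem_Cx'.1 e, ← cj_Cx]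
    exact cj_mono g h.βQi
  rcases h.all (τ g i) with k | k | k
  · exact k
  · exact absurd (c (k ▸ bQ h.toEX _)) (b_not h.toEX h.jk)
  · rw [acm h.toEX h.jk] at c
    exact absurd (c (k ▸ bQ h.toEX _)) (b_not h.toEX h.jk.symm)

theorem ker (hg : g ∈ Cx z) (e : g ∈ Cx (a j * a k)) (p : π i g = 1) (t : τ g = 1) :
    ∃ q ∈ Q ⊓ Cx (a j * a k), q⁻¹ * g ∈ zpowers (a j * a k) ⊔ zpowers y := by
  have H := nh h.toEX
  obtain ⟨q, hq, c, hc, -, rfl⟩ := h.toEX.mem_QJ hg fun l => by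
    rcases h.all l with rfl | rfl | rfl
    · exact (h.πk _ g hg (by rw [t]; rfl)).1 p _ (h.aQ _)
    · exact fix_j h.toEX h.jk hg t e
    · exact fix_j h.toEX h.jk.symm hg t (acm h.toEX h.jk ▸ e)
  obtain ⟨u, hu, v, hv, rfl⟩ := (Coprime.mem_sup_iff_of_le_normalizer (h.J_norm h.toEX.J5_le)).1 (h.hJ hc)
  have vD : v ∈ zpowers (a j * a k) ⊔ zpowers y := mem_sup_right hv
  have sJ : ∀ {c}, c ∈ JE z a → c ∈ H.St i := fun hc =>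
    H.H0_le i (H.mem_H0.2 ⟨(h.toEX.J_H0 hc).1, (h.toEX.J_H0 hc).2.1⟩)
  have uJ := h.toEX.J5_le hu
  rw [H.π_mul (H.H0_le i (H.mem_H0.2 ⟨h.zc hq, H.τ_Q hq⟩)) (sJ hc), H.π_mul (sJ uJ) (sJ (h.D_J vD)), H.π_Q hq,
    h.D_π vD, one_mul, mul_one] at p
  obtain ⟨m, hm⟩ := (h.toEX.J5_iff uJ).1 hu
  have x3 := (h.toEX.J_H0 h.xJ).2.2
  have : Fact (Nat.Prime 3) := ⟨Nat.prime_three⟩
  obtain ⟨n, rfl⟩ : 3 ∣ m := by
    rw [← orderOf_eq_prime (x3 i) (h.πx i)]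
    exact orderOf_dvd_of_pow_eq_one ((hm i).symm.trans p)
  have uQ : u ∈ Q := H.mem_Q (h.toEX.J_H0 uJ).1 (h.toEX.J_H0 uJ).2.1 fun l => by rw [hm, pow_mul, x3, one_pow]
  refine ⟨q * u, mem_inf.2 ⟨mul_mem hq uQ, ?_⟩, by simpa [mul_assoc] using vD⟩
  rw [← mul_assoc] at e
  exact (mul_mem_cancel_right (h.J_N (h.D_J vD)).1).1 e

theorem triv (hg : g ∈ Cx z) (e : g ∈ Cx (a j * a k))
    (c : ∀ q ∈ Q ⊓ Cx (a j * a k), g * q * g⁻¹ * q⁻¹ ∈ zpowers (a j * a k) ⊔ zpowers y) : π i g = 1 ∧ τ g = 1 := by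
  have H := nh h.toEX
  have t := h.τ_i hg e
  refine ⟨(h.πk i g hg t).2 fun q hq => ?_, (fix_cases _ _ _ _ h.ij h.ik h.jk t).resolve_right fun s => ?_⟩
  · rw [h.D_one i (c q (mem_inf.2 ⟨h.le i hq, h.βQi hq⟩)) (mul_mem (by simpa [t] using H.cj_mem hg hq) (inv_mem hq))]
    exact one_mem _
  have βD : a j * a k ∈ zpowers (a j * a k) ⊔ zpowers y := mem_sup_left (mem_zpowers _)
  have aH : ∀ l, a l ∈ Q ⊓ Cx (a j * a k) := fun l => mem_inf.2 ⟨h.le l (h.aQ l), (h.J_N (h.toEX.a_J l)).1⟩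
  have e1 : g * a j * g⁻¹ * a k = 1 := h.D_one k (by simpa [mul_assoc] using mul_mem (c _ (aH j)) βD)
    (mul_mem (s.1 ▸ H.cj_mem hg (h.aQ j)) (h.aQ k))
  have e2 : g * a k * g⁻¹ * a j = 1 := h.D_one j
    (by have := mul_mem (c _ (aH k)) βD; rw [acm h.toEX h.jk] at this ⊢; simpa [mul_assoc] using this)
    (mul_mem (s.2 ▸ H.cj_mem hg (h.aQ k)) (h.aQ j))
  refine h.β_not i (of_sq h.β3 ?_)
  nth_rw 1 [← mem_Cx'.1 e]
  rw [← conj_mul, eq_inv_of_mul_eq_one_left e1, eq_inv_of_mul_eq_one_left e2, ← mul_inv_rev, inv_mul_cancel]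
  exact one_mem _

/-- `z` as an element of `N` -/
def zN : fx (a j * a k) y := ⟨z, h.J_N h.toEX.z_J⟩

/-- `r i` as an element of `N` -/
def rN : fx (a j * a k) y := ⟨r i, Cx_comm.1 (h.D_r (mem_sup_left (mem_zpowers _))), by
  rw [mem_Cx'.1 (Cx_comm.1 h.yr), mul_inv_cancel]; exact one_mem _⟩

variable {L : Type*} [Group L] [Finite L] {f : fx (a j * a k) y →* L}
variable (hf : ∀ p : fx (a j * a k) y, f p = 1 ↔ (p : G) ∈ zpowers (a j * a k) ⊔ zpowers y)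
variable {p q : fx (a j * a k) y}
include hf

theorem f_eq : f p = f q ↔ (p : G)⁻¹ * q ∈ zpowers (a j * a k) ⊔ zpowers y := by
  rw [← inv_mul_eq_one, ← map_inv, ← map_mul, hf]; rfl

theorem f_eq' : f p = f q ↔ (p : G) * (q : G)⁻¹ ∈ zpowers (a j * a k) ⊔ zpowers y := by
  rw [← mul_inv_eq_one, ← map_inv, ← map_mul, hf]; rfl

theorem f_cm : f p ∈ Cx (f q) ↔ (p : G) * q * (p : G)⁻¹ * (q : G)⁻¹ ∈ zpowers (a j * a k) ⊔ zpowers y := by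
  rw [mem_Cx', ← map_inv, ← map_mul, ← map_mul, h.f_eq' hf]; rfl

theorem f_cm' (e : (p : G) ∈ Cx (q : G)) : f p ∈ Cx (f q) :=
  (h.f_cm hf).2 (by rw [ul_cx.2 e]; exact one_mem _)

theorem f_Z (e : (p : G) ∈ zpowers z) : f p ∈ zpowers (f h.zN) := by
  obtain ⟨n, hn⟩ := e
  exact ⟨n, (map_zpow f _ n).symm.trans (congrArg f (Subtype.ext hn))⟩

theorem of_Z (e : f p ∈ zpowers (f h.zN)) : ∃ w ∈ zpowers z, w⁻¹ * p ∈ zpowers (a j * a k) ⊔ zpowers y := by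
  obtain ⟨n, hn⟩ := e
  exact ⟨z ^ n, ⟨n, rfl⟩, (h.f_eq hf (p := h.zN ^ n)).1 (by rw [map_zpow]; exact hn)⟩

theorem cj_Z (e : f p * f h.zN * (f p)⁻¹ ∈ zpowers (f h.zN)) : (p : G) * z * (p : G)⁻¹ ∈ zpowers z := by
  rw [← map_inv, ← map_mul, ← map_mul] at e
  obtain ⟨w, hw, e⟩ := h.of_Z hf e
  exact h.K1' hw e

theorem of_Cz (e : f p ∈ Cx (f h.zN)) : (p : G) ∈ Cx z := ul_cx.1 (h.D_one i ((h.f_cm hf).1 e)
  ((nh h.toEX).ZQi i (mul_mem (h.cj_Z hf (by rw [mem_Cx'.1 e]; exact mem_zpowers _)) (inv_mem (mem_zpowers z)))))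

theorem of_Cr (e : f p ∈ Cx (f h.rN)) : (p : G) ∈ Cx (r i) := h.K2 ((h.f_cm hf).1 e)

theorem card_im3 {W : Subgroup G} (h1 : a j * a k ∈ W) (h2 : W ≤ fx (a j * a k) y) (h3 : W ≤ Q ∨ W ≤ J5 z x a) :
    3 * Nat.card (qim f W) = Nat.card W := by
  have e : (zpowers (a j * a k) ⊔ zpowers y) ⊓ W = zpowers (a j * a k) :=
    le_antisymm (fun d hd => h3.elim (fun k => h.D_Q hd.1 (k hd.2)) fun k => h.D_J5 hd.1 (k hd.2))
      (le_inf le_sup_left (zpowers_le.2 h1))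
  rw [card_im hf h2, ← inf_relIndex_right, e, ← card_mul_relIndex' (zpowers_le.2 h1),
    cardZ (fun e => h.β_not i (by rw [e]; exact one_mem _)) h.β3]

theorem hz' : Hz (qim f (Q ⊓ Cx (a j * a k))) (f h.zN) ∧ ∀ c ∈ qim f (Q ⊓ Cx (a j * a k)), c ^ 3 = 1 := by
  have H := nh h.toEX
  have ex : ∀ c ∈ qim f (Q ⊓ Cx (a j * a k)), c ^ 3 = 1 := by
    rintro _ ⟨q, hq, rfl⟩
    rw [← map_pow, show q ^ 3 = 1 from Subtype.ext (h.exp q hq.1), map_one]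
  have zm : f h.zN ∈ qim f (Q ⊓ Cx (a j * a k)) := mem_im (mem_inf.2 ⟨H.z_mem, h.zN.2.1⟩)
  refine ⟨⟨isPGroup_iff_mem.2 fun c hc => ⟨1, ex c hc⟩, zm, fun e => h.z1 (h.D_one i ((hf _).1 e) (h.zQ i)),
    ex _ zm, ?_, ?_⟩, ex⟩
  · rintro _ ⟨q, hq, rfl⟩
    exact h.f_cm' hf (h.zc hq.1)
  · rintro _ ⟨p, hp, rfl⟩ _ ⟨q, hq, rfl⟩
    rw [← map_inv, ← map_inv, ← map_mul, ← map_mul, ← map_mul]
    exact h.f_Z hf (h.cmt p hp.1 q hq.1)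

theorem eq' : EQ (qim f (Q ⊓ Cx (a j * a k))) (f h.zN) := by
  have H := nh h.toEX
  have K := (h.hz' hf).1
  have βZ : a j * a k ∉ zpowers z := fun e => h.β_not i (H.ZQi i e)
  have c1 := H.card_cent (β_Q h.toEX) βZ
  refine ⟨?_, K.zQ, K.z1, K.z3, K.zc, ?_, K.cmt⟩
  · have := h.card_im3 hf (W := Q ⊓ Cx (a j * a k)) (mem_inf.2 ⟨β_Q h.toEX, mem_Cx.2 rfl⟩) h.hc (.inl inf_le_left)
    omega
  rintro _ ⟨q, hq, rfl⟩ e
  have qQ : (q : G) ∈ Q := hq.1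
  have bq := h.le j (bQ h.toEX j)
  have cq : Q ⊓ Cx (a j * a k) ≤ Cx (q : G) := fun p hp => ul_cx.1 (h.D_one i
    ((h.f_cm hf (p := ⟨p, h.hc hp⟩)).1 (mem_Cx.2 (e _ (mem_im hp)))) (H.ZQi i (h.cmt p hp.1 q qQ)))
  obtain ⟨m, hm, em⟩ := ul_pair (a := a j * a k) (y := b j) (p := q) H.z3 ⟨h.zc (β_Q h.toEX), h.cmt _ (β_Q h.toEX) _ bq⟩
    (fun k => b_not h.toEX h.jk (Cx_comm.1 k)) ⟨h.zc qQ, h.cmt _ qQ _ bq⟩
  have mD : m ∈ zpowers (a j * a k) ⊔ zpowers y := mem_sup_left hm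
  have : (q : G) * m ∈ zpowers z := H.cenQ (mul_mem qQ (zpowers_le.2 (β_Q h.toEX) hm)) fun u hu => mem_Cx.1
    (max3 (K := Q ⊓ Cx (a j * a k)) (L := Cx ((q : G) * m)) (fun p hp => Cx_comm.1 (mul_mem (Cx_comm.1 (cq hp))
      (mem_Cx.2 (Es.zc hm hp.2).symm))) inf_le_left (by rw [c1, h.card]; rfl) (Cx_comm.1 em) bq
      (fun k => b_not h.toEX h.jk k.2) hu)
  have := h.f_Z hf (p := q * ⟨m, h.J_N (h.D_J mD)⟩) this
  rwa [map_mul, (hf ⟨m, _⟩).2 mD, mul_one] at this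

/-- the action on `Qi i / ⟨z⟩` together with the sign -/
def ψ : (Cx z).subgroupOf (fx (a j * a k) y) →* SL × Multiplicative (ZMod 2) :=
  MonoidHom.mk' (fun c => (π i c.1, eps (τ c.1))) fun c d => Prod.ext
    (h.πm i _ c.2 (h.τ_i c.2 c.1.2.1) _ d.2 (h.τ_i d.2 d.1.2.1)) 
    ((congrArg eps (h.τm _ c.2 _ d.2)).trans (eps_mul _ _))

theorem exists_π (hs : Function.Surjective f) : ∃ ρ : Cx (f h.zN) →* SL × Multiplicative (ZMod 2),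
    ∀ (c : Cx (f h.zN)) (p : fx (a j * a k) y), f p = c → ρ c = (π i p, eps (τ p)) := by
  let F : (Cx z).subgroupOf (fx (a j * a k) y) →* Cx (f h.zN) :=
    (f.comp (Subgroup.subtype _)).codRestrict _ fun c => h.f_cm' hf c.2
  have hF : Function.Surjective F := fun c => by
    obtain ⟨p, hp⟩ := hs c
    exact ⟨⟨p, h.of_Cz hf (hp ▸ c.2)⟩, Subtype.ext hp⟩
  have hk : F.ker ≤ h.ψ.ker := fun c hc => by
    have := (hf c.1).1 (congrArg Subtype.val hc)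
    exact Prod.ext (h.D_π this) ((congrArg eps (h.toEX.J_H0 (h.D_J this)).2.1).trans eps_one)
  refine ⟨F.liftOfSurjective hF ⟨h.ψ, hk⟩, fun c p e => ?_⟩
  have : c = F ⟨p, h.of_Cz hf (e ▸ c.2)⟩ := Subtype.ext e.symm
  rw [this]
  exact F.liftOfRightInverse_comp_apply _ _ _ _

theorem mem_Q' (hp : (p : G) ∈ Cx z) (e : π i p = 1) (t : τ p = 1) : f p ∈ qim f (Q ⊓ Cx (a j * a k)) := by
  obtain ⟨q, hq, k⟩ := h.ker hp p.2.1 e t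
  exact (h.f_eq hf (p := ⟨q, h.hc hq⟩)).2 k ▸ mem_im hq

theorem xq (hs : Function.Surjective f) : Rec3C.XQ (f h.zN) (qim f (Q ⊓ Cx (a j * a k))) := by
  refine ⟨h.eq' hf, (h.hz' hf).2, fun c hc => ?_, fun c hc => ?_⟩ <;> obtain ⟨p, rfl⟩ := hs c
  · have pz := h.of_Cz hf (mem_Cx.2 (hc _ (h.eq' hf).zQ).symm)
    obtain ⟨e, t⟩ := h.triv pz p.2.1 fun q hq =>
      (h.f_cm hf (q := ⟨q, h.hc hq⟩)).1 (mem_Cx.2 (hc _ (mem_im hq)).symm)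
    exact h.mem_Q' hf pz e t
  · have := h.nQ (mem_normalizer_of_cj_le (by
      rw [cj_zpowers]; exact zpowers_le.2 (h.cj_Z hf (conj_mem_of_mem_normalizer hc (mem_zpowers _)))))
    exact norm_im (mem_normalizer_of_forall fun q hq => mem_inf.2 ⟨conj_mem_of_mem_normalizer this hq.1,
      mul_mem (mul_mem p.2.1 (mem_inf.1 hq).2) (inv_mem p.2.1)⟩)

theorem im_J : qim f (J5 z x a) = qim f (JE z a) := le_antisymm (map_mono (comap_mono h.toEX.J5_le)) (by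
  rintro _ ⟨c, hc, rfl⟩
  obtain ⟨u, hu, v, hv, e⟩ := (Coprime.mem_sup_iff_of_le_normalizer (h.J_norm h.toEX.J5_le)).1 (h.hJ hc)
  exact (h.f_eq hf (p := ⟨u, h.J_N (h.toEX.J5_le hu)⟩) (q := c)).2
    (by rw [← show u * v = (c : G) from e]; simpa using mem_sup_right hv) ▸ mem_im hu)

theorem main (hs : Function.Surjective f) {M : Subgroup G} (hz : Cx z ⊓ Cx (r i) ≤ M) (hN : NE z a ⊓ Cx (r i) ≤ M)
    (hg : ∃ g ∈ fx (a j * a k) y, g * z * g⁻¹ ∈ Q ∧ g * z * g⁻¹ ∉ zpowers z) : fx (a j * a k) y ⊓ Cx (r i) ≤ M := by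
  have H := nh h.toEX
  obtain ⟨g, gN, g1, g2⟩ := hg
  obtain ⟨ρ, hρ⟩ := h.exists_π hf hs
  have aH : ∀ l, a l ∈ Q ⊓ Cx (a j * a k) := fun l => mem_inf.2 ⟨h.le l (h.aQ l), (h.J_N (h.toEX.a_J l)).1⟩
  have DM : zpowers (a j * a k) ⊔ zpowers y ≤ M := fun d hd => hz ⟨(h.toEX.J_H0 (h.D_J hd)).1, h.D_r hd⟩
  have key := o8c (g := f ⟨g, gN⟩) (h.xq hf hs) ?_ (fun e => g2 (h.cj_Z hf e)) ρ ?_ ?_
    (t := ⟨f h.rN, h.f_cm' hf (h.rz i)⟩) ?_ ?_ ?_ ?_ (J := qim f (JE z a)) (M := qim f M) ?_ ?_ ?_ ?_ ?_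
  · exact fun c hc => (mem_im_iff hf DM (x := ⟨c, hc.1⟩)).1 (key (h.f_cm' hf hc.2))
  · rw [← map_inv, ← map_mul, ← map_mul]
    exact mem_im (mem_inf.2 ⟨g1, mul_mem (mul_mem gN.1 h.zN.2.1) (inv_mem gN.1)⟩)
  · refine fun c => ⟨fun e => ?_, fun ⟨q, hq, e⟩ => ?_⟩
    · obtain ⟨p, hp⟩ := hs c
      have pz := h.of_Cz hf (hp ▸ c.2)
      rw [hρ c p hp, Prod.ext_iff] at e
      exact hp ▸ h.mem_Q' hf pz e.1 (eps_fix _ i (h.τ_i pz p.2.1) e.2)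
    · rw [hρ c q e, H.π_Q (q := q) hq.1, H.τ_Q (q := q) hq.1, eps_one]; rfl
  · have m4 : ∀ α : SL, α ^ 4 = 1 → (α, 1) ∈ ρ.range := fun α hα => by
      obtain ⟨u, hu, e⟩ := h.toET.toEH.R_onto i hα
      obtain ⟨u1, u2, -⟩ := h.toET.toEH.R_H0 hu
      have uN : u ∈ fx (a j * a k) y := ⟨Cx_comm.1 (mul_mem (h.toET.toEH.R_Q h.ij hu (h.aQ j))
        (h.toET.toEH.R_Q h.ik hu (h.aQ k))), by
          rw [ul_cx.2 ((h.toET.toEH.cent_of (h.toEX.J_H0 h.yJ).1 h.yr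
            (h.D_π (mem_sup_right (mem_zpowers y)))).2 hu)]
          exact one_mem _⟩
      exact ⟨⟨f ⟨u, uN⟩, h.f_cm' hf u1⟩, by rw [hρ _ _ rfl, e, u2, eps_one]⟩
    have mx : (π i x, 1) ∈ ρ.range := ⟨⟨f ⟨x, h.J_N h.xJ⟩, h.f_cm' hf (h.toEX.J_H0 h.xJ).1⟩, by
      rw [hρ _ _ rfl, (h.toEX.J_H0 h.xJ).2.1, eps_one]⟩
    have st : ∀ s : SL, (s * π i x, 1) ∈ ρ.range → (s, 1) ∈ ρ.range := fun s e =>
      (mul_mem_cancel_right mx).1 (by simpa using e)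
    intro s
    rcases sl_gen s _ ((h.toEX.J_H0 h.xJ).2.2 i) (h.πx i) with e | e | e
    exacts [m4 _ e, st _ (m4 _ e), st _ (st _ (m4 _ e))]
  · rw [hρ _ _ rfl]
    exact Prod.ext (F5.π_rr H i) ((congrArg eps H.τ_r).trans eps_one)
  · exact Subtype.ext ((map_mul f _ _).symm.trans ((congrArg f (Subtype.ext (h.rr i))).trans f.map_one))
  · intro e
    have := h.of_Cr hf (e (mem_im (x := ⟨a i, h.hc (aH i)⟩) (aH i)))
    have e1 := h.ra i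
    rw [mem_Cx'.1 (Cx_comm.1 this)] at e1
    exact h.an i (of_sq (h.J3 _ (h.toEX.a_J i)) (by rw [mul_eq_one_iff_eq_inv.2 e1]; exact one_mem _))
  · intro e
    have := ((h.hz' hf).1.mem_neg.1 (e.ge (mem_im (x := ⟨a j, h.hc (aH j)⟩) (aH j)))).2
    rw [mem_Cx'.1 (h.f_cm' hf (p := h.rN) (Cx_comm.1 (h.rj i j h.ij (h.aQ j)))), ← map_mul] at this
    obtain ⟨w, hw, k⟩ := h.of_Z hf this
    have := h.D_one j k (mul_mem (inv_mem (H.ZQi j hw)) (mul_mem (h.aQ j) (h.aQ j)))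
    exact h.an j (of_sq (h.J3 _ (h.toEX.a_J j)) ((show w = a j * a j from inv_mul_eq_one.1 this) ▸ hw))
  · rintro _ ⟨c, hc, rfl⟩
    exact h.f_cm' hf (h.toEX.J_H0 hc).1
  · rintro _ ⟨c, hc, rfl⟩ _ ⟨d, hd, rfl⟩
    exact mem_Cx.1 (h.f_cm' hf (mem_Cx.2 (h.Jc c hc d hd)))
  · have := h.card_im3 hf (W := J5 z x a) (A_J5 h.toEX (h.toEX.QJ.le (mem_inf.2 ⟨β_Q h.toEX, β_J h.toEX⟩)))
      (h.toEX.J5_le.trans h.J_N) (.inr le_rfl)
    rw [h.im_J hf, h.toEX.card_J5] at this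
    omega
  · intro c hc
    obtain ⟨p, rfl⟩ := hs c
    exact mem_im (hz ⟨h.of_Cz hf hc.1, h.of_Cr hf hc.2⟩)
  · intro c hc
    obtain ⟨p, rfl⟩ := hs c
    exact mem_im (hN ⟨(norm_im_iff hf h.D_J h.J_N).1 hc.1, h.of_Cr hf hc.2⟩)

end BD

end B1x

theorem EP.b1 (h : EP z Q Qi r π τ a b x σ i j k φ) {y : G} (hy : y = 1 ∨ y ∉ J5 z x a) (yJ : y ∈ JE z a)
    (yr : y ∈ Cx (r i)) (yQ : Qi i ≤ Cx y) (hJ : JE z a ≤ J5 z x a ⊔ zpowers y)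
    (hc : Q ⊓ Cx (φ U6x.gy) ≤ fx (φ U6x.gy) y)
    (hg : ∃ g ∈ fx (φ U6x.gy) y, g * z * g⁻¹ ∈ Q ∧ g * z * g⁻¹ ∉ zpowers z) :
    fx (φ U6x.gy) y ⊓ Cx (r i) ≤ M6 φ (a i) (r i) := by
  rw [show φ U6x.gy = a j * a k by rw [U6x.gy, map_mul, h.ea, h.ec]] at hc hg ⊢
  have d : B1x.BD z Q Qi r π τ a b x σ i j k y := ⟨h.toEX, h.ij, h.ik, h.jk, hy, yJ, yr, yQ, hJ, hc⟩
  have : ((zpowers (a j * a k) ⊔ zpowers y).subgroupOf (fx (a j * a k) y)).Normal :=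
    ⟨fun n hn g => (conj_mem_of_mem_normalizer (d.N_D g.2) (mem_subgroupOf.1 hn) :)⟩
  exact d.main (f := QuotientGroup.mk' ((zpowers (a j * a k) ⊔ zpowers y).subgroupOf (fx (a j * a k) y)))
    (fun p => (QuotientGroup.eq_one_iff p).trans mem_subgroupOf) (QuotientGroup.mk'_surjective _)
    (fun g hg => h.Nz_le ⟨G2x.Cx_le_norm z hg.1, hg.2⟩) (fun g hg => h.NJ_le ⟨h.NJ4' hg.2 hg.1, hg.2⟩) hg

end CfsgLib.Rec3E
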