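import Cfsg.Agent.Lib.Rec3E.Defs
import Cfsg.Agent.Lib.Rec3B.GX
import Cfsg.Agent.Lib.Rec3.S9End

/-! The centraliser of `a c` in `U₆(2).2` (plans/REC3E.md, XB). -/

set_option autoImplicit false
set_option maxRecDepth 100000
set_option maxHeartbeats 400000
set_option linter.unusedSectionVars false

namespace CfsgLib.Rec3E

namespace XBx

open Subgroup Cfsg CfsgLib.Tech CfsgLib.PComp CfsgLib.W2 CfsgLib.Rec3B CfsgLib.Rec3B.W4
open CfsgLib.Rec3 hiding vec lin act pr vp vec_lin pr_vec pr_lin vp_vec V_comm V_cube lin_vec vec_inj conj_vec vec_mem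
  eq_vec cards wsub
open CfsgLib.U43 (SL)
open G2x (va vc vx vz vecs)
open GM (Rf)
open U6x
open Rec3C (A24)

theorem fin1 : ∀ α : W48, ∀ s ∈ S0, z0 * (Rec3.lin α * z0 * (Rec3.lin α)⁻¹) * (s * (Rec3.lin α * z0 * (Rec3.lin α)⁻¹) * s⁻¹) *
    (s * (s * (Rec3.lin α * z0 * (Rec3.lin α)⁻¹) * s⁻¹) * s⁻¹) * z0 = 1 →
    Rec3.lin α ∉ S3 ∧ Rec3.lin α ∉ D3 ∧ Rec3.lin α ∉ S3x2 ∧ (∃ β : W48,
      Rec3.lin β * ((Rec3.lin α * z0 * (Rec3.lin α)⁻¹)⁻¹ * z0) * (Rec3.lin β)⁻¹ = e3) ∧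
      ((∀ v ∈ [e1, e2, e3], Rec3.lin α * v * (Rec3.lin α)⁻¹ * v⁻¹ = 1 ∨
        Rec3.lin α * v * (Rec3.lin α)⁻¹ * v⁻¹ = (Rec3.lin α * z0 * (Rec3.lin α)⁻¹)⁻¹ * z0 ∨
        Rec3.lin α * v * (Rec3.lin α)⁻¹ * v⁻¹ = ((Rec3.lin α * z0 * (Rec3.lin α)⁻¹)⁻¹ * z0)⁻¹) →
        Rec3.lin α ∈ A24 ∧ Rec3.lin α ∉ A4) := by decide +kernel

theorem fin2 : (∀ s : W48, Rec3.lin s ∈ A4 → ∃ x y, s = x * x * (y * y)) ∧
    (∀ s α : W48, Rec3.lin s ∈ A24 → Rec3.lin α ∈ A24 → Rec3.lin α ∉ A4 → Rec3.lin s ∈ A4 ∨ Rec3.lin (s * α⁻¹) ∈ A4) ∧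
    ∀ s α : W48, Rec3.lin s ∉ A24 → Rec3.lin α ∉ A24 → Rec3.lin (s⁻¹ * α) ∈ A24 := by decide +kernel

theorem lin_conj (a : W3) {v : W3} (hv : v ∈ J0) : Rec3.lin (Rec3.pr a) * v * (Rec3.lin (Rec3.pr a))⁻¹ = a * v * a⁻¹ := by
  rw [Rec3.eq_vec v hv, Rec3.conj_vec, Rec3.conj_vec, Rec3.pr_lin]

theorem mem_lin {M : ℕ} {hM} {a : W3} : Rec3.lin (Rec3.pr a) ∈ Rec3.wsub M hM ↔ a ∈ Rec3.wsub M hM := by
  rw [Rec3.wsub, mem_comap, mem_comap, Rec3.pr_lin]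

theorem card_QD : Nat.card (QQ ⊓ SD : Subgroup W4) = 81 := by
  rw [TG.card_subgroup _ (fun u => u ∈ QQ ∧ u ∈ SD) fun _ => Iff.rfl]; decide +kernel

theorem mem_Q0' : ∀ a ∈ S0, a ∉ J0 → a ^ 3 = 1 → a ∈ Q0 := by decide +kernel

theorem cube_sq {G : Type*} [Group G] {K : Subgroup G} (hK : ∀ y, y * y ∈ K) {x : G} (h : x ^ 3 = 1) : x ∈ K := by
  have : x = x⁻¹ * x⁻¹ := by rw [← mul_one (x⁻¹ * x⁻¹), ← h]; group
  exact this ▸ hK _

variable {G : Type*} [Group G] [Finite G] {φ : W4 →* G} {R : Subgroup G} {π π' : G → SL}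

theorem swap_y {ω : G} (hω : Swap φ ω) : ω ∈ Cx (φ gy) := mem_Cx'.2 (by
  rw [gy, map_mul, ← conj_mul, hω.a, hω.c, ← map_mul, ← map_mul, JJ_comm G2x.mems.2.1 G2x.mems.1])

variable (h : GC φ R π π')
include h

/-- the reflection with root `x z` -/
theorem exists_t : ∃ g t : G, t = g * φ gr * g⁻¹ ∧ Rf φ t (gx * gz) ∧ t ∈ Cx (φ gy) ∧ t * φ gz * t⁻¹ = φ gx⁻¹ := by
  obtain ⟨q, hq, eq⟩ := h.exists_mx (v := ga) (by decide +kernel) (by decide +kernel) (fun e => by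
    rcases zp3_cases (show gx ^ 3 = 1 by decide +kernel) e with e | e | e <;> (revert e; decide +kernel))
  obtain ⟨w, -, ew⟩ : ∃ w ∈ [gb, gb⁻¹], w * (ga * gx) * w⁻¹ = gx * gz := by decide +kernel
  have eg : φ w * q * φ ga * (φ w * q)⁻¹ = φ (gx * gz) := by rw [← cje ew, ← eq]; group
  have hg := mul_mem (G2x.mem_NJ (φ := φ) w) hq
  generalize φ w * q = g at eg hg
  have r0 : Rf φ (φ gr) ga := fun v hv => by
    rw [← map_inv, ← map_inv, ← map_mul, ← map_mul, ← map_mul, ← MonoidHom.map_zpowers]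
    refine mem_map_of_mem φ ?_
    have k : ∀ v : V81, ∃ n ∈ [0, 1, 2], ga ^ n = gr * vec v * gr⁻¹ * (vec v)⁻¹ := by decide +kernel
    obtain ⟨n, -, e⟩ := k (vp v)
    rw [eq_vec hv] at e
    exact e ▸ npow_mem_zpowers _ _
  have rf := r0.conj hg eg
  have tc : g * φ gr * g⁻¹ * φ (gx * gz) * (g * φ gr * g⁻¹)⁻¹ = (φ (gx * gz))⁻¹ := by
    rw [← eg, conj_inv, conj_mul, conj_mul, cje W4.rel.ra, map_inv, conj_inv]
  refine ⟨g, _, rfl, rf, ?_⟩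
  generalize g * φ gr * g⁻¹ = t at rf tc
  have k := fun v (hv : v ∈ JJ ∧ Om v ∧ ¬ Om (gx * gz * v) ∧ ¬ Om ((gx * gz)⁻¹ * v)) =>
    fix_om h rf (by decide +kernel) hv.1 hv.2.1 hv.2.2
  have c1 := k (ga * gx * gz⁻¹) (by decide +kernel)
  have c2 := k (ga * gx⁻¹ * gz) (by decide +kernel)
  have c3 := k (gc * gx⁻¹ * gz) (by decide +kernel)
  constructor
  · rw [show gy = ga * gx * gz⁻¹ * (gc * gx⁻¹ * gz) by decide +kernel, map_mul]
    exact mem_Cx.2 (c1.mul_right c3)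
  · have c4 : t * φ (gx * gz⁻¹) * t⁻¹ = φ (gx * gz⁻¹) := by
      rw [show gx * gz⁻¹ = (ga * gx * gz⁻¹)⁻¹ * (ga * gx⁻¹ * gz) by decide +kernel, map_mul, map_inv]
      exact mul_inv_eq_iff_eq_mul.2 (c1.inv_right.mul_right c2)
    have e1 : φ gz = φ (gx * gz⁻¹) * (φ (gx * gz))⁻¹ := by
      rw [← map_inv, ← map_mul]; exact congrArg φ (by decide +kernel)
    rw [e1, ← conj_mul, ← conj_inv, c4, tc, inv_inv, ← map_mul]
    exact congrArg φ (by decide +kernel)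

theorem cent_xz {g : G} (hy : g ∈ Cx (φ gy))
    (l3 : g * φ (gx * gz) * g⁻¹ * (φ (gx * gz))⁻¹ ∈ zpowers (φ gy)) : g ∈ NJ φ := by
  have gy' := mem_Cx'.1 hy
  have o : ∀ u, u ∈ JJ ∧ Om u → g * φ u * g⁻¹ ≠ φ (gx * gz) := fun u hu e => by
    obtain ⟨m, em⟩ := (h.om hu.1).2 hu.2
    exact absurd ((h.om (u := gx * gz) (by decide +kernel)).1 ⟨g * m, by rw [← e, ← em]; group⟩) (by decide +kernel)
  have l4 : g * φ (gx * gz) * g⁻¹ = φ (gx * gz) := by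
    rcases zp3_cases y3 l3 with l | l | l <;> rw [mul_inv_eq_iff_eq_mul] at l
    · rwa [one_mul] at l
    · refine absurd ?_ (o (gy⁻¹ * (gx * gz)) (by decide +kernel))
      rw [map_mul φ gy⁻¹, map_inv, ← conj_mul, ← conj_inv, gy', l, inv_mul_cancel_left]
    · refine absurd ?_ (o (gy * (gx * gz)) (by decide +kernel))
      rw [map_mul φ gy, ← conj_mul, gy', l, mul_inv_cancel_left]
  obtain ⟨n, hn, l5⟩ := h.om' (u := gy * (gx * gz)) (by decide +kernel)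
  have nJ' := h.N3_le hn
  obtain ⟨v, hv⟩ := G2x.exists_vec' nJ' (va * vc)
  rw [ys.2.2.2.1] at hv
  have l6 : n⁻¹ * g * n ∈ Cx (φ gz) := by
    rw [← mem_cj, cj_Cx, l5, mem_Cx', map_mul φ gy, ← conj_mul, gy', l4]
  have l7 := h.NS_le (h.norm_S (G2x.Cx_le_norm _ l6) (les.1 (vec_mem v))
    (fun l => absurd ((h.perp nJ' ys.2.1 l5).1 (hv ▸ mem_map_of_mem φ l)) (by decide +kernel)) (by
      rw [← hv, show n⁻¹ * g * n * (n⁻¹ * φ gy * n) * (n⁻¹ * g * n)⁻¹ = n⁻¹ * (g * φ gy * g⁻¹) * n by group,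
        gy', hv]
      exact mem_map_of_mem φ (les.1 (vec_mem v))))
  simpa [mul_assoc] using mul_mem (mul_mem nJ' l7) (inv_mem nJ')

variable {L : Type*} [Group L] [Finite L] {f : Cx (φ gy) →* L}
variable (hf : ∀ x : Cx (φ gy), f x = 1 ↔ (x : G) ∈ zpowers (φ gy)) (hs : Function.Surjective f)
include hf hs

theorem js (hw : Sw φ) {ω : G} (hω : Swap φ ω) : ∃ (A : Subgroup W3) (ι : W3 → L), JS A ι ∧
    Cx (ι z0) ≤ normalizer (img ι J0 : Set L) ∧ (A = S3 ∨ A = D3 ∨ A = S3x2 ∨ A = B3) ∧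
    img ι J0 = qim f (JJ.map φ) ∧ img ι S0 = qim f (SD.map φ) ∧ ι z0 = f (zK φ) := by
  have : Fact (Nat.Prime 3) := ⟨Nat.prime_three⟩
  obtain ⟨-, my, -, ey, -, σ1, σ2, σ3, c1, c2, -⟩ := ys
  have nJ : ∀ {p : Cx (φ gy)}, f p ∈ normalizer (qim f (JJ.map φ) : Set L) ↔ (p : G) ∈ NJ φ :=
    norm_im_iff hf Z_le J_le
  have cm : ∀ {p q : Cx (φ gy)}, (p : G) * q = q * p → f p * f q = f q * f p := fun e => by
    rw [← map_mul, ← map_mul]
    exact congrArg f (Subtype.ext e)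
  have z3 : f (zK φ) ^ 3 = 1 := by rw [← map_pow, show zK φ ^ 3 = 1 from Subtype.ext G2x.z3, map_one]
  have ωy := swap_y hω
  have h81 : Nat.card (qim f (SD.map φ)) = 81 := by
    have := card3 h hf (mem_map_of_mem φ (JJ_le my)) SD_le
    rw [h.card_map, card_SD] at this
    omega
  obtain ⟨A, ι, k, eJ, eS, ez, hA⟩ := exists_JS0 (z := f (zK φ)) (σ := f (el φ gσ σ1)) (t := f ⟨ω, ωy⟩)
    (S := qim f (SD.map φ)) (J := qim f (JJ.map φ))
    (orderOf_eq_prime z3 fun e => by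
      rcases zp3_cases ys.1 (h.mem_zp.1 ((hf _).1 e)) with e | e | e
      exacts [rel.z1 e, c1 e, c2 e])
    (sylow_of (IsPGroup.of_card (n := 4) h81) (fun _ ⟨p, ⟨u, _, e⟩, l⟩ => l ▸ mem_Cx.2 (cm (by
      rw [← show φ u = p from e]; exact mem_Cx.1 (phi_z φ u)))) fun x hx _ ⟨n, e⟩ => by
      obtain ⟨p, rfl⟩ := hs x
      have pz := lift h hf hx
      have pS : (p : G) ∈ normalizer (SS.map φ : Set G) := by
        have e1 : SS.map φ = JJ.map φ ⊔ QQ.map φ := by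
          rw [← Subgroup.map_sup]
          refine congrArg _ (le_antisymm ?_ (sup_le les.1 les.2.1))
          refine le_of_index_three (A := QQ) (by rw [cards.2.1, cards.2.2.1]) les.2.1 le_sup_right
            (les.1 G2x.mems.2.2.1) (mem_sup_left G2x.mems.2.2.1) G2x.mems.2.2.2.2.1
        rw [mem_normalizer_iff_cj, e1, cj_sup, mem_normalizer_iff_cj.1 (zy_le h hw pz p.2),
          mem_normalizer_iff_cj.1 (h.nQ (G2x.Cx_le_norm _ pz))]
      obtain ⟨u, hu, eu⟩ := h.syl.le_of_normalizes (isPGroup_zpowers_of_pow (x := (p : G)) (k := n + 1) (by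
        rw [pow_succ, pow_mul]
        exact cube_of_mem_zpowers y3 ((hf (p ^ 3 ^ n)).1 (by rw [map_pow, e])))) (zpowers_le.2 pz) (zpowers_le.2 pS)
        (mem_zpowers _)
      exact mem_im ⟨u, mem_SD hu (h.comm_iff.1 (by rw [eu]; exact mem_Cx.1 p.2)), eu⟩)
    h81 (map_mono (comap_mono (map_mono JJ_le)))
    (fun _ ⟨p, hp, e⟩ _ ⟨q, hq, e'⟩ => e ▸ e' ▸ cm (G2x.comm_J hp hq))
    (fun _ ⟨p, hp, e⟩ => by rw [← e, ← map_pow, show p ^ 3 = 1 from Subtype.ext (G2x.cube_J hp), map_one])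
    (by
      have := card3 h hf (mem_map_of_mem φ my) J_le
      rw [h.card_map, cards.1] at this
      omega)
    (fun x _ l => by
      obtain ⟨p, rfl⟩ := hs x
      refine mem_im (mem_J h (fun v hv => ?_) p.2)
      exact (cj_iff hf (g := p) (x := el φ v (JJ_le hv)) (y := el φ v (JJ_le hv))).2
        (by rw [l _ (mem_im (x := el φ v (JJ_le hv)) (mem_map_of_mem φ hv)), mul_inv_cancel_right]))
    (mem_im (mem_map_of_mem φ σ1)) (fun e => σ2 (h.mem_map.1 ((mem_im_iff hf Z_le).1 e)))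
    (by rw [← map_pow, show el φ gσ σ1 ^ 3 = 1 from Subtype.ext (by
      show φ gσ ^ 3 = 1
      rw [← map_pow, σ3, map_one]), map_one])
    (fun _ ⟨p, ⟨u, hu, e⟩, l⟩ c => by
      subst l
      have e1 : (p : G) = φ (vec (vp u)) := by rw [eq_vec hu]; exact e.symm
      have e2 : φ gσ * p * (φ gσ)⁻¹ * (p : G)⁻¹ ∈ zpowers (φ gy) :=
        (cj_iff hf (g := el φ gσ σ1) (x := p) (y := p)).2 (by rw [c, mul_inv_cancel_right])
      rw [e1, G2x.conj_vec', ← map_inv, ← map_inv, ← map_mul, ← map_mul, h.mem_zp] at e2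
      obtain ⟨i, j, e3⟩ := fixσ (vp u) (by
        rcases zp3_cases ys.1 e2 with l | l | l
        · exact Or.inl (vec_inj (l.trans (map_one _).symm))
        · exact Or.inr (Or.inl (vec_inj (l.trans ey.symm)))
        · exact Or.inr (Or.inr (vec_inj (by rw [l, map_inv, ey]))))
      have : f ((zK φ ^ i.val)⁻¹ * p) = 1 := (hf _).2 (by
        show (φ gz ^ i.val)⁻¹ * p ∈ _
        rw [e1, e3, map_mul, map_mul, map_pow, map_pow, map_pow, map_pow, vecs.2.2.2, ey, inv_mul_cancel_left]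
        exact pow_mem (mem_zpowers _) _)
      rw [map_mul, map_inv, inv_mul_eq_one, map_pow] at this
      exact this ▸ pow_mem (mem_zpowers _) _)
    (nJ.2 ((GM.swap_Rf hω).mem (by decide +kernel))) (mem_Cx.2 (cm (mem_Cx.1 hω.z)))
    (by
      rw [← map_inv, ← map_mul, ← map_mul, ← map_mul]
      refine mem_im (cent_ac h ?_ ?_ ?_)
      · refine mul_inv_eq_iff_eq_mul.1 ?_
        calc _ = ω * (φ gσ * (ω⁻¹ * (φ gσ * φ ga * (φ gσ)⁻¹) * ω) * (φ gσ)⁻¹) * ω⁻¹ := by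
              simp only [coe_mul, InvMemClass.coe_inv, el]; group
          _ = ω * (φ gσ * φ (gc * gz⁻¹) * (φ gσ)⁻¹) * ω⁻¹ := by
              rw [cje (w := ga * gz⁻¹) (by decide +kernel), map_mul, map_mul, map_inv, ← hω.c]
              conv_lhs => rw [← mem_Cx'.1 hω.z]
              group
          _ = _ := by rw [cje (w := gc) (by decide +kernel), hω.c]
      · refine mul_inv_eq_iff_eq_mul.1 ?_
        calc _ = ω * (φ gσ * (ω⁻¹ * (φ gσ * φ gc * (φ gσ)⁻¹) * ω) * (φ gσ)⁻¹) * ω⁻¹ := by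
              simp only [coe_mul, InvMemClass.coe_inv, el]; group
          _ = ω * (φ gσ * φ (ga * gz) * (φ gσ)⁻¹) * ω⁻¹ := by
              rw [cje (w := gc * gz) (by decide +kernel), map_mul, map_mul, ← hω.a]
              conv_lhs => rw [← mem_Cx'.1 hω.z]
              group
          _ = _ := by rw [cje (w := ga) (by decide +kernel), hω.a]
      · exact mem_Cx.1 (mul_mem (mul_mem (mul_mem hω.z (phi_z φ _)) (inv_mem hω.z)) (phi_z φ _)))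
  refine ⟨A, ι, ⟨k, fun W hW hn => sig h hf hs hW (eJ ▸ hn)⟩, fun x hx => ?_, by tauto, eJ, eS, ez⟩
  obtain ⟨p, rfl⟩ := hs x
  rw [eJ, nJ]
  exact zy_le h hw (lift h hf (ez ▸ hx)) p.2

theorem main (hw : Sw φ) {ω : G} (hω : Swap φ ω) :
    ∃ ι : W3 → L, Emb B3 ι ∧ Function.Surjective ι ∧ img ι J0 = qim f (JJ.map φ) ∧ ι z0 = f (zK φ) ∧
      img ι Q0 = qim f (QQ.map φ) ∧ ∀ Y : Subgroup G, Y.index = 2 → φ gr ∈ Y → ω ∉ Y →
        ∀ p : Cx (φ gy), (p : G) ∈ Y ↔ f p ∈ img ι A24 := by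
  obtain ⟨A, ι, k, hz, hA, eJ, eS, ez⟩ := js h hf hs hw hω
  obtain ⟨g, t, et, rf, ty, tz⟩ := exists_t h
  obtain ⟨-, my, -, ey, -, σ1, σ2, σ3, -⟩ := ys
  have nJ : ∀ {p : Cx (φ gy)}, f p ∈ normalizer (img ι J0 : Set L) ↔ (p : G) ∈ NJ φ := by
    rw [eJ]; exact norm_im_iff hf Z_le J_le
  obtain ⟨a, ha, ea⟩ := k.exists_eq ((nJ (p := ⟨t, ty⟩)).2 (rf.mem (by decide +kernel)))
  obtain ⟨s, hs', es⟩ := (k.mem_im k.le).1 (eS ▸ mem_im (x := el φ gσ σ1) (mem_map_of_mem φ σ1))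
  have mz0 : z0 ∈ J0 := by decide +kernel
  have mz := k.J_le mz0
  have ms := k.le hs'
  have mx : gx⁻¹ ∈ SD := by decide +kernel
  have mu := J0_conj a mz0
  have e1 : ι (a * z0 * a⁻¹) = f (el φ gx⁻¹ mx) := by
    rw [← k.conj ha mz, ea, ez, ← map_inv, ← map_mul, ← map_mul]
    exact congrArg f (Subtype.ext tz)
  have c1 : z0 * (a * z0 * a⁻¹) * (s * (a * z0 * a⁻¹) * s⁻¹) * (s * (s * (a * z0 * a⁻¹) * s⁻¹) * s⁻¹) * z0 = 1 := by
    have m1 := J0_conj s mu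
    have m2 := J0_conj s m1
    rw [← k.eq_one_iff (k.J_le (mul_mem (mul_mem (mul_mem (mul_mem mz0 mu) m1) m2) mz0)),
      k.mul (k.J_le (mul_mem (mul_mem (mul_mem mz0 mu) m1) m2)) mz, k.mul (k.J_le (mul_mem (mul_mem mz0 mu) m1)) (k.J_le m2),
      k.mul (k.J_le (mul_mem mz0 mu)) (k.J_le m1), k.mul mz (k.J_le mu), ← k.conj ms (k.J_le m1), ← k.conj ms (k.J_le mu),
      e1, es, ez]
    simp only [← map_inv f, ← map_mul f]
    refine (hf _).2 ?_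
    simp only [coe_mul, InvMemClass.coe_inv, el, zK, ← map_inv φ, ← map_mul φ]
    rw [h.mem_zp]
    have : ∃ n ∈ [0, 1, 2], gy ^ n = gz * gx⁻¹ * (gσ * gx⁻¹ * gσ⁻¹) * (gσ * (gσ * gx⁻¹ * gσ⁻¹) * gσ⁻¹) * gz := by
      decide +kernel
    obtain ⟨n, -, e⟩ := this
    exact e ▸ npow_mem_zpowers _ _
  obtain ⟨f1, f2, f3, ⟨β, f4⟩, f5⟩ := fin1 (Rec3.pr a) s hs' (by rw [lin_conj a mz0]; exact c1)
  rw [lin_conj a mz0] at f4 f5
  obtain rfl : A = B3 := by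
    rcases hA with rfl | rfl | rfl | rfl
    exacts [absurd (mem_lin.2 ha) f1, absurd (mem_lin.2 ha) f2, absurd (mem_lin.2 ha) f3, rfl]
  have m := mem_B3
  have mxz : gx * gz ∈ SD := by decide +kernel
  have e2 : ι ((a * z0 * a⁻¹)⁻¹ * z0) = f (el φ (gx * gz) mxz) := by
    rw [k.mul (m _) (m _), k.inv (m _), e1, ez, ← map_inv, ← map_mul]
    refine congrArg f (Subtype.ext ?_)
    simp only [coe_mul, InvMemClass.coe_inv, el, zK, map_inv, inv_inv, map_mul]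
  have he : Cx (ι e3) ≤ normalizer (img ι J0 : Set L) := S9c.cent_conj k.toJS0 (m _) (m _) f4 fun x hx => by
    obtain ⟨p, rfl⟩ := hs x
    rw [e2, mem_Cx', ← cj_iff hf] at hx
    exact nJ.2 (cent_xz h p.2 hx)
  have hn := S9c.case_B3 k (fun x hx => by
    obtain ⟨a, ha, rfl⟩ := k.exists_eq (hz hx)
    exact mem_im_of (U6x.w3.1 a ((k.comm_iff ha (m _)).1 (mem_Cx.1 hx)))) he
  have su : Function.Surjective ι := fun l => by
    obtain ⟨a, -, e⟩ := k.exists_eq (g := l) (by rw [normalizer_eq_top]; exact mem_top l)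
    exact ⟨a, e⟩
  refine ⟨ι, k.toEmb, su, eJ, ez, (eq_of_le_of_card_ge (H := qim f (QQ.map φ)) (K := img ι Q0) ?_ ?_).symm,
    fun Y hY rY ωY => ?_⟩
  · rintro l ⟨p, ⟨u, hu, e⟩, el'⟩
    have cube : ∀ {c : W3} {p : Cx (φ gy)}, ι c = f p → (p : G) ∈ QQ.map φ → c ^ 3 = 1 := fun {c p} e hp => by
      rw [← k.eq_one_iff (m _), k.pow (m _), e, ← map_pow, show p ^ 3 = 1 from Subtype.ext (G2x.cube_Q hp), map_one]
    have σQ : φ gσ ∈ QQ.map φ := mem_map_of_mem φ (by decide +kernel)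
    have sJ : s ∉ J0 := fun c => σ2 (h.mem_map.1 ((mem_im_iff hf Z_le (x := el φ gσ σ1)).1 (eJ ▸ es ▸ mem_im_of c)))
    have e' : φ u = p := e
    have pS : (p : G) ∈ SD.map φ := ⟨u, mem_SD (les.2.1 hu) (h.comm_iff.1 (by rw [e']; exact mem_Cx.1 p.2)), e'⟩
    obtain ⟨c, hc, ec⟩ := (k.mem_im k.le).1 (eS ▸ mem_im (x := p) pS)
    have pQ : (p : G) ∈ QQ.map φ := ⟨u, hu, e'⟩
    rw [← el', ← ec]
    refine mem_im_of ?_
    by_cases cJ : c ∈ J0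
    · exact (mul_mem_cancel_right (mem_Q0' s hs' sJ (cube es σQ))).1 (mem_Q0' _ (mul_mem hc hs')
        (fun l => sJ ((mul_mem_cancel_left cJ).1 l)) (cube (p := p * el φ gσ σ1) (by rw [k.mul (m _) (m _), ec, es, map_mul])
          (mul_mem pQ σQ)))
    · exact mem_Q0' c hc cJ (cube ec pQ)
  · have := card3 h hf (K := (QQ ⊓ SD).map φ) (mem_map_of_mem φ ⟨les.2.2.2.1 ys.2.2.2.2.1, JJ_le my⟩)
      ((map_mono inf_le_right).trans SD_le)
    rw [h.card_map, card_QD] at this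
    have l : qim f ((QQ ⊓ SD).map φ) ≤ qim f (QQ.map φ) := map_mono (comap_mono (map_mono inf_le_left))
    have := card_le_of_le l
    rw [k.card_im fun a _ => m a, Rec3.cards.2.2.2.2.2.2.2.2.2.2.2.1]
    omega
  have sq := mul_self_mem_of_index_two hY
  have yY : zpowers (φ gy) ≤ Y := zpowers_le.2 (cube_sq sq y3)
  let K : Subgroup W3 := ((qim f Y).comap k.hom).map B3.subtype
  have mK : ∀ {c}, c ∈ K ↔ ι c ∈ qim f Y := fun {c} =>
    ⟨fun ⟨_, hc, e⟩ => e ▸ hc, fun hc => ⟨⟨c, m c⟩, hc, rfl⟩⟩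
  have sK : ∀ c, c * c ∈ K := fun c => by
    obtain ⟨p, e⟩ := hs (ι c)
    rw [mK, k.mul (m _) (m _), ← e, ← map_mul]
    exact mem_im (sq p)
  have jK : ∀ c, Rec3.lin (Rec3.pr c) ∈ K ↔ c ∈ K := fun c => by
    conv_rhs => rw [← Rec3.vec_lin c]
    exact (mul_mem_cancel_left (cube_sq sK (J0_cube _ (Rec3.vec_mem _)))).symm
  have k4 : ∀ x, Rec3.lin x ∈ A4 → Rec3.lin x ∈ K := fun x hx => by
    obtain ⟨y, z, rfl⟩ := fin2.1 x hx
    rw [map_mul, map_mul, map_mul]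
    exact mul_mem (sK _) (sK _)
  have aK : a ∈ K := mK.2 (ea ▸ mem_im (show t ∈ Y from et ▸ (normal_of_index_eq_two hY).conj_mem _ rY g))
  obtain ⟨a1, a2⟩ := f5 fun v hv => by
    have vJ : v ∈ J0 := (by decide +kernel : ∀ v ∈ [Rec3.e1, Rec3.e2, e3], v ∈ J0) v hv
    obtain ⟨p, ⟨u, hu, e⟩, ep⟩ : ι v ∈ qim f (JJ.map φ) := eJ ▸ mem_im_of vJ
    have e' : φ u = p := e
    obtain ⟨n, en⟩ := rf u hu
    have : ι (a * v * a⁻¹ * v⁻¹) ∈ zpowers (ι ((a * z0 * a⁻¹)⁻¹ * z0)) := ⟨n, by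
      show _ ^ n = _
      rw [e2, k.mul (m _) (m _), k.inv (m _), ← k.conj (m _) (m _), ea, ← ep, ← map_inv, ← map_inv, ← map_mul,
        ← map_mul, ← map_mul, ← map_zpow]
      exact congrArg f (Subtype.ext (by rw [e'] at en; exact en))⟩
    rw [← k.im_zpowers (m _), k.mem_im_iff (fun a _ => m a) (m _)] at this
    rw [lin_conj a vJ]
    exact zp3_cases (J0_cube _ (mul_mem (inv_mem mu) mz0)) this
  have k24 : ∀ x, Rec3.lin x ∈ A24 → Rec3.lin x ∈ K := fun x hx => by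
    rcases fin2.2.1 x _ hx a1 a2 with l | l
    · exact k4 x l
    · have := k4 _ l
      rw [map_mul, map_inv] at this
      exact (mul_mem_cancel_right (inv_mem ((jK a).2 aK))).1 this
  obtain ⟨b, eb⟩ := su (f ⟨ω, swap_y hω⟩)
  have bK : b ∉ K := fun c => ωY ((mem_im_iff hf yY (x := ⟨ω, swap_y hω⟩)).1 (eb ▸ mK.1 c))
  intro p
  obtain ⟨c, ec⟩ := su (f p)
  rw [← mem_im_iff hf yY, ← ec, ← mK, k.mem_im_iff (fun a _ => m a) (m _)]
  refine ⟨fun hc => by_contra fun c' => bK ?_, fun hc => (jK c).1 (k24 _ (mem_lin.2 hc))⟩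
  have := k24 _ (fin2.2.2 (Rec3.pr c) (Rec3.pr b) (fun l => c' (mem_lin.1 l)) fun l => bK ((jK b).1 (k24 _ l)))
  rw [map_mul, map_inv] at this
  exact (jK b).1 ((mul_mem_cancel_left (inv_mem ((jK c).2 hc))).1 this)

end XBx

open Subgroup Cfsg CfsgLib.Tech CfsgLib.PComp CfsgLib.W2 CfsgLib.Rec3 CfsgLib.Rec3B CfsgLib.Rec3B.W4
open CfsgLib.U43 (SL)

variable {G : Type*} [Group G] [Finite G]

theorem xb {φ : W4 →* G} {R : Subgroup G} {π₁ π₂ : G → SL} (h : GC φ R π₁ π₂) (hw : Sw φ) {ω : G} (hω : Swap φ ω)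
    (hab : ∀ g ∈ NJ φ, g * φ ga * g⁻¹ ≠ φ U6x.gy) {L : Type*} [Group L] [Finite L] {f : Cx (φ U6x.gy) →* L}
    (hs : Function.Surjective f) (hf : ∀ p : Cx (φ U6x.gy), f p = 1 ↔ (p : G) ∈ zpowers (φ U6x.gy)) :
    ∃ ι : W3 → L, Emb B3 ι ∧ Function.Surjective ι ∧ img ι J0 = qim f (JJ.map φ) ∧ ι z0 = f (U6x.zK φ) ∧
      img ι Q0 = qim f (QQ.map φ) ∧ ∀ Y : Subgroup G, Y.index = 2 → φ gr ∈ Y → ω ∉ Y →
        ∀ p : Cx (φ U6x.gy), (p : G) ∈ Y ↔ f p ∈ img ι Rec3C.A24 := by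
  have _ := hab
  exact XBx.main h hf hs hw hω

end CfsgLib.Rec3E
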