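import Cfsg.Agent.Lib.Rec3E.E4
import Cfsg.Agent.Lib.Rec3E.XB

/-! The complement `y` when `C(z)` has rank four and contains a swap (plans/REC3E.md, BY1). -/

set_option autoImplicit false
set_option maxRecDepth 100000
set_option maxHeartbeats 400000

namespace CfsgLib.Rec3E

open Subgroup Cfsg CfsgLib.Tech CfsgLib.PComp CfsgLib.W2 CfsgLib.Rec3 CfsgLib.Rec3B CfsgLib.Rec3B.W4
open CfsgLib.U43 (SL)

variable {G : Type*} [Group G] [Finite G]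
variable {z x σ : G} {Q : Subgroup G} {Qi : Fin 3 → Subgroup G} {r a b : Fin 3 → G} {π : Fin 3 → G → SL}
  {τ : G → Equiv.Perm (Fin 3)} {i j k : Fin 3} {φ : W4 →* G}

namespace BY1x

set_option linter.unusedSectionVars false

omit [Finite G] in
/-- congruence modulo `⟨c⟩` -/
def Rb (c u v : G) : Prop := u * v⁻¹ ∈ zpowers c

section Rb

omit [Finite G]

variable {c u v w u' v' g : G}

theorem Rb.of_eq (e : u = v) : Rb c u v := by
  rw [Rb, e, mul_inv_cancel]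
  exact one_mem _

theorem Rb.symm (e : Rb c u v) : Rb c v u := by
  have := inv_mem e
  rwa [mul_inv_rev, inv_inv] at this

theorem Rb.trans (e : Rb c u v) (e' : Rb c v w) : Rb c u w := by
  have := mul_mem e e'
  rwa [mul_assoc, inv_mul_cancel_left] at this

theorem Rb.conj (hg : g ∈ Cx c) (e : Rb c u v) : Rb c (g * u * g⁻¹) (g * v * g⁻¹) := by
  rw [Rb, show g * u * g⁻¹ * (g * v * g⁻¹)⁻¹ = g * (u * v⁻¹) * g⁻¹ by group, comm_of_mem_zpowers' hg e,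
    mul_inv_cancel_right]
  exact e

theorem Rb.inv (hv : v ∈ Cx c) (e : Rb c u v) : Rb c u⁻¹ v⁻¹ := by
  have := e.symm.conj (inv_mem hv)
  rw [Rb] at this ⊢
  convert this using 1
  group

theorem Rb.mul (hu : u ∈ Cx c) (e : Rb c u v) (e' : Rb c u' v') : Rb c (u * u') (v * v') := by
  rw [Rb, show u * u' * (v * v')⁻¹ = u * (u' * v'⁻¹) * v⁻¹ by group, comm_of_mem_zpowers' hu e', mul_assoc]
  exact mul_mem e' e

theorem Rb.exists (hc : c ^ 3 = 1) (e : Rb c u v) : u = v ∨ u = c * v ∨ u = c⁻¹ * v := by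
  rcases mem_zpowers_three hc e with k | k | k
  · exact Or.inl (mul_inv_eq_one.1 k)
  · exact Or.inr (Or.inl (mul_inv_eq_iff_eq_mul.1 k))
  · exact Or.inr (Or.inr (mul_inv_eq_iff_eq_mul.1 k))

end Rb

theorem fin1 : (∀ u ∈ [U6x.gy, U6x.gy⁻¹], u ≠ 1 ∧ u ≠ gz ∧ u ≠ gz⁻¹) ∧
    (∀ u ∈ [U6x.gy, U6x.gy⁻¹, U6x.gy * ga, gc * U6x.gy], u * gb ≠ gb * u ∧ u * gd ≠ gd * u) ∧
    U6x.gy⁻¹ * ga = gc⁻¹ ∧ ga⁻¹ * U6x.gy = gc := by decide +kernel

theorem fin2 : i0 ∈ Rec3C.A24 ∧ i0 ∈ B3 ∧ ∀ e ∈ J0, e ∈ B3 ∧ i0 * e * i0⁻¹ * e = 1 := by decide +kernel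

theorem fin3 : ∀ i j k : Fin 3, i ≠ j → i ≠ k → j ≠ k → ∀ l, l = i ∨ l = j ∨ l = k := by decide

variable (h : EP z Q Qi r π τ a b x σ i j k φ) {g u n y : G}
include h

theorem hb : φ U6x.gy = a j * a k := by rw [U6x.gy, map_mul, h.ea, h.ec]

theorem bQ (l : Fin 3) : b l ∈ Qi l := h.gen l ▸ subset_closure (by simp)

theorem J4_le : JJ.map φ ≤ J5 z x a := h.phi_J h ▸ inf_le_left

theorem b4 : zpowers (φ U6x.gy) ≤ JJ.map φ := zpowers_le.2 (mem_map_of_mem φ U6x.ys.2.1)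

theorem b3 : φ U6x.gy ^ 3 = 1 := by rw [← map_pow, U6x.ys.1, map_one]

theorem J_b (hu : u ∈ JE z a) : u ∈ Cx (φ U6x.gy) :=
  mem_Cx.2 (h.Jc _ hu _ (h.J5_le (J4_le h (b4 h (mem_zpowers _)))))

theorem BZ (h1 : u ∈ zpowers (φ U6x.gy)) (h2 : u ∈ zpowers z) : u = 1 := by
  have k : ∀ w ∈ [U6x.gy, U6x.gy⁻¹], φ w ∉ zpowers z := fun w hw e => by
    obtain ⟨k1, k2, k3⟩ := fin1.1 w hw
    rcases mem_zpowers_three h.z3 e with e | e | e
    · exact k1 (h.inj (by rw [e, map_one]))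
    · exact k2 (h.inj (by rw [e, h.ez]))
    · exact k3 (h.inj (by rw [e, map_inv, h.ez]))
  rcases mem_zpowers_three (b3 h) h1 with e | e | e
  · exact e
  · exact (k U6x.gy (by simp) (e ▸ h2)).elim
  · exact (k U6x.gy⁻¹ (by simp) (by rw [map_inv, ← e]; exact h2)).elim

theorem notQ {w : W4} (hw : w ∈ [U6x.gy, U6x.gy⁻¹, U6x.gy * ga, gc * U6x.gy]) (l : Fin 3) : φ w ∉ Qi l := fun e => by
  obtain ⟨k1, k2⟩ := fin1.2.1 w hw
  by_cases lj : l = j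
  · refine k2 (h.inj ?_)
    rw [map_mul, map_mul, h.ed]
    exact h.cm l k (lj ▸ h.jk) _ e _ (bQ h k)
  · refine k1 (h.inj ?_)
    rw [map_mul, map_mul, h.eb]
    exact h.cm l j lj _ e _ (bQ h j)

theorem BQ {l : Fin 3} (h1 : u ∈ zpowers (φ U6x.gy)) (h2 : u ∈ Qi l) : u = 1 := by
  rcases mem_zpowers_three (b3 h) h1 with e | e | e
  · exact e
  · exact (notQ h (w := U6x.gy) (by simp) l (e ▸ h2)).elim
  · exact (notQ h (w := U6x.gy⁻¹) (by simp) l (by rw [map_inv, ← e]; exact h2)).elim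

theorem Qi_b : Qi i ≤ Cx (φ U6x.gy) := fun q hq => by
  rw [hb h, Cx_comm]
  exact mul_mem (mem_Cx.2 (h.cm j i h.ij.symm _ (h.aQ j) _ hq)) (mem_Cx.2 (h.cm k i h.ik.symm _ (h.aQ k) _ hq))

theorem b_Q : φ U6x.gy ∈ Q := hb h ▸ mul_mem (h.le j (h.aQ j)) (h.le k (h.aQ k))

theorem a5 (l : Fin 3) : a l ∈ J5 z x a := subset_closure (by fin_cases l <;> simp)

theorem z5 : z ∈ J5 z x a := subset_closure (by simp)

/-- an element acting trivially on `J₅ / ⟨b⟩` lies in `J` -/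
theorem keyA (hg : g ∈ Cx (φ U6x.gy)) (e : ∀ u ∈ J5 z x a, Rb (φ U6x.gy) (g * u * g⁻¹) u) : g ∈ JE z a := by
  have gz : g ∈ Cx z := by
    have e1 := e z (z5 h)
    have eq : g * z * g⁻¹ = g * z * g⁻¹ * z⁻¹ * z := by group
    have zZ : g * z * g⁻¹ ∈ zpowers z := by
      by_contra hn
      refine h.wc g (eq ▸ mul_mem (zpowers_le.2 (b_Q h) e1) h.z_mem) hn i fun q hq => ?_
      rw [eq, Cx_comm]
      exact mul_mem (mem_Cx.2 (comm_of_mem_zpowers' (Qi_b h hq) e1).symm) (Cx_comm.1 (h.Qz i hq))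
    exact mem_Cx'.2 (mul_inv_eq_one.1 (BZ h e1 (mul_mem zZ (inv_mem (mem_zpowers z)))))
  have gi : g ∈ Cx (a i) := by
    have e1 := e _ (a5 h i)
    have m := h.cj_mem gz (h.aQ i)
    by_cases t : τ g i = i
    · rw [t] at m
      exact mem_Cx'.2 (mul_inv_eq_one.1 (BQ h e1 (mul_mem m (inv_mem (h.aQ i)))))
    · refine (h.an i (h.cen i _ (h.aQ i) fun q hq => ?_)).elim
      have c1 : g * a i * g⁻¹ ∈ Cx q := mem_Cx.2 (h.cm _ _ t _ m _ hq)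
      have c2 : g * a i * g⁻¹ * (a i)⁻¹ ∈ Cx q := mem_Cx.2 (comm_of_mem_zpowers' (Qi_b h hq) e1).symm
      have := mul_mem (inv_mem c2) c1
      rw [show (g * a i * g⁻¹ * (a i)⁻¹)⁻¹ * (g * a i * g⁻¹) = a i by group] at this
      exact (mem_Cx.1 this).symm
  have ek : a k = (a j)⁻¹ * φ U6x.gy := by rw [hb h, inv_mul_cancel_left]
  have gj : g ∈ Cx (a j) := by
    rcases (e _ (a5 h j)).exists (b3 h) with e1 | e1 | e1
    · exact mem_Cx'.2 e1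
    · refine (notQ h (w := U6x.gy * ga) (by simp) (τ g j) ?_).elim
      rw [map_mul, h.ea, ← e1]
      exact h.cj_mem gz (h.aQ j)
    · refine (notQ h (w := gc * U6x.gy) (by simp) (τ g k) ?_).elim
      have e2 : g * a j * g⁻¹ = (a k)⁻¹ := by
        rw [e1, ← h.ea, ← h.ec, ← map_inv, ← map_mul, fin1.2.2.1, map_inv]
      have := h.cj_mem gz (h.aQ k)
      rwa [ek, ← conj_mul, mem_Cx'.1 hg, ← conj_inv, e2, inv_inv, ← h.ec, ← map_mul] at this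
  refine mem_JE.2 ⟨gz, fun l => ?_⟩
  rcases fin3 i j k h.ij h.ik h.jk l with rfl | rfl | rfl
  · exact gi
  · exact gj
  · rw [ek, Cx_comm]
    exact mul_mem (inv_mem (Cx_comm.1 gj)) (Cx_comm.1 hg)

theorem keyB (nb : n ∈ Cx (φ U6x.gy)) (ni : ∀ u ∈ J5 z x a, Rb (φ U6x.gy) (n * u * n⁻¹) u⁻¹)
    (hy : y ∈ JE z a) (ny : Rb (φ U6x.gy) (n * y * n⁻¹) y) (hg : g ∈ NE z a) (gb : g ∈ Cx (φ U6x.gy)) :
    (g * y * g⁻¹ * y⁻¹ ∈ J5 z x a → g ∈ fx (φ U6x.gy) y) ∧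
      (g * y * g⁻¹ * y ∈ J5 z x a → g * y * g⁻¹ * y ∈ zpowers (φ U6x.gy)) := by
  have J5b : ∀ u ∈ J5 z x a, u ∈ Cx (φ U6x.gy) := fun u hu => J_b h (h.J5_le hu)
  have c1 : n⁻¹ * (g⁻¹ * n * g) ∈ JE z a := by
    refine keyA h (mul_mem (inv_mem nb) (mul_mem (mul_mem (inv_mem gb) nb) gb)) fun u hu => ?_
    have k1 := (ni _ (conj_mem_of_mem_normalizer (h.NJ5 hg) hu)).conj (inv_mem gb)
    have k2 : Rb (φ U6x.gy) (g⁻¹ * n * g * u * (g⁻¹ * n * g)⁻¹) (n * u * n⁻¹) :=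
      ((Rb.of_eq (by group)).trans k1).trans ((Rb.of_eq (by group)).trans (ni u hu).symm)
    exact ((Rb.of_eq (by group)).trans (k2.conj (inv_mem nb))).trans (Rb.of_eq (by group))
  have c2 : Rb (φ U6x.gy) (n * (g * y * g⁻¹) * n⁻¹) (g * y * g⁻¹) := by
    refine (Rb.of_eq ?_).trans (ny.conj gb)
    have := h.Jc _ c1 _ hy
    calc _ = g * (n * (n⁻¹ * (g⁻¹ * n * g) * y) * (n⁻¹ * (g⁻¹ * n * g))⁻¹ * n⁻¹) * g⁻¹ := by group
      _ = _ := by rw [this]; group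
  have yb := J_b h hy
  have nyb : n * (g * y * g⁻¹) * n⁻¹ ∈ Cx (φ U6x.gy) :=
    mul_mem (mul_mem nb (mul_mem (mul_mem gb yb) (inv_mem gb))) (inv_mem nb)
  have fin : ∀ w ∈ J5 z x a, Rb (φ U6x.gy) (n * w * n⁻¹) w → w ∈ zpowers (φ U6x.gy) := fun w hw e => by
    have := e.symm.trans (ni w hw)
    rw [Rb, inv_inv] at this
    exact mem_of_sq_cube this (h.J3 _ (h.J5_le hw))
  refine ⟨fun e => ⟨gb, fin _ e ?_⟩, fun e => fin _ e ?_⟩
  · exact (Rb.of_eq (by group)).trans (c2.mul nyb (ny.inv yb))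
  · exact (Rb.of_eq (by group)).trans (c2.mul nyb ny)

theorem τω {ω : G} (sw : Swap φ ω) : τ ω ≠ 1 := fun t => by
  have := h.cj_mem (h.ez ▸ sw.z) (h.aQ j)
  rw [t, ← h.ea, sw.a, h.ec] at this
  exact h.an k (h.inf_le h.jk this (h.aQ k))

theorem ωb {ω : G} (sw : Swap φ ω) : ω ∈ Cx (φ U6x.gy) := XBx.swap_y sw

theorem ωN {ω : G} (hω : ω ∈ K0 (a i) (r i)) (sw : Swap φ ω) : ω ∈ NE z a := by
  refine h.mem_N (h.ez ▸ sw.z) fun l => ?_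
  rcases fin3 i j k h.ij h.ik h.jk l with rfl | rfl | rfl
  · rw [mem_Cx'.1 hω.1]
    exact h.a_J _
  · rw [← h.ea, sw.a, h.ec]
    exact h.a_J _
  · rw [← h.ec, sw.c, h.ea]
    exact h.a_J _

theorem exists_n0 (hs : ¬ Sm z π τ) {ω : G} (hω : ω ∈ K0 (a i) (r i)) (sw : Swap φ ω) (ωω : ω * ω = 1) :
    ∃ n ∈ L0 z (a i) (r i), n ∈ Cx (φ U6x.gy) ∧ ∀ v ∈ JJ, Rb (φ U6x.gy) (n * φ v * n⁻¹) (φ v)⁻¹ := by
  have ωz : ω ∈ Cx z := h.ez ▸ sw.z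
  obtain ⟨X1, X2⟩ := h.X_J hω ωz (τω h sw) ωω
  have XK : L0 z (a i) (r i) ⊔ zpowers ω ≤ K0 (a i) (r i) := sup_le h.L0_le (zpowers_le.2 hω)
  obtain ⟨ψ, π₁, π₂, e, gc', hw⟩ := h.exists_gc le_sup_left XK X1
  let ω' : (L0 z (a i) (r i) ⊔ zpowers ω : Subgroup G) := ⟨ω, mem_sup_right (mem_zpowers ω)⟩
  have sw' : Swap ψ ω' :=
    ⟨mem_Cx.2 (Subtype.ext (by rw [Subgroup.coe_mul, Subgroup.coe_mul, e]; exact mem_Cx.1 sw.z)),
      mem_Cx.2 (Subtype.ext (by rw [Subgroup.coe_mul, Subgroup.coe_mul, e]; exact mem_Cx.1 sw.x)),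
      Subtype.ext (by rw [Subgroup.coe_mul, Subgroup.coe_mul, Subgroup.coe_inv, e, e]; exact sw.a),
      Subtype.ext (by rw [Subgroup.coe_mul, Subgroup.coe_mul, Subgroup.coe_inv, e, e]; exact sw.c)⟩
  have hab : ∀ g ∈ NJ ψ, g * ψ ga * g⁻¹ ≠ ψ U6x.gy := fun g hg k => by
    have g1 : (g : G) ∈ NJ φ := mem_normalizer_of_forall fun _ ⟨v, hv, l⟩ => by
      obtain ⟨w, hw, l'⟩ := conj_mem_of_mem_normalizer hg (mem_map_of_mem ψ hv)
      refine ⟨w, hw, ?_⟩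
      rw [← l, ← e, ← e, l']
      rfl
    refine h.nab hs h.jk (h.NJ4 (XK g.2).2 g1).1 ?_
    have := congrArg Subtype.val k
    rwa [Subgroup.coe_mul, Subgroup.coe_mul, Subgroup.coe_inv, e, e, h.ea, hb h] at this
  have nrm : ((zpowers (ψ U6x.gy)).subgroupOf (Cx (ψ U6x.gy))).Normal :=
    ⟨fun u hu g => by
      rw [mem_subgroupOf] at hu ⊢
      rw [Subgroup.coe_mul, Subgroup.coe_mul, Subgroup.coe_inv, comm_of_mem_zpowers' g.2 hu, mul_inv_cancel_right]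
      exact hu⟩
  have hf : ∀ p : Cx (ψ U6x.gy), QuotientGroup.mk' ((zpowers (ψ U6x.gy)).subgroupOf (Cx (ψ U6x.gy))) p = 1 ↔
      (p : (L0 z (a i) (r i) ⊔ zpowers ω : Subgroup G)) ∈ zpowers (ψ U6x.gy) := fun p => by
    rw [QuotientGroup.mk'_apply, QuotientGroup.eq_one_iff, mem_subgroupOf]
  obtain ⟨ι, em, -, eJ, -, -, hY⟩ := xb gc' hw sw' hab (QuotientGroup.mk'_surjective _) hf
  obtain ⟨p, hp⟩ := QuotientGroup.mk'_surjective _ (ι i0)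
  have pL := (hY ((L0 z (a i) (r i)).subgroupOf _) X2 (by rw [mem_subgroupOf, e]; exact h.phi_L0 gr)
    (fun k => (h.K0_sw hω ωz (τω h sw)).1 (mem_sup_left k)) p).2 (hp ▸ mem_im_of fin2.1)
  refine ⟨_, pL, mem_Cx.2 ?_, fun v hv => ?_⟩
  · have := congrArg Subtype.val (mem_Cx.1 p.2)
    rwa [Subgroup.coe_mul, Subgroup.coe_mul, e] at this
  · let v' : Cx (ψ U6x.gy) := ⟨ψ v, phi_Cx ψ (JJ_comm hv U6x.ys.2.1)⟩
    have m := mem_im (f := QuotientGroup.mk' ((zpowers (ψ U6x.gy)).subgroupOf (Cx (ψ U6x.gy)))) (x := v')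
      (mem_map_of_mem ψ hv)
    rw [← eJ] at m
    obtain ⟨c, hc, ec⟩ := (em.mem_im fun c hc => (fin2.2.2 c hc).1).1 m
    obtain ⟨c1, c2⟩ := fin2.2.2 c hc
    have k := (hf (p * v' * p⁻¹ * v')).1 (by
      rw [map_mul, map_mul, map_mul, map_inv, hp, ← ec, em.conj fin2.2.1 c1,
        ← em.mul (mul_mem (mul_mem fin2.2.1 c1) (inv_mem fin2.2.1)) c1, c2, em.one])
    obtain ⟨m, hm⟩ := mem_zpowers_iff.1 k
    refine mem_zpowers_iff.2 ⟨m, ?_⟩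
    have := congrArg Subtype.val hm
    rw [Subgroup.coe_zpow, e] at this
    rw [this, inv_inv, ← e]
    rfl

theorem exists_n (hs : ¬ Sm z π τ) {ω : G} (hω : ω ∈ K0 (a i) (r i)) (sw : Swap φ ω) (ωω : ω * ω = 1) :
    ∃ n ∈ Cx (φ U6x.gy), (∀ u ∈ J5 z x a, Rb (φ U6x.gy) (n * u * n⁻¹) u⁻¹) ∧
      ∃ y ∈ JE z a, y ∉ J5 z x a ∧ y ∈ Cx (r i) ∧ Rb (φ U6x.gy) (n * y * n⁻¹) y := by
  obtain ⟨n, nL, nb, ni⟩ := exists_n0 h hs hω sw ωω
  have nK := h.L0_le nL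
  have nN : n ∈ NE z a := by
    refine (h.NJ4 nK.2 (mem_normalizer_of_forall fun _ ⟨v, hv, l⟩ => ?_)).1
    have := mul_mem (b4 h (ni v hv)) (inv_mem (mem_map_of_mem φ hv))
    rwa [inv_mul_cancel_right, l] at this
  have rb : r i ∈ Cx (φ U6x.gy) := Cx_comm.1 (h.phi_K0 _).2
  have cr : ∀ u ∈ Cx (r i), n * r i * u * (n * r i)⁻¹ = n * u * n⁻¹ := fun u hu => by
    rw [show n * r i * u * (n * r i)⁻¹ = n * (r i * u * (r i)⁻¹) * n⁻¹ by group, mem_Cx'.1 (Cx_comm.1 hu)]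
  have i4 : ∀ u ∈ JJ.map φ, Rb (φ U6x.gy) (n * r i * u * (n * r i)⁻¹) u⁻¹ := fun _ ⟨v, hv, l⟩ => by
    rw [← l, cr _ (h.phi_K0 v).2]
    exact ni v hv
  have nrb := mul_mem nb rb
  have g4 : ∀ v ∈ [ga, gc, gx, gz], v ∈ JJ := by decide +kernel
  refine ⟨n * r i, nrb, fun u hu => ?_, ?_⟩
  · induction hu using closure_induction with
    | mem u hu =>
      have ka : ∀ l, Rb (φ U6x.gy) (n * r i * a l * (n * r i)⁻¹) (a l)⁻¹ := fun l => by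
        rcases fin3 i j k h.ij h.ik h.jk l with rfl | rfl | rfl
        · refine Rb.of_eq ?_
          rw [show n * r l * a l * (n * r l)⁻¹ = n * (r l * a l * (r l)⁻¹) * n⁻¹ by group, h.ra, ← conj_inv,
            mem_Cx'.1 nK.1]
        · exact i4 _ ⟨ga, g4 _ (by simp), h.ea⟩
        · exact i4 _ ⟨gc, g4 _ (by simp), h.ec⟩
      simp only [Set.mem_insert_iff, Set.mem_singleton_iff] at hu
      rcases hu with rfl | rfl | rfl | rfl | rfl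
      · exact ka 0
      · exact ka 1
      · exact ka 2
      · exact i4 _ ⟨gx, g4 _ (by simp), h.ex⟩
      · exact i4 _ ⟨gz, g4 _ (by simp), h.ez⟩
    | one => exact Rb.of_eq (by group)
    | mul u v hu hv e e' =>
      have := e.mul (mul_mem (mul_mem nrb (J_b h (h.J5_le hu))) (inv_mem nrb)) e'
      rw [← mul_inv_rev, h.Jc _ (h.J5_le hv) _ (h.J5_le hu)] at this
      exact (Rb.of_eq (by group)).trans this
    | inv u hu e => exact (Rb.of_eq (by group)).trans (e.inv (inv_mem (J_b h (h.J5_le hu))))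
  · obtain ⟨y, yJ, yn, -, yr, -⟩ := h.exists_y hs i
    have yK : y ∈ K0 (a i) (r i) := ⟨(mem_JE.1 yJ).2 i, yr i⟩
    have v4 : n * y * n⁻¹ * y⁻¹ ∈ JJ.map φ := by
      rw [← h.JL0]
      refine mem_inf.2 ⟨mul_mem (conj_mem_of_mem_normalizer nN yJ) (inv_mem yJ), ?_⟩
      rw [show n * y * n⁻¹ * y⁻¹ = n * (y * n⁻¹ * y⁻¹) by group]
      exact mul_mem nL (conj_mem_of_mem_normalizer (h.L0_norm yK) (inv_mem nL))
    generalize ev : n * y * n⁻¹ * y⁻¹ = v at v4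
    have v5 := J4_le h v4
    have vJ := h.J5_le v5
    have vr : v ∈ Cx (r i) := (h.phi_J h ▸ v4 : v ∈ J5 z x a ⊓ Cx (r i)).2
    refine ⟨y * v⁻¹, mul_mem yJ (inv_mem vJ), fun k => yn (by simpa using mul_mem k v5),
      mul_mem (yr i) (inv_mem vr), ?_⟩
    have k1 := (i4 v v4).inv (inv_mem (J_b h vJ))
    have k2 := (Rb.of_eq (c := φ U6x.gy) (rfl : v * y = v * y)).mul (J_b h (mul_mem vJ yJ)) k1
    refine ((Rb.of_eq ?_).trans k2).trans (Rb.of_eq ?_)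
    · rw [← conj_mul, cr y (yr i), conj_inv, ← ev, inv_mul_cancel_right]
    · rw [inv_inv, h.Jc _ vJ _ yJ, mul_assoc, eq_inv_of_mul_eq_one_left (show v * v * v = 1 by
        rw [← h.J3 v vJ, pow_three'])]

end BY1x

theorem EP.by1 (h : EP z Q Qi r π τ a b x σ i j k φ) (hs : ¬ Sm z π τ) {ω : G} (hω : ω ∈ K0 (a i) (r i))
    (sw : Swap φ ω) (ωω : ω * ω = 1) : ∃ y ∈ JE z a, y ∉ J5 z x a ∧ y ∈ Cx (r i) ∧ Qi i ≤ Cx y ∧
      Q ⊓ Cx (φ U6x.gy) ≤ fx (φ U6x.gy) y ∧ ω * y * ω⁻¹ * y ∈ zpowers (φ U6x.gy) ∧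
      (∀ g ∈ NE z a, g ∈ Cx (φ U6x.gy) → g ∈ fx (φ U6x.gy) y ∨ g * ω ∈ fx (φ U6x.gy) y) ∧
      ∀ g ∈ L0 z (a i) (r i), g ∈ NE z a → g ∈ Cx (φ U6x.gy) → g ∈ fx (φ U6x.gy) y := by
  obtain ⟨n, nb, ni, y, yJ, yn, yr, ny⟩ := BY1x.exists_n h hs hω sw ωω
  have key := fun {g : G} (hg : g ∈ NE z a) gb => BY1x.keyB h nb ni yJ ny hg gb
  have ωz : ω ∈ Cx z := h.ez ▸ sw.z
  have ωN := BY1x.ωN h hω sw
  have ωb := BY1x.ωb h sw
  have kQ : Q ⊓ Cx (φ U6x.gy) ≤ fx (φ U6x.gy) y := fun q hq =>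
    (key (h.Q_N hq.1) hq.2).1 ((h.N_J (h.zc hq.1) (h.Q_N hq.1) yJ).1 (by rw [h.τ_Q hq.1, one_pow]))
  have kω : ω * y * ω⁻¹ * y ∈ zpowers (φ U6x.gy) := by
    refine (key ωN ωb).2 ((h.N_J ωz ωN yJ).2 fun t => BY1x.τω h sw ?_)
    refine eq_one_of_sq_cube ?_ t
    rw [← h.τm _ ωz _ ωz, ωω, h.τ_one]
  refine ⟨y, yJ, yn, yr, fun q hq => ?_, kQ, kω, fun g hg gb => ?_, fun g gL hg gb => (key hg gb).1 ?_⟩
  · have k1 := (kQ ⟨h.le i hq, BY1x.Qi_b h hq⟩).2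
    obtain ⟨y1, y2, -⟩ := h.J_H0 yJ
    have k2 := h.cj_mem y1 (inv_mem hq)
    rw [y2] at k2
    have := BY1x.BQ h k1 (l := i) (by
      rw [show q * y * q⁻¹ * y⁻¹ = q * (y * q⁻¹ * y⁻¹) by group]
      exact mul_mem hq k2)
    exact mem_Cx'.2 (mul_inv_eq_one.1 this)
  · have k : g * y * g⁻¹ ∈ ((J5 z x a ⊔ zpowers y : Subgroup G) : Set G) :=
      h.J_le_of yJ yn (conj_mem_of_mem_normalizer hg yJ)
    rw [coe_mul_of_right_le_normalizer_left _ _ (zpowers_le.2 (mem_normalizer_of_forall fun u hu => by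
      rw [h.Jc _ yJ _ (h.J5_le hu), mul_inv_cancel_right]
      exact hu))] at k
    obtain ⟨u, hu, w, hw, e⟩ := k
    dsimp only at e
    rcases mem_zpowers_three (h.J3 y yJ) hw with l | l | l
    · refine (yn ?_).elim
      have := conj_mem_of_mem_normalizer' (h.NJ5 hg) hu
      rw [l, mul_one] at e
      rwa [e, show g⁻¹ * (g * y * g⁻¹) * g = y by group] at this
    · refine Or.inl ((key hg gb).1 ?_)
      rw [← e, l, mul_inv_cancel_right]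
      exact hu
    · have k1 : BY1x.Rb (φ U6x.gy) (g * y * g⁻¹) y⁻¹ := by
        rw [BY1x.Rb, inv_inv]
        refine (key hg gb).2 ?_
        rw [← e, l, inv_mul_cancel_right]
        exact hu
      have k2 : BY1x.Rb (φ U6x.gy) (ω * y * ω⁻¹) y⁻¹ := by
        rw [BY1x.Rb, inv_inv]
        exact kω
      have k3 := k1.inv (inv_mem (BY1x.J_b h yJ))
      rw [inv_inv] at k3
      exact Or.inr ⟨mul_mem gb ωb, ((BY1x.Rb.of_eq (by group)).trans (k2.conj gb)).trans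
        ((BY1x.Rb.of_eq (by group)).trans k3)⟩
  · refine BY1x.J4_le h ?_
    rw [← h.JL0]
    refine mem_inf.2 ⟨mul_mem (conj_mem_of_mem_normalizer hg yJ) (inv_mem yJ), ?_⟩
    rw [show g * y * g⁻¹ * y⁻¹ = g * (y * g⁻¹ * y⁻¹) by group]
    exact mul_mem gL (conj_mem_of_mem_normalizer (h.L0_norm ⟨(mem_JE.1 yJ).2 i, yr⟩) (inv_mem gL))

end CfsgLib.Rec3E
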