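import Cfsg.Agent.Lib.Rec3E.Defs
import Cfsg.Agent.Lib.Rec3B.KMain
import Cfsg.Agent.Lib.Rec3C.Lx
import Cfsg.Agent.Lib.Rec3B.GK

/-! Generation by two local subgroups (plans/REC3E.md, GR). -/

set_option autoImplicit false
set_option maxRecDepth 100000
set_option maxHeartbeats 400000

namespace CfsgLib.Rec3E

open Subgroup Cfsg CfsgLib.Tech CfsgLib.PComp CfsgLib.W2 CfsgLib.Rec3 CfsgLib.Rec3B CfsgLib.Rec3B.W4
open CfsgLib.U43 (SL)

variable {G : Type*} [Group G] [Finite G]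

namespace GRx

omit [Finite G] in
theorem q8_sub {P R : Subgroup G} {r : P} (h : Q8 (r : G) R) (hR : R ≤ P) : Q8 r (R.subgroupOf P) :=
  ⟨Subtype.ext h.rr, fun e => h.r1 (congrArg Subtype.val e), h.mem, (Core.card_subgroupOf_of_le hR).trans h.card,
    fun y hy => (h.sq y hy).imp Subtype.ext (Or.imp Subtype.ext Subtype.ext)⟩

omit [Finite G] in
theorem sup_sub {P A B : Subgroup G} (hA : A ≤ P) (hB : B ≤ P) :
    A.subgroupOf P ⊔ B.subgroupOf P = (A ⊔ B).subgroupOf P := by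
  apply map_injective P.subtype_injective
  rw [Subgroup.map_sup, map_subgroupOf_eq_of_le hA, map_subgroupOf_eq_of_le hB, map_subgroupOf_eq_of_le (sup_le hA hB)]

omit [Finite G] in
theorem norm_sub {P L : Subgroup G} (hL : L ≤ P) {g : P} :
    g ∈ normalizer ((L.subgroupOf P : Subgroup _) : Set P) ↔ (g : G) ∈ normalizer (L : Set G) := by
  rw [← subgroupOf_normalizer_eq hL, mem_subgroupOf]

end GRx

open GRx

theorem gc_gen {φ : W4 →* G} {R : Subgroup G} {π₁ π₂ : G → SL} (h : GC φ R π₁ π₂) (hw : Sw φ) {K : Type*} [Field K]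
    [Fintype K] (hK : Fintype.card K = 4) (e : G ≃* PSU 6 K 2) {P : Subgroup G} (h1 : Cx (φ gz) ≤ P) (h2 : NJ φ ≤ P) :
    P = ⊤ := by
  have hφ : ∀ u, φ u ∈ P := fun u => h1 (phi_z φ u)
  have hR : R ≤ P := fun y hy => h1 (mem_Cx.2 (h.RQ y hy gz (by decide +kernel)).symm)
  obtain ⟨ψ, v⟩ : ∃ ψ : W4 →* P, ∀ u, (ψ u : G) = φ u := ⟨φ.codRestrict P hφ, fun _ => rfl⟩
  have le : ∀ X : Subgroup W4, X.map φ ≤ P := by rintro X _ ⟨u, -, rfl⟩; exact hφ u
  have mp : ∀ X : Subgroup W4, X.map ψ = (X.map φ).subgroupOf P := fun X => by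
    ext g
    exact ⟨fun ⟨u, hu, e⟩ => ⟨u, hu, by rw [← v, e]; rfl⟩, fun ⟨u, hu, e⟩ => ⟨u, hu, Subtype.ext ((v u).trans e)⟩⟩
  have cx : ∀ u, Cx (ψ u) = (Cx (φ u)).subgroupOf P := fun u => by rw [GKP.cx_sub, v]
  have zp : ∀ u, zpowers (ψ u) = (zpowers (φ u)).subgroupOf P := fun u => by rw [GKP.zp_sub, v]
  have k : GC ψ (R.subgroupOf P) (fun g => π₁ g) fun g => π₂ g :=
    { inj := fun a b e => h.inj (by rw [← v, ← v, e])
      nQ := fun g hg => by
        rw [zp, norm_sub (zpowers_le.2 (hφ _))] at hg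
        rw [mp, norm_sub (le _)]
        exact h.nQ hg
      syl := by rw [mp, cx]; exact GKP.syl_sub h.syl h1
      toQ8 := q8_sub (by rw [v]; exact h.toQ8) hR
      RQ := fun y hy u hu => Subtype.ext (by simpa only [coe_mul, v] using h.RQ y hy u hu)
      Rx := fun y hy e => by
        simp only [Subtype.ext_iff, coe_mul, v] at e ⊢
        exact h.Rx y hy e
      pm := fun a ha b hb => by
        rw [cx, cx] at ha hb
        exact h.pm a ha b hb
      ps := fun s => by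
        obtain ⟨c, hc, e⟩ := h.ps s
        exact ⟨⟨c, h1 hc.1⟩, by rw [cx, cx]; exact hc, e⟩
      pk := fun c hc => by
        rw [cx, cx] at hc
        rw [mp, sup_sub hR (le _)]
        exact h.pk c hc
      pm' := fun a ha b hb => by
        rw [cx, cx] at ha hb
        exact h.pm' a ha b hb
      ps' := fun s => by
        obtain ⟨c, hc, e⟩ := h.ps' s
        exact ⟨⟨c, h1 hc.1⟩, by rw [cx, cx]; exact hc, e⟩
      pk' := fun c hc => by
        rw [cx, cx] at hc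
        rw [mp, zp, sup_sub (zpowers_le.2 (hφ _)) (le _)]
        exact h.pk' c hc
      wc := fun g hg => by
        rw [mp, mem_subgroupOf] at hg
        rw [zp, mem_subgroupOf]
        simp only [coe_mul, coe_inv, v] at hg ⊢
        exact h.wc g hg
      xz := by
        obtain ⟨g, hg, e⟩ := h.om' (u := gx) (by decide +kernel)
        exact ⟨⟨g, h2 (h.N3_le hg)⟩, .inl (Subtype.ext (by simpa only [coe_mul, coe_inv, v] using e))⟩ }
  have w : Sw ψ := fun g hg => by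
    rw [cx] at hg
    simpa only [mp, mem_subgroupOf, coe_mul, coe_inv, v] using hw g hg
  refine (card_eq_iff_eq_top P).1 (le_antisymm P.card_le_card_group ?_)
  rw [Nat.card_congr e.toEquiv]
  rcases k.u6 w hK with ⟨⟨f⟩⟩ | ⟨G₀, -, ⟨f⟩, -⟩
  exacts [(Nat.card_congr f.toEquiv).ge, (Nat.card_congr f.toEquiv).ge.trans G₀.card_le_card_group]

theorem kc_gen {ι : W3 → G} {t : G} {R : Subgroup G} {ρ : G → SL} (h : KC D3 ι t R ρ) {P : Subgroup G}
    (h1 : Cx (ι z0) ≤ P) (h2 : normalizer (img ι J0 : Set G) ≤ P) : P = ⊤ := by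
  have hJ : J0 ≤ D3 := J0_le_S0.trans S0_le.2.2.1
  have hQ : Q0 ≤ D3 := le_trans (show ∀ a ∈ Q0, a ∈ S0 by decide +kernel) S0_le.2.2.1
  obtain ⟨mz, my, me, mw⟩ : z0 ∈ D3 ∧ y1 ∈ D3 ∧ e3 ∈ D3 ∧ w0 ∈ D3 := by decide +kernel
  have hι : ∀ a ∈ D3, ι a ∈ P := fun a ha =>
    h2 (mem_normalizer_of_forall fun x hx => Rec3C.LxP.norm_J h.toEmb hJ ha hx)
  have hR : R ≤ P := fun y hy => h1 (mem_Cx.2 (h.RQ y hy z0 (by decide +kernel)).symm)
  have le : ∀ {X}, X ≤ D3 → img ι X ≤ P := fun hX x hx => by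
    obtain ⟨a, ha, rfl⟩ := (h.mem_im hX).1 hx
    exact hι a (hX ha)
  obtain ⟨κ, v⟩ := Rec3C.LxP.exists_sub hι
  have im : ∀ {X}, X ≤ D3 → img κ X = (img ι X).subgroupOf P := fun hX =>
    Subgroup.ext fun _ => Rec3C.LxP.sub_mem v h.toEmb hX
  have cx : ∀ {a}, a ∈ D3 → Cx (κ a) = (Cx (ι a)).subgroupOf P := fun ha => by rw [GKP.cx_sub, v _ ha]
  have k : KC D3 κ ⟨t, hR h.mem⟩ (R.subgroupOf P) fun g => ρ g :=
    { toEmb := Rec3C.LxP.sub_emb v h.toEmb
      toQ8 := q8_sub h.toQ8 hR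
      hA := .inl rfl
      rc := fun g => Subtype.ext (h.rc g)
      norm := fun g hg => by
        rw [im hJ, norm_sub (le hJ)] at hg
        obtain ⟨a, ha, e⟩ := h.norm g hg
        exact ⟨a, ha, by simpa only [Subtype.ext_iff, coe_mul, v a ha] using e⟩
      nR := fun g hg => by
        rw [GKP.zp_sub, v _ mz, norm_sub (zpowers_le.2 (hι _ mz))] at hg
        exact (norm_sub hR).2 (h.nR hg)
      RQ := fun y hy a ha => Subtype.ext (by simpa only [coe_mul, v a (hQ ha)] using h.RQ y hy a ha)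
      Re := fun y hy e => by
        simp only [Subtype.ext_iff, coe_mul, v _ me] at e ⊢
        exact h.Re y hy e
      nQ := fun g hg => by
        rw [cx mz] at hg
        rw [im hQ, norm_sub (le hQ)]
        exact h.nQ hg
      pm := fun a ha b hb => by
        rw [cx mz] at ha hb
        exact h.pm a ha b hb
      ps := fun s => by
        obtain ⟨c, hc, e⟩ := h.ps s
        exact ⟨⟨c, h1 hc⟩, by rw [cx mz]; exact hc, e⟩
      pk := fun c hc => by
        rw [cx mz] at hc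
        rw [im hQ, sup_sub hR (le hQ)]
        exact h.pk c hc
      comm := fun x hx y hy => Subtype.ext (by simpa only [coe_mul, coe_inv, v _ mw] using h.comm x hx y hy)
      cy := fun g hg => by
        rw [cx my] at hg
        obtain ⟨x, hx, y, hy, n, hn, e⟩ := h.cy g hg
        exact ⟨⟨x, hR hx⟩, hx, ⟨y, hR hy⟩, hy, ⟨n, h2 hn⟩, by rw [im hJ, norm_sub (le hJ)]; exact hn,
          Subtype.ext (by simpa only [coe_mul, coe_inv, v _ mw] using e)⟩ }
  have nB : D3 ≠ B3 := fun e => (by decide +kernel : i0 ∉ D3 ∧ i0 ∈ B3).elim fun a b => a (e ▸ b)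
  obtain ⟨-, a1, -, a2⟩ := h.main (F := ZMod 3) (ZMod.card 3)
  obtain ⟨-, b1, -, b2⟩ := k.main (F := ZMod 3) (ZMod.card 3)
  obtain ⟨-, ⟨a3⟩⟩ := a2.resolve_right fun e => nB e.1
  obtain ⟨-, ⟨b3⟩⟩ := b2.resolve_right fun e => nB e.1
  rw [← card_eq_iff_eq_top, card_eq_card_quotient_mul_card_subgroup (pCore 2 P),
    card_eq_card_quotient_mul_card_subgroup (pCore 2 G), a1, b1, Nat.card_congr a3.toEquiv, Nat.card_congr b3.toEquiv]

end CfsgLib.Rec3E
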