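import Cfsg.Agent.Lib.Rec3E.CB1
import Cfsg.Agent.Lib.Rec3C.Ho
import Cfsg.Agent.S4215
import Cfsg.Agent.Lib.Rec3E.GR

/-! The group `2^{1+8} . (3 × 3³ : 2³ : 3) . 2` (plans/REC3E.md, CB2). -/

set_option autoImplicit false
set_option maxRecDepth 100000
set_option maxHeartbeats 400000

namespace CfsgLib.Rec3E

open Subgroup Cfsg CfsgLib.Tech CfsgLib.PComp CfsgLib.W2 CfsgLib.Rec3 CfsgLib.Rec3B CfsgLib.Rec3B.W4
open CfsgLib.U43 (SL)

variable {G : Type*} [Group G] [Finite G]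

variable {κ : W3 → G} {t y : G} {R : Subgroup G}

set_option linter.unusedSectionVars false

namespace CB2

open Rec3C (A24 T3)
open Transfer

theorem cop {H : Type*} [Group H] {x : H} {m n : ℕ} (c : m.Coprime n) (h1 : x ^ m = 1) (h2 : x ^ n = 1) : x = 1 :=
  orderOf_eq_one_iff.1 (Nat.eq_one_of_dvd_coprimes c (orderOf_dvd_of_pow_eq_one h1) (orderOf_dvd_of_pow_eq_one h2))

omit [Finite G] in
theorem mem_sup_l {A B : Subgroup G} (k : A ≤ normalizer (B : Set G)) {g : G} :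
    g ∈ A ⊔ B ↔ ∃ a ∈ A, ∃ b ∈ B, g = a * b := by
  refine ⟨fun hg => ?_, fun ⟨a, ha, b, hb, e⟩ => e ▸ mul_mem_sup ha hb⟩
  have : g ∈ ((A ⊔ B : Subgroup G) : Set G) := hg
  rw [coe_mul_of_left_le_normalizer_right _ _ k] at this
  obtain ⟨a, ha, b, hb, e⟩ := this
  exact ⟨a, ha, b, hb, e.symm⟩

omit [Finite G] in
theorem mem_sup_r {A B : Subgroup G} (k : B ≤ normalizer (A : Set G)) {g : G} :
    g ∈ A ⊔ B ↔ ∃ a ∈ A, ∃ b ∈ B, g = a * b := by
  refine ⟨fun hg => ?_, fun ⟨a, ha, b, hb, e⟩ => e ▸ mul_mem_sup ha hb⟩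
  have : g ∈ ((A ⊔ B : Subgroup G) : Set G) := hg
  rw [coe_mul_of_right_le_normalizer_left _ _ k] at this
  obtain ⟨a, ha, b, hb, e⟩ := this
  exact ⟨a, ha, b, hb, e.symm⟩

theorem w1 : (∀ a : W3, a ∈ A24 ∨ a * t0 ∈ A24) ∧ t0 * t0 = 1 ∧ (∀ a ∈ T3, a ∈ A24) ∧ (∀ a ∈ S0, a ∈ A24) ∧
    (∀ a ∈ A4, a ∈ A24) ∧ (∀ a ∈ A24, a ^ 3 ∈ T3) ∧ i0 ∈ A24 ∧ e3 ≠ 1 ∧ z0 ≠ 1 ∧ y1 ≠ 1 ∧ y1 ∈ Q0 := by
  decide +kernel

theorem w2 : (∀ a : W3, a * e1 = e1 * a → a * e2 = e2 * a → a * e3 = e3 * a → a * i0 = i0 * a → a = 1) ∧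
    (∀ a ∈ A24, a * z0 = z0 * a → a * y1 = y1 * a → a ∈ J0) ∧ (∀ a ∈ T3, a * z0 = z0 * a → a ∈ J0) ∧
    (∀ a : W3, a * σ0 * a⁻¹ ∈ S0 → a ^ 9 = 1 → a ∈ S0) ∧ ∀ a : W3, a ^ 72 = 1 := by
  decide +kernel

theorem w3 : ∀ a ∈ T3, ∃ b ∈ [1, r1, r2, r3, r1 * r2, r1 * r3, r2 * r3, i0], b * b = 1 ∧ b ∈ A24 ∧
    b * a * (b * a) = 1 := by
  decide +kernel

theorem JA : J0 ≤ A24 := fun a ha => w1.2.2.2.1 a (J0_le_S0 ha)

/-- `κ(K) ⟨y⟩` -/
def XY (κ : W3 → G) (y : G) (K : Subgroup W3) : Subgroup G := img κ K ⊔ zpowers y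

variable (h : CB κ t R y)
include h

theorem mul (a b : W3) : κ (a * b) = κ a * κ b := h.mul (mem_B3 a) (mem_B3 b)

theorem conj (a b : W3) : κ a * κ b * (κ a)⁻¹ = κ (a * b * a⁻¹) := h.conj (mem_B3 a) (mem_B3 b)

theorem cu {a : W3} (ha : a ∈ A24) {u : G} (hu : u ∈ zpowers y) : Commute (κ a) u := by
  obtain ⟨n, rfl⟩ := hu
  exact Commute.zpow_right (mem_Cx.1 (h.yA a ha)) n

theorem cs (g : G) {s : G} (hs : s ∈ zpowers t) : Commute g s := by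
  obtain ⟨n, rfl⟩ := hs
  exact Commute.zpow_right (h.rc g) n

theorem ny (a : W3) : κ a ∈ normalizer (zpowers y : Set G) := by
  have k : ∀ a ∈ A24, κ a ∈ normalizer (zpowers y : Set G) := fun a ha =>
    mem_normalizer_of_forall fun x hx => by rwa [(cu h ha hx).eq, mul_inv_cancel_right]
  refine (w1.1 a).elim (k a) fun ha => ?_
  rw [show a = a * t0 * t0 by rw [mul_assoc, w1.2.1, mul_one], mul h]
  exact mul_mem (k _ ha) (mem_normalizer_iff_cj.2 (by rw [cj_zpowers, h.yt, zpowers_inv]))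

theorem cE {e u : G} (he : e ∈ EE κ R) (hu : u ∈ zpowers y) : Commute e u := by
  obtain ⟨n, rfl⟩ := hu
  refine Commute.zpow_right (mem_Cx.1 ((iSup_le fun i => cj_le_iff.2 fun x hx => ?_ : EE κ R ≤ Cx y) he)) n
  have := h.yA _ (w1.2.2.2.2.1 _ (Rec3C.KC1.gi_A4 i))
  exact mul_mem (mul_mem this (h.yR hx)) (inv_mem this)

theorem mem_XY {K : Subgroup W3} {g : G} : g ∈ XY κ y K ↔ ∃ a ∈ K, ∃ u ∈ zpowers y, g = κ a * u := by
  rw [XY, mem_sup_l (im_le.2 fun a _ => ny h a)]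
  simp only [h.mem_im fun a _ => mem_B3 a]
  exact ⟨by rintro ⟨_, ⟨a, ha, rfl⟩, k⟩; exact ⟨a, ha, k⟩, fun ⟨a, ha, k⟩ => ⟨_, ⟨a, ha, rfl⟩, k⟩⟩

theorem mem_M {g : G} (hg : g ∈ MB κ R y) : ∃ e ∈ EE κ R, ∃ a, ∃ u ∈ zpowers y, g = e * (κ a * u) := by
  obtain ⟨x, hx, u, hu, rfl⟩ := (mem_sup_l (sup_le (fun e he => mem_normalizer_of_forall fun x hx => by
    rwa [(cE h he hx).eq, mul_inv_cancel_right]) (im_le.2 fun a _ => ny h a))).1 hg
  obtain ⟨e, he, a, -, rfl⟩ := h.mem_sup.1 hx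
  exact ⟨e, he, a, u, hu, mul_assoc _ _ _⟩

theorem XY_le (K : Subgroup W3) : XY κ y K ≤ MB κ R y :=
  sup_le_sup_right ((im_mono fun a _ => mem_B3 a).trans le_sup_right) _

theorem u3 {u : G} (hu : u ∈ zpowers y) : u ^ 3 = 1 := by
  obtain ⟨n, rfl⟩ := hu
  rw [← zpow_natCast, zpow_comm, zpow_natCast, h.y3, one_zpow]

theorem s2 {s : G} (hs : s ∈ zpowers t) : s ^ 2 = 1 := by
  obtain ⟨n, rfl⟩ := hs
  rw [← zpow_natCast, zpow_comm, zpow_natCast, pow_two, h.rr, one_zpow]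

theorem uq1 {a : W3} {u s : G} (hu : u ∈ zpowers y) (hs : s ∈ zpowers t) (e : κ a * u * s = 1) :
    a = 1 ∧ u = 1 ∧ s = 1 := by
  have k : ∀ b ∈ A24, a * b = b * a := fun b hb => (h.comm_iff (mem_B3 a) (mem_B3 b)).1 (by
    rw [mul_assoc, mul_eq_one_iff_eq_inv] at e
    exact e ▸ ((cu h hb hu).mul_right (cs h _ hs)).inv_right.symm)
  obtain rfl := w2.1 a (k _ (JA Jx.mems.1)) (k _ (JA Jx.mems.2.1)) (k _ (JA Jx.mems.2.2.1)) (k _ w1.2.2.2.2.2.2.1)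
  rw [h.one, one_mul] at e
  obtain rfl : u = 1 := KC.KE2.eq_one_of_cop (m := 2) (by norm_num)
    (by rw [eq_inv_of_mul_eq_one_left e, inv_pow, s2 h hs, inv_one]) (u3 h hu)
  exact ⟨rfl, rfl, by rwa [one_mul] at e⟩

theorem nine {g : G} (hg : g ∈ XY κ y S0) : g ^ 9 = 1 := by
  obtain ⟨a, ha, u, hu, rfl⟩ := (mem_XY h).1 hg
  rw [(cu h (w1.2.2.2.1 a ha) hu).mul_pow, ← h.pow (mem_B3 a), Jx.S0_nine a ha, h.one, one_mul,
    show 9 = 3 * 3 from rfl, pow_mul, u3 h hu, one_pow]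

theorem conj_J (a : W3) {u : G} (hu : u ∈ zpowers y) {w : W3} (hw : w ∈ A24) :
    κ a * u * κ w * (κ a * u)⁻¹ = κ (a * w * a⁻¹) := by
  rw [mul_assoc _ u, ← (cu h hw hu).eq, ← conj h]; group

theorem nf {g : G} (hg : ∀ w ∈ J0, g * κ w * g⁻¹ ∈ XY κ y S0) :
    ∃ a, ∃ u ∈ zpowers y, ∃ s ∈ zpowers t, g = κ a * u * s := by
  have m := Jx.mems.2.2.1
  obtain ⟨e, he, a, u, hu, rfl⟩ := mem_M h (h.uq e3 m w1.2.2.2.2.2.2.2.1 g (XY_le h _ (hg e3 m)))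
  have m' : a⁻¹ * e3 * a⁻¹⁻¹ ∈ J0 := J0_conj a⁻¹ m
  have k := hg _ m'
  rw [show ∀ x z w : G, x * z * w * (x * z)⁻¹ = x * (z * w * z⁻¹) * x⁻¹ from fun x z w => by group,
    conj_J h a hu (JA m'), show a * (a⁻¹ * e3 * a⁻¹⁻¹) * a⁻¹ = e3 by group] at k
  have k1 : e * κ e3 * e⁻¹ * (κ e3)⁻¹ = 1 := by
    have h9 := nine h (mul_mem k (inv_mem (mem_sup_left (mem_im_of (J0_le_S0 m)))))
    have h4 := h.E_four (x := e * κ e3 * e⁻¹ * (κ e3)⁻¹) (by
      rw [mul_assoc, mul_assoc, ← mul_assoc (κ e3)]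
      exact mul_mem he (conj_mem_of_mem_normalizer (h.mem_M (mem_B3 e3)) (inv_mem he)))
    exact cop (by norm_num) h4 h9
  have k2 : e ∈ zpowers t := h.ce.mem_zp.2 (h.fpf_e (a := e3) (by simp [TyE]) he (by
    rw [Cj, ← (commutatorElement_eq_one_iff_mul_comm.1 k1)]; simp))
  exact ⟨a, u, hu, e, k2, (cs h _ k2).symm⟩

theorem nJ (a : W3) {u s : G} (hu : u ∈ zpowers y) (hs : s ∈ zpowers t) :
    κ a * u * s ∈ normalizer (XY κ y J0 : Set G) := mem_normalizer_of_forall fun x hx => by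
  obtain ⟨w, hw, v, hv, rfl⟩ := (mem_XY h).1 hx
  rw [show ∀ x z w : G, x * z * w * (x * z)⁻¹ = x * (z * w * z⁻¹) * x⁻¹ from fun x z w => by group, ← (cs h _ hs).eq,
    mul_inv_cancel_right, ← conj_mul, conj_J h a hu (JA hw)]
  exact mul_mem_sup (mem_im_of (J0_conj a hw))
    (conj_mem_of_mem_normalizer (mul_mem (ny h a) (le_normalizer hu)) hv)

theorem nJ0 (a : W3) {u s : G} (hu : u ∈ zpowers y) (hs : s ∈ zpowers t) :
    κ a * u * s ∈ normalizer (img κ J0 : Set G) := mem_normalizer_of_forall fun x hx => by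
  obtain ⟨w, hw, rfl⟩ := (h.mem_im fun a _ => mem_B3 a).1 hx
  rw [show ∀ x z w : G, x * z * w * (x * z)⁻¹ = x * (z * w * z⁻¹) * x⁻¹ from fun x z w => by group, ← (cs h _ hs).eq,
    mul_inv_cancel_right, conj_J h a hu (JA hw)]
  exact mem_im_of (J0_conj a hw)

theorem JS : XY κ y J0 ≤ XY κ y S0 := sup_le_sup_right (im_mono J0_le_S0) _

theorem pw (a : W3) {u s : G} (hu : u ∈ zpowers y) (hs : s ∈ zpowers t) (n : ℕ) :
    ∃ v ∈ zpowers y, (κ a * u * s) ^ n = κ (a ^ n) * v * s ^ n := by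
  rw [(cs h _ hs).mul_pow]
  induction n with
  | zero => exact ⟨1, one_mem _, by simp [h.one]⟩
  | succ n ih =>
    obtain ⟨v, hv, e⟩ := ih
    refine ⟨(κ a)⁻¹ * v * (κ a)⁻¹⁻¹ * u, mul_mem (conj_mem_of_mem_normalizer (inv_mem (ny h a)) hv) hu, ?_⟩
    rw [pow_succ, mul_right_cancel e, pow_succ a, mul h]; group

theorem sylow : IsSylowIn 3 (XY κ y S0) ⊤ := by
  refine sylow_of (isPGroup_iff_mem.2 fun g hg => ⟨2, nine h hg⟩) le_top fun g _ hg ⟨n, hn⟩ => ?_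
  obtain ⟨a, u, hu, s, hs, rfl⟩ := nf h fun w hw =>
    conj_mem_of_mem_normalizer hg (mem_sup_left (mem_im_of (J0_le_S0 hw)))
  obtain ⟨v, hv, e⟩ := pw h a hu hs (3 ^ n)
  obtain ⟨e1, -, e2⟩ := uq1 h hv (pow_mem hs _) (e.symm.trans hn)
  obtain rfl : s = 1 := cop (Nat.Coprime.pow_right n (by norm_num)) (s2 h hs) e2
  have m := Jx.mems.2.2.2.2.2.2.1
  have k := conj_mem_of_mem_normalizer hg (mem_sup_left (mem_im_of m))
  rw [mul_one, conj_J h a hu (w1.2.2.2.1 _ m)] at k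
  obtain ⟨b, hb, v, hv, e⟩ := (mem_XY h).1 k
  have e3 := (uq1 h (a := b⁻¹ * (a * σ0 * a⁻¹)) (inv_mem hv) (one_mem _) (by
    rw [mul h, e, h.inv (mem_B3 b)]; group)).1
  rw [inv_mul_eq_one] at e3
  refine mul_mem (mul_mem_sup (mem_im_of (w2.2.2.2.1 a (e3 ▸ hb) ?_)) hu) (one_mem _)
  exact cop (m := 8) (n := 3 ^ n) (Nat.Coprime.pow_right n (by norm_num)) (by rw [← pow_mul]; exact w2.2.2.2.2 a)
    (by rw [← pow_mul, mul_comm, pow_mul, e1, one_pow])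

theorem nfJ {g : G} (hg : g ∈ normalizer (XY κ y J0 : Set G)) :
    ∃ a, ∃ u ∈ zpowers y, ∃ s ∈ zpowers t, g = κ a * u * s :=
  nf h fun _ hw => JS h (conj_mem_of_mem_normalizer hg (mem_sup_left (mem_im_of hw)))

theorem commJ {p q : G} (hp : p ∈ XY κ y J0) (hq : q ∈ XY κ y J0) : Commute p q := by
  obtain ⟨a, ha, u, hu, rfl⟩ := (mem_XY h).1 hp
  obtain ⟨b, hb, v, hv, rfl⟩ := (mem_XY h).1 hq
  have c : Commute u v := by
    obtain ⟨n, rfl⟩ := hu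
    obtain ⟨m, rfl⟩ := hv
    exact zpow_mul_comm y n m
  exact Commute.mul_left (Commute.mul_right ((h.comm_iff (mem_B3 a) (mem_B3 b)).2 (J0_comm ha hb)) (cu h (JA ha) hv))
    ((cu h (JA hb) hu).symm.mul_right c)

variable {N : Subgroup G} (EN : EE κ R ≤ N) (AN : img κ A24 ≤ N) (yN : y ∈ N) (tN : κ t0 ∉ N)
include EN AN yN tN

theorem memA {a : W3} {u s : G} (hu : u ∈ zpowers y) (hs : s ∈ zpowers t) (k : κ a * u * s ∈ N) : a ∈ A24 := by
  rw [mul_mem_cancel_right (zpowers_le.2 (EN h.r_mem) hs), mul_mem_cancel_right (zpowers_le.2 yN hu)] at k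
  refine (w1.1 a).elim id fun ha => absurd ?_ tN
  have := AN (mem_im_of ha)
  rwa [mul h, mul_mem_cancel_left k] at this

theorem SN : XY κ y S0 ≤ N := sup_le ((im_mono w1.2.2.2.1).trans AN) (zpowers_le.2 yN)

theorem res {g : G} (hg : g ∈ (pResidual 3 N).map N.subtype) (hn : g ∈ normalizer (XY κ y J0 : Set G)) :
    ∃ b ∈ T3, ∃ s ∈ zpowers t, g = κ b * s := by
  have JN := (JS h).trans (SN h EN AN yN tN)
  have syl := (sylow h).of_le (SN h EN AN yN tN) le_top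
  have := Agent.S4215.result syl.toSylow ((XY κ y J0).subgroupOf N) ⟨fun x hx => syl.mem_toSylow.2 (JS h hx), fun g hg => by
      obtain ⟨a, u, hu, s, hs, e⟩ := nf h (g := g) fun w hw => syl.mem_toSylow.1
        (hg ⟨⟨κ w, JN (mem_sup_left (mem_im_of hw))⟩, (mem_sup_left (mem_im_of hw) : κ w ∈ XY κ y J0), rfl⟩)
      exact mem_normalizer_iff_cj.1 ((GRx.norm_sub JN).2 (e ▸ nJ h a hu hs))⟩ fun p hp z hz => by
    obtain ⟨a, ha, u, hu, e⟩ := (mem_XY h).1 (syl.mem_toSylow.1 hp)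
    have k := nJ h a hu (one_mem _)
    rw [mul_one, ← e] at k
    have k1 : (p : G)⁻¹ * (z : G)⁻¹ * p * z ∈ XY κ y J0 :=
      mul_mem (by simpa using conj_mem_of_mem_normalizer (inv_mem k) (inv_mem hz)) hz
    refine Subtype.ext ?_
    change ((p : G)⁻¹ * (z : G)⁻¹ * p * z)⁻¹ * (z : G)⁻¹ * ((p : G)⁻¹ * (z : G)⁻¹ * p * z) * z = 1
    rw [mul_assoc, mul_assoc, (commJ h (q := z) k1 hz).eq]
    group
  obtain ⟨g, hg, rfl⟩ := hg
  have m : g ∈ pResidualOf 3 (normalizer ((XY κ y J0).subgroupOf N : Set N)) :=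
    this ▸ ⟨hg, (GRx.norm_sub JN).2 hn⟩
  have le : pResidualOf 3 (normalizer ((XY κ y J0).subgroupOf N : Set N)) ≤ (img κ T3 ⊔ zpowers t).subgroupOf N := by
    refine map_le_iff_le_comap.2 ((closure_le _).2 fun x hx => ?_)
    obtain ⟨a, u, hu, s, hs, e⟩ := nfJ h ((GRx.norm_sub JN).1 x.2)
    have ha := memA h EN AN yN tN hu hs (e ▸ x.1.2)
    have c : (orderOf x).Coprime 3 := hx
    have k : (κ a * u * s) ^ orderOf x = 1 := by
      rw [← e, ← coe_pow, ← coe_pow, pow_orderOf_eq_one]; rfl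
    rw [(cs h _ hs).mul_pow, (cu h ha hu).mul_pow, ← h.pow (mem_B3 a)] at k
    obtain ⟨e1, e2, -⟩ := uq1 h (pow_mem hu _) (pow_mem hs _) k
    change (x : G) ∈ img κ T3 ⊔ zpowers t
    rw [e, cop c e2 (u3 h hu), mul_one]
    refine mul_mem_sup (mem_im_of ?_) hs
    exact LAE.mem_of_pow_mem_of_coprime (Nat.Coprime.coprime_dvd_left (orderOf_dvd_of_pow_eq_one e1) c)
      (w1.2.2.2.2.2.1 a ha)
  obtain ⟨x, hx, s, hs, e⟩ := (mem_sup_l (im_le.2 fun a _ => mem_normalizer_of_forall fun x hx => by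
    rwa [(cs h _ hx).eq, mul_inv_cancel_right])).1 (le m)
  obtain ⟨b, hb, rfl⟩ := (h.mem_im fun a _ => mem_B3 a).1 hx
  exact ⟨b, hb, s, hs, e⟩

theorem two_mem {x : G} (hx : x ∈ N) (e : x ^ 4 = 1) : x ∈ (pResidual 3 N).map N.subtype :=
  ⟨⟨x, hx⟩, subset_closure (Nat.Coprime.coprime_dvd_left (orderOf_dvd_of_pow_eq_one (n := 4) (Subtype.ext e))
    (by norm_num)), rfl⟩

theorem EO : EE κ R ≤ (pResidual 3 N).map N.subtype := fun _ hx => two_mem h EN AN yN tN (EN hx) (h.E_four hx)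

theorem TO {a : W3} (ha : a ∈ T3) : κ a ∈ (pResidual 3 N).map N.subtype := by
  obtain ⟨b, -, b2, hb, e⟩ := w3 a ha
  have k : ∀ c ∈ A24, c * c = 1 → κ c ∈ (pResidual 3 N).map N.subtype := fun c hc c2 =>
    two_mem h EN AN yN tN (AN (mem_im_of hc)) (by
      rw [← h.pow (mem_B3 c), show 4 = 2 * 2 from rfl, pow_mul, pow_two c, c2, one_pow, h.one])
  have := k _ (mul_mem hb (w1.2.2.1 a ha)) e
  rwa [mul h, mul_mem_cancel_left (k b hb b2)] at this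

theorem nH {a : W3} {u s : G} (hu : u ∈ zpowers y) (hs : s ∈ zpowers t)
    (k : κ a * u * s ∈ (pResidual 3 N).map N.subtype ⊔ img κ A24) : a ∈ A24 ∧ u = 1 := by
  have ha := memA h EN AN yN tN hu hs ((sup_le (map_subtype_le _) AN :) k)
  obtain ⟨o, ho, x, hx, e⟩ := (mem_sup_r (AN.trans (Core.le_normalizer_map_subtype_of_normal _))).1 k
  obtain ⟨b, hb, rfl⟩ := (h.mem_im fun a _ => mem_B3 a).1 hx
  have e1 : o = κ (a * b⁻¹) * u * s := by
    rw [mul h, h.inv (mem_B3 b), mul_assoc (κ a), (cu h hb hu).inv_left.eq, ← mul_assoc, mul_assoc _ _ s,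
      (cs h _ hs).eq, ← mul_assoc, e, mul_inv_cancel_right]
  obtain ⟨c, -, s', hs', e2⟩ := res h EN AN yN tN ho (e1 ▸ nJ h _ hu hs)
  exact ⟨ha, (uq1 h (a := c⁻¹ * (a * b⁻¹)) hu (mul_mem hs (inv_mem hs')) (by
    rw [mul h, h.inv (mem_B3 c), ← mul_assoc, mul_assoc _ _ u, mul_assoc _ _ s, ← e1, e2]; group)).2.1⟩

theorem O_le : (pResidual 3 N).map N.subtype ≤ MB κ R y := by
  generalize hO : (pResidual 3 N).map N.subtype = O
  have nH := @nH _ _ _ _ _ _ _ h _ EN AN yN tN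
  have EO := EO h EN AN yN tN
  have TO := @TO _ _ _ _ _ _ _ h _ EN AN yN tN
  have res := @res _ _ _ _ _ _ _ h _ EN AN yN tN
  have nO : N ≤ normalizer (O : Set G) := hO ▸ Core.le_normalizer_map_subtype_of_normal _
  have m3 : ∀ g ∈ N, (orderOf g).Coprime 3 → g ∈ O := fun g hg c =>
    hO ▸ ⟨⟨g, hg⟩, subset_closure (by rwa [Set.mem_ofPred_eq, ← orderOf_coe]), rfl⟩
  have HN : O ⊔ img κ A24 ≤ N := sup_le (hO ▸ map_subtype_le _) AN
  rw [hO] at nH EO TO res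
  generalize hH : O ⊔ img κ A24 = H at nH HN
  have OH : O ≤ H := hH ▸ le_sup_left
  have hR : R ≤ H := h.R_le.trans (EO.trans OH)
  obtain ⟨ι, v⟩ := Rec3C.LxP.exists_sub (H := H) fun a ha => hH ▸ mem_sup_right (mem_im_of ha)
  have em : Emb A24 κ := h.toEmb.mono fun a _ => mem_B3 a
  have le : ∀ {X}, X ≤ A24 → img κ X ≤ H := fun hX => (im_mono hX).trans (hH ▸ le_sup_right)
  have im : ∀ {X}, X ≤ A24 → img ι X = (img κ X).subgroupOf H := fun hX =>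
    Subgroup.ext fun _ => Rec3C.LxP.sub_mem v em hX
  have cx : ∀ {a}, a ∈ A24 → Cx (ι a) = (Cx (κ a)).subgroupOf H := fun ha => by rw [GKP.cx_sub, v _ ha]
  obtain ⟨-, -, me, mz, -, my, -⟩ := Jx.mems
  have mw : w0 ∈ A24 := by decide +kernel
  have hQ : Q0 ≤ A24 := show ∀ a ∈ Q0, a ∈ A24 by decide +kernel
  have dec : ∀ {w}, w ∈ J0 → w ≠ 1 → ∀ g, g ∈ Cx (κ w) → ∃ e ∈ EE κ R, ∃ a, ∃ u ∈ zpowers y, g = e * (κ a * u) ∧
      e ∈ Cx (κ w) ∧ a * w = w * a := fun {w} hw w1 g hg => by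
    obtain ⟨e, he, a, u, hu, rfl⟩ := mem_M h ((h.uq w hw w1).cent_le (XY_le h J0 (mem_sup_left (mem_im_of hw))) hg)
    have k := mem_Cx'.1 hg
    rw [show ∀ x z w : G, x * z * w * (x * z)⁻¹ = x * (z * w * z⁻¹) * x⁻¹ from fun x z w => by group,
      conj_J h a hu (JA hw)] at k
    have k1 := h.eq_one_of_mem_E (mul_mem (J0_conj a hw) (inv_mem hw)) (by
      rw [mul h, h.inv (mem_B3 w), show κ (a * w * a⁻¹) * (κ w)⁻¹ = e⁻¹ * (κ w * e * (κ w)⁻¹) by rw [← k]; group]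
      exact mul_mem (inv_mem he) (conj_mem_of_mem_normalizer (h.mem_M (mem_B3 w)) he))
    rw [mul_inv_eq_one] at k1
    exact ⟨e, he, a, u, hu, rfl, mem_Cx'.2 (by rwa [k1] at k), mul_inv_eq_iff_eq_mul.1 k1⟩
  have cj0 : ∀ {w e}, e ∈ Cx (κ w) → Cj (zpowers t) (κ w) e e := fun he => by
    rw [Cj, ← mem_Cx.1 he]; simp
  have k : Rec3C.HD ι ⟨t, hR h.mem⟩ (R.subgroupOf H) (O.subgroupOf H) :=
    { toEmb := Rec3C.LxP.sub_emb v em
      toQ8 := GRx.q8_sub h.toQ8 hR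
      hA := w1.2.2.2.2.1
      rc := fun g => Subtype.ext (h.rc g)
      norm := fun g hg => by
        rw [im JA, GRx.norm_sub (le JA)] at hg
        obtain ⟨a, m, e⟩ := h.norm g hg
        have hu : y ^ m ∈ zpowers y := pow_mem (mem_zpowers y) m
        rcases e with e | e
        · obtain ⟨ha, e1⟩ := nH hu (one_mem _) (by rw [mul_one, ← e]; exact g.2)
          exact ⟨a, ha, .inl (Subtype.ext (by rw [e, e1, mul_one, v a ha]))⟩
        · obtain ⟨ha, e1⟩ := nH hu (mem_zpowers t) (e ▸ g.2)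
          exact ⟨a, ha, .inr (Subtype.ext (by rw [e, e1, mul_one, coe_mul, v a ha]))⟩
      nR := fun g hg => by
        rw [GKP.zp_sub, v _ (JA mz), GRx.norm_sub (zpowers_le.2 (le JA (mem_im_of mz)))] at hg
        exact (GRx.norm_sub hR).2 (h.nR hg)
      RQ := fun y hy a ha => Subtype.ext (by simpa only [coe_mul, v a (hQ ha)] using h.RQ y hy a ha)
      Re := fun y hy e => by
        simp only [Subtype.ext_iff, coe_mul, v _ (JA me)] at e ⊢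
        exact h.Re y hy e
      comm := fun x hx y hy => Subtype.ext (by simpa only [coe_mul, coe_inv, v _ mw] using h.comm x hx y hy)
      cy := fun g hg => by
        rw [cx (JA my)] at hg
        obtain ⟨e, he, a, u, hu, e1, c, -⟩ := dec my w1.2.2.2.2.2.2.2.2.2.1 g hg
        obtain ⟨x, hx, _, ⟨z, hz, rfl⟩, e2⟩ := (mem_sup_l (fun x hx => mem_normalizer_of_forall (by
          rintro _ ⟨z, hz, rfl⟩
          exact ⟨z, hz, (mul_inv_eq_iff_eq_mul.2 (h.comm x hx z hz)).symm⟩))).1 (h.cent_y_E he c)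
        refine ⟨⟨x, hR hx⟩, hx, ⟨z, hR hz⟩, hz, ⟨κ a * u, (mul_mem_cancel_left (OH (EO he))).1 (e1 ▸ g.2)⟩, ?_,
          Subtype.ext (by simp only [coe_mul, coe_inv, v _ mw]; exact e1.trans (by rw [e2]; rfl))⟩
        rw [im JA, GRx.norm_sub (le JA)]
        simpa using nJ0 h a hu (one_mem _)
      czy := fun g hg hg' => by
        rw [cx (JA mz)] at hg
        rw [cx (JA my)] at hg'
        obtain ⟨e, he, a, u, hu, e1, c, c1⟩ := dec mz w1.2.2.2.2.2.2.2.2.1 g hg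
        have hx := h.cent_z_E he (cj0 c)
        obtain ⟨ha, rfl⟩ := nH hu (one_mem _) (by
          rw [mul_one]; exact (mul_mem_cancel_left (OH (EO he))).1 (e1 ▸ g.2))
        rw [mul_one] at e1
        have c2 : κ a ∈ Cx (κ y1) := (mul_mem_cancel_left (mem_Cx.2 (h.RQ e hx y1 w1.2.2.2.2.2.2.2.2.2.2).symm)).1
          (e1 ▸ hg')
        exact ⟨⟨e, hR hx⟩, hx, a, w2.2.1 a ha c1 ((h.comm_iff (mem_B3 _) (mem_B3 _)).1 (mem_Cx.1 c2)),
          Subtype.ext (by rw [e1, coe_mul, v a ha])⟩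
      nrm := (normal_subgroupOf_iff_le_normalizer OH).2 (HN.trans nO)
      m3 := fun g c => m3 g (HN g.2) (by rwa [orderOf_coe])
      mA := fun a ha => by
        rw [mem_subgroupOf, v a ha]
        refine ⟨fun k => ?_, TO⟩
        obtain ⟨b, hb, s, hs, e⟩ := res k (by simpa using nJ h a (one_mem _) (one_mem _))
        have := (uq1 h (a := b⁻¹ * a) (one_mem _) (inv_mem hs) (by rw [mul h, h.inv (mem_B3 b), e]; group)).1
        rwa [← inv_mul_eq_one.1 this]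
      ce := fun g hg => by
        rw [cx (JA me)] at hg
        obtain ⟨e, he, a, u, hu, e1, c, -⟩ := dec me w1.2.2.2.2.2.2.2.1 g hg.2
        have hs := h.ce.mem_zp.2 (h.fpf_e (a := e3) (by simp [TyE]) he (cj0 c))
        rw [im JA, GRx.norm_sub (le JA), e1, ← (cs h _ hs).eq]
        exact nJ0 h a hu hs
      cz := fun g hg => by
        rw [cx (JA mz)] at hg
        obtain ⟨e, he, a, u, hu, e1, c, c1⟩ := dec mz w1.2.2.2.2.2.2.2.2.1 g hg.2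
        have hx := h.cent_z_E he (cj0 c)
        have k : κ a * u ∈ O := (mul_mem_cancel_left (EO he)).1 (e1 ▸ hg.1)
        obtain ⟨b, hb, s, hs, e2⟩ := res k (by simpa using nJ h a hu (one_mem _))
        obtain ⟨e3, -⟩ := uq1 h (a := b⁻¹ * a) hu (inv_mem hs) (by
          rw [mul h, h.inv (mem_B3 b), mul_assoc _ (κ a), e2]; group)
        obtain rfl := inv_mul_eq_one.1 e3
        rw [cx (JA my), mem_subgroupOf, e1, e2]
        exact mul_mem (mem_Cx.2 (h.RQ e hx y1 w1.2.2.2.2.2.2.2.2.2.2).symm) (mul_mem (mem_Cx.2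
          ((h.comm_iff (mem_B3 _) (mem_B3 _)).2 (J0_comm (w2.2.2.1 b hb c1) my))) (mem_Cx.2 (cs h _ hs).symm)) }
  have le2 : EE ι (R.subgroupOf H) ⊔ img ι T3 ≤ (MB κ R y).subgroupOf H := sup_le
    (iSup_le fun i => cj_le_iff.2 fun x hx => mem_sup_left (mem_sup_left (h.Ri_le i (by
      change (ι (gi i) : G) * x * (ι (gi i) : G)⁻¹ ∈ _
      rw [v _ (w1.2.2.2.2.1 _ (Rec3C.KC1.gi_A4 i))]
      exact conj_mem_cj.2 hx))))
    (im_le.2 fun a ha => by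
      rw [mem_subgroupOf, v a (w1.2.2.1 a ha)]
      exact mem_sup_left (mem_sup_right (mem_im_of (mem_B3 a))))
  exact fun g hg => (k.eq.le.trans le2 : _ ≤ _) (x := ⟨g, OH hg⟩) hg

end CB2

open CB2

theorem CB.top (h : CB κ t R y) : MB κ R y = ⊤ := by
  obtain ⟨N, hN, EN, AN, yN, tN⟩ := h.exists_two
  have syl := (sylow h).of_le (SN h EN AN yN tN) le_top
  have le : N ≤ MB κ R y := fun g hg => by
    have : pResidual 3 N ⊔ syl.toSylow ≤ (MB κ R y).subgroupOf N := sup_le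
      (fun x hx => O_le h EN AN yN tN ⟨x, hx, rfl⟩) fun x hx => XY_le h _ (syl.mem_toSylow.1 hx)
    rw [Transfer.pResidual_sup_sylow] at this
    exact this (mem_top (⟨g, hg⟩ : N))
  refine (eq_top_iff' _).2 fun g => ?_
  by_cases c : g ∈ N
  · exact le c
  · exact (mul_mem_cancel_right (mem_sup_left (mem_sup_right (mem_im_of (mem_B3 t0))))).1
      (le ((mul_mem_iff_of_index_two hN).2 (iff_of_false c tN)))

end CfsgLib.Rec3E
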