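import Cfsg.Agent.Lib.Rec3E.E6b

/-! The centraliser of `a k` in `C(t)` (plans/REC3E.md, E6c). -/

set_option autoImplicit false
set_option maxRecDepth 100000
set_option maxHeartbeats 400000
set_option Elab.async false

namespace CfsgLib.Rec3E

open Subgroup Cfsg CfsgLib.Tech CfsgLib.PComp CfsgLib.W2 CfsgLib.Rec3 CfsgLib.Rec3B CfsgLib.Rec3B.W4
open CfsgLib.U43 (SL)

variable {G : Type*} [Group G] [Finite G]
variable {z x σ : G} {Q : Subgroup G} {Qi : Fin 3 → Subgroup G} {r a b : Fin 3 → G} {π : Fin 3 → G → SL}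
  {τ : G → Equiv.Perm (Fin 3)} {i j k : Fin 3} {φ : W4 →* G}

theorem e6c_cen : ∀ u ∈ S0, u * e1 = e1 * u → u * σ0 = σ0 * u → u = 1 ∨ u = z0 ∨ u = z0⁻¹ := by
  decide +kernel

theorem e6c_JJ {K : Subgroup W4} (h1 : ga ∈ K) (h2 : gc ∈ K) (h3 : gx ∈ K) (h4 : gz ∈ K) : JJ ≤ K := by
  refine JJ_ind (P := (· ∈ K)) fun v => ?_
  rw [vec_eq]
  exact mul_mem (mul_mem (mul_mem (pow_mem h1 _) (pow_mem h2 _)) (pow_mem h3 _)) (pow_mem h4 _)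

theorem EP.e6c_P (h : EP z Q Qi r π τ a b x σ i j k φ) :
    L0 z (a k) (r k) ⊓ Cx (r i) ≤ M6 φ (a i) (r i) := by
  obtain ⟨φ', h'⟩ := h.toEX.exists_EP h.ik.symm h.jk.symm h.ij
  obtain ⟨ι, t, ρ, kc, -, ez, eJ, -, -⟩ := h.kc_k
  have e := kc_gen kc (P := (M6 φ (a i) (r i)).subgroupOf _) (fun g hg => by
    rw [GKP.cx_sub, ez, mem_subgroupOf] at hg
    exact h.Nz_le ⟨G2x.Cx_le_norm z hg, g.2.2⟩) fun g hg => by
    refine h.NJ_le ⟨mem_normalizer_of_forall ?_, g.2.2⟩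
    have k1 : ∀ u ∈ closure {a j, x, z}, (g : G) * u * (g : G)⁻¹ ∈ JJ.map φ := by
      rw [← eJ]
      rintro _ ⟨u, hu, rfl⟩
      have k2 : (img ι J0).map (Subgroup.subtype _) ≤ JJ.map φ := by
        rw [eJ, closure_le]
        rintro _ (rfl | rfl | rfl)
        exacts [⟨ga, G2x.mems.1, h.ea⟩, ⟨gx, G2x.mems.2.2.1, h.ex⟩, ⟨gz, G2x.mems.2.2.2.1, h.ez⟩]
      exact k2 ⟨_, conj_mem_of_mem_normalizer hg hu, rfl⟩
    rintro _ ⟨u, hu, rfl⟩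
    refine e6c_JJ (K := ((JJ.map φ).comap (MulAut.conj (g : G)).toMonoidHom).comap φ) ?_ ?_ ?_ ?_ hu
    · show (g : G) * φ ga * (g : G)⁻¹ ∈ JJ.map φ
      rw [h.ea]
      exact k1 _ (subset_closure (by simp))
    · show (g : G) * φ gc * (g : G)⁻¹ ∈ JJ.map φ
      rw [h.ec, mem_Cx'.1 (h'.L0_le g.2.1).1]
      exact ⟨gc, G2x.mems.2.1, h.ec⟩
    · show (g : G) * φ gx * (g : G)⁻¹ ∈ JJ.map φ
      rw [h.ex]
      exact k1 _ (subset_closure (by simp))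
    · show (g : G) * φ gz * (g : G)⁻¹ ∈ JJ.map φ
      rw [h.ez]
      exact k1 _ (subset_closure (by simp))
  exact subgroupOf_eq_top.1 e

theorem EP.cK_a (h : EP z Q Qi r π τ a b x σ i j k φ) : Cx (r i) ⊓ Cx (a k) ≤ M6 φ (a i) (r i) := by
  have : Fact (Nat.Prime 3) := ⟨Nat.prime_three⟩
  obtain ⟨φ', h'⟩ := h.toEX.exists_EP h.ik.symm h.jk.symm h.ij
  intro g hg
  obtain ⟨c, hc, m, rfl⟩ := h'.Ca hg.2
  have ha : a k ∈ K0 (a i) (r i) := h.ec ▸ h.phi_K0 gc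
  have hcr : c ∈ Cx (r i) := (Subgroup.mul_mem_cancel_left _ (pow_mem ha.2 m)).1 hg.1
  refine mul_mem (mem_sup_right (pow_mem ha m)) ?_
  obtain ⟨ι, t, ρ, kc, -, ez, -, -, -⟩ := h.kc_k
  have hS := IsSylowIn.of_sylow_subgroup kc.sylow.toSylowTop
  rw [IsSylowIn.coe_toSylowTop] at hS
  obtain ⟨n, hn, hN⟩ := hS.frattini (g := c) (mem_normalizer_of_forall fun u hu =>
    ⟨conj_mem_of_mem_normalizer (h'.L0_norm hc) hu.1, (Cx (r i)).mul_mem (mul_mem hcr hu.2) (inv_mem hcr)⟩)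
  refine (Subgroup.mul_mem_cancel_left _ (h.e6c_P hn)).1 (h.Nz_le ⟨?_, mul_mem hn.2 hcr⟩)
  generalize n * c = g at hN
  have hD := S0_le.2.2.1
  have mz : z0 ∈ S0 := J0_le_S0 Jx.mems.2.2.2.1
  have m1 : e1 ∈ S0 := J0_le_S0 Jx.mems.1
  have mσ : σ0 ∈ S0 := Jx.mems.2.2.2.2.2.2.1
  obtain ⟨w, hw, e⟩ := conj_mem_of_mem_normalizer hN ⟨_, mem_im_of (ι := ι) mz, rfl⟩
  obtain ⟨u, hu, rfl⟩ := (kc.mem_im hD).1 hw
  have cm : ∀ v ∈ S0, u * v = v * u := fun v hv => by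
    obtain ⟨w, hw, e'⟩ := conj_mem_of_mem_normalizer' hN ⟨_, mem_im_of (ι := ι) hv, rfl⟩
    have k1 := congrArg Subtype.val (mem_Cx.1 (Rec3C.LxP.S_z kc.toEmb hD hw))
    rw [← kc.comm_iff (hD hu) (hD hv)]
    apply Subtype.ext
    simp only [coe_subtype, coe_mul] at e e' k1 ⊢
    rw [e'] at k1
    rw [e]
    calc g * (ι z0 : G) * g⁻¹ * ι v = g * ((ι z0 : G) * (g⁻¹ * ι v * g)) * g⁻¹ := by group
      _ = _ := by rw [← k1]; group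
  simp only [coe_subtype] at e
  rw [ez] at e
  refine G2x.norm_of_pm ?_
  rcases e6c_cen u hu (cm _ m1) (cm _ mσ) with rfl | rfl | rfl
  · rw [kc.one, OneMemClass.coe_one, eq_comm, conj_eq_one_iff] at e
    exact absurd e h.z1
  · exact Or.inl (by rw [← e, ez])
  · exact Or.inr (by rw [← e, kc.inv (hD mz), coe_inv, ez])

end CfsgLib.Rec3E
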