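import Cfsg.Agent.Lib.Rec3E.E3a
import Cfsg.Agent.Lib.Rec3B.F3

/-! Sylow subgroups and fusion in `J` (plans/REC3E.md, E3b). -/

set_option autoImplicit false
set_option maxRecDepth 100000
set_option maxHeartbeats 400000
set_option linter.unusedSectionVars false
set_option linter.unusedVariables false

namespace CfsgLib.Rec3E

open Subgroup Cfsg CfsgLib.Tech CfsgLib.PComp CfsgLib.W2 CfsgLib.Rec3 CfsgLib.Rec3B CfsgLib.Rec3B.W4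
open CfsgLib.U43 (SL)

variable {G : Type*} [Group G] [Finite G]
variable {z x σ : G} {Q : Subgroup G} {Qi : Fin 3 → Subgroup G} {r a b : Fin 3 → G} {π : Fin 3 → G → SL}
  {τ : G → Equiv.Perm (Fin 3)} {i j k : Fin 3} {φ : W4 →* G}

namespace E3b

open CfsgLib.Sect Es NBx FT FBx E3 F3x

variable (h : ET z Q Qi r π τ a x σ) {u v w c : G} {B R : Subgroup G}
include h

theorem xz : x ∈ Cx z := (mem_JE.1 h.xJ).1

theorem x0 : x ∈ h.H0 := (J_H0 h.toNH h.aQ h.an h.xJ).1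

theorem inv : ET z Q Qi r π τ a x⁻¹ σ :=
  { h with
    xJ := inv_mem h.xJ
    xr := fun i => inv_mem (h.xr i)
    πx := fun i e => h.πx i (by rwa [(h.ul_hm i).inv (x0 h), inv_eq_one] at e)
    σx := by
      have := inv_mem h.σx
      rw [← zcj this (inv_mem (xz h))] at this
      convert this using 1
      group
    xz := h.xz.imp fun g e => by rw [inv_inv]; exact e.symm }

theorem mulz (hw : w ∈ zpowers z) : ET z Q Qi r π τ a (w * x) σ :=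
  have wA : w ∈ AE z a := zpowers_le.2 zA hw
  { h with
    xJ := mul_mem (A_J h.toNH h.aQ wA) h.xJ
    xr := fun i => mul_mem (mem_Cx.2 (Es.zc hw (h.rz i)).symm) (h.xr i)
    πx := fun i => by
      rw [π_mul_Q h.toNH (h.hz.ZP hw) (xz h) (by rw [(h.mem_H0.1 (x0 h)).2]; rfl)]
      exact h.πx i
    σx := by
      convert mul_mem (mul_mem hw h.σx) (inv_mem hw) using 1
      calc _ = σ * w * σ⁻¹ * (σ * x * σ⁻¹ * x⁻¹) * w⁻¹ := by group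
        _ = _ := by rw [zcj hw h.σz]
    xz := h.xz.imp fun g e => e.imp (fun e => by
      convert mul_mem e (inv_mem wA) using 1
      group) fun e => by
      convert mul_mem e wA using 1
      rw [← Es.zc hw (xz h)]
      group }

theorem a_Im (hv : v ∈ h.H0) (v3 : v ^ 3 ∈ Q) (e : π i v ≠ 1) (k : v ∈ cmz z (a i)) : a i ∈ Im z Q v := by
  have n := h.norm_Q k.1
  obtain ⟨p, hp, e1⟩ := EB.F3 h.toNH hv v3 e (h.aQ i) (cmz_symm (h.Qz i (h.aQ i)) k)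
  convert mul_mem (inv_mem (z_Im h.hz n e1)) (cm_Im h.hz n (h.le i hp)) using 1
  group

theorem conj_z {g : G} (e : g * z * g⁻¹ * x⁻¹ ∈ AE z a) :
    ∃ x', ET z Q Qi r π τ a x' σ ∧ ∃ g, g * z * g⁻¹ = x' := by
  have n := h.norm_Q (xz h)
  obtain ⟨p, hp, w, hw, k⟩ := Im_conj h.hz n (AE_le.2 ⟨fun i => a_Im h (x0 h) (by
    rw [h.J3 x h.xJ]; exact one_mem _) (h.πx i) (cx_cmz (xz h) ((mem_JE.1 h.xJ).2 i)),
      z_Im h.hz n (mem_zpowers z)⟩ e)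
  refine ⟨_, mulz h (inv_mem hw), p⁻¹ * g, ?_⟩
  calc _ = p⁻¹ * w⁻¹ * p⁻¹⁻¹ * (p⁻¹ * (w * (g * z * g⁻¹ * x⁻¹ * x)) * p) := by group
    _ = _ := by rw [← k, zcj (inv_mem hw) (h.zc (inv_mem hp))]; group

theorem bas {a0 b0 : G} (e : Bas z x (Qi 0) (r 0) a0 b0) (i : Fin 3) : ∃ c, Bas z x (Qi i) (r i) (a i) c := by
  have k : ∀ i, (∃ c, Bas z x (Qi i) (r i) (a i) c) → ∃ c, Bas z x (Qi (i + 1)) (r (i + 1)) (a (i + 1)) c := by
    rintro i ⟨c, e⟩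
    have := e.conj (h.Qz i) (xz h) h.σz (by
      have := inv_mem h.σx
      rw [← zcj this (inv_mem h.σz)] at this
      convert this using 1
      group)
    rw [h.τa σ h.σz, h.X_r h.σz h.σρ, h.τσ, h.σa] at this
    exact ⟨_, this⟩
  have h0 : ∃ c, Bas z x (Qi 0) (r 0) (a 0) c := by
    obtain ⟨s, hs, v, hv, rfl⟩ := QA h.toNH (h.aQ 0) (h.an 0) e.aK ((EB.F2 h.toNH (x0 h) (h.πx 0) (h.aQ 0) (h.an 0)
      (cx_cmz (h.Qz 0 (h.aQ 0)) (Cx_comm.1 ((mem_JE.1 h.xJ).2 0))) e.aK).1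
      (cx_cmz (h.Qz 0 e.aK) (mem_Cx.2 e.xa.symm)))
    have sz : s ∈ Cx z := zpowers_le.2 (h.Qz 0 (h.aQ 0)) hs
    rw [Es.zc hv sz] at e
    rcases three_cases (h.exp _ (h.le 0 (h.aQ 0))) hs with rfl | rfl | rfl
    · exact absurd (by simpa using hv) (e.a_n h.z1 (h.Qz 0))
    · rw [un h.z3 (h.rz 0) sz hv (h.ra 0) e.ta, one_mul] at e
      exact ⟨_, e⟩
    · have ra : r 0 * (a 0)⁻¹ * (r 0)⁻¹ = (a 0)⁻¹⁻¹ := by
        rw [← congrArg (·⁻¹) (h.ra 0)]; group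
      rw [un h.z3 (h.rz 0) sz hv ra e.ta, one_mul] at e
      have := e.conj (h.Qz 0) (xz h) (h.rz 0) (by
        rw [mul_assoc _ x, mem_Cx.1 (h.xr 0), inv_mul_cancel_left, mul_inv_cancel]; exact one_mem _)
      rw [h.τa _ (h.rz 0), h.τ_r, mul_inv_cancel_right, ra, inv_inv] at this
      exact ⟨_, this⟩
  fin_cases i
  exacts [h0, k 0 h0, k 1 (k 0 h0)]

theorem σJ (hu : u ∈ JE z a) : σ * u * σ⁻¹ ∈ JE z a := by
  obtain ⟨u1, u2⟩ := mem_JE.1 hu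
  refine mem_JE.2 ⟨mul_mem (mul_mem h.σz u1) (inv_mem h.σz), fun i => ?_⟩
  obtain ⟨j, rfl⟩ : ∃ j, i = j + 1 := ⟨i - 1, by simp⟩
  rw [← h.σa]
  exact conj_mem_Cx.2 (u2 j)

theorem Sz : Q ⊔ JE z a ⊔ zpowers σ ≤ Cx z :=
  sup_le (sup_le h.zc fun _ e => (mem_JE.1 e).1) (zpowers_le.2 h.σz)

theorem S3 : IsPGroup 3 (Q ⊔ JE z a ⊔ zpowers σ : Subgroup G) := by
  have J3 : IsPGroup 3 (JE z a) := isPGroup_iff_mem.2 fun u hu => ⟨1, h.J3 u hu⟩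
  have nJ : JE z a ≤ normalizer (Q : Set G) := fun u hu => h.norm_Q (mem_JE.1 hu).1
  have σ3 : σ ^ 3 ∈ JE z a := mem_JE.2 ⟨pow_mem h.σz 3, fun i => mem_Cx'.2 (by
    calc _ = σ * (σ * (σ * a i * σ⁻¹) * σ⁻¹) * σ⁻¹ := by rw [pow_three]; group
      _ = _ := by rw [h.σa, h.σa, h.σa, (by decide : ∀ i : Fin 3, i + 1 + 1 + 1 = i)])⟩
  refine (h.hz.two.to_sup_of_normal_left' J3 nJ).to_sup_of_normal_left' (isPGroup_iff_mem.2 ?_)
    (zpowers_le.2 (mem_normalizer_of_forall fun u hu => ?_))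
  · rintro _ ⟨m, rfl⟩
    refine ⟨2, ?_⟩
    rw [← zpow_natCast, ← zpow_mul, mul_comm, zpow_mul, zpow_natCast, show 3 ^ 2 = 3 * 3 from rfl, pow_mul,
      h.J3 _ σ3, one_zpow]
  · rw [sup_comm] at hu
    obtain ⟨c, hc, q, hq, rfl⟩ := (mem_sup_of_norm fun c hc q hq => conj_mem_of_mem_normalizer (nJ hc) hq).1 hu
    rw [← conj_mul]
    exact mul_mem (mem_sup_right (σJ h hc)) (mem_sup_left (conj_mem_of_mem_normalizer (h.norm_Q h.σz) hq))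

theorem π3 (hR : IsPGroup 3 R) (hu : u ∈ R) (u0 : u ∈ h.H0) (i : Fin 3) : π i u ^ 3 = 1 := by
  obtain ⟨m, e⟩ := isPGroup_iff_mem.1 hR u hu
  exact SL_pow3 (k := m) (by rw [← (h.ul_hm i).pow u0, e, h.π_one])

theorem τ3' (hR : IsPGroup 3 R) (hu : u ∈ R) (uz : u ∈ Cx z) : τ u ^ 3 = 1 := by
  obtain ⟨m, e⟩ := isPGroup_iff_mem.1 hR u hu
  exact cube (k := m) (by decide +kernel) (by rw [← h.τ_pow uz, e, h.τ_one])

theorem fixes (hR : IsPGroup 3 R) (hx : x ∈ R) (hu : u ∈ R) (u0 : u ∈ h.H0) (i : Fin 3) : u ∈ cmz z (a i) := by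
  have m := h.ul_hm i
  have xa := cx_cmz (xz h) ((mem_JE.1 h.xJ).2 i)
  have k : ∀ v ∈ h.H0, π i v = 1 → v ∈ cmz z (a i) := fun v hv e =>
    cmz_symm (h.mem_H0.1 hv).1 ((EB.pk h.toNH hv).1 e (h.aQ i))
  have e1 := m _ u0 _ (x0 h)
  have e2 := m _ u0 _ (inv_mem (x0 h))
  rw [m.inv (x0 h)] at e2
  rcases (by decide +kernel : ∀ s t : SL, s ^ 3 = 1 → t ^ 3 = 1 → t ≠ 1 → (s * t) ^ 3 = 1 → (s * t⁻¹) ^ 3 = 1 →
    s = 1 ∨ s * t = 1 ∨ s * t⁻¹ = 1) _ _ (π3 h hR hu u0 i) (π3 h hR hx (x0 h) i) (h.πx i)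
    (e1 ▸ π3 h hR (mul_mem hu hx) (mul_mem u0 (x0 h)) i)
    (e2 ▸ π3 h hR (mul_mem hu (inv_mem hx)) (mul_mem u0 (inv_mem (x0 h))) i) with e | e | e
  · exact k u u0 e
  · exact (mul_mem_cancel_right xa).1 (k _ (mul_mem u0 (x0 h)) (e1.trans e))
  · exact (mul_mem_cancel_right (inv_mem xa)).1 (k _ (mul_mem u0 (inv_mem (x0 h))) (e2.trans e))

theorem xS : x ∈ Q ⊔ JE z a ⊔ zpowers σ := mem_sup_left (mem_sup_right h.xJ)

theorem syl : IsSylowIn 3 (Q ⊔ JE z a ⊔ zpowers σ) ⊤ := by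
  have : Fact (Nat.Prime 3) := ⟨by norm_num⟩
  refine h.sylow (isSylowIn_of_maximal (S3 h) (Sz h) fun R h3 SR hR u hu => ?_)
  have σS : σ ∈ Q ⊔ JE z a ⊔ zpowers σ := mem_sup_right (mem_zpowers σ)
  have k : ∀ v ∈ R, τ v = 1 → v ∈ Q ⊔ JE z a ⊔ zpowers σ := fun v hv e => by
    obtain ⟨q, hq, c, hc, -, rfl⟩ := dec h.toNH h.aQ h.an (hR hv)
      (fixes h h3 (SR (xS h)) hv (h.mem_H0.2 ⟨hR hv, e⟩))
    exact mem_sup_left (mul_mem_sup hq hc)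
  rcases (by decide +kernel : ∀ s t : Equiv.Perm (Fin 3), s ^ 3 = 1 → (∀ i, t i = i + 1) →
    s = 1 ∨ s * t = 1 ∨ s * t⁻¹ = 1) _ _ (τ3' h h3 hu (hR hu)) h.τσ with e | e | e
  · exact k u hu e
  · exact (mul_mem_cancel_right σS).1 (k _ (mul_mem hu (SR σS)) (by rwa [h.τm _ (hR hu) _ h.σz]))
  · exact (mul_mem_cancel_right (inv_mem σS)).1 (k _ (mul_mem hu (inv_mem (SR σS)))
      (by rwa [h.τm _ (hR hu) _ (inv_mem h.σz), h.τ_inv h.σz]))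

theorem idxQ (hB : B ≤ h.H0) (B3 : IsPGroup 3 B) (j : Fin 3) (e : ∀ v ∈ B, π j v = 1 → v ∈ Q) :
    Nat.card B ≤ 3 * Nat.card (Q ⊓ B : Subgroup G) := by
  have m := (h.ul_hm j).mono hB
  exact (m.card_le3 B3).trans (Nat.mul_le_mul_left 3 (card_le_of_le fun v hv =>
    ⟨e v (m.mem_ker.1 hv).1 (m.mem_ker.1 hv).2, (m.mem_ker.1 hv).1⟩))

theorem uq (hb : Bas z x (Qi 0) (r 0) (a 0) c) (hB : B ≤ Q ⊔ JE z a ⊔ zpowers σ)
    (hc : ∀ u ∈ B, ∀ v ∈ B, u * v = v * u) (hn : Nat.card (JE z a) ≤ Nat.card B) : B ≤ JE z a := by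
  have N := h.toNH
  have B3 := (S3 h).to_le hB
  have Bz := hB.trans (Sz h)
  have J3 : IsPGroup 3 (JE z a) := isPGroup_iff_mem.2 fun u hu => ⟨1, h.J3 u hu⟩
  have cA := cardA N h.aQ h.an
  have AJ := A_J N h.aQ
  have J0 : JE z a ≤ h.H0 := fun u hu => (J_H0 N h.aQ h.an hu).1
  have cJ := ul_lt3 J3 AJ h.xJ fun e => h.πx 0 (h.π_Q (A_Q N h.aQ e))
  have fx : ∀ v ∈ B, v ∈ h.H0 → ∀ i, v ∈ cmz z (a i) := fun v hv v0 => fixes h (S3 h) (xS h) (hB hv) v0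
  have va : ∀ v ∈ B, v ∈ h.H0 → ∀ i, π i v ≠ 1 → Q ⊓ B ≤ Cx (a i) := fun v hv v0 i e q hq => by
    have v3 := h.mem_H0.1 (pow_mem v0 3)
    exact Cx_comm.1 (Im_perp h.hz (h.norm_Q (Bz hv)) (Bz hv) hq.1 (cx_cmz (Bz hv) (mem_Cx.2 (hc v hv q hq.2))).2
      (a_Im h v0 (h.mem_Q v3.1 v3.2 fun j => by rw [(h.ul_hm j).pow v0, π3 h B3 hv v0]) e (fx v hv v0 i)))
  have cB := h.abel_le (inf_le_left : Q ⊓ B ≤ Q) fun u hu v hv => hc u hu.2 v hv.2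
  by_cases h0 : B ≤ h.H0
  · by_cases hf : ∀ i, ∃ v ∈ B, π i v ≠ 1
    · have BA : Q ⊓ B ≤ AE z a := fun q hq => QJ_A N h.aQ h.an hq.1 fun i => by
        obtain ⟨v, hv, e⟩ := hf i
        exact va v hv (h0 hv) i e hq
      have c1 := card_eq_relIndex Q B
      have c2 := card_eq_relIndex Q (JE z a)
      rw [show Q ⊓ JE z a = AE z a from le_antisymm (fun q hq => QJ_A N h.aQ h.an hq.1 (mem_JE.1 hq.2).2)
        (le_inf (A_Q N h.aQ) AJ)] at c2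
      have c3 : Q.relIndex B ≤ Q.relIndex (JE z a) := by
        refine (relIndex_mono_right Q (L := Cx z ⊓ ⨅ i, cmz z (a i)) fun v hv =>
          ⟨Bz hv, mem_iInf.2 (fx v hv (h0 hv))⟩).trans (relIndex_le_of_cover (fun u hu => ⟨(mem_JE.1 hu).1,
            mem_iInf.2 fun i => cx_cmz (mem_JE.1 hu).1 ((mem_JE.1 hu).2 i)⟩) fun u hu => ?_)
        obtain ⟨q, hq, d, hd, -, rfl⟩ := dec N h.aQ h.an hu.1 (mem_iInf.1 hu.2)
        exact ⟨d, hd, by rw [← mul_assoc]; exact conj_mem_of_mem_normalizer' (h.norm_Q (mem_JE.1 hd).1) hq⟩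
      have c4 : Nat.card (AE z a) ≤ Nat.card (Q ⊓ B : Subgroup G) :=
        Nat.le_of_mul_le_mul_right ((c2.ge.trans hn).trans (c1.le.trans (Nat.mul_le_mul_left _ c3)))
          (Nat.pos_of_ne_zero (relIndex_ne _ _))
      exact fun u hu => mem_JE.2 ⟨Bz hu, fun i => mem_Cx.2 (hc u hu _ ((eq_of_le_of_card_ge BA c4).ge (aA i)).2)⟩
    exfalso
    push Not at hf
    obtain ⟨i, hi⟩ := hf
    obtain ⟨j, k, jk⟩ := (by decide : ∀ i : Fin 3, ∃ j k, ∀ l, l ≠ k → l = i ∨ l = j) i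
    have c1 := idxQ h h0 B3 j fun v hv e => by
      have e1 : ∀ l, l ≠ k → π l v = 1 := fun l hl => (jk l hl).elim (fun e' => e' ▸ hi v hv) fun e' => e' ▸ e
      refine h.mem_Q (Bz hv) (h.mem_H0.1 (h0 hv)).2 fun l => ?_
      by_cases hl : l = k
      · exact ST.one34 (π3 h B3 hv (h0 hv) l) (hl ▸ h.nD v (Bz hv) (h.mem_H0.1 (h0 hv)).2 k e1)
      · exact e1 l hl
    obtain ⟨v, hv, vQ⟩ := SetLike.not_le_iff_exists.1 fun e : B ≤ Q => by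
      rw [inf_eq_right.2 e] at cB
      omega
    obtain ⟨q, hq, d, hd, -, ed⟩ := dec N h.aQ h.an (Bz hv) (fx v hv (h0 hv))
    have m := (h.ul_hm i).mono J0
    have d0 := h.mem_H0.1 (J0 hd)
    have c2 := ul_lt3 J3 (K := m.ker) (fun u hu => (m.mem_ker.1 hu).1) h.xJ fun e => h.πx i (m.mem_ker.1 e).2
    have c3 := ul_lt3 (J3.to_le (fun u hu => (m.mem_ker.1 hu).1 : m.ker ≤ _)) (K := AE z a)
      (fun u hu => m.mem_ker.2 ⟨AJ hu, h.π_Q (A_Q N h.aQ hu)⟩)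
      (m.mem_ker.2 ⟨hd, by rw [← π_mul_Q N hq d0.1 (by rw [d0.2]; rfl), ← ed, hi v hv]⟩)
      fun e => vQ (ed ▸ mul_mem hq (A_Q N h.aQ e))
    omega
  exfalso
  obtain ⟨s, hs, s0⟩ := SetLike.not_le_iff_exists.1 h0
  have s1 : τ s ≠ 1 := fun e => s0 (h.mem_H0.2 ⟨Bz hs, e⟩)
  have s3 := τ3' h B3 hs (Bz hs)
  have c3 := card_le_of_le (show Q ⊓ B ⊓ Cx (a 0) ⊓ Cx c ≤ zpowers z from fun q hq =>
    orbit (i := 0) N (Bz hs) s1 s3 hq.1.1.1 (cx_cmz (Bz hs) (mem_Cx.2 (hc s hs q hq.1.1.2))).2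
      fun p hp => mem_Cx.1 (((hb.gen.ge.trans ((closure_le (Cx q)).2 (by
        rintro _ (rfl | rfl)
        exacts [Cx_comm.1 hq.1.2, Cx_comm.1 hq.2])))) hp))
  rw [cardZ h.z1 h.z3] at c3
  have c4 := card_le3' h.hz (inf_le_left.trans inf_le_left : Q ⊓ B ⊓ Cx (a 0) ≤ Q) (h.le 0 hb.bK)
  have c6 := card_eq_relIndex h.H0 B
  have c7 : h.H0.relIndex B ≤ 3 := idx3 h.τh nine_S3 Bz B3
  by_cases k : h.H0 ⊓ B ≤ Q ⊓ B
  · have c5 := card_le3' h.hz (inf_le_left : Q ⊓ B ≤ Q) (h.le 0 hb.aK)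
    have := Nat.mul_le_mul (card_le_of_le k) c7
    omega
  · have all : ∀ v ∈ h.H0 ⊓ B, π 0 v = 1 → v ∈ Q := fun v hv e => by
      have t : ∀ i, π i v = 1 → π (τ s i) v = 1 := fun i e => by
        have := (π_cj1 N (Bz hs) hv.1).2 e
        rwa [hc s hs v hv.2, mul_inv_cancel_right] at this
      refine h.mem_Q (Bz hv.2) (h.mem_H0.1 hv.1).2 fun l => ?_
      rcases (three_orbit _ s1 s3 0).2.2.2 l with rfl | rfl | rfl
      exacts [e, t _ e, t _ (t _ e)]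
    obtain ⟨v, hv, vQ⟩ := SetLike.not_le_iff_exists.1 k
    rw [inf_eq_left.2 (va v hv.2 hv.1 0 fun e => vQ ⟨all v hv e, hv.2⟩)] at c3 c4
    have c8 := idxQ h inf_le_left (B3.to_le inf_le_right) 0 all
    have c9 := card_le_of_le (show Q ⊓ (h.H0 ⊓ B) ≤ Q ⊓ B from inf_le_inf_left _ inf_le_right)
    have := Nat.mul_le_mul_left (Nat.card (h.H0 ⊓ B : Subgroup G)) c7
    omega

theorem main {a0 b0 : G} (e : Bas z x (Qi 0) (r 0) a0 b0) (xz' : ∃ g, g * z * g⁻¹ = x ∨ g * z * g⁻¹ = x⁻¹) :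
    ∃ b, EX z Q Qi r π τ a b x σ := by
  have : Fact (Nat.Prime 3) := ⟨by norm_num⟩
  choose b hb using bas h e
  have e3 : ∀ {i q}, q ∈ Qi i → q ^ 3 = 1 := fun e => h.exp _ (h.le _ e)
  have cz : ∀ {i q}, q ∈ Qi i → Commute q z := fun e => mem_Cx.1 (h.Qz _ e)
  refine ⟨b, h, fun i j ij => ?_, fun i => (hb i).gen, xz', h.toEH.wc, h.toEH.sym, syl h,
    fun B hB => uq h (hb 0) hB, fun u hu g e => ?_⟩
  · have cr : ∀ {i j q}, i ≠ j → q ∈ Qi j → Commute (r i) q := fun e k => (mem_Cx.1 (h.rj _ _ e k)).symm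
    exact ⟨h.z1, h.z3, e3 (hb i).aK, e3 (hb i).bK, e3 (hb j).aK, e3 (hb j).bK, h.J3 x h.xJ, h.rr i, h.rr j,
      cz (hb i).aK, cz (hb i).bK, cz (hb j).aK, cz (hb j).bK, mem_Cx.1 (xz h), mem_Cx.1 (h.rz i),
      mem_Cx.1 (h.rz j), (hb i).ab, (hb j).ab, h.cm i j ij _ (hb i).aK _ (hb j).aK,
      h.cm i j ij _ (hb i).aK _ (hb j).bK, h.cm i j ij _ (hb i).bK _ (hb j).aK, h.cm i j ij _ (hb i).bK _ (hb j).bK,
      (hb i).xa, (hb j).xa, (hb i).xb, (hb j).xb, (hb i).ta, (hb i).tb, cr ij (hb j).aK, cr ij (hb j).bK,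
      (mem_Cx.1 (h.xr i)).symm, cr ij.symm (hb i).aK, cr ij.symm (hb i).bK, (hb j).ta, (hb j).tb,
      (mem_Cx.1 (h.xr j)).symm, h.rm i j⟩
  · obtain ⟨n, -, hn⟩ := control_wc (syl h) (le_sup_right.trans le_sup_left) h.Jc (fun k _ e =>
      eq_of_le_of_card_ge (uq h (hb 0) e (fun u hu v hv => by
        have := (conj_mem_Cx (g := k)).2 (mem_Cx.2 (h.Jc _ (mem_cj.1 hu) _ (mem_cj.1 hv)))
        simpa [mul_assoc, mem_Cx] using this) (card_cj k _).ge) (card_cj k _).ge) hu (mem_top g) e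
    exact ⟨n, hn⟩

end E3b

theorem ET.exists_EX (h : ET z Q Qi r π τ a x σ) : ∃ b x', EX z Q Qi r π τ a b x' σ := by
  obtain ⟨y, k, g, e⟩ : ∃ x', ET z Q Qi r π τ a x' σ ∧ ∃ g, g * z * g⁻¹ = x' := by
    obtain ⟨g, e | e⟩ := h.xz
    · exact E3b.conj_z h e
    · exact E3b.conj_z (E3b.inv h) (g := g) (by rwa [inv_inv])
  obtain ⟨a0, b0, h1, h2, h3, h4, h5, h6 | h6⟩ := k.basis (E3b.xz k) (by rw [(k.mem_H0.1 (E3b.x0 k)).2]; rfl)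
    (k.xr 0) (by rw [k.J3 y k.xJ]; exact one_mem _) (k.πx 0)
  · obtain ⟨b, hb⟩ := E3b.main k ⟨h1, h2, h3, h4, h5, h6⟩ ⟨g, Or.inl e⟩
    exact ⟨b, _, hb⟩
  · obtain ⟨b, hb⟩ := E3b.main (E3b.inv k) ⟨h1, h2, h3, h4, Commute.inv_left h5, by rwa [inv_inv]⟩
      ⟨g, Or.inr (by rwa [inv_inv])⟩
    exact ⟨b, _, hb⟩

end CfsgLib.Rec3E
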