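import Cfsg.Agent.Lib.Rec3E.E6b
import Cfsg.Agent.Lib.Rec3E.E3b

/-! Fusion of elements of order three in `C(t)` (plans/REC3E.md, FUS). -/

set_option autoImplicit false
set_option maxRecDepth 100000
set_option maxHeartbeats 400000
set_option linter.unusedSectionVars false
set_option linter.unusedVariables false

namespace CfsgLib.Rec3E

open Subgroup Cfsg CfsgLib.Tech CfsgLib.PComp CfsgLib.W2 CfsgLib.Rec3 CfsgLib.Rec3B CfsgLib.Rec3B.W4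
open CfsgLib.U43 (SL)

variable {G : Type*} [Group G] [Finite G]
variable {z x σ : G} {Q : Subgroup G} {Qi : Fin 3 → Subgroup G} {r a b : Fin 3 → G} {π : Fin 3 → G → SL}
  {τ : G → Equiv.Perm (Fin 3)} {i j k : Fin 3} {φ : W4 →* G}

open CfsgLib.Sect Es NBx FT J2a

theorem three_SS : ∀ u ∈ SS, u ^ 3 = 1 → u ∈ QQ ∨ u ∈ JJ := by
  simp only [pow_three']
  decide +kernel

namespace FUx

theorem cent3 {R : Subgroup G} {y : G} (z1 : z ≠ 1) (z3 : z ^ 3 = 1) (h3 : IsPGroup 3 R) (hy : y ∈ R)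
    (m : y * z * y⁻¹ ∈ zpowers z) : y ∈ Cx z := by
  rcases three_cases z3 m with e | e | e
  · exact absurd (by simpa using e) z1
  · exact mem_Cx'.2 e
  · have y2 : y * y ∈ Cx z := mem_Cx'.2 (by
      calc _ = y * (y * z * y⁻¹) * y⁻¹ := by group
        _ = (y * z * y⁻¹)⁻¹ := by nth_rw 1 [e]; group
        _ = z := by rw [e, inv_inv])
    obtain ⟨k, hk⟩ := isPGroup_iff_mem.1 h3 y hy
    obtain ⟨m, hm⟩ : Odd (3 ^ k) := Odd.pow (by decide)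
    have := pow_mem y2 (m + 1)
    rwa [← sq, ← pow_mul, show 2 * (m + 1) = 3 ^ k + 1 by omega, pow_succ, hk, one_mul] at this

theorem fix1 : ∀ (s : Equiv.Perm (Fin 3)) (i : Fin 3), s ^ 3 = 1 → s i = i → s = 1 := by decide

theorem oth : ∀ i j k l : Fin 3, i ≠ j → i ≠ k → j ≠ k → l = i ∨ l = j ∨ l = k := by decide

theorem sl_ab : ∀ s t : SL, (s * t) ^ 3 = 1 → (s * t⁻¹) ^ 3 = 1 → s ^ 3 = 1 → t ^ 3 = 1 → s * t * s⁻¹ * t⁻¹ = 1 := by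
  decide +kernel

theorem JJ_of {K : Subgroup W4} (e : ∀ u, Om u → u ∈ K) : JJ ≤ K := JJ_ind fun v => by
  obtain ⟨s, t, h⟩ := (by decide +kernel : ∀ v : V81, ∃ s t : V81, Om (W4.vec s) ∧ Om (W4.vec t) ∧
    (v = s * t ∨ Om (W4.vec (v * s * t)))) v
  rcases h with ⟨h1, h2, rfl | h3⟩
  · rw [map_mul]; exact mul_mem (e _ h1) (e _ h2)
  · have := e _ h3
    rwa [map_mul, map_mul, mul_mem_cancel_right (e _ h2), mul_mem_cancel_right (e _ h1)] at this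

variable (h : EX z Q Qi r π τ a b x σ) {g n u w c p e : G}
include h

theorem toA (hp : p ∈ Qi j) : ∃ y ∈ RE z Q (r j), ∀ K : Subgroup G, a j ∈ K → z ∈ K → y * p * y⁻¹ ∈ K := by
  by_cases k : p ∈ zpowers z
  · exact ⟨1, one_mem _, fun K _ k2 => by simpa using zpowers_le.2 k2 k⟩
  · obtain ⟨y, hy, e⟩ := h.R_trans hp k (h.aQ j) (h.an j)
    exact ⟨y, hy, fun K k1 k2 => (mul_mem_cancel_right (inv_mem k1)).1 (zpowers_le.2 k2 e)⟩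

theorem R_K0 (ij : i ≠ j) : RE z Q (r j) ≤ K0 (a i) (r i) := fun _ hy =>
  ⟨Cx_comm.1 (h.R_Q ij.symm hy (h.aQ i)), (h.R_H0 hy).2.2.2.2 i⟩

theorem a_r (i : Fin 3) : a i ∉ Cx (r i) := fun k => h.an i (by
  have := h.ra i
  rw [mem_Cx'.1 (Cx_comm.1 k), eq_inv_iff_mul_eq_one] at this
  rw [eq_one (rl h i).a3 this]
  exact one_mem _)

theorem τ_r (hg : g ∈ Cx z) (hr : g ∈ Cx (r i)) : τ g i = i := by
  by_contra k
  have k1 := h.rj i _ (Ne.symm k) (h.cj_mem hg (h.aQ i))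
  rw [← mem_Cx'.1 hr, conj_mem_Cx] at k1
  exact a_r h i k1

theorem one (ij : i ≠ j) (jk : j ≠ k) (hp : p ∈ Qi j) (hu : u ∈ Qi k) (hc : c ∈ JE z a)
    (cr : ∀ l, c ∈ Cx (r l)) (e1 : π j c = 1) (e2 : π k c ≠ 1) (e3 : (p * u * c) ^ 3 = 1) :
    ∃ y ∈ K0 (a i) (r i), y * (p * u * c) * y⁻¹ ∈ JE z a := by
  obtain ⟨y, hy, k1⟩ := toA h hp
  have pJ := k1 _ (h.a_J j) h.z_J
  have pQ := k1 _ (h.aQ j) (h.zQ j)
  have e : y * (p * u * c) * y⁻¹ = u * (y * p * y⁻¹ * c) := by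
    calc _ = y * p * y⁻¹ * (y * u * y⁻¹) * (y * c * y⁻¹) := by group
      _ = _ := by
        rw [mem_Cx'.1 (Cx_comm.1 (h.R_Q jk hy hu)), mem_Cx'.1 ((h.cent_of (Jz h hc) (cr j) e1).2 hy),
          h.cm j k jk _ pQ u hu, mul_assoc]
  have cJ := mul_mem pJ hc
  have e4 : π k (y * p * y⁻¹ * c) ≠ 1 := by
    rwa [h.π_mul (h.H0_le k (JH h pJ)) (h.H0_le k (JH h hc)), h.π_Q (h.le j pQ), one_mul]
  have := EB.cube h.toNH (JH h cJ) (h.J3 _ cJ ▸ one_mem _) (mul_mem (h.rj k j jk.symm pQ) (cr k)) e4 hu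
    (by rw [← e, conj3 e3, h.J3 _ cJ])
  rw [EB.F2 h.toNH (JH h cJ) e4 (h.aQ k) (h.an k) ⟨h.Qz k (h.aQ k), by
    rw [cmt_of (Cx_comm.1 ((mem_JE.1 cJ).2 k))]; exact one_mem _⟩ hu] at this
  exact ⟨y, R_K0 h ij hy, e ▸ mul_mem (EBp.le9 h.toNH (h.aQ k) (h.an k) h.z_J (h.a_J k) ⟨hu, this⟩) cJ⟩

/-- an element that centralises exactly one factor and is conjugate into `J` is conjugate into `J` in `C(z)` -/
theorem two (hi : Qi i ≤ Cx e) (hj : ∀ l, l ≠ i → ¬ Qi l ≤ Cx e) (hw : w ∈ JE z a)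
    (e1 : g * w * g⁻¹ = e) : ∃ y ∈ Cx z, y * e * y⁻¹ ∈ JE z a := by
  have : Fact (Nat.Prime 3) := ⟨by norm_num⟩
  obtain ⟨P, hP, QP⟩ := exists_isSylowIn_ge (p := 3) (H := Cx z ⊓ Cx e) (h.hz.two.to_le (h.le i)) (le_inf (h.Qz i) hi)
  have P0 : P ≤ h.H0 := fun p hp => h.mem_H0.2 ⟨(hP.le hp).1, fix1 _ i (E3b.τ3' h.toET hP.pgroup hp (hP.le hp).1) (by
    by_contra k
    refine hj _ k ?_
    rw [← h.τa p (hP.le hp).1, cj_le_iff]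
    exact fun q hq => mul_mem (mul_mem (hP.le hp).2 (hi hq)) (inv_mem (hP.le hp).2))⟩
  have PQ : ∀ s ∈ P, ∀ t ∈ P, s * t * s⁻¹ * t⁻¹ ∈ Q := fun s hs t ht => by
    have m := mul_mem (mul_mem (mul_mem hs ht) (inv_mem hs)) (inv_mem ht)
    refine h.mem_Q (hP.le m).1 (h.mem_H0.1 (P0 m)).2 fun l => ?_
    have St := fun {u} (hu : u ∈ P) => h.H0_le l (P0 hu)
    have p3 := fun {u} (hu : u ∈ P) => E3b.π3 h.toET hP.pgroup hu (P0 hu) l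
    have k1 := p3 (mul_mem hs ht)
    have k2 := p3 (mul_mem hs (inv_mem ht))
    rw [h.π_mul (St hs) (St (inv_mem ht)), h.π_inv (St ht)] at k2
    rw [h.π_mul (St hs) (St ht)] at k1
    rw [h.π_mul (St (mul_mem (mul_mem hs ht) (inv_mem hs))) (St (inv_mem ht)), h.π_mul (St (mul_mem hs ht))
      (St (inv_mem hs)), h.π_mul (St hs) (St ht), h.π_inv (St hs), h.π_inv (St ht)]
    exact sl_ab _ _ k1 k2 (p3 hs) (p3 ht)
  have S : IsSylowIn 3 P (Cx e) := isSylowIn_of_isSylowIn_normalizer (hP.le.trans inf_le_right)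
    (isSylowIn_of_maximal hP.pgroup (le_inf (hP.le.trans inf_le_right) le_normalizer) fun R h3 PR RN =>
      (hP.eq_of_le h3 PR fun y hy => ⟨cent3 h.z1 (rl h 0).z3 h3 hy (nO h (i := i) ?_ (fun q hq => ?_) ⟨y, rfl⟩),
        (RN hy).1⟩).le)
  · obtain ⟨d, hd, e2⟩ := S.exists_cj_le (Q := cj g (JE z a)) (isPGroup_cj g (T3x.p3 h.J3))
      (cj_le_iff.2 fun u hu => e1 ▸ conj_mem_Cx.2 (mem_Cx.2 (h.Jc u hu w hw)))
    obtain ⟨y, hy, e3⟩ := (h.syl.of_le (E3b.Sz h.toET) le_top).exists_cj_le (hP.pgroup.to_le e2)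
      (e2.trans (hP.le.trans inf_le_left))
    rw [← cj_mul, ← cj_mul] at e3
    refine ⟨y, hy, h.uq _ e3 (fun u hu v hv => ?_) (card_cj _ _).ge ?_⟩
    · have := h.Jc _ (mem_cj.1 hu) _ (mem_cj.1 hv)
      rw [← EBp.cmul, ← EBp.cmul] at this
      simpa using this
    · rw [← mem_Cx'.1 hd, ← e1, show y * (d * (g * w * g⁻¹) * d⁻¹) * y⁻¹ = y * d * g * w * (y * d * g)⁻¹ by group]
      exact conj_mem_cj.2 hw
  · have := PQ _ (conj_mem_of_mem_normalizer (RN hy).2 (QP (h.aQ i))) _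
      (conj_mem_of_mem_normalizer (RN hy).2 (QP (bQ h i)))
    convert this using 1
    calc _ = y * (z * (b i * a i) * (a i)⁻¹ * (b i)⁻¹) * y⁻¹ := by group
      _ = _ := by rw [← (rl h i).ab]; group
  · have := (hP.le (conj_mem_of_mem_normalizer' (RN hy).2 (QP hq))).1
    exact EBp.memC.2 this

end FUx

open FUx

namespace EP

variable (h : EP z Q Qi r π τ a b x σ i j k φ) {g : G} {v : W4}
include h

theorem phi_Q : QQ.map φ = Q ⊓ Cx (r i) := by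
  refine le_antisymm ?_ ?_
  · rintro _ ⟨u, hu, rfl⟩
    exact ⟨(h.phi_QQ hu).1, (h.phi_K0 u).2⟩
  · rw [h.QC h.ij h.ik h.jk, ← h.gen j, ← h.gen k]
    refine sup_le ((closure_le _).2 ?_) ((closure_le _).2 ?_) <;> rintro _ (rfl | rfl)
    exacts [⟨ga, subset_closure (by simp), h.ea⟩, ⟨gb, subset_closure (by simp), h.eb⟩,
      ⟨gc, subset_closure (by simp), h.ec⟩, ⟨gd, subset_closure (by simp), h.ed⟩]

theorem decQ (hg : g ∈ Q ⊓ Cx (r i)) : ∃ p ∈ Qi j, ∃ q ∈ Qi k, g = p * q :=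
  (Sect.mem_sup_of_comm (h.cm j k h.jk)).1 (h.QC h.ij h.ik h.jk ▸ hg)

theorem J4_le : JJ.map φ ≤ JE z a := h.phi_J h ▸ inf_le_left.trans h.J5_le

theorem conj_J4 {u : W4} (hu : u ∈ SS) (h3 : u ^ 3 = 1) : ∃ l ∈ L0 z (a i) (r i), ∃ v ∈ JJ, l * φ u * l⁻¹ = φ v := by
  rcases three_SS u hu h3 with k | k
  · obtain ⟨p, hp, q, hq, e⟩ := h.decQ (h.phi_Q ▸ mem_map_of_mem φ k)
    obtain ⟨y, hy, k1⟩ := toA h.toEX hp
    obtain ⟨y', hy', k2⟩ := toA h.toEX hq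
    have zJ : z ∈ JJ.map φ := ⟨gz, G2x.mems.2.2.2.1, h.ez⟩
    obtain ⟨v, hv, e'⟩ := mul_mem (k1 (JJ.map φ) ⟨ga, G2x.mems.1, h.ea⟩ zJ)
      (k2 (JJ.map φ) ⟨gc, G2x.mems.2.1, h.ec⟩ zJ)
    refine ⟨y * y', mul_mem (h.R_L0.1 hy) (h.R_L0.2 hy'), v, hv, ?_⟩
    rw [e', e]
    calc _ = y * (y' * p * y'⁻¹) * y⁻¹ * (y * (y' * q * y'⁻¹) * y⁻¹) := by group
      _ = _ := by
        rw [mem_Cx'.1 (Cx_comm.1 (h.R_Q h.jk.symm hy' hp)),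
          mem_Cx'.1 (Cx_comm.1 (h.R_Q h.jk hy (k2 _ (h.aQ _) (h.zQ _))))]
  · exact ⟨1, one_mem _, u, k, by group⟩

theorem mem_SK : g ∈ QQ.map φ ⊔ JE z a ⊓ Cx (r i) ↔ ∃ q ∈ Q ⊓ Cx (r i), ∃ c ∈ JE z a ⊓ Cx (r i), g = q * c := by
  have n : ∀ c ∈ JE z a ⊓ Cx (r i), ∀ q ∈ Q ⊓ Cx (r i), c * q * c⁻¹ ∈ Q ⊓ Cx (r i) := fun c hc q hq =>
    mem_inf.2 ⟨conj_mem_of_mem_normalizer (h.norm_Q (Jz h.toEX hc.1)) hq.1,
      mul_mem (mul_mem hc.2 hq.2) (inv_mem hc.2)⟩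
  rw [h.phi_Q, sup_comm, Sect.mem_sup_of_norm n]
  constructor
  · rintro ⟨c, hc, q, hq, rfl⟩
    exact ⟨_, n c hc q hq, c, hc, by group⟩
  · rintro ⟨q, hq, c, hc, rfl⟩
    exact ⟨c, hc, _, n _ (inv_mem hc) q hq, by group⟩

theorem SK_le : QQ.map φ ⊔ JE z a ⊓ Cx (r i) ≤ (Q ⊔ JE z a ⊔ zpowers σ) ⊓ K0 (a i) (r i) ⊓ h.H0 :=
  sup_le (by
    rintro _ ⟨u, hu, rfl⟩
    exact ⟨⟨mem_sup_left (mem_sup_left (h.phi_QQ hu).1), h.phi_K0 u⟩, T3x.Q_H0 h.toNH (h.phi_QQ hu).1⟩)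
    fun c hc => ⟨⟨mem_sup_left (mem_sup_right hc.1), (mem_JE.1 hc.1).2 i, hc.2⟩, JH h.toEX hc.1⟩

theorem syl_K : IsSylowIn 3 (QQ.map φ ⊔ JE z a ⊓ Cx (r i)) (Cx (r i)) := by
  have : Fact (Nat.Prime 3) := ⟨by norm_num⟩
  have le : QQ.map φ ⊔ JE z a ⊓ Cx (r i) ≤ Cx (r i) := fun g hg => (h.SK_le hg).1.2.2
  refine isSylowIn_of_isSylowIn_normalizer le (isSylowIn_of_maximal (h.syl.pgroup.to_le fun g hg => (h.SK_le hg).1.1)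
    (le_inf le le_normalizer) fun R h3 SR RN y hy => ?_)
  have c : ∀ l, i ≠ l → Qi l ≤ Cx (y * z * y⁻¹) := fun l il q hq => EBp.memC.2 (EBp.H0z h.toNH (h.SK_le
    (conj_mem_of_mem_normalizer' (RN hy).2 (mem_sup_left (h.phi_Q ▸ ⟨h.le l hq, h.rj i l il hq⟩)))).2)
  have m := conj_mem_of_mem_normalizer (RN hy).2 (mem_sup_right ⟨h.z_J, Cx_comm.1 (h.rz i)⟩)
  have m0 := (h.SK_le m).2
  obtain ⟨q, hq, d, hd, e⟩ := h.mem_SK.1 m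
  have k : ∀ l, i ≠ l → π l d = 1 := fun l il => by
    have := (EB.pk h.toNH m0).2 fun p hp => ⟨h.Qz l hp, by rw [cmt_of (c l il hp)]; exact one_mem _⟩
    rwa [e, h.π_mul (h.H0_le l (T3x.Q_H0 h.toNH hq.1)) (h.H0_le l (JH h.toEX hd.1)), h.π_Q hq.1, one_mul] at this
  have yz : y ∈ Cx z := cent3 h.z1 (rl h.toEX 0).z3 h3 hy (nO h.toEX
    (e ▸ mul_mem hq.1 (A_Q h.toEX (h.mem_A hd.1 h.jk (k j h.ij) (k _ h.ik)))) (c j h.ij) ⟨y, rfl⟩)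
  have y0 : y ∈ h.H0 := h.mem_H0.2 ⟨yz, fix1 _ i (E3b.τ3' h.toET h3 hy yz) (τ_r h.toEX yz (RN hy).1)⟩
  obtain ⟨q', hq', c', hc, cr, e'⟩ := h.mem_QJ yz fun l =>
    (E3b.fixes h.toET h3 (SR (mem_sup_right ⟨h.xJ, h.xr i⟩)) hy y0 l).2
  exact h.mem_SK.2 ⟨q', ⟨hq', (mul_mem_cancel_right (cr i)).1 (e' ▸ (RN hy).1)⟩, c', ⟨hc, cr i⟩, e'⟩

theorem conj_J (hv : v ∈ JJ) (h1 : v ≠ 1) (e : g * φ v * g⁻¹ ∈ QQ.map φ ⊔ JE z a ⊓ Cx (r i)) :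
    ∃ c ∈ K0 (a i) (r i), c * (g * φ v * g⁻¹) * c⁻¹ ∈ JE z a := by
  have vJ := h.J4_le (mem_map_of_mem φ hv)
  have e3 := conj3 (h.J3 _ vJ) g
  have e0 := (h.SK_le e).2
  obtain ⟨q, hq, c, hc, cr, e1⟩ : ∃ q ∈ Q ⊓ Cx (r i), ∃ c ∈ JE z a, (∀ l, c ∈ Cx (r l)) ∧ g * φ v * g⁻¹ = q * c := by
    obtain ⟨q, hq, d, hd, e1⟩ := h.mem_SK.1 e
    obtain ⟨α, hα, c, hc, cr, rfl⟩ := h.J_split hd.1
    exact ⟨q * α, mul_mem hq ⟨A_Q h.toEX hα, (mul_mem_cancel_right (cr i)).1 hd.2⟩, c, hc, cr, by rw [e1, mul_assoc]⟩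
  have fin : c ∈ SS.map φ → ∃ c ∈ K0 (a i) (r i), c * (g * φ v * g⁻¹) * c⁻¹ ∈ JE z a := fun k => by
    obtain ⟨u, hu, e2⟩ := mul_mem (map_mono les.2.1 (h.phi_Q ▸ hq)) k
    rw [← e1] at e2
    obtain ⟨l, hl, w, hw, e4⟩ := h.conj_J4 hu (h.inj (by rw [map_pow, e2, e3, map_one]))
    exact ⟨l, h.L0_le hl, by rw [← e2, e4]; exact h.J4_le (mem_map_of_mem φ hw)⟩
  obtain ⟨p, hp, u, hu, rfl⟩ := h.decQ hq
  by_cases k1 : π j c = 1 <;> by_cases k2 : π k c = 1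
  · exact fin (map_mono les.2.1 (h.phi_Q ▸ ⟨A_Q h.toEX (h.mem_A hc h.jk k1 k2), cr i⟩))
  · exact e1 ▸ one h.toEX h.ij h.jk hp hu hc cr k1 k2 (e1 ▸ e3)
  · rw [h.cm j k h.jk p hp u hu] at e1
    exact e1 ▸ one h.toEX h.ik h.jk.symm hu hp hc cr k2 k1 (e1 ▸ e3)
  by_cases k3 : π i c = 1
  · have ne : ∀ l, l ≠ i → π l (g * φ v * g⁻¹) ≠ 1 := fun l il => by
      rw [e1, h.π_mul (h.H0_le l (T3x.Q_H0 h.toNH hq.1)) (h.H0_le l (JH h.toEX hc)), h.π_Q hq.1, one_mul]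
      rcases oth i j k l h.ij h.ik h.jk with rfl | rfl | rfl
      exacts [absurd rfl il, k1, k2]
    have hi : Qi i ≤ Cx (g * φ v * g⁻¹) := fun w hw => by
      rw [e1, Cx_comm]
      exact mul_mem (mul_mem (mem_Cx.2 (h.cm j i h.ij.symm p hp w hw)) (mem_Cx.2 (h.cm k i h.ik.symm u hu w hw)))
        (Cx_comm.1 ((h.cent_of (Jz h.toEX hc) (cr i) k3).1 hw))
    obtain ⟨y, hy, e2⟩ := two h.toEX hi (fun l il k => ne l il ((EB.pk h.toNH e0).2 fun p hp =>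
      ⟨h.Qz l hp, by rw [cmt_of (k hp)]; exact one_mem _⟩)) vJ rfl
    refine ⟨1, one_mem _, ?_⟩
    rw [one_mul, inv_one, mul_one]
    refine mem_JE.2 ⟨EBp.H0z h.toNH e0, fun l => ?_⟩
    by_cases il : l = i
    · exact il ▸ Cx_comm.1 (hi (h.aQ i))
    have m1 := h.cj_mem (inv_mem hy) (h.aQ (τ y l))
    rw [h.τ_inv hy, Equiv.Perm.inv_def, Equiv.symm_apply_apply, inv_inv] at m1
    have m2 : y⁻¹ * a (τ y l) * y ∈ Cx (g * φ v * g⁻¹) := EBp.memC.1 (Cx_comm.1 ((mem_JE.1 e2).2 _))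
    have m3 : y⁻¹ * a (τ y l) * y ∉ zpowers z := fun k => h.an (τ y l) (by
      rwa [← EBp.memz, mem_Cx'.1 hy] at k)
    have m4 : a l ∈ cmz z (g * φ v * g⁻¹) := e1 ▸ (EBp.cmz_iff h.toNH hq.1 (Jz h.toEX hc) (h.le l (h.aQ l))).2
      ⟨h.Qz l (h.aQ l), by rw [cmt_of (Cx_comm.1 ((mem_JE.1 hc).2 l))]; exact one_mem _⟩
    have m5 := EB.ab h.toNH e0 (ne l il) m1 ⟨h.Qz l m1, by rw [cmt_of m2]; exact one_mem _⟩ (h.aQ l) m4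
    exact Cx_comm.1 (EBp.le9 h.toNH m1 m3 (Cx_comm.1 (EBp.H0z h.toNH e0)) m2 ⟨h.aQ l, m5⟩)
  · refine fin (map_mono les.1 (h.phi_J h ▸ ⟨?_, cr i⟩))
    rcases h.full_J hc (fun l => by
      rcases oth i j k l h.ij h.ik h.jk with rfl | rfl | rfl
      exacts [k3, k1, k2]) with k | k
    · exact (mul_mem_cancel_right (inv_mem F4x.xJ)).1 (h.A_J5 k)
    · exact (mul_mem_cancel_right F4x.xJ).1 (h.A_J5 k)

theorem wc_JK (hg : g ∈ Cx (r i)) (e : cj g (JE z a ⊓ Cx (r i)) ≤ QQ.map φ ⊔ JE z a ⊓ Cx (r i)) :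
    cj g (JE z a ⊓ Cx (r i)) = JE z a ⊓ Cx (r i) := by
  have BK : cj g (JE z a ⊓ Cx (r i)) ≤ Cx (r i) := fun u hu => (h.SK_le (e hu)).1.2.2
  have Ba : ∀ u ∈ cj g (JE z a ⊓ Cx (r i)), ∀ w ∈ zpowers (a i), u * w = w * u :=
    fun u hu w hw => Es.zc hw (h.SK_le (e hu)).1.2.1
  have le : cj g (JE z a ⊓ Cx (r i)) ⊔ zpowers (a i) ≤ Q ⊔ JE z a ⊔ zpowers σ :=
    sup_le (fun u hu => (h.SK_le (e hu)).1.1) (zpowers_le.2 (mem_sup_left (mem_sup_right (h.a_J i))))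
  refine eq_of_le_of_card_ge (le_inf (le_sup_left.trans (h.uq _ le (fun u1 hu1 v1 hv1 => ?_) ?_)) BK) (card_cj _ _).ge
  · obtain ⟨u, hu, u', hu', rfl⟩ := (Sect.mem_sup_of_comm Ba).1 hu1
    obtain ⟨v, hv, v', hv', rfl⟩ := (Sect.mem_sup_of_comm Ba).1 hv1
    have k1 : u * v = v * u := by
      have := h.Jc _ (mem_cj.1 hu).1 _ (mem_cj.1 hv).1
      rw [← EBp.cmul, ← EBp.cmul] at this
      simpa using this
    have k2 : Commute u' v' := Es.zc hv' (zpowers_le.2 (mem_Cx.2 rfl) hu')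
    exact ((Commute.mul_right k1 (Ba u hu v' hv')).mul_left (Commute.mul_right (Ba v hv u' hu').symm k2)).eq
  · refine (card_le3 (fun k : a i = 1 => h.an i (k ▸ one_mem _)) (rl h.toEX i).a3 (T3x.p3 h.J3) (g := r i)
      fun y hy => cmt_symm (h.Jr hy i)).trans ?_
    rw [← card_cj g]
    exact T3x.three_mul le_sup_left (h.syl.pgroup.to_le le) fun k => a_r h.toEX i (BK (k (mem_sup_right (mem_zpowers _))))

theorem NJK_le : normalizer ((JE z a ⊓ Cx (r i) : Subgroup G) : Set G) ≤ NJ φ := fun n hn => by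
  refine mem_normalizer_of_forall ?_
  rintro _ ⟨u, hu, rfl⟩
  refine JJ_of (K := (JJ.map φ).comap ((MulAut.conj n).toMonoidHom.comp φ)) (fun w hw => ?_) hu
  have wJ := E6x.om_J hw
  obtain ⟨g, e⟩ := EX.om_cj ((h.om4 wJ).2 hw) n
  have m := conj_mem_of_mem_normalizer hn ⟨h.J4_le (mem_map_of_mem φ wJ), (h.phi_K0 w).2⟩
  change n * φ w * n⁻¹ ∈ JJ.map φ
  rw [← e] at m ⊢
  exact h.phi_J h ▸ ⟨h.om_J5 m.1, m.2⟩

theorem uqK (hv : v ∈ JJ) (h1 : v ≠ 1) (hC : Cx (r i) ⊓ Cx (φ v) ≤ M6 φ (a i) (r i)) (hg : g ∈ Cx (r i))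
    (e : g * φ v * g⁻¹ ∈ M6 φ (a i) (r i)) : g ∈ M6 φ (a i) (r i) := by
  have : Fact (Nat.Prime 3) := ⟨by norm_num⟩
  have vJ := h.J4_le (mem_map_of_mem φ hv)
  obtain ⟨m, hm, e1⟩ := (h.syl_K.of_le (fun u hu => mem_sup_right (h.SK_le hu).1.2) h.M_le).exists_conj_mem e
    (isPGroup_zpowers_of_pow (k := 1) (conj3 (h.J3 _ vJ) g))
  rw [show m * (g * φ v * g⁻¹) * m⁻¹ = m * g * φ v * (m * g)⁻¹ by group] at e1
  obtain ⟨c, hc, e2⟩ := h.conj_J hv h1 e1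
  rw [show c * (m * g * φ v * (m * g)⁻¹) * c⁻¹ = c * m * g * φ v * (c * m * g)⁻¹ by group] at e2
  have gK : c * m * g ∈ Cx (r i) := mul_mem (mul_mem hc.2 (h.M_le hm)) hg
  obtain ⟨n, hn, nN, e3⟩ := control_wc h.syl_K le_sup_right (fun u hu w hw => h.Jc u hu.1 w hw.1)
    (fun k hk => h.wc_JK hk) ⟨vJ, (h.phi_K0 v).2⟩ gK (mem_inf.2 ⟨e2, mul_mem (mul_mem gK (h.phi_K0 v).2) (inv_mem gK)⟩)
  have := hC (mem_inf.2 ⟨mul_mem (inv_mem hn) gK, mem_Cx'.2 (by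
    calc _ = n⁻¹ * (c * m * g * φ v * (c * m * g)⁻¹) * n := by group
      _ = _ := by rw [← e3]; group)⟩)
  exact (mul_mem_cancel_left (mul_mem (mem_sup_right hc) hm)).1
    ((mul_mem_cancel_left (inv_mem (h.NJ_le ⟨h.NJK_le nN, hn⟩))).1 this)

end EP

end CfsgLib.Rec3E
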