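import Cfsg.Agent.Lib.Rec3E.BY1
import Cfsg.Agent.Lib.Rec3E.B1
import Cfsg.Agent.Lib.Rec3E.CB2
import Cfsg.Agent.Lib.Rec3E.E6c
import Cfsg.Agent.Lib.Rec3E.FUS

/-! The centraliser of `b = a j * a k` in `C(t)` (plans/REC3E.md, BY2). -/

set_option autoImplicit false
set_option maxRecDepth 100000
set_option maxHeartbeats 400000
set_option Elab.async false
set_option linter.unusedSectionVars false

namespace CfsgLib.Rec3E

open Subgroup Cfsg CfsgLib.Tech CfsgLib.PComp CfsgLib.W2 CfsgLib.Rec3 CfsgLib.Rec3B CfsgLib.Rec3B.W4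
open CfsgLib.U43 (SL)

variable {G : Type*} [Group G] [Finite G]
variable {z x σ : G} {Q : Subgroup G} {Qi : Fin 3 → Subgroup G} {r a b : Fin 3 → G} {π : Fin 3 → G → SL}
  {τ : G → Equiv.Perm (Fin 3)} {i j k : Fin 3} {φ : W4 →* G}

namespace BY2x

open U6x (gy gσ)

theorem d1 : ∀ u v : V81, Om (W4.vec u) → Om (W4.vec v) → Perp (W4.vec u) gy → Perp (W4.vec v) gy →
    W4.vec u ∉ zpowers gz → W4.vec v = gz ∨ W4.vec v = gz⁻¹ ∨ ∃ q ∈ [1, gσ, gσ⁻¹], q * gy = gy * q ∧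
      (q * W4.vec u * q⁻¹ = W4.vec v ∨ q * W4.vec u * q⁻¹ = (W4.vec v)⁻¹) := by decide +kernel

theorem d2 : ∀ v : V81, (∃ c ∈ [1, gy, gy⁻¹], Om (W4.vec v * c)) ∨ ∃ u : V81, Om (W4.vec u) ∧ Perp (W4.vec u) gy ∧
    Perp (W4.vec u) (W4.vec v) ∧ Perp (W4.vec u)⁻¹ (W4.vec v) := by decide +kernel

theorem d3 : ∀ v : V81, Perp gz (W4.vec v) → W4.vec v ∈ [1, gy, gy⁻¹] ∨ ∃ c ∈ [1, gy, gy⁻¹], Om (W4.vec v * c) ∨
    ∃ q ∈ [1, gd, gd⁻¹, gs, gs * gd, gs * gd⁻¹], q * gc * q⁻¹ = W4.vec v * c := by decide +kernel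

theorem d4 : ∀ v : V81, Perp gz (W4.vec v) → W4.vec v ∈ QQ := by decide +kernel

theorem d5 : w0 * z0 * w0⁻¹ ≠ 1 ∧ w0 * z0 * w0⁻¹ ≠ z0 ∧ w0 * z0 * w0⁻¹ ≠ z0⁻¹ ∧ w0 ∈ Rec3C.A24 ∧ t0 ∉ Rec3C.A24 ∧
    e3 ∉ Q0 ∧ Om gz ∧ w10 0 = gz := by decide +kernel

theorem zp {c : W4} (hc : c ∈ [1, gy, gy⁻¹]) : c ∈ zpowers gy := by
  simp only [List.mem_cons, List.not_mem_nil, or_false] at hc
  rcases hc with rfl | rfl | rfl
  exacts [one_mem _, mem_zpowers _, inv_mem (mem_zpowers _)]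

theorem zpm {c : W4} (hc : c ∈ zpowers gy) : φ c ∈ zpowers (φ gy) := by
  obtain ⟨n, rfl⟩ := hc
  exact ⟨n, (map_zpow φ gy n).symm⟩

theorem omJ {u : W4} (hu : Om u) : u ∈ JJ := ((Om_iff u).1 hu).1

/-- `C(t, b)` -/
noncomputable abbrev DD (φ : W4 →* G) (t : G) : Subgroup G := Cx t ⊓ Cx (φ gy)

/-- the model of `C_X(b) / ⟨b⟩` -/
structure Kp (φ : W4 →* G) (t z : G) (L X : Subgroup G) {H : Type*} [Group H] (f : DD φ t →* H) (κ : W3 → H) : Prop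
    extends Emb B3 κ where
  lift : ∀ a, ∃ p : DD φ t, (p : G) ∈ X ∧ f p = κ a
  onto : ∀ p : DD φ t, (p : G) ∈ X → ∃ a, f p = κ a
  eJ : img κ J0 = qim f (JJ.map φ)
  ez : ∀ p : DD φ t, (p : G) = z → f p = κ z0
  eQ : img κ Q0 = qim f (QQ.map φ)
  eA : ∀ p : DD φ t, (p : G) ∈ X → ∀ a, f p = κ a → ((p : G) ∈ L ↔ a ∈ Rec3C.A24)

variable (h : EP z Q Qi r π τ a b x σ i j k φ)
include h

theorem eb : φ gy = a j * a k := by rw [U6x.gy, map_mul, h.ea, h.ec]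

theorem bQ : φ gy ∈ Q := by
  rw [eb h]
  exact mul_mem (h.le _ (h.aQ j)) (h.le _ (h.aQ k))

theorem bJ5 : φ gy ∈ J5 z x a := (h.toEX.phi_J h).le (mem_map_of_mem φ U6x.ys.2.1) |>.1

theorem J_D : JJ.map φ ≤ DD φ (r i) := fun _ hu =>
  ⟨((h.toEX.phi_J h).le hu).2, U6x.J_le hu⟩

theorem z_D : z ∈ DD φ (r i) := J_D h ⟨gz, G2x.mems.2.2.2.1, h.ez⟩

theorem R_QQ {g : G} (hg : g ∈ RE z Q (r i)) {u : W4} (hu : u ∈ QQ) : φ u ∈ Cx g := by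
  have m : ∀ l, b l ∈ Qi l := fun l => h.gen l ▸ subset_closure (by simp)
  refine (le_of (K := (Cx g).comap φ) ?_ : QQ ≤ _) hu
  simp only [List.forall_mem_cons, List.not_mem_nil, IsEmpty.forall_iff, implies_true, and_true, mem_comap, h.ea,
    h.eb, h.ec, h.ed]
  exact ⟨h.toEH.R_Q h.ij hg (h.aQ j), h.toEH.R_Q h.ij hg (m j), h.toEH.R_Q h.ik hg (h.aQ k),
    h.toEH.R_Q h.ik hg (m k)⟩

theorem R_D : RE z Q (r i) ≤ DD φ (r i) := fun _ hg =>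
  ⟨(h.toEH.R_H0 hg).2.2.2.2 i, Cx_comm.1 (R_QQ h hg (les.2.2.2.1 U6x.ys.2.2.2.2.1))⟩

theorem R_one {g : G} (hg : g ∈ RE z Q (r i)) (e : g ∈ zpowers (φ gy)) : g = 1 :=
  (pow_eq_one_iff_of_coprime (show Nat.Coprime 4 3 by norm_num)).1
    ⟨(h.toEH.q8 i).pow_four hg, cube_of_mem_zpowers U6x.y3 e⟩

theorem R_M : RE z Q (r i) ≤ M6 φ (a i) (r i) := by
  rw [← h.RW_z]
  exact (h.RW_le d5.2.2.2.2.2.2.1).trans le_sup_left

theorem zl {g w : G} (hw : w ∈ zpowers z) (e : g * z * g⁻¹ * w⁻¹ ∈ zpowers (φ gy)) : g * z * g⁻¹ ∈ zpowers z := by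
  by_contra hn
  have kk : ∀ {K : Subgroup G}, z ∈ K → φ gy ∈ K → g * z * g⁻¹ ∈ K := fun h1 h2 => by
    have := mul_mem (zpowers_le.2 h2 e) (zpowers_le.2 h1 hw)
    rwa [inv_mul_cancel_right] at this
  refine h.wc g (kk h.toNH.z_mem (bQ h)) hn i fun q hq => Cx_comm.1 (kk (Cx_comm.1 (h.toNH.Qz i hq)) ?_)
  rw [eb h]
  exact mul_mem (mem_Cx.2 (h.cm _ _ h.ij.symm _ (h.aQ j) _ hq)) (mem_Cx.2 (h.cm _ _ h.ik.symm _ (h.aQ k) _ hq))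

theorem tr {n d : G} (hn : n ∈ K0 (a i) (r i)) (e : Cx (r i) ⊓ Cx d ≤ M6 φ (a i) (r i)) :
    Cx (r i) ⊓ Cx (n * d * n⁻¹) ≤ M6 φ (a i) (r i) := fun g hg => by
  have hM : n ∈ M6 φ (a i) (r i) := mem_sup_right hn
  have k := e (x := n⁻¹ * g * n) ⟨(Cx (r i)).mul_mem (mul_mem (inv_mem hn.2) hg.1) hn.2, 
    (conj_mem_Cx (g := n)).1 (by simpa [mul_assoc] using hg.2)⟩
  have := mul_mem (mul_mem hM k) (inv_mem hM)
  rwa [show n * (n⁻¹ * g * n) * n⁻¹ = g by group] at this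

theorem good_om {u : W4} (hu : Om u) : Cx (r i) ⊓ Cx (φ u) ≤ M6 φ (a i) (r i) := by
  obtain ⟨n, hn, -, e⟩ := h.om_L0 hu
  rw [← e]
  exact tr h (h.L0_le hn) fun g hg => h.Nz_le ⟨G2x.Cx_le_norm z hg.2, hg.1⟩

theorem good_A {v : W4} (hv : v ∈ JJ) (e : φ v ∈ Q) (hn : v ∉ zpowers gy) :
    ∃ c ∈ zpowers gy, Cx (r i) ⊓ Cx (φ (v * c)) ≤ M6 φ (a i) (r i) := by
  have p : Perp gz v := (h.perp_L0 (n := 1) (one_mem _) (one_mem _) hv (by simp [h.ez])).1 (by simpa using e)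
  rw [← W4.eq_vec hv] at p hn ⊢
  rcases d3 _ p with k | ⟨c, hc, k | ⟨q, -, k⟩⟩
  · exact absurd (zp k) hn
  · exact ⟨c, zp hc, good_om h k⟩
  · refine ⟨c, zp hc, ?_⟩
    rw [← k, map_mul, map_mul, map_inv, h.ec]
    exact tr h (h.phi_K0 q) h.cK_a

theorem exists_kp (hs : ¬ Sm z π τ) {ω : G} (hω : ω ∈ K0 (a i) (r i)) (sw : Swap φ ω) (ωω : ω * ω = 1)
    (tω : τ ω ≠ 1) {H : Type*} [Group H] [Finite H] {f : DD φ (r i) →* H}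
    (hf : ∀ p, f p = 1 ↔ (p : G) ∈ zpowers (φ gy)) :
    ∃ κ, Kp φ (r i) z (L0 z (a i) (r i)) (L0 z (a i) (r i) ⊔ zpowers ω) f κ := by
  have hz : ω ∈ Cx z := h.ez ▸ sw.z
  obtain ⟨xJ, xi⟩ := h.X_J hω hz tω ωω
  have hX : L0 z (a i) (r i) ⊔ zpowers ω ≤ K0 (a i) (r i) := sup_le h.L0_le (zpowers_le.2 hω)
  have hL : L0 z (a i) (r i) ≤ L0 z (a i) (r i) ⊔ zpowers ω := le_sup_left
  have ωX : ω ∈ L0 z (a i) (r i) ⊔ zpowers ω := mem_sup_right (mem_zpowers ω)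
  generalize L0 z (a i) (r i) ⊔ zpowers ω = X at *
  obtain ⟨ψ, π₁, π₂, v, gc', hw⟩ := h.exists_gc hL hX xJ
  have cx : ∀ {u} {p : X}, p ∈ Cx (ψ u) ↔ (p : G) ∈ Cx (φ u) := by
    intro u p
    rw [GKP.cx_sub, v, mem_subgroupOf]
  have mp : ∀ {W : Subgroup W4} {p : X}, p ∈ W.map ψ ↔ (p : G) ∈ W.map φ :=
    ⟨fun ⟨u, hu, e⟩ => ⟨u, hu, by rw [← e, v]⟩, fun ⟨u, hu, e⟩ => ⟨u, hu, Subtype.ext (by rw [v, e])⟩⟩
  let g0 : Cx (ψ gy) →* DD φ (r i) := (X.subtype.comp (Cx (ψ gy)).subtype).codRestrict _ fun p =>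
    ⟨(hX p.1.2).2, cx.1 p.2⟩
  let f0 := f.comp g0
  have im : ∀ W : Subgroup W4, (qim f0.rangeRestrict (W.map ψ)).map f0.range.subtype = qim f (W.map φ) := by
    intro W
    refine le_antisymm ?_ ?_
    · rintro _ ⟨_, ⟨p, hp, rfl⟩, rfl⟩
      exact ⟨g0 p, mp.1 hp, rfl⟩
    · rintro _ ⟨p, ⟨u, hu, e⟩, rfl⟩
      have e' : φ u = p := e
      refine ⟨_, ⟨⟨ψ u, cx.2 (by rw [v, e']; exact p.2.2)⟩, mem_map_of_mem ψ hu, rfl⟩, ?_⟩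
      exact congrArg f (Subtype.ext ((v u).trans e'))
  obtain ⟨ι, e, su, eJ, ez, eQ, eA⟩ := xb gc' hw (ω := ⟨ω, ωX⟩)
    ⟨cx.2 sw.z, cx.2 sw.x, Subtype.ext (by simpa only [coe_mul, coe_inv, v] using sw.a),
      Subtype.ext (by simpa only [coe_mul, coe_inv, v] using sw.c)⟩
    (fun g hg e => by
      have e1 := congrArg Subtype.val e
      simp only [coe_mul, coe_inv, v] at e1
      rw [eb h, h.ea] at e1
      refine h.toEX.nab hs h.jk (h.NJ4 (hX g.2).2 (mem_normalizer_of_forall ?_)).1 e1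
      rintro _ ⟨u, hu, rfl⟩
      have := mp.1 (conj_mem_of_mem_normalizer hg (mem_map_of_mem ψ hu))
      simpa only [coe_mul, coe_inv, v] using this)
    (f := f0.rangeRestrict) f0.rangeRestrict_surjective fun p => by
      rw [GKP.zp_sub, v, mem_subgroupOf, Subtype.ext_iff]
      exact hf (g0 p)
  have E : Emb B3 fun a => f0.range.subtype (ι a) :=
    ⟨fun ha hb => by rw [e.mul ha hb, map_mul], fun ha hb k => e.inj ha hb (Subtype.ext k)⟩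
  refine ⟨fun a => f0.range.subtype (ι a), E, fun a => ?_, fun p hp => ?_, ?_, fun p hp => ?_, ?_,
    fun p hp c k => ?_⟩
  · obtain ⟨p, hp⟩ := (ι a).2
    exact ⟨g0 p, p.1.2, hp⟩
  · obtain ⟨c, hc⟩ := su (f0.rangeRestrict ⟨⟨p, hp⟩, cx.2 p.2.2⟩)
    exact ⟨c, by rw [hc]; rfl⟩
  · rw [GKP.img_comp, eJ, im]
  · rw [ez]
    exact congrArg f (Subtype.ext (hp.trans (h.ez.symm.trans (v gz).symm)))
  · rw [GKP.img_comp, eQ, im]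
  · have k1 := eA ((L0 z (a i) (r i)).subgroupOf X) xi (by rw [mem_subgroupOf, v]; exact h.phi_L0 gr)
      (fun l => (h.K0_sw hω hz tω).1 (mem_sup_left l)) ⟨⟨p, hp⟩, cx.2 p.2.2⟩
    rw [show f0.rangeRestrict ⟨⟨p, hp⟩, cx.2 p.2.2⟩ = ι c from Subtype.ext k,
      e.mem_im_iff (fun a _ => mem_B3 a) (mem_B3 c)] at k1
    exact k1

variable {H : Type*} [Group H] [Finite H] {f : DD φ (r i) →* H} (hf : ∀ p, f p = 1 ↔ (p : G) ∈ zpowers (φ gy))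
  {X : Subgroup G} {κ : W3 → H} (K : Kp φ (r i) z (L0 z (a i) (r i)) X f κ)
include hf K

theorem nJ {p : DD φ (r i)} : f p ∈ normalizer (img κ J0 : Set H) ↔ (p : G) ∈ NJ φ := by
  rw [K.eJ]
  exact norm_im_iff hf U6x.Z_le (J_D h)

theorem lift_NJ {p : DD φ (r i)} {c : W3} (e : f p = κ c) : (p : G) ∈ NJ φ := by
  rw [← nJ h hf K, e]
  exact mem_normalizer_of_forall fun x hx => Rec3C.LxP.norm_J K.toEmb (fun a _ => mem_B3 a) (mem_B3 c) hx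

theorem mover : ∃ n : DD φ (r i), (n : G) ∈ L0 z (a i) (r i) ∧ f n = κ w0 ∧ ∃ u, Om u ∧ u ∉ zpowers gz ∧
    (n : G) * z * (n : G)⁻¹ = φ u := by
  obtain ⟨n, hn, e⟩ := K.lift w0
  obtain ⟨u, hu, eu⟩ := conj_mem_of_mem_normalizer (lift_NJ h hf K e) ⟨gz, G2x.mems.2.2.2.1, h.ez⟩
  refine ⟨n, (K.eA n hn _ e).2 d5.2.2.2.1, e, u, (h.om4 hu).1 ⟨_, eu.symm⟩, fun ⟨m, hm⟩ => ?_, eu.symm⟩
  have e1 : n * ⟨z, z_D h⟩ * n⁻¹ = ⟨z, z_D h⟩ ^ m := Subtype.ext (by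
    simp only [coe_mul, coe_inv, coe_zpow]
    rw [← eu, ← hm, map_zpow, h.ez])
  have e2 := congrArg f e1
  rw [map_mul, map_mul, map_inv, map_zpow, e, K.ez _ rfl, K.conj (mem_B3 _) (mem_B3 _)] at e2
  rcases (Rec3C.LxP.zp_iff K.toEmb (fun a _ => mem_B3 a) (mem_B3 _)).1 ⟨m, e2.symm⟩ with l | l | l
  exacts [d5.1 l, d5.2.1 l, d5.2.2.1 l]

theorem four {u : W4} (hu : Om u) (hp : Perp u gy) : ∃ n ∈ L0 z (a i) (r i), n ∈ NJ φ ∧ n ∈ Cx (φ gy) ∧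
    (n * z * n⁻¹ = φ u ∨ n * z * n⁻¹ = φ u⁻¹) := by
  obtain ⟨n, hn, e, w, hw, hw', ew⟩ := mover h hf K
  have nJ := lift_NJ h hf K e
  have pw : Perp w gy := (h.perp_L0 hn nJ U6x.ys.2.1 ew).1 (by
    rw [show (n : G)⁻¹ * φ gy * n = φ gy by rw [mul_assoc, ← mem_Cx.1 n.2.2, inv_mul_cancel_left]]
    exact bQ h)
  rw [← W4.eq_vec (omJ hw)] at pw hw' ew
  have hw0 : Om (W4.vec (W4.vp w)) := by rw [W4.eq_vec (omJ hw)]; exact hw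
  have hu0 : Om (W4.vec (W4.vp u)) := by rw [W4.eq_vec (omJ hu)]; exact hu
  rw [← W4.eq_vec (omJ hu)] at hp ⊢
  rcases d1 _ _ hw0 hu0 pw hp hw' with l | l | ⟨q, -, hq, l⟩
  · exact ⟨1, one_mem _, one_mem _, one_mem _, Or.inl (by simp [l, h.ez])⟩
  · exact ⟨1, one_mem _, one_mem _, one_mem _, Or.inr (by simp [l, h.ez])⟩
  · refine ⟨φ q * n, mul_mem (h.phi_L0 q) hn, mul_mem (G2x.mem_NJ q) nJ, mul_mem (phi_Cx φ hq) n.2.2, ?_⟩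
    have : φ q * n * z * (φ q * n)⁻¹ = φ (q * W4.vec (W4.vp w) * q⁻¹) := by
      rw [map_mul, map_mul, map_inv, ← ew]; group
    rw [this]
    exact l.imp (congrArg φ) (congrArg φ)

theorem good {v : W4} (hv : v ∈ JJ) (hn : v ∉ zpowers gy) :
    ∃ c ∈ zpowers gy, Cx (r i) ⊓ Cx (φ (v * c)) ≤ M6 φ (a i) (r i) := by
  rcases d2 (W4.vp v) with ⟨c, hc, l⟩ | ⟨u, hu, p1, p2, p3⟩
  · rw [W4.eq_vec hv] at l
    exact ⟨c, zp hc, good_om h l⟩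
  rw [W4.eq_vec hv] at p2 p3
  obtain ⟨n, nL, nJ, nb, e⟩ := four h hf K hu p1
  have hQ : n⁻¹ * φ v * n ∈ Q := e.elim (fun e => (h.perp_L0 nL nJ hv e).2 p2) fun e => (h.perp_L0 nL nJ hv e).2 p3
  obtain ⟨w, hw, ew⟩ := conj_mem_of_mem_normalizer' nJ (mem_map_of_mem φ hv)
  have cb : ∀ c ∈ zpowers gy, n * φ c * n⁻¹ = φ c := fun c hc => by
    rw [comm_of_mem_zpowers' nb (zpm hc), mul_inv_cancel_right]
  obtain ⟨c, hc, l⟩ := good_A h hw (ew ▸ hQ) fun l => hn (by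
    have := cb w l
    rw [ew, show n * (n⁻¹ * φ v * n) * n⁻¹ = φ v by group, ← ew] at this
    rwa [h.inj this])
  refine ⟨c, hc, ?_⟩
  have := tr h (h.L0_le nL) l
  rwa [map_mul, ← conj_mul, cb c hc, ew, show n * (n⁻¹ * φ v * n) * n⁻¹ = φ v by group, ← map_mul] at this

theorem kc0 (hs : Function.Surjective f) :
    KC0 B3 κ (f ⟨r i, mem_Cx.2 rfl, Cx_comm.1 (h.phi_K0 gy).2⟩) (qim f (RE z Q (r i))) := by
  have q := h.toEH.q8 i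
  have cm : ∀ {p p' : DD φ (r i)}, (p : G) * p' = p' * p → f p * f p' = f p' * f p := fun e => by
    rw [← map_mul, ← map_mul]
    exact congrArg f (Subtype.ext e)
  refine ⟨K.toEmb, ⟨?_, fun e => q.r1 (R_one h q.mem ((hf _).1 e)), mem_im q.mem, ?_, ?_⟩, fun a _ => mem_B3 a,
    fun g => ?_, fun g hg => ?_, ?_, ?_, ?_⟩
  · rw [← map_mul, ← map_one f]
    exact congrArg f (Subtype.ext q.rr)
  · rw [card_im hf (R_D h), ← inf_relIndex_right,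
      show zpowers (φ gy) ⊓ RE z Q (r i) = ⊥ from eq_bot_iff.2 fun g hg => R_one h hg.2 hg.1,
      relIndex_bot_left, q.card]
  · rintro _ ⟨p, hp, rfl⟩
    rcases q.sq p hp with e | e | e
    · exact Or.inl (by rw [show p = 1 from Subtype.ext e, map_one])
    · exact Or.inr (Or.inl (congrArg f (Subtype.ext e)))
    · exact Or.inr (Or.inr (by rw [← map_mul]; exact congrArg f (Subtype.ext e)))
  · obtain ⟨p, rfl⟩ := hs g
    exact cm (mem_Cx.1 p.2.1)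
  · obtain ⟨p, rfl⟩ := hs g
    obtain ⟨m, e⟩ := conj_mem_of_mem_normalizer hg (mem_zpowers _)
    rw [← K.ez ⟨z, z_D h⟩ rfl] at e
    have e1 := (cj_iff hf (g := p) (x := ⟨z, z_D h⟩) (y := ⟨z, z_D h⟩ ^ m)).2 (by rw [map_zpow]; exact e.symm)
    have e2 := zl h (g := p) (w := z ^ m) ⟨m, rfl⟩ e1
    refine norm_im (h.toEH.nR i ⟨mem_normalizer_of_forall ?_, p.2.1⟩)
    rintro _ ⟨l, rfl⟩
    rw [← conj_zpow]
    exact zpow_mem e2 l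
  · rintro _ ⟨p, hp, rfl⟩ c hc
    obtain ⟨p', ⟨u, hu, e⟩, e'⟩ := K.eQ.le (mem_im_of hc)
    rw [← e']
    exact cm (by rw [← show φ u = p' from e]; exact mem_Cx.1 (R_QQ h hp hu))
  · rintro _ ⟨p, hp, rfl⟩ e
    obtain ⟨p', ⟨u, hu, eu⟩, e'⟩ := K.eJ.le (mem_im_of Jx.mems.2.2.1)
    have eu' : φ u = p' := eu
    have hp' : (p : G) ∈ RW φ (r i) gz := h.RW_z ▸ hp
    have e1 : Cj (zpowers (φ gy)) (p' : G) p p := (cj_iff hf).2 (by rw [e', e, mul_inv_cancel_right])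
    have e2 : (p' : G) * p * (p' : G)⁻¹ * (p : G)⁻¹ ∈ RE z Q (r i) := by
      rw [← h.RW_z, ← eu']
      exact mul_mem (conj_mem_of_mem_normalizer (h.RW_norm d5.2.2.2.2.2.2.1 hu) hp') (inv_mem hp')
    have np : ¬ Perp gz u := fun l => d5.2.2.2.2.2.1 (by
      rw [← K.mem_im_iff (fun a _ => mem_B3 a) (mem_B3 _), K.eQ, ← e']
      exact mem_im ⟨u, JJ_ind (P := fun u => Perp gz u → u ∈ QQ) d4 u hu l, eu'⟩)
    rcases h.RW_fpf d5.2.2.2.2.2.2.1 hu np hp' (by rw [Cj, eu', R_one h e2 e1]; exact one_mem _) with l | l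
    · exact Or.inl (by rw [show p = 1 from Subtype.ext l, map_one])
    · exact Or.inr (congrArg f (Subtype.ext l))
  · rintro _ ⟨p, hp, rfl⟩ _ ⟨p', hp', rfl⟩
    obtain ⟨n, -, e, u, hu, hu', eu⟩ := mover h hf K
    rw [← e, ← map_inv, ← map_mul, ← map_mul]
    refine cm ?_
    have k1 : (n : G) * p' * (n : G)⁻¹ ∈ RW φ (r i) u := by
      rw [← h.cj_RW n.2.1 (lift_NJ h hf K e) d5.2.2.2.2.2.2.1 (omJ hu) (by rw [h.ez, eu]), conj_mem_cj, h.RW_z]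
      exact hp'
    obtain ⟨s, hs⟩ := om_w10 u hu
    have k2 : RW φ (r i) u = RW φ (r i) (w10 s) := by
      rcases hs with rfl | rfl
      exacts [rfl, h.RW_inv (w10_om s)]
    refine h.cpr.cm 0 s (fun l => hu' ?_) _ (by rw [d5.2.2.2.2.2.2.2, h.RW_z]; exact hp) _ (k2 ▸ k1)
    rw [← l, d5.2.2.2.2.2.2.2] at hs
    rcases hs with rfl | rfl
    exacts [mem_zpowers _, inv_mem (mem_zpowers _)]

end BY2x

open U6x (gy) in
theorem EP.cK_b (h : EP z Q Qi r π τ a b x σ i j k φ) (hs : Sm z π τ ∨ ¬ NoSw z τ) :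
    Cx (r i) ⊓ Cx (φ U6x.gy) ≤ M6 φ (a i) (r i) := by
  obtain ⟨g0, g0N, g0b, g0Q⟩ := h.toEX.bw h.jk
  rw [← BY2x.eb h] at g0b
  by_cases sm : Sm z π τ
  · have k : Cx (φ gy) ≤ fx (φ gy) 1 := fun c hc => ⟨hc, by simp⟩
    exact fun g hg => h.b1 (Or.inl rfl) (one_mem _) (one_mem _) (fun q _ => mem_Cx.2 (by simp))
      ((h.toEX.sm_iff.1 sm).trans le_sup_left) (inf_le_right.trans k) ⟨g0, k g0b, g0Q⟩ ⟨k hg.2, hg.1⟩
  obtain ⟨ω, hω, sw, ωω, tω⟩ := h.exists_swap (hs.resolve_left sm)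
  have ωz : ω ∈ Cx z := h.ez ▸ sw.z
  obtain ⟨y, yJ, y5, yr, yQ, hc, yω, hN, hL⟩ := h.by1 sm hω sw ωω
  have hJ := h.toEX.J_le_of yJ y5
  have cy := h.b1 (Or.inr y5) yJ yr yQ hJ hc (by
    rcases hN g0 g0N g0b with l | l
    · exact ⟨g0, l, g0Q⟩
    · refine ⟨g0 * ω, l, ?_⟩
      rwa [show g0 * ω * z * (g0 * ω)⁻¹ = g0 * (ω * z * ω⁻¹) * g0⁻¹ by group, mem_Cx'.1 ωz])
  have : ((zpowers (φ gy)).subgroupOf (BY2x.DD φ (r i))).Normal := ⟨fun n hn g => by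
    rw [mem_subgroupOf] at hn ⊢
    simp only [coe_mul, coe_inv]
    rwa [comm_of_mem_zpowers' g.2.2 hn, mul_inv_cancel_right]⟩
  have hf : ∀ p, QuotientGroup.mk' ((zpowers (φ gy)).subgroupOf (BY2x.DD φ (r i))) p = 1 ↔
      (p : G) ∈ zpowers (φ gy) := fun p => QuotientGroup.eq_one_iff p
  have hsu := QuotientGroup.mk'_surjective ((zpowers (φ gy)).subgroupOf (BY2x.DD φ (r i)))
  generalize QuotientGroup.mk' ((zpowers (φ gy)).subgroupOf (BY2x.DD φ (r i))) = f at hf hsu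
  obtain ⟨κ, K⟩ := BY2x.exists_kp h sm hω sw ωω tω hf
  have xi := (h.X_J hω ωz tω ωω).2
  have hX : L0 z (a i) (r i) ⊔ zpowers ω ≤ K0 (a i) (r i) := sup_le h.L0_le (zpowers_le.2 hω)
  have LX : L0 z (a i) (r i) ≤ L0 z (a i) (r i) ⊔ zpowers ω := le_sup_left
  have ωX : ω ∈ L0 z (a i) (r i) ⊔ zpowers ω := mem_sup_right (mem_zpowers ω)
  generalize L0 z (a i) (r i) ⊔ zpowers ω = X at *
  have kc := BY2x.kc0 h hf K hsu
  have yD : y ∈ BY2x.DD φ (r i) := ⟨yr, by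
    rw [BY2x.eb h]
    exact Cx_comm.1 (mul_mem (Cx_comm.1 ((mem_JE.1 yJ).2 j)) (Cx_comm.1 ((mem_JE.1 yJ).2 k)))⟩
  have ωD : ω ∈ BY2x.DD φ (r i) := ⟨hω.2, mem_Cx'.2 (by
    rw [U6x.gy, map_mul, ← conj_mul, sw.a, sw.c, ← map_mul, ← map_mul, JJ_comm G2x.mems.2.1 G2x.mems.1])⟩
  have NE' : ∀ {p : BY2x.DD φ (r i)} {c : W3}, f p = κ c → (p : G) ∈ NE z a := fun {p c} e =>
    (h.NJ4 p.2.1 (BY2x.lift_NJ h hf K e)).1
  have ωN : ω ∈ NE z a := (K.onto ⟨ω, ωD⟩ ωX).elim fun c e => NE' e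
  have fy : ∀ {p : BY2x.DD φ (r i)}, f p ∈ Cx (f ⟨y, yD⟩) ↔ (p : G) ∈ fx (φ gy) y := fun {p} => by
    rw [mem_Cx', ← cj_iff hf]
    exact ⟨fun e => ⟨p.2.2, e⟩, fun e => e.2⟩
  have dec : ∀ p : BY2x.DD φ (r i), (p : G) ∈ K0 (a i) (r i) → ∃ (c : W3) (m : ℕ), f p = κ c * f ⟨y, yD⟩ ^ m := by
    intro p hp
    obtain ⟨l, hl, c, hc, e⟩ : ∃ l ∈ X, ∃ c ∈ JE z a ⊓ Cx (r i), (p : G) = l * c := by
      obtain ⟨l, hl, c, hc, hc', e | e⟩ := (h.K0_sw hω ωz tω).2 p hp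
      · exact ⟨l, LX hl, c, ⟨hc, hc'⟩, e⟩
      · exact ⟨l * ω, mul_mem (LX hl) ωX, ω⁻¹ * c * ω, ⟨conj_mem_of_mem_normalizer' ωN hc,
          (Cx (r i)).mul_mem (mul_mem (inv_mem hω.2) hc') hω.2⟩, by rw [e]; group⟩
    obtain ⟨u, hu, w, hw, e'⟩ : ∃ u ∈ J5 z x a, ∃ w ∈ zpowers y, u * w = c := by
      have := hJ hc.1
      rw [← SetLike.mem_coe, coe_mul_of_right_le_normalizer_left _ _ (zpowers_le.2 (h.toEX.NJ5 (le_normalizer yJ)))]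
        at this
      exact this
    obtain ⟨m, rfl⟩ := (mem_powers_iff_mem_zpowers.2 hw : w ∈ Submonoid.powers y)
    have uL : u ∈ L0 z (a i) (r i) := by
      obtain ⟨v, -, rfl⟩ := (h.toEX.phi_J h).ge
        ⟨hu, (Subgroup.mul_mem_cancel_right _ (pow_mem yr m)).1 (e' ▸ hc.2)⟩
      exact h.phi_L0 v
    obtain ⟨d, ed⟩ := K.onto (p * (⟨y, yD⟩ ^ m)⁻¹) (by
      simp only [coe_mul, coe_inv, coe_pow]
      rw [e, ← e', ← mul_assoc, mul_inv_cancel_right]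
      exact mul_mem hl (LX uL))
    exact ⟨d, m, by rw [← ed, ← map_pow, ← map_mul, inv_mul_cancel_right]⟩
  have bM : zpowers (φ gy) ≤ M6 φ (a i) (r i) := zpowers_le.2 (mem_sup_right (h.phi_K0 gy))
  have κM : ∀ c, κ c ∈ qim f (M6 φ (a i) (r i)) := fun c => by
    obtain ⟨p, hp, e⟩ := K.lift c
    exact e ▸ mem_im (mem_sup_right (hX hp))
  have yM : y ∈ M6 φ (a i) (r i) := mem_sup_right ⟨(mem_JE.1 yJ).2 i, yr⟩
  have le1 : MB κ (qim f (RE z Q (r i))) (f ⟨y, yD⟩) ≤ qim f (M6 φ (a i) (r i)) := by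
    refine sup_le (sup_le (iSup_le fun s => cj_le_iff.2 ?_) (im_le.2 fun c _ => κM c)) (zpowers_le.2 (mem_im yM))
    rintro _ ⟨p, hp, rfl⟩
    exact mul_mem (mul_mem (κM _) (mem_im (BY2x.R_M h hp))) (inv_mem (κM _))
  have le2 : ∀ p : BY2x.DD φ (r i), (p : G) ∈ M6 φ (a i) (r i) →
      f p ∈ MB κ (qim f (RE z Q (r i))) (f ⟨y, yD⟩) := by
    have k0 : ∀ p : BY2x.DD φ (r i), (p : G) ∈ K0 (a i) (r i) →
        (p : G) ∈ qpre f (MB κ (qim f (RE z Q (r i))) (f ⟨y, yD⟩)) := fun p hp => by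
      obtain ⟨c, m, e⟩ := dec p hp
      rw [mem_pre, e]
      exact mul_mem (mem_sup_left (mem_sup_right (mem_im_of (mem_B3 c)))) (mem_sup_right (pow_mem (mem_zpowers _) m))
    have k1 : EV φ (r i) gy ≤ qpre f (MB κ (qim f (RE z Q (r i))) (f ⟨y, yD⟩)) := by
      refine iSup_le fun s => iSup_le fun hp => ?_
      obtain ⟨n, nL, nJ, nb, e⟩ := BY2x.four h hf K (w10_om s) hp
      have nK := h.L0_le nL
      have e1 : RW φ (r i) (w10 s) = cj n (RE z Q (r i)) := by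
        rw [← h.RW_z]
        rcases e with e | e
        · rw [h.cj_RW nK.2 nJ BY2x.d5.2.2.2.2.2.2.1 (BY2x.omJ (w10_om s)) (by rw [h.ez, e])]
        · rw [h.cj_RW nK.2 nJ BY2x.d5.2.2.2.2.2.2.1 (inv_mem (BY2x.omJ (w10_om s))) (by rw [h.ez, e]),
            h.RW_inv (w10_om s)]
      have nT := k0 ⟨n, nK.2, nb⟩ nK
      rw [e1, cj_le_iff]
      refine fun q hq => mul_mem (mul_mem nT ?_) (inv_mem nT)
      exact (mem_pre (x := ⟨q, BY2x.R_D h hq⟩)).2 (mem_sup_left (mem_sup_left (kc.R_le (mem_im hq))))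
    intro p hp
    obtain ⟨e, he, eb, c, hc, cb, ep⟩ := h.cM_d (h.phi_K0 gy) hp p.2.2
    rw [← mem_pre, ep]
    exact mul_mem (k1 ((h.cE_v U6x.ys.2.1).le ⟨he, eb⟩)) (k0 ⟨c, hc.2, cb⟩ hc)
  have top := CB.top (y := f ⟨y, yD⟩) ⟨kc, ?_, fun e => y5 (zpowers_le.2 (BY2x.bJ5 h) ((hf _).1 e)), fun c hc => ?_, ?_,
    ?_, fun g hg => ?_, fun w hw w1 g hg => ?_, fun g hg => ?_⟩
  · intro g hg
    exact (mem_im_iff hf bM (x := ⟨g, hg⟩)).1 (le1 (top ▸ mem_top _))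
  · rw [← map_pow, ← map_one f]
    exact congrArg f (Subtype.ext (h.J3 y yJ))
  · obtain ⟨p, hp, e⟩ := K.lift c
    rw [← e, fy]
    exact hL p ((K.eA p hp c e).2 hc) (NE' e) p.2.2
  · rintro _ ⟨p, hp, rfl⟩
    obtain ⟨yz, yτ, -⟩ := h.toEX.J_H0 yJ
    have : (p : G) ∈ Cx y := (h.toEH.cent_of yz yr ((h.πk i y yz (by rw [yτ]; rfl)).2 fun q hq => by
      rw [← mem_Cx.1 (yQ hq)]; simp)).2 hp
    exact fy.2 ⟨p.2.2, by rw [mem_Cx'.1 this]; simp⟩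
  · obtain ⟨p, hp, e⟩ := K.lift t0
    have e1 : (p : G) * ω ∈ L0 z (a i) (r i) := by
      have := (mul_mem_iff_of_index_two xi (a := ⟨p, hp⟩) (b := ⟨ω, ωX⟩)).2 (iff_of_false
        (fun l => BY2x.d5.2.2.2.2.1 ((K.eA p hp t0 e).1 l)) fun l => (h.K0_sw hω ωz tω).1 (mem_sup_left l))
      exact this
    have e2 := mem_Cx'.1 ((fy (p := p * ⟨ω, ωD⟩)).2 (hL _ e1 (mul_mem (NE' e) ωN) (mul_mem p.2.2 ωD.2)))
    have e3 := (cj_iff hf (g := ⟨ω, ωD⟩) (x := ⟨y, yD⟩) (y := ⟨y, yD⟩⁻¹)).1 (by simpa [Cj] using yω)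
    rw [map_mul, e] at e2
    rw [map_inv] at e3
    generalize f ⟨ω, ωD⟩ = w at e2 e3
    generalize f ⟨y, yD⟩ = u at e2 e3
    calc κ t0 * u * (κ t0)⁻¹ = (κ t0 * u⁻¹ * (κ t0)⁻¹)⁻¹ := by group
      _ = (κ t0 * w * u * (κ t0 * w)⁻¹)⁻¹ := by rw [← e3]; group
      _ = _ := by rw [e2]
  · obtain ⟨p, rfl⟩ := hsu g
    rcases (h.NJ4 p.2.1 ((BY2x.nJ h hf K).1 hg)).2 with l | l
    · obtain ⟨c, m, e⟩ := dec p l
      exact ⟨c, m, Or.inl e⟩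
    · obtain ⟨c, m, e⟩ := dec (p * ⟨r i, mem_Cx.2 rfl, Cx_comm.1 (h.phi_K0 gy).2⟩) l
      exact ⟨c, m, Or.inr (by rw [← e, map_mul, mul_assoc, kc.rr, mul_one])⟩
  · obtain ⟨p, rfl⟩ := hsu g
    obtain ⟨p', ⟨v, hv, ev⟩, e⟩ := K.eJ.le (mem_im_of hw)
    have ev' : φ v = p' := ev
    have vn : v ∉ zpowers gy := fun l => w1 ((K.eq_one_iff (mem_B3 w)).1 (by
      rw [← e, hf, ← ev']
      exact BY2x.zpm l))
    obtain ⟨c, hc, l⟩ := BY2x.good h hf K hv vn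
    refine le2 p (h.uqK (mul_mem hv (zpowers_le.2 U6x.ys.2.1 hc)) (fun l' => vn ?_) l p.2.1 ?_)
    · rw [eq_inv_of_mul_eq_one_left l']
      exact inv_mem hc
    · rw [← e, ← map_inv, ← map_mul, ← map_mul] at hg
      have k1 := (mem_im_iff hf bM).1 (le1 hg)
      have k2 := BY2x.zpm (φ := φ) hc
      rw [map_mul, ← conj_mul, comm_of_mem_zpowers' p.2.2 k2, mul_inv_cancel_right, ev']
      exact mul_mem k1 (bM k2)
  · obtain ⟨p, rfl⟩ := hsu g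
    exact le2 p (cy ⟨fy.1 hg, p.2.1⟩)

end CfsgLib.Rec3E
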