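import Cfsg.Agent.Lib.Rec3E.Defs
import Cfsg.Agent.Lib.Rec3C.Kc1

/-! The extraspecial group `2^{1+8}` for `KC0` (plans/REC3E.md, CB0). -/

set_option autoImplicit false
set_option maxRecDepth 100000
set_option maxHeartbeats 400000
set_option linter.unusedSectionVars false

namespace CfsgLib.Rec3E

open Subgroup Cfsg CfsgLib.Tech CfsgLib.PComp CfsgLib.W2 CfsgLib.Rec3
open CfsgLib.Rec3B (Q8 EE MM Ri TyE zi gi)
open CfsgLib.Rec3B.K1
open CfsgLib.Rec3B.KC.KE2 (pow_eq_one_of_mem eq_one_of_cop mems')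
open CfsgLib.Rec3.Jx
open CfsgLib.Rec3C.KC1 (gi_A4 σ_A4 mv_two' kr_y cube_mem')

namespace KC0

variable {G : Type*} [Group G] [Finite G] {A : Subgroup W3} {ι : W3 → G} {r : G} {R : Subgroup G}
  (h : KC0 A ι r R)
include h

theorem ce : Ce r := ⟨h.rr, h.r1, h.rc⟩

theorem J_le {a : W3} (ha : a ∈ J0) : a ∈ A := h.hA (S0_le.2.2.2.2.1 (J0_le_S0 ha))

theorem g_mem (i : Fin 4) : gi i ∈ A := h.hA (gi_A4 i)

theorem q8 (i : Fin 4) : Q8 r (Ri ι R i) := h.toQ8.cj h.rc _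

theorem Ri_zero : Ri ι R 0 = R := by
  change cj (ι 1) R = R
  rw [h.one, cj_one]

/-- the elements of `A` permute the four quaternion groups like the four points -/
theorem cj_Ri {a : W3} (ha : a ∈ A) {i j : Fin 4} (e : a * zi i * a⁻¹ = zi j ∨ a * zi i * a⁻¹ = (zi j)⁻¹) :
    cj (ι a) (Ri ι R i) = Ri ι R j := by
  have hb : (gi j)⁻¹ * a * gi i ∈ A := mul_mem (mul_mem (inv_mem (h.g_mem j)) ha) (h.g_mem i)
  have hz := h.J_le kr_z.1
  have e1 : (gi j)⁻¹ * a * gi i * z0 * ((gi j)⁻¹ * a * gi i)⁻¹ = (gi j)⁻¹ * (a * zi i * a⁻¹) * gi j := by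
    rw [zi]; group
  have h1 : ι ((gi j)⁻¹ * a * gi i) ∈ normalizer (zpowers (ι z0) : Set G) := by
    refine mem_normalizer_iff_cj.2 ?_
    rw [cj_zpowers, h.conj hb hz, e1]
    rcases e with e | e <;> rw [e, zi]
    · congr 2; group
    · rw [show (gi j)⁻¹ * (gi j * z0 * (gi j)⁻¹)⁻¹ * gi j = z0⁻¹ by group, h.inv hz, zpowers_inv]
  rw [Ri, Ri, ← cj_mul, ← h.mul ha (h.g_mem i), show a * gi i = gi j * ((gi j)⁻¹ * a * gi i) by group,
    h.mul (h.g_mem j) hb, cj_mul, mem_normalizer_iff_cj.1 (h.nR h1)]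

theorem conj_Ri {a : W3} (ha : a ∈ A) {i j : Fin 4} (e : Mv a i j) {x : G} (hx : x ∈ Ri ι R i) :
    ι a * x * (ι a)⁻¹ ∈ Ri ι R j := h.cj_Ri ha e ▸ conj_mem_cj.2 hx

theorem comm_Ri {i j : Fin 4} (e : i ≠ j) {x y : G} (hx : x ∈ Ri ι R i) (hy : y ∈ Ri ι R j) : x * y = y * x := by
  obtain ⟨s, hs, h0, h1⟩ := mv_two' i j e
  rw [← h.cj_Ri (h.hA hs) h0, h.Ri_zero] at hx
  rw [← h.cj_Ri (h.hA hs) h1] at hy
  obtain ⟨x, hx, rfl⟩ := hx
  obtain ⟨_, ⟨y, hy, rfl⟩, rfl⟩ := hy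
  rw [← map_mul, ← map_mul]
  exact congrArg _ (h.comm x hx y hy)

theorem norm_Ri {a : W3} (ha : a ∈ J0) (i : Fin 4) : ι a ∈ normalizer (Ri ι R i : Set G) :=
  mem_normalizer_iff_cj.2 (h.cj_Ri (h.J_le ha) (eq_vec a ha ▸ mv_J _ i))

theorem ι_conj {a : W3} (ha : a ∈ A) (i : Fin 4) :
    ι a = ι (gi i) * ι ((gi i)⁻¹ * a * gi i) * (ι (gi i))⁻¹ := by
  rw [h.conj (h.g_mem i) (mul_mem (mul_mem (inv_mem (h.g_mem i)) ha) (h.g_mem i))]
  congr 1; group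

/-- the kernel of `J0` on the `i`-th quaternion group -/
theorem cent_Ri {i : Fin 4} {a : W3} (ha : (gi i)⁻¹ * a * gi i ∈ J00) {x : G} (hx : x ∈ Ri ι R i) :
    ι a * x = x * ι a := by
  have hA : a ∈ A := by
    have := mul_mem (mul_mem (h.g_mem i) (h.J_le (J00_le _ ha).2)) (inv_mem (h.g_mem i))
    rwa [show gi i * ((gi i)⁻¹ * a * gi i) * (gi i)⁻¹ = a by group] at this
  obtain ⟨y, hy, rfl⟩ := hx
  change _ * (ι (gi i) * y * (ι (gi i))⁻¹) = ι (gi i) * y * (ι (gi i))⁻¹ * _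
  rw [h.ι_conj hA i, conj_mul, conj_mul, h.RQ y hy _ (J00_le _ ha).1]

theorem cube {a : W3} (ha : a ∈ J0) : ι a ^ 3 = 1 := by
  rw [← h.pow (h.J_le ha), J0_cube a ha, h.one]

theorem fpf_Ri {i : Fin 4} {a : W3} (ha : a ∈ J0) (hn : (gi i)⁻¹ * a * gi i ∉ J00) {x : G} (hx : x ∈ Ri ι R i)
    (e : Cj (zpowers r) (ι a) x x) : x = 1 ∨ x = r := by
  have e1 := h.ce.fix3 (h.cube ha) e
  obtain ⟨y, hy, rfl⟩ := hx
  change _ * (ι (gi i) * y * (ι (gi i))⁻¹) = ι (gi i) * y * (ι (gi i))⁻¹ * _ at e1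
  rw [h.ι_conj (h.J_le ha) i, conj_mul, conj_mul, mul_left_inj, mul_right_inj] at e1
  have hb : (gi i)⁻¹ * a * gi i ∈ J0 := by simpa using J0_conj (gi i)⁻¹ ha
  have he : e3 ∈ A := h.J_le (kr_e e3 (by simp [TyE])).1
  have e2 : Commute (ι e3) y := by
    rcases (j_cases _ hb).resolve_left hn with e2 | e2
    · have := h.RQ y hy _ (J00_le _ e2).1
      rw [h.mul (inv_mem he) (h.J_le hb), h.inv he] at this
      simpa using (Commute.mul_left (show Commute _ y from this) (Commute.inv_left e1)).inv_left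
    · have := h.RQ y hy _ (J00_le _ e2).1
      rw [h.mul he (h.J_le hb)] at this
      simpa using Commute.mul_left (show Commute _ y from this) (Commute.inv_left e1)
  change ι (gi i) * y * (ι (gi i))⁻¹ = 1 ∨ ι (gi i) * y * (ι (gi i))⁻¹ = r
  rw [h.ce.conj (h.ce.mem_zp.2 (h.Re y hy e2))]
  exact h.Re y hy e2

theorem fpf' {i : Fin 4} {a : W3} (ha : a ∈ J0) (hn : ¬ Kr a i) :
    ∀ x ∈ Ri ι R i, Cj (zpowers r) (ι a) x x → x ∈ zpowers r := fun _ hx e =>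
  h.ce.mem_zp.2 (h.fpf_Ri ha hn hx e)

theorem center_Ri {i : Fin 4} {x : G} (hx : x ∈ Ri ι R i) (e : ∀ y ∈ Ri ι R i, y * x = x * y) :
    x ∈ zpowers r := by
  obtain ⟨H, _, p, hp⟩ := h.ce.exists_pr
  obtain ⟨h1, h2⟩ := kr_e e3 (by simp [TyE])
  exact (h.q8 i).center h.rc hp (h.norm_Ri h1 i) (h.fpf' h1 (h2 i)) hx e

theorem mulP {y y' : Fin 4 → G} (hy : ∀ i, y i ∈ Ri ι R i) (hy' : ∀ i, y' i ∈ Ri ι R i) :
    P4 y * P4 y' = P4 fun i => y i * y' i := P4_mul fun i j e => h.comm_Ri e (hy i) (hy' j)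

theorem invP {y : Fin 4 → G} (hy : ∀ i, y i ∈ Ri ι R i) : (P4 y)⁻¹ = P4 fun i => (y i)⁻¹ :=
  inv_eq_of_mul_eq_one_right (by rw [h.mulP hy fun i => inv_mem (hy i)]; simp [P4])

theorem Ri_le (i : Fin 4) : Ri ι R i ≤ EE ι R := le_iSup (Ri ι R) i

theorem mem_E {x : G} : x ∈ EE ι R ↔ ∃ y : Fin 4 → G, (∀ i, y i ∈ Ri ι R i) ∧ x = y 0 * y 1 * y 2 * y 3 := by
  refine ⟨fun hx => ?_, fun ⟨y, hy, e⟩ => e ▸ P4_mem fun i => h.Ri_le i (hy i)⟩
  let M : Subgroup G :=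
    { carrier := {x | ∃ y : Fin 4 → G, (∀ i, y i ∈ Ri ι R i) ∧ x = P4 y}
      one_mem' := ⟨1, fun _ => one_mem _, by simp [P4]⟩
      mul_mem' := by
        rintro _ _ ⟨y, hy, rfl⟩ ⟨y', hy', rfl⟩
        exact ⟨_, fun i => mul_mem (hy i) (hy' i), h.mulP hy hy'⟩
      inv_mem' := by
        rintro _ ⟨y, hy, rfl⟩
        exact ⟨_, fun i => inv_mem (hy i), h.invP hy⟩ }
  refine (iSup_le fun i x hx => ?_ : EE ι R ≤ M) hx
  refine ⟨Pi.mulSingle i x, fun j => ?_, ?_⟩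
  · by_cases e : j = i
    · rw [e, Pi.mulSingle_eq_same]; exact hx
    · rw [Pi.mulSingle_eq_of_ne e]; exact one_mem _
  · fin_cases i <;> simp [P4]

theorem mem_E' {x : G} (hx : x ∈ EE ι R) : ∃ y : Fin 4 → G, (∀ i, y i ∈ Ri ι R i) ∧ x = P4 y :=
  h.mem_E.1 hx

theorem coord {y : Fin 4 → G} (hy : ∀ i, y i ∈ Ri ι R i) {i : Fin 4}
    (e : ∀ w ∈ Ri ι R i, w * P4 y = P4 y * w) : y i ∈ zpowers r :=
  h.center_Ri (hy i) fun w hw => P4_coord (fun j e => h.comm_Ri e.symm hw (hy j)) (e w hw)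

theorem uniq {y y' : Fin 4 → G} (hy : ∀ i, y i ∈ Ri ι R i) (hy' : ∀ i, y' i ∈ Ri ι R i)
    (e : (y 0 * y 1 * y 2 * y 3)⁻¹ * (y' 0 * y' 1 * y' 2 * y' 3) ∈ zpowers r) (i : Fin 4) :
    (y i)⁻¹ * y' i ∈ zpowers r := by
  change (P4 y)⁻¹ * P4 y' ∈ _ at e
  rw [h.invP hy, h.mulP (fun i => inv_mem (hy i)) hy'] at e
  exact h.coord (fun i => mul_mem (inv_mem (hy i)) (hy' i)) fun w _ => h.ce.comm e w

theorem card_step {X : Subgroup G} {i : Fin 4} (hr : r ∈ X) (hX : X ≤ centralizer (Ri ι R i : Set G)) :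
    Nat.card (X ⊔ Ri ι R i : Subgroup G) = Nat.card X * 4 := by
  have e := Coprime.card_sup_mul_card_inf ((le_centralizer_iff.1 hX).trans (centralizer_le_normalizer _))
  have e1 : X ⊓ Ri ι R i = zpowers r := le_antisymm
    (fun x hx => h.center_Ri hx.2 (mem_centralizer_iff.1 (hX hx.1)))
    (zpowers_le.2 (mem_inf.2 ⟨hr, (h.q8 i).mem⟩))
  rw [e1, Nat.card_zpowers, ord_two h.rr h.r1, (h.q8 i).card] at e
  omega

theorem card_E : Nat.card (EE ι R) = 2 ^ 9 := by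
  have c : ∀ {i j : Fin 4}, i ≠ j → Ri ι R i ≤ centralizer (Ri ι R j : Set G) := fun e x hx =>
    mem_centralizer_iff.2 fun y hy => h.comm_Ri e.symm hy hx
  have e : EE ι R = Ri ι R 0 ⊔ Ri ι R 1 ⊔ Ri ι R 2 ⊔ Ri ι R 3 := by
    refine le_antisymm (fun x hx => ?_) (sup_le (sup_le (sup_le (h.Ri_le _) (h.Ri_le _)) (h.Ri_le _)) (h.Ri_le _))
    obtain ⟨y, hy, rfl⟩ := h.mem_E.1 hx
    exact mul_mem_sup (mul_mem_sup (mul_mem_sup (hy 0) (hy 1)) (hy 2)) (hy 3)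
  have hr := (h.q8 0).mem
  rw [e, h.card_step (mem_sup_left (mem_sup_left hr))
      (sup_le (sup_le (c (by decide)) (c (by decide))) (c (by decide))),
    h.card_step (mem_sup_left hr) (sup_le (c (by decide)) (c (by decide))),
    h.card_step hr (c (by decide)), (h.q8 0).card]
  rfl

theorem sq_E {x : G} (hx : x ∈ EE ι R) : x * x = 1 ∨ x * x = r := by
  obtain ⟨y, hy, rfl⟩ := h.mem_E' hx
  rw [h.mulP hy hy]
  exact h.ce.mem_zp.1 (P4_mem fun i => (h.q8 i).sq_mem h.rc (hy i))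

theorem p_comm {H : Type _} [Group H] {p : G →* H} (hp : Pr r p) {x y : G} (hx : x ∈ EE ι R)
    (hy : y ∈ EE ι R) : p x * p y = p y * p x := by
  obtain ⟨u, hu, rfl⟩ := h.mem_E' hx
  obtain ⟨v, hv, rfl⟩ := h.mem_E' hy
  rw [← map_mul, ← map_mul, h.mulP hu hv, h.mulP hv hu]
  exact P4_congr p fun i => by rw [map_mul, map_mul, (h.q8 i).p_comm h.rc hp (hu i) (hv i)]

theorem comm_E {x y : G} (hx : x ∈ EE ι R) (hy : y ∈ EE ι R) : x * y = y * x ∨ x * y = y * x * r := by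
  obtain ⟨H, _, p, hp⟩ := h.ce.exists_pr
  have := h.p_comm hp hy hx
  rw [← map_mul, ← map_mul, hp.eq_iff, h.ce.mem_zp] at this
  exact this.imp (fun e => (inv_mul_eq_one.1 e).symm) fun e => by rw [← e, mul_inv_cancel_left]

theorem center_E {x : G} (hx : x ∈ EE ι R) (e : ∀ y ∈ EE ι R, y * x = x * y) : x = 1 ∨ x = r := by
  obtain ⟨y, hy, rfl⟩ := h.mem_E' hx
  exact h.ce.mem_zp.1 (P4_mem fun i => h.coord hy fun w hw => e w (h.Ri_le i hw))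

theorem r_mem : r ∈ EE ι R := h.Ri_le 0 (h.q8 0).mem

theorem es : ExtraTwo.ES (EE ι R) r where
  ne_one := h.r1
  mul_self := h.rr
  mem := h.r_mem
  comm_z x _ := h.rc x
  center x hx e := h.center_E hx e
  comm x hx y hy := (h.comm_E hx hy).imp_right fun e => e.trans (h.rc _)
  nonab := by
    by_contra! hc
    have := card_le_of_le (show EE ι R ≤ zpowers r from fun x hx =>
      h.ce.mem_zp.2 (h.center_E hx fun y hy => hc y hy x hx))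
    rw [h.card_E, Nat.card_zpowers, ord_two h.rr h.r1] at this
    omega

theorem extraspecial : IsExtraspecial 2 (EE ι R) := h.es.isExtraspecial

theorem mem_M {a : W3} (ha : a ∈ A) : ι a ∈ MM ι R := by
  refine mem_normalizer_of_cj_le (map_le_iff_le_comap.2 (iSup_le fun i x hx => ?_))
  obtain ⟨j, e⟩ := mv_ex a i
  exact h.Ri_le j (h.conj_Ri ha e hx)

theorem fix_coord {a : W3} (ha : a ∈ J0) {y : Fin 4 → G} (hy : ∀ i, y i ∈ Ri ι R i)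
    (e : Cj (zpowers r) (ι a) (P4 y) (P4 y)) {i : Fin 4} (hn : ¬ Kr a i) : y i ∈ zpowers r := by
  obtain ⟨H, _, p, hp⟩ := h.ce.exists_pr
  rw [hp.cj_iff, P4_conj, hp.eq_iff] at e
  exact h.fpf' ha hn _ (hy i) (hp.cj_iff.2 (hp.eq_iff.2
    (h.uniq (fun i => conj_mem_of_mem_normalizer (h.norm_Ri ha i) (hy i)) hy e i)))

theorem cent_z_E {x : G} (hx : x ∈ EE ι R) (e : Cj (zpowers r) (ι z0) x x) : x ∈ R := by
  obtain ⟨y, hy, rfl⟩ := h.mem_E' hx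
  refine P4_mem fun i => ?_
  by_cases e0 : i = 0
  · rw [e0, ← h.Ri_zero]; exact hy 0
  · exact zpowers_le.2 h.mem (h.fix_coord kr_z.1 hy e (kr_z.2 i e0))

/-- elements of type `e` act without fixed points on `E / ⟨r⟩` -/
theorem fpf_e {a : W3} (ha : TyE a) {x : G} (hx : x ∈ EE ι R) (e : Cj (zpowers r) (ι a) x x) :
    x = 1 ∨ x = r := by
  obtain ⟨y, hy, rfl⟩ := h.mem_E' hx
  exact h.ce.mem_zp.1 (P4_mem fun i => h.fix_coord (kr_e a ha).1 hy e ((kr_e a ha).2 i))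

theorem three_conj {x : G} {b : W3} (hb : b ∈ A)
    (e : ∃ a ∈ A, a ^ 3 = 1 ∧ a ≠ 1 ∧ Cj (zpowers r) (ι a) (ι b * x * (ι b)⁻¹) (ι b * x * (ι b)⁻¹)) :
    ∃ a ∈ A, a ^ 3 = 1 ∧ a ≠ 1 ∧ Cj (zpowers r) (ι a) x x := by
  obtain ⟨H, _, p, hp⟩ := h.ce.exists_pr
  obtain ⟨a, ha, h3, h1, e⟩ := e
  refine ⟨b⁻¹ * a * b⁻¹⁻¹, mul_mem (mul_mem (inv_mem hb) ha) (inv_mem (inv_mem hb)),
    by rw [conj_pow, h3]; group, fun e => h1 (by simpa [mul_assoc, inv_mul_eq_one] using e), ?_⟩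
  rw [← h.conj (inv_mem hb) ha, h.inv hb, hp.cj_iff]
  have := conj_congr (ι b)⁻¹ (hp.cj_iff.1 e)
  convert this using 2 <;> group

theorem three_gen {y : Fin 4 → G} (hy : ∀ i, y i ∈ Ri ι R i) (h1 : y 1 ∉ zpowers r)
    (h2 : y 2 ∉ zpowers r) (h3 : y 3 ∉ zpowers r) :
    ∃ a ∈ A, a ^ 3 = 1 ∧ a ≠ 1 ∧ Cj (zpowers r) (ι a) (P4 y) (P4 y) := by
  obtain ⟨H, _, p, hp⟩ := h.ce.exists_pr
  obtain ⟨hQ, -, s3, s1, -⟩ := misc
  have hs := h.hA σ_A4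
  have nz : ∀ {g x : G}, x ∉ zpowers r → g * x * g⁻¹ ∉ zpowers r := fun {g x} hx e => hx (by
    have := h.ce.conj e g⁻¹
    rw [show g⁻¹ * (g * x * g⁻¹) * g⁻¹⁻¹ = x by group] at this
    rw [this]; exact e)
  have u3 := h.conj_Ri hs mv_σ.1 (hy 1)
  have u2 := h.conj_Ri hs mv_σ.2.1 u3
  obtain ⟨v, k1, k2, k3⟩ := kr_three 1 2 3 (by decide) (by decide) (by decide)
  obtain ⟨w, l1, l3, l2⟩ := kr_three 1 3 2 (by decide) (by decide) (by decide)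
  obtain ⟨m, em⟩ := (h.q8 3).exists_pow h.rc hp (h.norm_Ri (vec_mem v) 3) (h.cube (vec_mem v))
    (h.fpf' (vec_mem v) k3) (hy 3) h3 u3 (nz h1)
  obtain ⟨n, en⟩ := (h.q8 2).exists_pow h.rc hp (h.norm_Ri (vec_mem w) 2) (h.cube (vec_mem w))
    (h.fpf' (vec_mem w) l2) (hy 2) h2 u2 (nz (nz h1))
  have hv := h.J_le (vec_mem v)
  have hw := h.J_le (vec_mem w)
  have hb : vec v ^ m * vec w ^ n ∈ J0 := mul_mem (pow_mem (vec_mem v) m) (pow_mem (vec_mem w) n)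
  have fx : ∀ {a : W3} {i : Fin 4} (k : ℕ) {x : G}, Kr a i → x ∈ Ri ι R i →
      ι a ^ k * x * (ι a ^ k)⁻¹ = x := fun k _ ha hx => by
    rw [(Commute.pow_left (h.cent_Ri ha hx) k).eq, mul_inv_cancel_right]
  have eb : ∀ x, ι (vec v ^ m * vec w ^ n) * x * (ι (vec v ^ m * vec w ^ n))⁻¹ =
      ι (vec v) ^ m * (ι (vec w) ^ n * x * (ι (vec w) ^ n)⁻¹) * (ι (vec v) ^ m)⁻¹ := fun x => by
    rw [h.mul (pow_mem hv m) (pow_mem hw n), h.pow hv, h.pow hw]; group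
  refine h.three_conj (h.J_le hb) ⟨σ0, hs, s3, s1, ?_⟩
  have y0 := conj_mem_of_mem_normalizer (h.norm_Ri hb 0) (hy 0)
  have e1 : p (ι (vec v ^ m * vec w ^ n) * P4 y * (ι (vec v ^ m * vec w ^ n))⁻¹) =
      p (ι (vec v ^ m * vec w ^ n) * y 0 * (ι (vec v ^ m * vec w ^ n))⁻¹ * y 1 *
        (ι σ0 * (ι σ0 * y 1 * (ι σ0)⁻¹) * (ι σ0)⁻¹) * (ι σ0 * y 1 * (ι σ0)⁻¹)) := by
    rw [P4_conj, P4, eb (y 1), eb (y 2), eb (y 3), fx n l1 (hy 1), fx m k1 (hy 1), fx n l3 (hy 3),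
      fx m k2 (conj_mem_of_mem_normalizer (pow_mem (h.norm_Ri (vec_mem w) 2) n) (hy 2)),
      map_mul, map_mul, em, en, ← map_mul, ← map_mul]
  have s3' : ι σ0 ^ 3 = 1 := by rw [← h.pow hs, s3, h.one]
  rw [hp.cj_iff, conj_congr _ e1, e1, ← conj_mul, ← conj_mul, ← conj_mul, conj3 s3',
    h.RQ _ (h.Ri_zero ▸ y0) _ hQ, mul_inv_cancel_right]
  congr 1
  have c1 := h.comm_Ri (by decide) u3 (hy 1)
  have c2 := h.comm_Ri (by decide) u3 u2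
  have c3 := h.comm_Ri (by decide) u2 (hy 1)
  generalize ι σ0 * (ι σ0 * y 1 * (ι σ0)⁻¹) * (ι σ0)⁻¹ = s2 at c2 c3 ⊢
  generalize ι σ0 * y 1 * (ι σ0)⁻¹ = s1 at c1 c2 ⊢
  simp only [mul_assoc, c3]
  rw [← mul_assoc s1, c1, mul_assoc, c2]

theorem three_perm {y : Fin 4 → G} (hy : ∀ i, y i ∈ Ri ι R i) {b : W3} (hb : b ∈ A) {i j k l : Fin 4}
    (m : Mv b i 0 ∧ Mv b j 1 ∧ Mv b k 2 ∧ Mv b l 3) (e : P4 y = y i * y j * y k * y l)
    (h1 : y j ∉ zpowers r) (h2 : y k ∉ zpowers r) (h3 : y l ∉ zpowers r) :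
    ∃ a ∈ A, a ^ 3 = 1 ∧ a ≠ 1 ∧ Cj (zpowers r) (ι a) (P4 y) (P4 y) := by
  have nz : ∀ {g x : G}, x ∉ zpowers r → g * x * g⁻¹ ∉ zpowers r := fun {g x} hx e => hx (by
    have := h.ce.conj e g⁻¹
    rw [show g⁻¹ * (g * x * g⁻¹) * g⁻¹⁻¹ = x by group] at this
    rw [this]; exact e)
  refine h.three_conj hb ?_
  rw [e, ← conj_mul, ← conj_mul, ← conj_mul]
  exact h.three_gen (y := ![ι b * y i * (ι b)⁻¹, ι b * y j * (ι b)⁻¹, ι b * y k * (ι b)⁻¹,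
    ι b * y l * (ι b)⁻¹]) (fun n => by
      fin_cases n
      exacts [h.conj_Ri hb m.1 (hy i), h.conj_Ri hb m.2.1 (hy j), h.conj_Ri hb m.2.2.1 (hy k),
        h.conj_Ri hb m.2.2.2 (hy l)]) (nz h1) (nz h2) (nz h3)

/-- every element of `E` is centralised by an element of order three of `A` -/
theorem exists_three {x : G} (hx : x ∈ EE ι R) : ∃ a ∈ A, a ^ 3 = 1 ∧ a ≠ 1 ∧ ι a * x = x * ι a := by
  obtain ⟨y, hy, rfl⟩ := h.mem_E' hx
  by_cases hc : ∃ i j, ∀ k, k ≠ i → k ≠ j → y k ∈ zpowers r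
  · obtain ⟨i, j, hc⟩ := hc
    obtain ⟨v, h1, h2, h3⟩ := kr_two i j
    refine ⟨vec v, h.J_le (vec_mem v), J0_cube _ (vec_mem v), h1,
      (mem_Cx.1 (P4_mem (X := Cx (ι (vec v))) fun k => mem_Cx.2 ?_)).symm⟩
    by_cases e1 : k = i
    · exact (h.cent_Ri (e1 ▸ h2) (hy k)).symm
    by_cases e2 : k = j
    · exact (h.cent_Ri (e2 ▸ h3) (hy k)).symm
    exact (h.ce.comm (hc k e1 e2) _).symm
  suffices H : ∃ a ∈ A, a ^ 3 = 1 ∧ a ≠ 1 ∧ Cj (zpowers r) (ι a) (P4 y) (P4 y) by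
    obtain ⟨a, ha, h3, h1, e⟩ := H
    exact ⟨a, ha, h3, h1, h.ce.fix3 (by rw [← h.pow ha, h3, h.one]) e⟩
  have hk : ∃ k, ∀ j, j ≠ k → y j ∉ zpowers r := by
    by_contra! hk
    obtain ⟨i, -, hi⟩ := hk 0
    obtain ⟨j, hij, hj⟩ := hk i
    obtain ⟨a, b, e⟩ : ∃ a b : Fin 4, ∀ k, k ≠ a → k ≠ b → k = i ∨ k = j := by
      clear hi hj
      revert i j
      decide
    exact hc ⟨a, b, fun k h1 h2 => (e k h1 h2).elim (fun e => e ▸ hi) fun e => e ▸ hj⟩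
  obtain ⟨k, hk⟩ := hk
  have c : ∀ i j : Fin 4, i ≠ j → Commute (y i) (y j) := fun i j e => h.comm_Ri e (hy i) (hy j)
  obtain rfl | rfl | rfl | rfl : k = 0 ∨ k = 1 ∨ k = 2 ∨ k = 3 := by omega
  · exact h.three_gen hy (hk _ (by decide)) (hk _ (by decide)) (hk _ (by decide))
  · refine h.three_perm hy (h.g_mem 1) mv_g1 ?_ (hk _ (by decide)) (hk _ (by decide)) (hk _ (by decide))
    rw [P4, (c 0 1 (by decide)).eq, mul_assoc, (c 2 3 (by decide)).eq, ← mul_assoc]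
  · refine h.three_perm hy (h.g_mem 2) mv_g2 ?_ (hk _ (by decide)) (hk _ (by decide)) (hk _ (by decide))
    rw [P4, mul_assoc, (((c 0 2 (by decide)).mul_right (c 0 3 (by decide))).mul_left
      ((c 1 2 (by decide)).mul_right (c 1 3 (by decide)))).eq, ← mul_assoc]
  · refine h.three_perm hy (h.g_mem 3) mv_g3 ?_ (hk _ (by decide)) (hk _ (by decide)) (hk _ (by decide))
    rw [P4, (((c 0 3 (by decide)).mul_left (c 1 3 (by decide))).mul_left (c 2 3 (by decide))).eq,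
      ((c 0 2 (by decide)).mul_left (c 1 2 (by decide))).eq, (c 0 1 (by decide)).eq, ← mul_assoc, ← mul_assoc]

/-- a large subgroup has elements of order four in every coset -/
theorem exists_four {W : Subgroup G} (hW : W ≤ EE ι R) (hc : 64 ≤ Nat.card W) {v : G} (hv : v ∈ EE ι R) :
    ∃ w ∈ W, v * w * (v * w) = r := by
  by_contra! hn
  have h1 : ∀ w ∈ W, v * w * (v * w) = 1 := fun w hw =>
    (h.sq_E (mul_mem hv (hW hw))).resolve_right (hn w hw)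
  have vv : v⁻¹ = v := inv_eq_of_mul_eq_one_right (by simpa using h1 1 (one_mem _))
  have h2 : ∀ w ∈ W, v * w * v⁻¹ = w⁻¹ := fun w hw =>
    eq_inv_of_mul_eq_one_left (by rw [vv, mul_assoc, h1 w hw])
  have h3 : ∀ x ∈ W, ∀ y ∈ W, x * y = y * x := fun x hx y hy => inv_injective (by
    rw [← h2 _ (mul_mem hx hy), ← conj_mul, h2 x hx, h2 y hy, mul_inv_rev])
  have hn' : zpowers r ≤ normalizer (W : Set G) := fun x hx =>
    centralizer_le_normalizer _ (mem_centralizer_iff.2 fun y _ => h.ce.comm hx y)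
  have := LargeExtra.card_sq_le_of_comm h.es (A := W ⊔ zpowers r) (sup_le hW (zpowers_le.2 h.r_mem))
    (mem_sup_right (mem_zpowers r)) (fun x hx y hy => by
      obtain ⟨a, ha, b, hb, rfl⟩ := (Coprime.mem_sup_iff_of_le_normalizer hn').1 hx
      obtain ⟨c, hc, d, hd, rfl⟩ := (Coprime.mem_sup_iff_of_le_normalizer hn').1 hy
      exact (Commute.mul_left (Commute.mul_right (h3 a ha c hc) (h.ce.comm hd a))
        (h.ce.comm hb _).symm).eq)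
  have h4 := hc.trans (card_le_of_le (le_sup_left : W ≤ W ⊔ zpowers r))
  rw [h.card_E] at this
  nlinarith

/-- an element inverting an element of type `e` modulo `E` acts freely on `E / ⟨r⟩` -/
theorem free {a : W3} (ha : TyE a) {j : G} (hj : j ∈ MM ι R) (e : Cj (EE ι R) j (ι a) (ι a)⁻¹)
    {x : G} (hx : x ∈ EE ι R) (hf : Cj (zpowers r) j x x) :
    ∃ y ∈ EE ι R, j * y * j⁻¹ * y⁻¹ * x ∈ zpowers r := by
  obtain ⟨H, _, p, hp⟩ := h.ce.exists_pr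
  have hJ := (kr_e a ha).1
  have hc : ι a ∈ normalizer (EE ι R : Set G) := h.mem_M (h.J_le hJ)
  have h1 := conj_mem_of_mem_normalizer hc hx
  have h2 := conj_mem_of_mem_normalizer hc h1
  have h3 := (hp _).2 (norm3 hp hc (h.cube hJ) (fun _ a _ b => h.p_comm hp a b)
    (fun x hx e => h.ce.mem_zp.2 (h.fpf_e ha hx e)) hx)
  refine ⟨_, h1, (hp _).1 ?_⟩
  have e1 : j * (ι a * x * (ι a)⁻¹) * j⁻¹ = j * ι a * j⁻¹ * (ι a)⁻¹⁻¹ *
      ((ι a)⁻¹ * (j * x * j⁻¹) * (ι a)⁻¹⁻¹) * (j * ι a * j⁻¹ * (ι a)⁻¹⁻¹)⁻¹ := by group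
  have e2 : (ι a)⁻¹ * x * (ι a)⁻¹⁻¹ = ι a * (ι a * x * (ι a)⁻¹) * (ι a)⁻¹ := by
    conv_lhs => rw [← conj3 (h.cube hJ) x]
    group
  have e3 : p (ι a * x * (ι a)⁻¹)⁻¹ = p (ι a * x * (ι a)⁻¹) := by
    rw [map_inv, inv_eq_iff_mul_eq_one, ← map_mul, hp]
    exact h.ce.mem_zp.2 (h.sq_E h1)
  have e4 : p (j * (ι a * x * (ι a)⁻¹) * j⁻¹) = p (ι a * (ι a * x * (ι a)⁻¹) * (ι a)⁻¹) := by
    rw [e1, conj_congr _ (conj_congr _ (hp.cj_iff.1 hf)), e2]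
    change j * ι a * j⁻¹ * (ι a)⁻¹⁻¹ ∈ _ at e
    generalize j * ι a * j⁻¹ * (ι a)⁻¹⁻¹ = d at e
    generalize ι a * (ι a * x * (ι a)⁻¹) * (ι a)⁻¹ = x2 at h2
    rw [map_mul, map_mul, h.p_comm hp e h2, map_inv, mul_inv_cancel_right]
  rw [map_mul p _ x, map_mul p _ (ι a * x * (ι a)⁻¹)⁻¹, e4, e3, ← h3]
  generalize ι a * (ι a * x * (ι a)⁻¹) * (ι a)⁻¹ = x2 at h2
  generalize ι a * x * (ι a)⁻¹ = x1 at h1
  rw [h.p_comm hp h2 h1, ← map_mul, h.p_comm hp (mul_mem h1 h2) hx, map_mul, map_mul, map_mul, mul_assoc]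

theorem R_le : R ≤ EE ι R := h.Ri_zero.ge.trans (h.Ri_le 0)

theorem S_le : S0 ≤ A := S0_le.2.2.2.2.1.trans h.hA

theorem E_four {x : G} (hx : x ∈ EE ι R) : x ^ 4 = 1 := by
  have e : x ^ 4 = x * x * (x * x) := by simp [pow_succ, mul_assoc]
  rcases h.sq_E hx with e1 | e1 <;> rw [e, e1]
  exacts [mul_one _, h.rr]

theorem eq_one_of_mem_E {b : W3} (hb : b ∈ J0) (e : ι b ∈ EE ι R) : b = 1 :=
  (h.eq_one_iff (h.J_le hb)).1 (eq_one_of_cop (m := 4) (by norm_num) (h.E_four e) (h.cube hb))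

theorem not_mem_E {a : W3} (ha : a ∈ A) (h1 : a ≠ 1) : ι a ∉ EE ι R := fun hE => by
  have k2 : ∀ b ∈ J0, a * b = b * a := fun b hb => by
    have hb' := h.J_le hb
    have := h.eq_one_of_mem_E (mul_mem (J0_conj a hb) (inv_mem hb)) (by
      rw [h.mul (h.J_le (J0_conj a hb)) (inv_mem hb'), h.inv hb', ← h.conj ha hb']
      have := mul_mem hE (conj_mem_of_mem_normalizer (h.mem_M hb') (inv_mem hE))
      simpa only [mul_assoc] using this)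
    rwa [mul_inv_eq_one, mul_inv_eq_iff_eq_mul] at this
  exact h1 (h.eq_one_of_mem_E ((by decide +kernel : ∀ a : W3, a * e1 = e1 * a → a * e2 = e2 * a →
    a * e3 = e3 * a → a ∈ J0) a (k2 _ mems.1) (k2 _ mems.2.1) (k2 _ mems.2.2.1)) hE)

theorem not_mem {a : W3} (ha : a ∈ A) : ι a ≠ r := fun e =>
  h.not_mem_E ha (fun e1 => h.r1 (by rw [← e, e1, h.one])) (e ▸ h.r_mem)


theorem cent_y_E {x : G} (hx : x ∈ EE ι R) (e : x ∈ Cx (ι y1)) : x ∈ R ⊔ cj (ι w0) R := by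
  obtain ⟨y, hy, rfl⟩ := h.mem_E' hx
  have e' : Cj (zpowers r) (ι y1) (P4 y) (P4 y) := by
    rw [Cj, ← mem_Cx.1 e, mul_inv_cancel_right, mul_inv_cancel]; exact one_mem _
  have k : zpowers r ≤ R ⊔ cj (ι w0) R := (zpowers_le.2 h.mem).trans le_sup_left
  exact mul_mem (mul_mem (mul_mem (mem_sup_left (h.Ri_zero ▸ hy 0)) (mem_sup_right (hy 1)))
    (k (h.fix_coord kr_y.1 hy e' kr_y.2.1))) (k (h.fix_coord kr_y.1 hy e' kr_y.2.2))

theorem free' {a b : W3} (ha : TyE a) (hb : b ∈ A) (e : b * a * b⁻¹ = a⁻¹) {x : G} (hx : x ∈ EE ι R)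
    (hf : Cj (zpowers r) (ι b) x x) : ∃ y ∈ EE ι R, ι b * y * (ι b)⁻¹ * y⁻¹ * x ∈ zpowers r := by
  have hJ := h.J_le (kr_e a ha).1
  refine h.free ha (h.mem_M hb) ?_ hx hf
  rw [Cj, h.conj hb hJ, e, h.inv hJ, mul_inv_cancel]
  exact one_mem _

/-- involutions of `M / ⟨r⟩` over an involution inverting an element of type `e` -/
theorem conj_out {a b : W3} (ha : TyE a) (hb : b ∈ A) (bb : b * b = 1) (e : b * a * b⁻¹ = a⁻¹) {x : G}
    (hx : x ∈ EE ι R) (h2 : x * ι b * (x * ι b) ∈ zpowers r) :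
    ∃ y ∈ EE ι R, y * (x * ι b) * y⁻¹ = ι b ∨ y * (x * ι b) * y⁻¹ = ι b * r := by
  obtain ⟨H, _, p, hp⟩ := h.ce.exists_pr
  have bb' : ι b * ι b = 1 := by rw [h.mul_eq hb hb bb, h.one]
  have sq : ∀ {y : G}, y ∈ EE ι R → p y * p y = 1 := fun hy => by
    rw [← map_mul, hp]; exact h.ce.mem_zp.2 (h.sq_E hy)
  obtain ⟨y, hy, e1⟩ := h.free' ha hb e hx (hp.cj_iff.2 (by
    rw [show x * ι b * (x * ι b) = x * (ι b * x * (ι b)⁻¹) * (ι b * ι b) by group, bb', mul_one, ← hp, map_mul,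
      ← sq hx] at h2
    exact mul_left_cancel h2))
  have hy' := conj_mem_of_mem_normalizer (h.mem_M hb) hy
  have e2 : y * x * (ι b * y * (ι b)⁻¹)⁻¹ ∈ zpowers r := by
    rw [← hp, map_mul _ _ x, map_mul _ _ y⁻¹, map_inv p y, inv_eq_of_mul_eq_one_right (sq hy)] at e1
    rw [← hp, map_mul _ _ (_)⁻¹, map_inv, inv_eq_of_mul_eq_one_right (sq hy'), h.p_comm hp (mul_mem hy hx) hy',
      map_mul p y, ← mul_assoc, e1]
  refine ⟨y, hy, ?_⟩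
  rw [show y * (x * ι b) * y⁻¹ = y * x * (ι b * y * (ι b)⁻¹)⁻¹ * ι b by group]
  rcases h.ce.mem_zp.1 e2 with e3 | e3 <;> rw [e3]
  exacts [Or.inl (one_mul _), Or.inr (h.rc _).symm]

theorem card_fix {a b : W3} (ha : TyE a) (hb : b ∈ A) (bb : b * b = 1) (e : b * a * b⁻¹ = a⁻¹) {W : Subgroup G}
    (hW : W ≤ EE ι R) (hf : ∀ x ∈ W, Cj (zpowers r) (ι b) x x) : Nat.card W ≤ 32 := by
  have _ := bb
  obtain ⟨H, _, p, hp⟩ := h.ce.exists_pr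
  have cm : ∀ {y : G}, y ∈ EE ι R → ι b * y * (ι b)⁻¹ ∈ EE ι R := conj_mem_of_mem_normalizer (h.mem_M hb)
  let φ : EE ι R →* H := MonoidHom.mk' (fun y => p (ι b * y * (ι b)⁻¹ * (y : G)⁻¹)) fun x y => by
    rw [Subgroup.coe_mul, ← conj_mul, mul_inv_rev, map_mul _ _ (_ * _), map_mul p (ι b * x * (ι b)⁻¹),
      h.p_comm hp (inv_mem y.2) (inv_mem x.2) |> fun e => (map_mul p _ _).trans e, mul_assoc,
      ← mul_assoc (p (ι b * y * (ι b)⁻¹)), h.p_comm hp (cm y.2) (inv_mem x.2), map_mul p _ (x : G)⁻¹,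
      map_mul p _ (y : G)⁻¹]
    simp only [mul_assoc]
  let F : Subgroup G := φ.ker.map (EE ι R).subtype
  have mF : ∀ {x : G}, x ∈ EE ι R → Cj (zpowers r) (ι b) x x → x ∈ F := fun {x} hx e =>
    ⟨⟨x, hx⟩, (hp _).2 e, rfl⟩
  have h1 : zpowers r ≤ F := zpowers_le.2 (mF h.r_mem (by
    rw [Cj, h.rc, mul_inv_cancel_right, mul_inv_cancel]; exact one_mem _))
  have h2 : F.map p ≤ φ.range := by
    rintro _ ⟨_, ⟨x, hx, rfl⟩, rfl⟩
    obtain ⟨y, hy, e1⟩ := h.free' ha hb e x.2 ((hp _).1 hx)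
    refine inv_mem_iff.1 ⟨⟨y, hy⟩, eq_inv_of_mul_eq_one_left ?_⟩
    exact (map_mul p _ _).symm.trans ((hp _).2 e1)
  have h3 := card_mul_relIndex' h1
  rw [Nat.card_zpowers, ord_two h.rr h.r1, ← show p.ker = zpowers r from Subgroup.ext hp, relIndex_ker] at h3
  have h4 := φ.ker.card_mul_index
  rw [index_ker, h.card_E, ← card_map_of_injective (EE ι R).subtype_injective] at h4
  have : Finite φ.range := Finite.of_surjective _ φ.rangeRestrict_surjective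
  have h5 := card_le_of_le h2
  have h6 := card_le_of_le (show W ≤ F from fun x hx => mF (hW hx) (hf x hx))
  change Nat.card F * _ = _ at h4
  nlinarith

omit [Finite G] in
theorem conj_r (a x : G) : a * r * x * (a * r)⁻¹ = a * x * a⁻¹ := by
  calc _ = a * (r * x * r⁻¹) * a⁻¹ := by group
    _ = _ := by rw [← h.rc, mul_inv_cancel_right]

theorem mem_sup {g : G} : g ∈ EE ι R ⊔ img ι A ↔ ∃ e ∈ EE ι R, ∃ a ∈ A, g = e * ι a := by
  refine ⟨fun hg => ?_, fun ⟨e, he, a, ha, l⟩ => l ▸ mul_mem (mem_sup_left he) (mem_sup_right (mem_im_of ha))⟩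
  have : g ∈ ((EE ι R ⊔ img ι A : Subgroup G) : Set G) := hg
  rw [coe_mul_of_right_le_normalizer_left _ _ (im_le.2 fun a ha => h.mem_M ha)] at this
  obtain ⟨e, he, u, hu, rfl⟩ := this
  obtain ⟨a, ha, rfl⟩ := (h.mem_im le_rfl).1 hu
  exact ⟨e, he, a, ha, rfl⟩

end KC0

end CfsgLib.Rec3E
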