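import Cfsg.Agent.Lib.Rec3E.CB0
import Cfsg.Agent.Lib.Yos.Defs
import Cfsg.Agent.Lib.Rec3C.End1

/-! A subgroup of index two (plans/REC3E.md, CB1). -/

set_option autoImplicit false
set_option maxRecDepth 100000
set_option maxHeartbeats 400000

namespace CfsgLib.Rec3E

open Subgroup Cfsg CfsgLib.Tech CfsgLib.PComp CfsgLib.W2 CfsgLib.Rec3 CfsgLib.Rec3B CfsgLib.Rec3B.W4
open CfsgLib.U43 (SL)

variable {G : Type*} [Group G] [Finite G]

variable {κ : W3 → G} {t y : G} {R : Subgroup G}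

namespace CB1

open CfsgLib.Rec3.Jx CfsgLib.Rec3C
open CfsgLib.Rec3B.KC.KE2 (eq_one_of_cop)

/-- `2^{1+8} . W3` -/
noncomputable abbrev M0 (κ : W3 → G) (R : Subgroup G) : Subgroup G := EE κ R ⊔ img κ B3

omit [Finite G] in
theorem m0 (a : W3) : κ a ∈ M0 κ R := mem_sup_right (mem_im_of (mem_B3 a))

omit [Finite G] in
theorem M0M : M0 κ R ≤ MB κ R y := le_sup_left

omit [Finite G] in
theorem yM : zpowers y ≤ MB κ R y := le_sup_right

theorem J24 : ∀ a ∈ J0, a ∈ A24 := by decide +kernel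

theorem tab : ∀ u ∈ [t0, t0 * i0], u * u = 1 ∧ u ∉ A24 ∧ ∃ d ∈ [e3, y1], d ∈ J0 ∧ d ≠ 1 ∧ d * u = u * d := by
  decide +kernel

theorem tab2 : ∀ u ∈ [t0, t0 * i0], ∀ a : W3, a * u = u * a → a ^ 9 = 1 → a ∈ J0 := by decide +kernel

variable (h : CB κ t R y)
include h

theorem mM (a : W3) : κ a ∈ MM κ R := h.mem_M (mem_B3 a)

theorem M0_le : M0 κ R ≤ MM κ R := sup_le le_normalizer (im_le.2 fun a _ => mM h a)

omit [Finite G] in
theorem yF : EE κ R ≤ Cx y := iSup_le fun i => cj_le_iff.2 fun _ hx =>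
  have := h.yA _ ((by decide +kernel : ∀ i, gi i ∈ A24) i)
  mul_mem (mul_mem this (h.yR hx)) (inv_mem this)

omit [Finite G] in
theorem yinv {a : W3} (ha : a ∉ A24) : κ a * y * (κ a)⁻¹ = y⁻¹ := by
  have e := mem_Cx'.1 (h.yA _ ((by decide +kernel : ∀ a, a ∉ A24 → t0⁻¹ * a ∈ A24) a ha))
  rw [← mul_inv_cancel_left t0 a, h.mul (mem_B3 _) (mem_B3 _), ← h.yt]
  conv_rhs => rw [← e]
  group

theorem M0_n : M0 κ R ≤ normalizer (zpowers y : Set G) := by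
  have c : Cx y ≤ normalizer (zpowers y : Set G) := fun g hg =>
    mem_normalizer_iff_cj.2 (by rw [cj_zpowers, mem_Cx'.1 hg])
  refine sup_le ((yF h).trans c) (im_le.2 fun a _ => ?_)
  by_cases ha : a ∈ A24
  exacts [c (h.yA a ha), mem_normalizer_iff_cj.2 (by rw [cj_zpowers, yinv h ha, zpowers_inv])]

theorem y_not : y ∉ M0 κ R := fun hy => by
  obtain ⟨e, he, a, -, l⟩ := h.mem_sup.1 hy
  have k : ∀ b ∈ A24, a * b = b * a := fun b hb => by
    by_contra hn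
    refine h.not_mem_E (mem_B3 (a * b * a⁻¹ * b⁻¹)) (fun e => hn (by rwa [mul_inv_eq_one, mul_inv_eq_iff_eq_mul] at e)) ?_
    rw [h.mul (mem_B3 _) (mem_B3 _), ← h.conj (mem_B3 _) (mem_B3 _), h.inv (mem_B3 _), ← inv_mul_eq_iff_eq_mul.2 l]
    convert mul_mem (inv_mem he) (conj_mem_of_mem_normalizer (mM h b) he) using 1
    calc _ = e⁻¹ * (y * κ b * y⁻¹) * e * (κ b)⁻¹ := by group
      _ = _ := by rw [mem_Cx'.1 (Cx_comm.1 (h.yA b hb))]; group
  rw [(by decide +kernel : ∀ a : W3, a * e1 = e1 * a → a * e2 = e2 * a → a * e3 = e3 * a → a * i0 = i0 * a → a = 1) a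
    (k _ (by decide +kernel)) (k _ (by decide +kernel)) (k _ (by decide +kernel)) (k _ (by decide +kernel)), h.one,
    mul_one] at l
  exact h.y1 (eq_one_of_cop (m := 4) (by norm_num) (h.E_four (l ▸ he)) h.y3)

theorem mem_MB {g : G} (hg : g ∈ MB κ R y) : ∃ x ∈ M0 κ R, ∃ v ∈ zpowers y, x * v = g := by
  have : g ∈ ((M0 κ R ⊔ zpowers y : Subgroup G) : Set G) := hg
  rwa [coe_mul_of_left_le_normalizer_right _ _ (M0_n h)] at this

theorem inv0 {g : G} (hg : g ∈ MB κ R y) {a : W3} (ha : a ∉ A24) (e : g * κ a * g⁻¹ ∈ M0 κ R) : g ∈ M0 κ R := by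
  obtain ⟨x, hx, v, hv, rfl⟩ := mem_MB h hg
  have e1 : v * (κ a * v * (κ a)⁻¹)⁻¹ ∈ M0 κ R := by
    convert mul_mem (mul_mem (mul_mem (inv_mem hx) e) hx) (inv_mem (m0 a)) using 1
    group
  have e2 : y * y * y = 1 := by rw [← h.y3, pow_succ, pow_two]
  rcases zp3_cases h.y3 hv with rfl | rfl | rfl
  · rwa [mul_one]
  · rw [yinv h ha, inv_inv, ← inv_mem_iff, inv_eq_of_mul_eq_one_right e2] at e1
    exact (y_not h e1).elim
  · rw [← conj_inv, yinv h ha, inv_inv, ← mul_inv_rev, inv_eq_of_mul_eq_one_right e2] at e1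
    exact (y_not h e1).elim

theorem nY {g : G} (hg : g ∈ normalizer (zpowers y : Set G)) : g * κ t0 ∈ Cx y ∨ g ∈ Cx y := by
  rcases zp3_cases h.y3 (conj_mem_of_mem_normalizer hg (mem_zpowers y)) with e | e | e
  · rw [mul_inv_eq_one, mul_eq_left] at e
    exact (h.y1 e).elim
  · exact .inr (mem_Cx'.2 e)
  · refine .inl (mem_Cx'.2 ?_)
    calc _ = g * (κ t0 * y * (κ t0)⁻¹) * g⁻¹ := by group
      _ = _ := by rw [h.yt, ← conj_inv, e, inv_inv]

theorem nY_le : normalizer (zpowers y : Set G) ≤ MB κ R y := fun _ hg =>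
  (nY h hg).elim (fun e => (Subgroup.mul_mem_cancel_right _ (M0M (m0 t0))).1 (h.cy e)) fun e => h.cy e

theorem faith {x : G} (hx : x ∈ M0 κ R) (hc : x ∈ centralizer (EE κ R : Set G)) : x = 1 ∨ x = t := by
  have key : ∀ e ∈ EE κ R, ∀ j ∈ J0, e * κ j ∈ centralizer (EE κ R : Set G) → j = 1 := fun e he j hj hc => by
    by_contra hn
    obtain ⟨i, hi⟩ := (by decide +kernel : ∀ j ∈ J0, j ≠ 1 → ∃ i, ¬ K1.Kr j i) j hj hn
    have := card_le_of_le (show Ri κ R i ≤ zpowers t from fun w hw => h.fpf' hj hi w hw (by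
      have hw' := h.Ri_le i hw
      have e1 : κ j * w * (κ j)⁻¹ = e⁻¹ * w * e := by
        calc _ = e⁻¹ * (e * κ j * w) * (κ j)⁻¹ := by group
          _ = _ := by rw [← hc w hw']; group
      rw [Cj, e1, mul_assoc e⁻¹]
      rcases h.comm_E hw' he with e2 | e2 <;> rw [e2]
      · simp
      · rw [← mul_assoc e⁻¹, ← mul_assoc e⁻¹, inv_mul_cancel, one_mul, h.rc, mul_inv_cancel_right]
        exact mem_zpowers t))
    rw [(h.q8 i).card, Nat.card_zpowers, ord_two h.rr h.r1] at this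
    omega
  obtain ⟨e, he, a, -, rfl⟩ := h.mem_sup.1 hx
  have k : ∀ b ∈ J0, a * b = b * a := fun b hb => by
    have h1 := mul_mem hc (conj_mem_of_mem_normalizer (End1.norm_cen (mM h b)) (inv_mem hc))
    have h2 := mul_mem (J0_conj a hb) (inv_mem hb)
    rw [← mul_inv_eq_iff_eq_mul, ← mul_inv_eq_one]
    refine key _ (mul_mem he (conj_mem_of_mem_normalizer (mM h (a * b * a⁻¹)) (inv_mem he))) _ h2 ?_
    convert h1 using 1
    rw [h.mul (mem_B3 (a * b * a⁻¹)) (mem_B3 _), ← h.conj (mem_B3 _) (mem_B3 _), h.inv (mem_B3 _)]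
    group
  have a1 := key e he a ((by decide +kernel : ∀ a : W3, a * e1 = e1 * a → a * e2 = e2 * a → a * e3 = e3 * a → a ∈ J0) a
    (k _ mems.1) (k _ mems.2.1) (k _ mems.2.2.1)) hc
  rw [a1, h.one, mul_one] at hc ⊢
  exact h.center_E he hc

theorem norm_F : MM κ R ≤ MB κ R y := by
  have hy : zpowers y ≤ centralizer (EE κ R : Set G) := zpowers_le.2 fun x hx => mem_Cx.1 (yF h hx)
  have c : ∀ x ∈ centralizer (EE κ R : Set G), x ∈ normalizer (zpowers y : Set G) →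
      x ∈ zpowers y ∨ ∃ v ∈ zpowers y, x = t * v := fun g hg hn => by
    obtain ⟨x, hx, v, hv, rfl⟩ := mem_MB h (nY_le h hn)
    rcases faith h hx ((Subgroup.mul_mem_cancel_right _ (hy hv)).1 hg) with rfl | rfl
    exacts [.inl (by rwa [one_mul]), .inr ⟨v, hv, rfl⟩]
  have hS : IsSylowIn 3 (zpowers y) (centralizer (EE κ R : Set G)) :=
    Rec3.sylow_of (isPGroup_zpowers_of_pow (k := 1) h.y3) hy fun x hx hn ⟨n, e⟩ => (c x hx hn).elim id fun ⟨v, hv, e1⟩ =>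
      mem_of_coprime_pow (a := 2) (b := 3 ^ n) (Nat.Coprime.pow_right _ (by norm_num)) (by
        rw [e1, pow_two, mul_assoc, ← mul_assoc v, h.rc, mul_assoc, ← mul_assoc, h.rr, one_mul]
        exact mul_mem hv hv) (e ▸ one_mem _)
  have zz : ∀ v ∈ zpowers y, ∀ x ∈ zpowers y, v * x = x * v := by
    rintro _ ⟨i, rfl⟩ _ ⟨j, rfl⟩
    exact zpow_mul_comm y i j
  have npc := npc_of_burnside hS fun n hn hn' x hx => (c n hn hn').elim (fun e => zz n e x hx) fun ⟨v, hv, e⟩ => by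
    rw [e, mul_assoc, zz v hv x hx, ← mul_assoc, ← h.rc, mul_assoc]
  have mJ := fun g => h.mem_im (g := g) (show J0 ≤ B3 from fun a _ => mem_B3 a)
  have cJ : Nat.card (img κ J0) = 27 := (h.card_im fun a _ => mem_B3 a).trans cards.1
  have : IsMulCommutative (img κ J0) := ⟨⟨fun a b => Subtype.ext (by
    obtain ⟨u, hu, e⟩ := (mJ _).1 a.2
    obtain ⟨v, hv, e'⟩ := (mJ _).1 b.2
    rw [Subgroup.coe_mul, Subgroup.coe_mul, ← e, ← e', h.comm_iff (mem_B3 _) (mem_B3 _)]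
    exact J0_comm hu hv)⟩⟩
  have nc : ¬ IsCyclic (img κ J0) := fun hc => by
    obtain ⟨g, hg⟩ := hc.exists_generator
    obtain ⟨u, hu, e⟩ := (mJ _).1 g.2
    have := orderOf_dvd_of_pow_eq_one (show g ^ 3 = 1 from Subtype.ext (by rw [Subgroup.coe_pow, ← e, h.cube hu]; rfl))
    rw [orderOf_eq_card_of_forall_mem_zpowers hg, cJ] at this
    omega
  have hO : opOf 3 (centralizer (EE κ R : Set G)) ≤ MB κ R y := by
    refine Coprime.le_of_forall_centralizer_le nc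
      (im_le.2 fun a _ => normalizer_le_normalizer_opOf _ (End1.norm_cen (mM h a))) ?_ fun a ha a1 => ?_
    · rw [cJ]; exact Nat.Coprime.symm (Nat.Coprime.pow_right 3 (coprime_card_opOf (p := 3) (G := G) _))
    · obtain ⟨u, hu, rfl⟩ := (mJ _).1 ha
      exact inf_le_right.trans ((h.uq u hu fun e => a1 (by rw [e, h.one])).cent_le (M0M (m0 u)))
  have hC := le_of_npc npc hS hO yM
  intro g hg
  obtain ⟨n, hn, e⟩ := hS.frattini (End1.norm_cen hg)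
  exact (Subgroup.mul_mem_cancel_left _ (hC hn)).1 (nY_le h e)

theorem exists_proj : ∃ ρ : M0 κ R →* W3, (∀ x, ρ x = 1 ↔ (x : G) ∈ EE κ R) ∧ ∀ a, ρ ⟨κ a, m0 a⟩ = a := by
  obtain ⟨L, _, _, f, hs, hf⟩ := exists_quo (K := M0 κ R) (Z := EE κ R) (M0_le h)
  let ψ : W3 →* L := MonoidHom.mk' (fun a => f ⟨κ a, m0 a⟩) fun a b => by
    rw [← map_mul]
    exact congrArg f (Subtype.ext (h.mul (mem_B3 a) (mem_B3 b)))
  let φ : W3 ≃* L := MulEquiv.ofBijective ψ ⟨(injective_iff_map_eq_one ψ).2 fun a e => by_contra fun hn =>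
    h.not_mem_E (mem_B3 a) hn ((hf _).1 e), fun l => by
      obtain ⟨x, rfl⟩ := hs l
      obtain ⟨e, he, a, -, l⟩ := h.mem_sup.1 x.2
      refine ⟨a, ?_⟩
      rw [← one_mul (ψ a), ← (hf ⟨e, mem_sup_left he⟩).2 he]
      exact (map_mul f _ _).symm.trans (congrArg f (Subtype.ext l.symm))⟩
  exact ⟨φ.symm.toMonoidHom.comp f, fun x => (φ.symm.map_eq_one_iff).trans (hf x), φ.symm_apply_apply⟩

variable {ρ : M0 κ R →* W3} (hf : ∀ x, ρ x = 1 ↔ (x : G) ∈ EE κ R) (hρ : ∀ a, ρ ⟨κ a, m0 a⟩ = a)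
include hf hρ

omit h [Finite G] in
theorem dec (u : M0 κ R) : (u : G) * (κ (ρ u))⁻¹ ∈ EE κ R :=
  (hf (u * ⟨κ (ρ u), m0 _⟩⁻¹)).1 (by rw [map_mul, map_inv, hρ, mul_inv_cancel])

theorem fix32 {u : M0 κ R} (hu : ρ u ∈ [Rec3.r3, w0, i0]) {W : Subgroup G} (hW : W ≤ EE κ R)
    (hc : ∀ w ∈ W, Cj (zpowers t) u w w) : Nat.card W ≤ 32 := by
  obtain ⟨a, ha, bb, e⟩ := (by decide +kernel : ∀ b ∈ [Rec3.r3, w0, i0], ∃ a ∈ [Rec3.e1, Rec3.e3], TyE a ∧
    b * b = 1 ∧ b * a * b⁻¹ = a⁻¹) _ hu |>.imp fun _ e => e.2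
  refine h.card_fix ha (mem_B3 _) bb e hW fun w hw => ?_
  have hx := dec hf hρ u
  have h1 := hc w hw
  obtain ⟨x, ex⟩ : ∃ x, x = (u : G) * (κ (ρ u))⁻¹ := ⟨_, rfl⟩
  have h2 : κ (ρ u) * w * (κ (ρ u))⁻¹ ∈ EE κ R := conj_mem_of_mem_normalizer (mM h _) (hW hw)
  rw [← ex] at hx
  rw [Cj, show (u : G) * w * (u : G)⁻¹ = x * (κ (ρ u) * w * (κ (ρ u))⁻¹) * x⁻¹ by rw [ex]; group] at h1
  rw [Cj]
  generalize κ (ρ u) * w * (κ (ρ u))⁻¹ = v at h1 h2
  rcases h.comm_E hx h2 with e | e <;> rw [e] at h1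
  · rwa [mul_inv_cancel_right] at h1
  · rwa [h.rc, mul_assoc t, mul_inv_cancel_right, mul_assoc, mul_mem_cancel_left (mem_zpowers t)] at h1

theorem norm_le : normalizer (qpre ρ S9c.T1 : Set G) ≤ MM κ R := fun g hg => by
  have hET := le_pre hf le_sup_left S9c.T1
  have hUT : cj g (EE κ R) ≤ qpre ρ S9c.T1 := cj_le_iff.2 fun x hx => conj_mem_of_mem_normalizer hg (hET hx)
  have hUM := hUT.trans (pre_le _)
  have hn : qpre ρ S9c.T1 ≤ normalizer (cj g (EE κ R) : Set G) := fun s ht => by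
    rw [← cj_normalizer, mem_cj]
    have := M0_le h (pre_le _ (conj_mem_of_mem_normalizer (inv_mem hg) ht))
    rwa [inv_inv] at this
  have hc : ∀ x ∈ cj g (EE κ R), ∀ y ∈ cj g (EE κ R), Cj (zpowers t) x y y := fun x hx y hy => by
    rw [mem_cj] at hx hy
    have e1 : x * y * x⁻¹ * y⁻¹ = g * (g⁻¹ * x * g * (g⁻¹ * y * g) * (g⁻¹ * y * g * (g⁻¹ * x * g))⁻¹) * g⁻¹ := by
      group
    rw [Cj, e1]
    rcases h.comm_E hx hy with e | e <;> rw [e]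
    · rw [mul_inv_cancel, mul_one, mul_inv_cancel]; exact one_mem _
    · rw [h.rc, mul_inv_cancel_right, h.rc, mul_inv_cancel_right]; exact mem_zpowers t
  have hI : qim ρ (cj g (EE κ R)) ≤ S9c.T1 := fun _ ⟨x, hx, e⟩ => e ▸ mem_pre.1 (hUT hx)
  by_cases hE : cj g (EE κ R) ≤ EE κ R
  · exact mem_normalizer_of_forall fun x hx => hE (conj_mem_cj.2 hx)
  exfalso
  obtain ⟨x, hx, hx'⟩ := SetLike.not_le_iff_exists.1 hE
  obtain ⟨u, hu, hd⟩ : ∃ u : M0 κ R, (u : G) ∈ cj g (EE κ R) ∧ ρ u ∈ [Rec3.r3, w0, i0] := by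
    rcases (by decide +kernel : ∀ b ∈ S9c.T1, b ≠ 1 → b ∈ [Rec3.r3, w0, i0] ∨
      ∃ c ∈ [t0, Rec3.r1], c ∈ S9c.T1 ∧ c * b * c⁻¹ * b⁻¹ ∈ [Rec3.r3, w0, i0]) _ (hI (mem_im (x := ⟨x, hUM hx⟩) hx))
      (fun e => hx' ((hf _).1 e)) with e | ⟨c, -, hc, e⟩
    · exact ⟨_, hx, e⟩
    · refine ⟨(⟨κ c, m0 c⟩ : M0 κ R) * ⟨x, hUM hx⟩ * (⟨κ c, m0 c⟩ : M0 κ R)⁻¹ * ⟨x, hUM hx⟩⁻¹, mul_mem (conj_mem_of_mem_normalizer
        (hn ((mem_pre (x := (⟨κ c, m0 c⟩ : M0 κ R))).2 (by rwa [hρ]))) hx) (inv_mem hx), ?_⟩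
      rwa [map_mul, map_mul, map_mul, map_inv, map_inv, hρ]
  have h1 := fix32 h hf hρ hd (W := EE κ R ⊓ cj g (EE κ R)) inf_le_left fun w hw => hc _ hu _ hw.2
  have h2 := card_mul_relIndex' (inf_le_right : EE κ R ⊓ cj g (EE κ R) ≤ _)
  rw [inf_relIndex_right, ← card_im hf hUM, card_cj, h.card_E] at h2
  have h3 := card_dvd_of_le hI
  have h4 : Nat.card (qim ρ (cj g (EE κ R))) ≠ 16 := fun e => by
    have e1 := eq_of_le_of_card_ge hI (S9c.card_lsub.1.trans e.symm).le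
    obtain ⟨p, hp, e2⟩ := exists_of_mem_im (e1.ge (show t0 ∈ S9c.T1 by decide +kernel))
    obtain ⟨q, hq, e3⟩ := exists_of_mem_im (e1.ge (show Rec3.r1 ∈ S9c.T1 by decide +kernel))
    have := (cj_iff hf).1 (zpowers_le.2 h.r_mem (hc _ hp _ hq))
    rw [e2, e3] at this
    exact absurd this (by decide +kernel)
  rw [S9c.card_lsub.1] at h3
  have h5 := Nat.le_of_dvd (by norm_num) h3
  generalize Nat.card (qim ρ (cj g (EE κ R))) = n at h2 h3 h4 h5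
  interval_cases n <;> omega

theorem sylow : IsSylowIn 2 (qpre ρ S9c.T1) ⊤ := by
  refine Rec3.sylow_of (((IsPGroup.of_card (n := 4) S9c.card_lsub.1).comap_of_ker_isPGroup ρ ?_).map _) le_top
    fun g _ hg _ => ?_
  · rw [show ρ.ker = (EE κ R).subgroupOf (M0 κ R) from Subgroup.ext hf]
    exact (IsPGroup.of_card h.card_E).of_equiv (subgroupOfEquivOfLe le_sup_left).symm
  have mT : ∀ b ∈ S9c.T1, κ b ∈ qpre ρ S9c.T1 := fun b hb => (mem_pre (x := ⟨κ b, m0 b⟩)).2 (by rwa [hρ])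
  have g0 := inv0 h (norm_F h (norm_le h hf hρ hg)) (a := t0) (by decide +kernel)
    (pre_le _ (conj_mem_of_mem_normalizer hg (mT _ (by decide +kernel))))
  have k : ∀ b ∈ S9c.T1, ρ ⟨g, g0⟩ * b * (ρ ⟨g, g0⟩)⁻¹ ∈ S9c.T1 := fun b hb => by
    rw [← hρ b, ← map_inv, ← map_mul, ← map_mul, ← mem_pre]
    exact conj_mem_of_mem_normalizer hg (mT b hb)
  exact (mem_pre (x := ⟨g, g0⟩)).2 ((by decide +kernel : ∀ a : W3, a * i0 * a⁻¹ ∈ S9c.T1 →
    a * t0 * a⁻¹ ∈ S9c.T1 → a ∈ S9c.T1) _ (k _ (by decide +kernel)) (k _ (by decide +kernel)))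

omit hf hρ

theorem odd_index : ¬ 2 ∣ (MB κ R y).index := fun e => by
  obtain ⟨ρ, hf, hρ⟩ := exists_proj h
  have := (sylow h hf hρ).not_dvd
  rw [relIndex_top_right] at this
  exact this (e.trans (index_dvd_of_le ((pre_le _).trans M0M)))

theorem not_res {u : W3} (hu : u ∈ [t0, t0 * i0]) : κ u ∉ pResidual 2 G := fun hO => by
  obtain ⟨ρ, hf, hρ⟩ := exists_proj h
  obtain ⟨uu, uA, d, -, dJ, d1, du⟩ := tab u hu
  have hc := tab2 u hu
  obtain ⟨s, hs, -⟩ := Yos.thompson_ext (Q := Cx y) (R := ⊥) (odd_index h) (relIndex_eq_two_iff_exists_notMem_and.2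
    ⟨κ t0, M0M (m0 _), fun e => h.y1 (eq_one_of_cop (m := 2) (by norm_num) (by
      rw [pow_two, ← eq_inv_iff_mul_eq_one, ← h.yt, mem_Cx'.1 e]) h.y3),
      fun b hb => nY h (sup_le (M0_n h) le_normalizer hb)⟩)
    (by rw [h.mul_eq (mem_B3 _) (mem_B3 _) uu, h.one]) hO IsPGroup.of_bot bot_le
  have cu : ∀ {a : W3}, a * u = u * a → κ a ∈ Cx (κ u) := fun e => mem_Cx.2 ((h.comm_iff (mem_B3 _) (mem_B3 _)).2 e)
  obtain ⟨P, hP, hD⟩ := exists_isSylowIn_ge (H := Cx (κ u)) (h.im_pgroup (K := J0 ⊓ Cx u) (fun a _ => mem_B3 a)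
    (S0_pgroup.to_le (inf_le_left.trans J0_le_S0))) (im_le.2 fun a ha => cu (mem_Cx.1 ha.2))
  have hPM : P ≤ MB κ R y := by
    by_contra hn
    obtain ⟨x, hx, h1, h2⟩ := exists_mem_normalizer_of_lt hP.pgroup (inf_lt_left.2 hn)
    exact h1 ⟨hx, h.uq d dJ d1 x (conj_mem_of_mem_normalizer h2 ⟨hD (mem_im_of ⟨dJ, mem_Cx.2 du⟩), M0M (m0 d)⟩).2⟩
  obtain ⟨k, -, hk⟩ := hP.exists_conj_mem (x := s * y * s⁻¹) (by
    simpa only [mul_assoc, mul_inv_cancel_left, mul_inv_cancel, mul_one] using (conj_mem_Cx (g := s)).2 (Cx_comm.1 hs))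
    (isPGroup_zpowers_of_pow (k := 1) (by rw [pow_one, conj_pow, h.y3]; group))
  have e : y = (k * s)⁻¹ * (k * (s * y * s⁻¹) * k⁻¹) * (k * s)⁻¹⁻¹ := by group
  generalize k * (s * y * s⁻¹) * k⁻¹ = x at hk e
  lift x to M0 κ R using inv0 h (hPM hk) uA (by rw [mem_Cx'.1 (hP.le hk)]; exact m0 u)
  have c1 : ρ x * u = u * ρ x := by
    conv_lhs => rw [← hρ u]
    conv_rhs => rw [← hρ u]
    rw [← map_mul, ← map_mul]
    exact congrArg ρ (Subtype.ext (mem_Cx.1 (hP.le hk)))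
  obtain ⟨n, hn⟩ := isPGroup_iff_mem.1 hP.pgroup _ hk
  have bJ := hc _ c1 (pow_nine (n := n) (by rw [← map_pow, show x ^ 3 ^ n = 1 from Subtype.ext hn, map_one]))
  obtain ⟨n', hn'⟩ := isPGroup_iff_mem.1 hP.pgroup _ (mul_mem hk (inv_mem (hD (mem_im_of ⟨bJ, mem_Cx.2 c1⟩))))
  have e1 := mul_inv_eq_one.1 (eq_one_of_coprime (by rw [h.card_E]; norm_num) (dec hf hρ x) hn')
  rw [e1] at e
  obtain ⟨g, hg, v, hv, e2⟩ := mem_MB h (inv_mem (h.uq _ bJ (fun e1 => h.y1 (by rw [e, e1, h.one]; group)) (k * s)⁻¹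
    (by rw [← e]; exact yM (mem_zpowers y))))
  refine y_not h ?_
  have e3 : v * y * v⁻¹ = y := mem_Cx'.1 (zpowers_le.2 (mem_Cx.2 rfl) hv)
  have e4 : y = g⁻¹ * κ (ρ x) * g := by
    calc y = v * ((k * s)⁻¹ * κ (ρ x) * (k * s)⁻¹⁻¹) * v⁻¹ := by rw [← e, e3]
      _ = _ := by rw [← inv_inv (k * s)⁻¹, ← e2]; group
  rw [e4]
  exact mul_mem (mul_mem (inv_mem hg) (m0 _)) hg

end CB1

open CB1 Transfer in
theorem CB.exists_two (h : CB κ t R y) : ∃ N : Subgroup G, N.index = 2 ∧ EE κ R ≤ N ∧ img κ Rec3C.A24 ≤ N ∧ y ∈ N ∧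
    κ t0 ∉ N := by
  have := pResidual_normal 2 G
  let q := QuotientGroup.mk' (pResidual 2 G)
  have hq : ∀ g, q g = 1 ↔ g ∈ pResidual 2 G := fun g => QuotientGroup.eq_one_iff g
  have q3 : ∀ g : G, g ^ 3 = 1 → q g = 1 := fun g e => (hq g).2 (mem_pResidual_of_coprime
    (Nat.Coprime.coprime_dvd_left (orderOf_dvd_of_pow_eq_one e) (by norm_num)))
  have m := mem_B3
  have qF : ∀ x ∈ EE κ R, q x = 1 := by
    obtain ⟨H, _, p, hp⟩ := h.ce.exists_pr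
    have hJ : e3 ∈ J0 := Jx.mems.2.2.1
    have k : ∀ x ∈ EE κ R, q x ^ 3 = 1 ∨ q x ^ 3 = q t := fun x hx => by
      have := congrArg q (rfl : x * (κ e3 * x * (κ e3)⁻¹) * (κ e3 * (κ e3 * x * (κ e3)⁻¹) * (κ e3)⁻¹) = _)
      conv_lhs at this => simp only [map_mul, map_inv, q3 _ (h.cube hJ), one_mul, inv_one, mul_one]
      rw [pow_succ, pow_two, this]
      exact (h.ce.mem_zp.1 (K1.norm3 hp (mM h e3) (h.cube hJ) (fun _ a _ b => h.p_comm hp a b)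
        (fun x hx e => h.ce.mem_zp.2 (h.fpf_e (by simp [TyE]) hx e)) hx)).imp (fun e => by rw [e, map_one]) (congrArg q)
    have k4 : ∀ x ∈ EE κ R, q x ^ 3 = 1 → q x = 1 := fun x hx =>
      KC.KE2.eq_one_of_cop (m := 4) (by norm_num) (by rw [← map_pow, h.E_four hx, map_one])
    obtain ⟨w, hw, e⟩ := h.exists_four le_rfl (by rw [h.card_E]; norm_num) (one_mem _)
    rw [one_mul] at e
    have qt : q t = 1 := by
      have : q w = 1 := (k w hw).elim (k4 w hw) fun e1 => by rwa [← e, map_mul, pow_succ, pow_two, mul_eq_left] at e1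
      rw [← e, map_mul, this, mul_one]
    exact fun x hx => k4 x hx ((k x hx).elim id fun e => e.trans qt)
  have qA : ∀ a ∈ A4, q (κ a) = 1 := fun a ha => by
    obtain ⟨s, s', e1, e2, e3⟩ := (by decide +kernel : ∀ u : W48, lin u ∈ A4 → ∃ s s' : W48, s ^ 3 = 1 ∧ s' ^ 3 = 1 ∧
      u = s * s') (pr a) ((by decide +kernel : ∀ a ∈ A4, lin (pr a) ∈ A4) a ha)
    have k : ∀ s : W48, s ^ 3 = 1 → q (κ (lin s)) = 1 := fun s e => q3 _ (by rw [← h.pow (m _), ← map_pow, e, map_one, h.one])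
    rw [← vec_lin a, e3, map_mul, h.mul (m _) (m _), h.mul (m _) (m _), map_mul, map_mul, k s e1, k s' e2,
      q3 _ (h.cube (vec_mem _)), mul_one, mul_one]
  have ii : q (κ i0) * q (κ i0) = 1 := by
    rw [← map_mul, h.mul_eq (m _) (m _) (by decide +kernel : i0 * i0 = 1), h.one, map_one]
  have mN : ∀ a ∈ Rec3C.A24, κ a ∈ (zpowers (q (κ i0))).comap q := fun a ha => by
    rw [mem_comap]
    rcases (by decide +kernel : ∀ a ∈ Rec3C.A24, a ∈ A4 ∨ a * i0⁻¹ ∈ A4) a ha with e | e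
    · rw [qA a e]; exact one_mem _
    · rw [← inv_mul_cancel_right a i0, h.mul (m _) (m _), map_mul, qA _ e, one_mul]; exact mem_zpowers _
  have m1 : ∀ g, q g = 1 → g ∈ (zpowers (q (κ i0))).comap q := fun g e => by rw [mem_comap, e]; exact one_mem _
  have hn : κ t0 ∉ (zpowers (q (κ i0))).comap q := fun e => by
    rcases (Sect.mem_zpowers_two ii).1 e with e | e
    · exact not_res h (by simp) ((hq _).1 e)
    · exact not_res h (u := t0 * i0) (by simp) ((hq _).1 (by rw [h.mul (m _) (m _), map_mul, e, ii]))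
  refine ⟨_, index_eq_two_iff_exists_notMem_and.2 ⟨_, hn, fun g => ?_⟩, fun x hx => m1 x (qF x hx), im_le.2 mN,
    m1 y (q3 y h.y3), hn⟩
  obtain ⟨o, ho, g, hg, rfl⟩ := (Coprime.mem_sup_iff_of_le_normalizer le_normalizer_of_normal).1
    ((pResidual_sup_eq_top (odd_index h)).ge (mem_top g))
  obtain ⟨x, hx, v, hv, rfl⟩ := mem_MB h hg
  obtain ⟨e, he, a, -, rfl⟩ := h.mem_sup.1 hx
  have qv : q v = 1 := by
    obtain ⟨i, rfl⟩ := hv
    rw [map_zpow, q3 y h.y3, one_zpow]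
  simp only [mem_comap, map_mul, (hq o).2 ho, qF e he, qv, one_mul, mul_one]
  by_cases ha : a ∈ Rec3C.A24
  · exact .inr (mN a ha)
  · rw [← map_mul, ← h.mul (m _) (m _)]
    exact .inl (mN _ ((by decide +kernel : ∀ a, a ∉ Rec3C.A24 → a * t0 ∈ Rec3C.A24) a ha))

end CfsgLib.Rec3E
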