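import Cfsg.Agent.Lib.Rec3E.Defs

/-! Central products of quaternion groups (plans/REC3E.md, CP). -/

set_option autoImplicit false
set_option maxRecDepth 100000
set_option maxHeartbeats 400000
set_option linter.unusedSectionVars false
set_option linter.unusedVariables false

namespace CfsgLib.Rec3E

open Subgroup Cfsg CfsgLib.Tech CfsgLib.PComp CfsgLib.W2 CfsgLib.Rec3 CfsgLib.Rec3B CfsgLib.Rec3B.W4
open CfsgLib.U43 (SL)

variable {G : Type*} [Group G] [Finite G]

namespace CPx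

section
variable {t x y : G} {R : Subgroup G} (q : Q8 t R)
include q

theorem mem_zp : x ∈ zpowers t ↔ x = 1 ∨ x = t := ExtraTwo.mem_zpowers_iff_of_mul_self q.rr

theorem ct (hx : x ∈ R) : x * t = t * x := by
  rcases q.sq x hx with e | e | e
  · rw [e, mul_one, one_mul]
  · rw [e]
  · rw [← e, mul_assoc]

theorem zc (hx : x ∈ R) (hy : y ∈ zpowers t) : x * y = y * x := by
  rcases (mem_zp q).1 hy with e | e
  · rw [e, mul_one, one_mul]
  · rw [e, ct q hx]

theorem sq_mem (hx : x ∈ R) : x * x ∈ zpowers t := by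
  rcases q.sq x hx with e | e | e
  · rw [e, mul_one]; exact one_mem _
  · rw [e, q.rr]; exact one_mem _
  · rw [e]; exact mem_zpowers t

theorem cmt (hx : x ∈ R) (hy : y ∈ R) : x * y * (y * x)⁻¹ ∈ zpowers t := by
  have h1 := sq_mem q (mul_mem hx hy)
  have h2 := inv_mem (sq_mem q hx)
  have h3 := inv_mem (sq_mem q hy)
  have e : x * y * (y * x)⁻¹ = x * y * (x * y) * ((y⁻¹ * (x * x)⁻¹ * y) * (y * y)⁻¹) := by group
  rw [e, zc q (inv_mem hy) h2, inv_mul_cancel_right]
  exact mul_mem h1 (mul_mem h2 h3)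

theorem cen (hx : x ∈ R) (e : ∀ y ∈ R, y * x = x * y) : x ∈ zpowers t := by
  by_contra hn
  have xx : x * x = t := ((q.sq x hx).resolve_left fun k => hn (k ▸ one_mem _)).resolve_left
    fun k => hn (k ▸ mem_zpowers _)
  have ht : t ∈ zpowers x := xx ▸ mul_mem (mem_zpowers x) (mem_zpowers x)
  have h1 : R ≤ zpowers x := fun y hy => by
    rcases q.sq y hy with k | k | k
    · exact k ▸ one_mem _
    · exact k ▸ ht
    · have hc : ∀ {w}, w ∈ zpowers x → x * y = w → y ∈ zpowers x := fun hw k => by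
        rw [eq_inv_mul_iff_mul_eq.2 k]; exact mul_mem (inv_mem (mem_zpowers x)) hw
      rcases q.sq _ (mul_mem hx hy) with k' | k' | k'
      · exact hc (one_mem _) k'
      · exact hc ht k'
      · refine absurd ?_ q.r1
        rw [← k', mul_assoc, ← mul_assoc y, e y hy, mul_assoc, k, ← mul_assoc, xx, q.rr]
  have h2 := card_le_of_le h1
  have h3 : orderOf x ≤ 4 := orderOf_le_of_pow_eq_one (by decide)
    (by rw [show x ^ 4 = x * x * (x * x) by simp only [pow_succ, pow_zero, one_mul, mul_assoc], xx, q.rr])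
  rw [q.card, Nat.card_zpowers] at h2
  omega

theorem card_step {X : Subgroup G} (hr : t ∈ X) (hX : X ≤ centralizer (R : Set G)) :
    Nat.card (X ⊔ R : Subgroup G) = Nat.card X * 4 := by
  have e := Coprime.card_sup_mul_card_inf ((le_centralizer_iff.1 hX).trans (centralizer_le_normalizer _))
  have e1 : X ⊓ R = zpowers t := le_antisymm
    (fun x hx => cen q hx.2 (mem_centralizer_iff.1 (hX hx.1))) (zpowers_le.2 (mem_inf.2 ⟨hr, q.mem⟩))
  rw [e1, Nat.card_zpowers, ord_two q.rr q.r1, q.card] at e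
  omega

end

theorem prod_mul : ∀ {n : ℕ} {y y' : Fin n → G}, (∀ i j, i ≠ j → Commute (y i) (y' j)) →
    (List.ofFn y).prod * (List.ofFn y').prod = (List.ofFn fun i => y i * y' i).prod
  | 0, _, _, _ => by simp
  | n + 1, y, y', h => by
    have c : Commute (List.ofFn fun i : Fin n => y i.succ).prod (y' 0) :=
      mem_Cx.1 (NBx.prod_mem fun i => mem_Cx.2 (h _ _ (Fin.succ_ne_zero i)))
    rw [List.ofFn_succ, List.ofFn_succ, List.ofFn_succ, List.prod_cons, List.prod_cons, List.prod_cons,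
      c.mul_mul_mul_comm, prod_mul fun i j e => h _ _ fun k => e (Fin.succ_injective _ k)]

theorem prod_conj (g : G) : ∀ {n : ℕ} (y : Fin n → G),
    g * (List.ofFn y).prod * g⁻¹ = (List.ofFn fun i => g * y i * g⁻¹).prod
  | 0, _ => by simp
  | n + 1, y => by
    rw [List.ofFn_succ, List.ofFn_succ, List.prod_cons, List.prod_cons, ← conj_mul, prod_conj g]

theorem card_aux {t : G} : ∀ {n : ℕ} {R : Fin (n + 1) → Subgroup G}, CPr t R →
    Nat.card (⨆ i, R i : Subgroup G) = 2 ^ (2 * (n + 1) + 1)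
  | 0, R, h => by
    rw [show (⨆ i, R i) = R 0 from le_antisymm (iSup_le fun i => by rw [Fin.fin_one_eq_zero i]) (le_iSup R 0),
      (h.q8 0).card]
    rfl
  | n + 1, R, h => by
    have h' : CPr t fun i : Fin (n + 1) => R i.succ :=
      ⟨fun i => h.q8 _, fun i j e => h.cm _ _ fun k => e (Fin.succ_injective _ k)⟩
    have e : (⨆ i, R i) = (⨆ i : Fin (n + 1), R i.succ) ⊔ R 0 := le_antisymm
      (iSup_le fun i => by
        rcases Fin.eq_zero_or_eq_succ i with rfl | ⟨j, rfl⟩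
        · exact le_sup_right
        · exact le_sup_of_le_left (le_iSup (fun i : Fin (n + 1) => R i.succ) j))
      (sup_le (iSup_le fun i => le_iSup R _) (le_iSup R 0))
    rw [e, card_step (h.q8 0) (le_iSup (fun i : Fin (n + 1) => R i.succ) 0 (h.q8 _).mem)
      (iSup_le fun i x hx => mem_centralizer_iff.2 fun y hy => h.cm _ _ (Fin.succ_ne_zero i).symm y hy x hx),
      card_aux h']
    ring

variable {n : ℕ} {t : G} {R : Fin (n + 1) → Subgroup G} (h : CPr t R) {y y' : Fin (n + 1) → G}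
include h

theorem mulP (hy : ∀ i, y i ∈ R i) (hy' : ∀ i, y' i ∈ R i) :
    (List.ofFn y).prod * (List.ofFn y').prod = (List.ofFn fun i => y i * y' i).prod :=
  prod_mul fun i j e => h.cm i j e _ (hy i) _ (hy' j)

theorem invP (hy : ∀ i, y i ∈ R i) : (List.ofFn y).prod⁻¹ = (List.ofFn fun i => (y i)⁻¹).prod :=
  inv_eq_of_mul_eq_one_right (by
    rw [mulP h hy fun i => inv_mem (hy i)]
    exact mem_bot.1 (NBx.prod_mem fun i => mem_bot.2 (mul_inv_cancel _)))

theorem coord (hy : ∀ i, y i ∈ R i) {i : Fin (n + 1)} (e : ∀ w ∈ R i, (List.ofFn y).prod ∈ Cx w) :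
    y i ∈ zpowers t := by
  refine cen (h.q8 i) (hy i) fun w hw => ?_
  obtain ⟨u, hu, v, hv, k⟩ := NBx.prod_split (K := Cx w) y i fun j k => mem_Cx.2 (h.cm j i k _ (hy j) w hw)
  have := mul_mem (mul_mem (inv_mem hu) (k ▸ e w hw)) (inv_mem hv)
  rw [show u⁻¹ * (u * y i * v) * v⁻¹ = y i by group] at this
  exact (mem_Cx.1 this).symm

theorem coord' (hy : ∀ i, y i ∈ R i) (e : (List.ofFn y).prod ∈ zpowers t) (i : Fin (n + 1)) :
    y i ∈ zpowers t := coord h hy fun _ hw => mem_Cx.2 (zc (h.q8 i) hw e).symm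

end CPx

open CPx

namespace CPr

variable {n : ℕ} {t : G} {R : Fin (n + 1) → Subgroup G} (h : CPr t R)
include h

theorem mem {g : G} : g ∈ ⨆ i, R i ↔ ∃ y : Fin (n + 1) → G, (∀ i, y i ∈ R i) ∧ g = (List.ofFn y).prod := by
  refine ⟨fun hx => ?_, fun ⟨y, hy, e⟩ => e ▸ NBx.prod_mem fun i => le_iSup R i (hy i)⟩
  let M : Subgroup G :=
    { carrier := {x | ∃ y : Fin (n + 1) → G, (∀ i, y i ∈ R i) ∧ x = (List.ofFn y).prod}
      one_mem' := ⟨fun _ => 1, fun _ => one_mem _, (mem_bot.1 (NBx.prod_mem fun _ => one_mem _)).symm⟩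
      mul_mem' := by
        rintro _ _ ⟨y, hy, rfl⟩ ⟨y', hy', rfl⟩
        exact ⟨_, fun i => mul_mem (hy i) (hy' i), mulP h hy hy'⟩
      inv_mem' := by
        rintro _ ⟨y, hy, rfl⟩
        exact ⟨_, fun i => inv_mem (hy i), invP h hy⟩ }
  refine (iSup_le fun i x hx => ?_ : (⨆ i, R i) ≤ M) hx
  refine ⟨Pi.mulSingle i x, fun j => ?_, ?_⟩
  · by_cases e : j = i
    · rw [e, Pi.mulSingle_eq_same]; exact hx
    · rw [Pi.mulSingle_eq_of_ne e]; exact one_mem _
  · obtain ⟨u, hu, v, hv, k⟩ := NBx.prod_split (K := ⊥) (Pi.mulSingle i x : Fin (n + 1) → G) i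
      fun j e => by rw [Pi.mulSingle_eq_of_ne e]; exact one_mem _
    rw [k, mem_bot.1 hu, mem_bot.1 hv, Pi.mulSingle_eq_same, one_mul, mul_one]

theorem card : Nat.card (⨆ i, R i : Subgroup G) = 2 ^ (2 * (n + 1) + 1) := card_aux h

theorem es : ExtraTwo.ES (⨆ i, R i) t := by
  have q := h.q8 0
  have hc : ∀ x ∈ ⨆ i, R i, (∀ w ∈ ⨆ i, R i, w * x = x * w) → x ∈ zpowers t := fun x hx e => by
    obtain ⟨y, hy, rfl⟩ := h.mem.1 hx
    exact NBx.prod_mem fun i => coord h hy fun w hw => mem_Cx.2 (e w (le_iSup R i hw)).symm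
  refine ⟨q.r1, q.rr, le_iSup R 0 q.mem,
    fun x hx => mem_Cx.1 ((iSup_le fun i w hw => mem_Cx.2 (ct (h.q8 i) hw) : (⨆ i, R i) ≤ Cx t) hx),
    fun x hx e => (mem_zp q).1 (hc x hx e), fun x hx y hy => ?_, ?_⟩
  · obtain ⟨u, hu, rfl⟩ := h.mem.1 hx
    obtain ⟨v, hv, rfl⟩ := h.mem.1 hy
    have : (List.ofFn u).prod * (List.ofFn v).prod * ((List.ofFn v).prod * (List.ofFn u).prod)⁻¹ ∈ zpowers t := by
      rw [mulP h hu hv, mulP h hv hu, invP h fun i => mul_mem (hv i) (hu i),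
        mulP h (fun i => mul_mem (hu i) (hv i)) fun i => inv_mem (mul_mem (hv i) (hu i))]
      exact NBx.prod_mem fun i => cmt (h.q8 i) (hu i) (hv i)
    exact ((mem_zp q).1 this).imp mul_inv_eq_one.1 mul_inv_eq_iff_eq_mul.1
  · by_contra! k
    have := card_le_of_le (show R 0 ≤ zpowers t from fun x hx =>
      hc x (le_iSup R 0 hx) fun y hy => k y hy x (le_iSup R 0 hx))
    rw [q.card, Nat.card_zpowers, ord_two q.rr q.r1] at this
    omega

theorem sq {g : G} (hg : g ∈ ⨆ i, R i) : g * g = 1 ∨ g * g = t := by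
  obtain ⟨y, hy, rfl⟩ := h.mem.1 hg
  rw [mulP h hy hy]
  exact (mem_zp (h.q8 0)).1 (NBx.prod_mem fun i => sq_mem (h.q8 i) (hy i))

theorem fix {d : G} (hd : d ∈ Cx t) (hn : ∀ i, d ∈ normalizer (R i : Set G)) {y : Fin (n + 1) → G}
    (hy : ∀ i, y i ∈ R i) (e : Cj (zpowers t) d (List.ofFn y).prod (List.ofFn y).prod) (i : Fin (n + 1)) :
    Cj (zpowers t) d (y i) (y i) := by
  have h1 : ∀ i, d * y i * d⁻¹ ∈ R i := fun i => conj_mem_of_mem_normalizer (hn i) (hy i)
  rw [Cj, prod_conj, invP h hy, mulP h h1 fun i => inv_mem (hy i)] at e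
  exact coord' h (fun i => mul_mem (h1 i) (inv_mem (hy i))) e i

end CPr

end CfsgLib.Rec3E
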