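import Cfsg.Agent.Lib.Rec3B.U6
import Cfsg.Agent.Lib.Rec3B.NB
import Cfsg.Agent.Lib.Rec3C.Defs

/-! Centralisers of shape `3^{1+6} . (Q₈ × Q₈ × Q₈) . X` (plans/REC3E.md). -/

set_option autoImplicit false
set_option maxRecDepth 100000
set_option maxHeartbeats 400000

namespace CfsgLib.Rec3E

open Subgroup Cfsg CfsgLib.Tech CfsgLib.PComp CfsgLib.W2 CfsgLib.Rec3 CfsgLib.Rec3B CfsgLib.Rec3B.W4
open CfsgLib.U43 (SL)

variable {G : Type*} [Group G]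

/-- three factors, `C(z) / Q ≥ Q₈ × Q₈ × Q₈` -/
structure EH (z : G) (Q : Subgroup G) (Qi : Fin 3 → Subgroup G) (r : Fin 3 → G) (π : Fin 3 → G → SL)
    (τ : G → Equiv.Perm (Fin 3)) : Prop extends NH z Q Qi r π τ where
  full : ∀ α : Fin 3 → SL, (∀ i, α i ^ 4 = 1) → ∃ g ∈ Cx z, τ g = 1 ∧ ∀ i, π i g = α i

/-- `⟨z⟩` is not weakly closed in `C(z)` -/
def NW (z : G) : Prop := ∃ g, g * z * g⁻¹ ∈ Cx z ∧ g * z * g⁻¹ ∉ zpowers z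

/-- no element of `C(z)` interchanges two factors -/
def NoSw (z : G) (τ : G → Equiv.Perm (Fin 3)) : Prop := ∀ g ∈ Cx z, τ g ^ 3 = 1

/-- the kernel of `τ` has order at most three modulo `Q . Q₈³` -/
def Sm (z : G) (π : Fin 3 → G → SL) (τ : G → Equiv.Perm (Fin 3)) : Prop :=
  ∀ g ∈ Cx z, τ g = 1 → π 0 g ^ 4 = 1 → ∀ i, π i g ^ 4 = 1

/-- `u` centralises none of the factors -/
def Full (Qi : Fin 3 → Subgroup G) (u : G) : Prop := ∀ i, ¬ Qi i ≤ Cx u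

/-- `A = ⟨a 0, a 1, a 2, z⟩` -/
def AE (z : G) (a : Fin 3 → G) : Subgroup G := closure {a 0, a 1, a 2, z}

/-- `J = C(A)` -/
def JE (z : G) (a : Fin 3 → G) : Subgroup G := Cx z ⊓ ⨅ i, Cx (a i)

theorem mem_JE {z g : G} {a : Fin 3 → G} : g ∈ JE z a ↔ g ∈ Cx z ∧ ∀ i, g ∈ Cx (a i) := by
  rw [JE, mem_inf, mem_iInf]

/-- the normaliser of `J` -/
abbrev NE (z : G) (a : Fin 3 → G) : Subgroup G := normalizer (JE z a : Set G)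

/-- the quaternion group with centre `⟨t⟩`, `t = r i` -/
def RE (z : G) (Q : Subgroup G) (t : G) : Subgroup G :=
  closure {g | g ∈ Cx z ∧ g ∈ Cx t ∧ Q ⊓ Cx t ≤ Cx g ∧ g ^ 4 = 1}

/-- the elements found when a conjugate of `z` lies in `Q` -/
structure ET (z : G) (Q : Subgroup G) (Qi : Fin 3 → Subgroup G) (r : Fin 3 → G) (π : Fin 3 → G → SL)
    (τ : G → Equiv.Perm (Fin 3)) (a : Fin 3 → G) (x σ : G) : Prop extends EH z Q Qi r π τ where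
  aQ : ∀ i, a i ∈ Qi i
  an : ∀ i, a i ∉ zpowers z
  ra : ∀ i, r i * a i * (r i)⁻¹ = (a i)⁻¹
  xJ : x ∈ JE z a
  xr : ∀ i, x ∈ Cx (r i)
  πx : ∀ i, π i x ≠ 1
  σz : σ ∈ Cx z
  σρ : σ ∈ Cx (rho r)
  τσ : ∀ i, τ σ i = i + 1
  σa : ∀ i, σ * a i * σ⁻¹ = a (i + 1)
  σx : σ * x * σ⁻¹ * x⁻¹ ∈ zpowers z
  Jc : ∀ u ∈ JE z a, ∀ v ∈ JE z a, u * v = v * u
  J3 : ∀ u ∈ JE z a, u ^ 3 = 1
  zc3 : ∃ (g : G) (m : ℕ), g * z * g⁻¹ = a 0 * a 1 * a 2 * z ^ m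
  xz : ∃ g, g * z * g⁻¹ * x⁻¹ ∈ AE z a ∨ g * z * g⁻¹ * x ∈ AE z a
  nD : ∀ g ∈ Cx z, τ g = 1 → ∀ i, (∀ j, j ≠ i → π j g = 1) → π i g ^ 4 = 1

/-- the full `3`-local data -/
structure EX (z : G) (Q : Subgroup G) (Qi : Fin 3 → Subgroup G) (r : Fin 3 → G) (π : Fin 3 → G → SL)
    (τ : G → Equiv.Perm (Fin 3)) (a b : Fin 3 → G) (x σ : G) : Prop extends ET z Q Qi r π τ a x σ where
  rel : ∀ i j, i ≠ j → Rel z (a i) (b i) (a j) (b j) x (r i) (r j)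
  gen : ∀ i, closure {a i, b i} = Qi i
  xz' : ∃ g, g * z * g⁻¹ = x ∨ g * z * g⁻¹ = x⁻¹
  wc : ∀ g, g * z * g⁻¹ ∈ Q → g * z * g⁻¹ ∉ zpowers z → Full Qi (g * z * g⁻¹)
  sym : ∀ g, g * z * g⁻¹ ∈ Q → g⁻¹ * z * g ∈ Q
  syl : IsSylowIn 3 (Q ⊔ JE z a ⊔ zpowers σ) ⊤
  uq : ∀ B ≤ Q ⊔ JE z a ⊔ zpowers σ, (∀ u ∈ B, ∀ v ∈ B, u * v = v * u) → Nat.card (JE z a) ≤ Nat.card B → B ≤ JE z a
  ctl : ∀ u ∈ JE z a, ∀ g, g * u * g⁻¹ ∈ JE z a → ∃ n ∈ NE z a, n * u * n⁻¹ = g * u * g⁻¹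

/-- the model `W4` is embedded in `C(a i, r i)` -/
structure EP (z : G) (Q : Subgroup G) (Qi : Fin 3 → Subgroup G) (r : Fin 3 → G) (π : Fin 3 → G → SL)
    (τ : G → Equiv.Perm (Fin 3)) (a b : Fin 3 → G) (x σ : G) (i j k : Fin 3) (φ : W4 →* G) : Prop
    extends EX z Q Qi r π τ a b x σ where
  ij : i ≠ j
  ik : i ≠ k
  jk : j ≠ k
  inj : Function.Injective φ
  ez : φ gz = z
  ea : φ ga = a j
  eb : φ gb = b j
  ec : φ gc = a k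
  ed : φ gd = b k
  ex : φ gx = x
  er : φ gr = r j
  es : φ gs = r k

theorem EX.exists_EP {z : G} {Q : Subgroup G} {Qi : Fin 3 → Subgroup G} {r : Fin 3 → G} {π : Fin 3 → G → SL}
    {τ : G → Equiv.Perm (Fin 3)} {a b : Fin 3 → G} {x σ : G} (h : EX z Q Qi r π τ a b x σ) {i j k : Fin 3}
    (ij : i ≠ j) (ik : i ≠ k) (jk : j ≠ k) : ∃ φ, EP z Q Qi r π τ a b x σ i j k φ := by
  obtain ⟨φ, h1, h2, h3, h4, h5, h6, h7, h8, h9⟩ := (h.rel j k jk).exists_phi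
  exact ⟨φ, h, ij, ik, jk, h1, h2, h3, h4, h5, h6, h7, h8, h9⟩

/-- `K₀ = C(a, t)`, for `a = a i`, `t = r i` -/
def K0 (a t : G) : Subgroup G := Cx a ⊓ Cx t

/-- the normal closure of `z` in `K₀` -/
def L0 (z a t : G) : Subgroup G := closure {w | ∃ g ∈ K0 a t, w = g * z * g⁻¹}

/-- the ten singular points of `JJ` -/
noncomputable def w10 : Fin 10 → W4 := ![gz, gx, gx * ga * gz⁻¹, gx * ga⁻¹ * gz⁻¹, gx * gc * gz⁻¹, gx * gc⁻¹ * gz⁻¹,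
  gx * ga * gc * gz, gx * ga * gc⁻¹ * gz, gx * ga⁻¹ * gc * gz, gx * ga⁻¹ * gc⁻¹ * gz]

theorem w10_om : ∀ s, Om (w10 s) := by decide +kernel

theorem om_w10 : ∀ u, Om u → ∃ s, u = w10 s ∨ u = (w10 s)⁻¹ := by decide +kernel

theorem w10_inj : ∀ s t, w10 s = w10 t ∨ w10 s = (w10 t)⁻¹ → s = t := by decide +kernel

/-- the quaternion group that belongs to the singular vector `u` -/
def RW (φ : W4 →* G) (t : G) (u : W4) : Subgroup G :=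
  closure {g | g ∈ Cx t ∧ (∀ v ∈ JJ, Perp u v → g ∈ Cx (φ v)) ∧ g ^ 4 = 1}

/-- the group `2^{1+20}` -/
noncomputable def E6 (φ : W4 →* G) (t : G) : Subgroup G := ⨆ s, RW φ t (w10 s)

/-- the part of `E6` centralised by `φ v` -/
noncomputable def EV (φ : W4 →* G) (t : G) (v : W4) : Subgroup G := ⨆ (s) (_ : Perp (w10 s) v), RW φ t (w10 s)

/-- `M = E K₀` -/
noncomputable def M6 (φ : W4 →* G) (a t : G) : Subgroup G := E6 φ t ⊔ K0 a t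

/-- commuting quaternion groups with the same centre -/
structure CPr {n : ℕ} (t : G) (R : Fin (n + 1) → Subgroup G) : Prop where
  q8 : ∀ i, Q8 t (R i)
  cm : ∀ i j, i ≠ j → ∀ x ∈ R i, ∀ y ∈ R j, x * y = y * x

/-- `Rec3C.KC1` without the fields on normalisers and centralisers -/
structure KC0 (A : Subgroup W3) (ι : W3 → G) (t : G) (R : Subgroup G) : Prop extends Emb A ι, Q8 t R where
  hA : A4 ≤ A
  rc : ∀ g, g * t = t * g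
  nR : normalizer (zpowers (ι z0) : Set G) ≤ normalizer (R : Set G)
  RQ : ∀ y ∈ R, ∀ a ∈ Q0, ι a * y = y * ι a
  Re : ∀ y ∈ R, ι e3 * y = y * ι e3 → y = 1 ∨ y = t
  comm : ∀ x ∈ R, ∀ y ∈ R, x * (ι w0 * y * (ι w0)⁻¹) = ι w0 * y * (ι w0)⁻¹ * x

/-- `2^{1+8} . (3 × 3³ : 2³ : 3) . 2` -/
noncomputable def MB (κ : W3 → G) (R : Subgroup G) (y : G) : Subgroup G := EE κ R ⊔ img κ B3 ⊔ zpowers y

/-- the local data in `C(b, r) / ⟨b⟩` for `²E₆(2) . S₃` -/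
structure CB (κ : W3 → G) (t : G) (R : Subgroup G) (y : G) : Prop extends KC0 B3 κ t R where
  y3 : y ^ 3 = 1
  y1 : y ≠ 1
  yA : ∀ a ∈ Rec3C.A24, κ a ∈ Cx y
  yR : R ≤ Cx y
  yt : κ t0 * y * (κ t0)⁻¹ = y⁻¹
  norm : ∀ g ∈ normalizer (img κ J0 : Set G), ∃ (a : W3) (m : ℕ), g = κ a * y ^ m ∨ g = κ a * y ^ m * t
  uq : ∀ w ∈ J0, w ≠ 1 → Uq (MB κ R y) (κ w)
  cy : Cx y ≤ MB κ R y

/-- `E62.Ov` for index dividing six -/
structure Ov6 {L X : Type*} [Group L] [Group X] (ι : L →* X) : Prop where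
  inj : Function.Injective ι
  nrm : ι.range.Normal
  two : ∀ B : Subgroup X, IsPGroup 2 B → ∀ a ∈ B, ∀ b ∈ B, a ∉ ι.range → b ∉ ι.range → a * b ∈ ι.range
  cen : ∀ a : X, (∀ l, Commute a (ι l)) → a * a = 1 → a = 1

end CfsgLib.Rec3E
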