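import Cfsg.Agent.Lib.Rec3E.Defs
import Cfsg.Agent.Lib.Rec3B.UL1
import Cfsg.Agent.Lib.Rec3B.F1

/-! The hypothesis of the theorem gives `EH` (plans/REC3E.md, E1). -/

set_option autoImplicit false
set_option maxRecDepth 100000
set_option maxHeartbeats 400000
set_option linter.unusedSectionVars false
set_option linter.unusedVariables false
set_option synthInstance.maxSize 2048

namespace CfsgLib.Rec3E

open Subgroup Cfsg CfsgLib.Tech CfsgLib.PComp CfsgLib.W2 CfsgLib.Rec3 CfsgLib.Rec3B CfsgLib.Rec3B.W4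
open CfsgLib.U43 (SL)

variable {G : Type*} [Group G] [Finite G]

namespace E1x

open CfsgLib.Sect Es NBx

variable {z t g : G} {P Q K : Subgroup G}

theorem odd729 (h : Hz P z) (hc : Nat.card P = 729) : ∃ p ∈ P, p ∉ zpowers z ∧ P ≤ Cx p := by
  obtain ⟨a, ha, ha'⟩ := exists_notMem (K := zpowers z) (H := P) (by rw [cardZ h.z1 h.z3]; omega)
  by_cases h1 : P ≤ Cx a
  · exact ⟨a, ha, ha', h1⟩
  have c1 := h.card3 ha h1
  obtain ⟨b, hb, hb'⟩ := SetLike.not_le_iff_exists.1 h1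
  have c2 := card_three h.z1 h.z3 (h.cent ha).two (fun y hy => h.cmt b hb y hy.1)
    fun k => hb' (Cx_comm.1 (k ⟨ha, mem_Cx.2 rfl⟩))
  have h2 : Hz (P ⊓ Cx a ⊓ Cx b) z := (h.cent ha).sub inf_le_left ⟨h.zmem ha, (h.zmem hb).2⟩
  obtain ⟨p, hp, hp', hc⟩ := h2.odd_dim (Or.inr (by omega))
  refine ⟨p, hp.1.1, hp', max3 (max3 hc inf_le_left c2 (Cx_comm.1 hp.1.2)
    ⟨ha, mem_Cx.2 rfl⟩ fun k => hb' (Cx_comm.1 k.2)) inf_le_left c1 (Cx_comm.1 hp.2) hb
    fun k => hb' k.2⟩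

theorem cases7 (h : Ez P z) (h7 : Nat.card P ∣ 3 ^ 7) :
    Nat.card P = 3 ∨ Nat.card P = 27 ∨ Nat.card P = 243 ∨ Nat.card P = 2187 := by
  have h1 := card_le_of_le h.ZP
  rw [cardZ h.z1 h.z3] at h1
  have h2 : ¬ (Nat.card P = 9 ∨ Nat.card P = 81) := fun k =>
    let ⟨p, hp, hp', hc⟩ := h.odd_dim k
    hp' (h.cen p hp fun y hy => mem_Cx.1 (hc hy))
  have h3 : Nat.card P ≠ 729 := fun k =>
    let ⟨p, hp, hp', hc⟩ := odd729 h.toHz k
    hp' (h.cen p hp fun y hy => mem_Cx.1 (hc hy))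
  obtain ⟨i, hi, e⟩ := (Nat.dvd_prime_pow Nat.prime_three).1 h7
  rw [e] at h1 h2 h3 ⊢
  interval_cases i <;> simp_all

theorem cube (h : Ez P z) {q : G} (hq : q ∈ P) : q ^ 3 ∈ zpowers z :=
  h.cen _ (pow_mem hq 3) fun y hy => F1x.cube_cj h.z3 (h.zc hq) (h.cmt q hq y hy)

theorem card_pn (h : Ez P z) (tN : t ∈ normalizer (P : Set G)) (tz : t ∈ Cx z)
    (tt : t * t ∈ centralizer (P : Set G)) :
    Nat.card (P ⊓ Cx t : Subgroup G) * Nat.card (neg P z t) = 3 * Nat.card P := by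
  refine le_antisymm ?_ (h.card_le tN tz tt)
  refine (card_mul_le (inf_le_left : P ⊓ Cx t ≤ P) h.neg_le).trans (Nat.mul_le_mul_right _ ?_)
  rw [← cardZ h.z1 h.z3]
  refine card_le_of_le fun q hq => ?_
  have h1 := (h.mem_neg.1 hq.1).2
  rw [← mem_Cx.1 hq.2.2, mul_inv_cancel_right] at h1
  simpa [pow_three, mul_assoc] using mul_mem (cube h hq.2.1) (inv_mem h1)

theorem neg_congr (E : Ez Q z) {s : G} (sN : s ∈ normalizer (Q : Set G)) (e : t * s⁻¹ ∈ Q) :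
    neg Q z t = neg Q z s := by
  ext q
  rw [E.mem_neg, E.mem_neg]
  refine and_congr_right fun hq => ?_
  have := E.cmt _ e _ (conj_mem_of_mem_normalizer sN hq)
  rw [show t * q * t⁻¹ * q = t * s⁻¹ * (s * q * s⁻¹) * (t * s⁻¹)⁻¹ * (s * q * s⁻¹)⁻¹ * (s * q * s⁻¹ * q) by group,
    mul_mem_cancel_left this]

theorem neg_cj (E : Ez Q z) (gN : g ∈ normalizer (Q : Set G)) (gz : g ∈ Cx z) :
    cj g (neg Q z t) = neg Q z (g * t * g⁻¹) := by
  refine eq_of_le_of_card_ge (cj_le_iff.2 fun q hq => ?_) ?_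
  · obtain ⟨h1, h2⟩ := E.mem_neg.1 hq
    refine E.mem_neg.2 ⟨conj_mem_of_mem_normalizer gN h1, ?_⟩
    rw [← zcj h2 gz] at h2
    convert h2 using 1
    group
  · rw [card_cj, ← card_cj g⁻¹]
    refine card_le_of_le (cj_le_iff.2 fun q hq => ?_)
    obtain ⟨h1, h2⟩ := E.mem_neg.1 hq
    refine E.mem_neg.2 ⟨conj_mem_of_mem_normalizer (inv_mem gN) h1, ?_⟩
    rw [← zcj h2 (inv_mem gz)] at h2
    convert h2 using 1
    group

/-- the elementary abelian group of order eight -/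
abbrev V8 : Type := Multiplicative (ZMod 2 × ZMod 2 × ZMod 2)

/-- a basis -/
def Bas (e a b : V8) : Prop :=
  ∀ v, v = 1 ∨ v = e ∨ v = a ∨ v = b ∨ v = e * a ∨ v = e * b ∨ v = a * b ∨ v = e * (a * b)

instance (e a b : V8) : Decidable (Bas e a b) := by unfold Bas; infer_instance

theorem vv : ∀ v : V8, v * v = 1 := by decide

theorem ex_bas : ∀ e : V8, e ≠ 1 → ∃ a b, Bas e a b := by decide +kernel

theorem bas_ne : ∀ e a b : V8, Bas e a b → ∀ u ∈ [a, b, a * b], u ≠ 1 ∧ u * e ≠ 1 := by decide +kernel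

theorem bas_ex : ∀ e a b : V8, Bas e a b → ∀ u ∈ [a, b, a * b], ∃ c, Bas e c u := by decide +kernel

theorem bas_adj : ∀ e a u : V8, Bas e a u → ∀ x ∈ [a, a * e], ∀ y ∈ [a * u, a * u * e], Bas e x y := by
  decide +kernel

/-- `t` inverts `K` modulo `z` -/
def Inv (z t : G) (K : Subgroup G) : Prop := ∀ q ∈ K, t * q * t⁻¹ * q ∈ zpowers z

theorem Inv.mul {u : G} (h : Inv z t K) (hu : K ≤ Cx u) : Inv z (t * u) K := fun q hq => by
  have := h q hq
  rwa [show t * u * q * (t * u)⁻¹ = t * (u * q * u⁻¹) * t⁻¹ by group, ← mem_Cx.1 (hu hq), mul_inv_cancel_right]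

/-- a faithful action of `V8` -/
structure Act (z : G) (Q : Subgroup G) (s : V8 →* G) : Prop where
  ez : Ez Q z
  card : Nat.card Q = 3 ^ 7
  sN : ∀ v, s v ∈ normalizer (Q : Set G)
  sz : ∀ v, s v ∈ Cx z
  sf : ∀ v, Q ≤ Cx (s v) → v = 1

namespace Act

variable {s : V8 →* G} (h : Act z Q s)
include h

omit h in
theorem sq (v : V8) (K : Subgroup G) : s v * s v ∈ centralizer (K : Set G) := by
  rw [← map_mul, vv, map_one]; exact one_mem _

omit h in
theorem cm (v w : V8) : s v * s w = s w * s v := by rw [← map_mul, mul_comm, map_mul]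

theorem npos (hK : ∀ w, s w ∈ normalizer (K : Set G)) (v w : V8) :
    s w ∈ normalizer ((K ⊓ Cx (s v) : Subgroup G) : Set G) :=
  mem_normalizer_of_forall fun _ hp => ⟨conj_mem_of_mem_normalizer (hK w) hp.1,
    (Cx _).mul_mem ((Cx _).mul_mem (mem_Cx.2 (cm w v)) hp.2) ((Cx _).inv_mem (mem_Cx.2 (cm w v)))⟩

theorem nneg (E : Ez K z) (hK : ∀ w, s w ∈ normalizer (K : Set G)) (v w : V8) :
    s w ∈ normalizer ((neg K z (s v) : Subgroup G) : Set G) := by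
  rw [mem_normalizer_iff_cj, neg_cj E (hK w) (h.sz w), cm w v, mul_inv_cancel_right]

theorem flip (hK : K ≤ Q) {v w : V8} (h1 : Inv z (s v) K) (h2 : Inv z (s w) K) : K ≤ Cx (s (v * w)) := fun q hq => by
  refine h.ez.fix_mod (h.sz _) (by rw [← map_mul, vv, map_one]; simp) ?_
  rw [map_mul]
  exact two_neg (h.sz v) (h2 q hq) (h1 _ (inv_mem hq))

omit h in
theorem inv_of (E : Ez K z) (e : neg K z t = K) : Inv z t K := fun _ hq => (E.mem_neg.1 (e.ge hq)).2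

omit h in
theorem inv_neg (E : Ez K z) : Inv z t (neg K z t) := fun _ hq => (E.mem_neg.1 hq).2

theorem cards {v : V8} (hv : v ≠ 1) :
    (Nat.card (neg Q z (s v)) = 27 ∧ Nat.card (Q ⊓ Cx (s v) : Subgroup G) = 243) ∨
    (Nat.card (neg Q z (s v)) = 243 ∧ Nat.card (Q ⊓ Cx (s v) : Subgroup G) = 27) ∨ neg Q z (s v) = Q := by
  have h1 := card_pn h.ez (h.sN v) (h.sz v) (sq v Q)
  have h2 := h.card
  rcases cases7 (h.ez.ng (h.sN v) (h.sz v) (sq v Q)) (h2 ▸ card_dvd_of_le h.ez.neg_le) with e | e | e | e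
  · exact absurd (h.sf v (inf_eq_left.1 (eq_of_le_of_card_ge inf_le_left (by rw [e] at h1; omega)))) hv
  · exact Or.inl ⟨e, by rw [e] at h1; omega⟩
  · exact Or.inr (Or.inl ⟨e, by rw [e] at h1; omega⟩)
  · exact Or.inr (Or.inr (eq_of_le_of_card_ge h.ez.neg_le (by omega)))

theorem small {v : V8} (hv : v ≠ 1) (hK : K ≤ Q) (c : Nat.card K = 243) (e : K ≤ Cx (s v)) :
    Nat.card (neg Q z (s v)) = 27 := by
  have h1 := card_le_of_le (le_inf hK e)
  rcases h.cards hv with k | k | k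
  · exact k.1
  · omega
  · have h2 := card_pn h.ez (h.sN v) (h.sz v) (sq v Q)
    rw [k] at h2
    have := h.card
    nlinarith

omit h in
theorem toEQ (E : Ez K z) (c : Nat.card K = 243) : EQ K z := ⟨c, E.zQ, E.z1, E.z3, E.zc, E.cen, E.cmt⟩

theorem four (E : EQ K z) (hK : ∀ w, s w ∈ normalizer (K : Set G)) (a b : V8) :
    ∃ u ∈ [a, b, a * b], K ≤ Cx (s u) ∨ neg K z (s u) = K := by
  obtain ⟨u, hu, k⟩ := E.four (hK a) (h.sz a) (sq a K) (hK b) (h.sz b) (sq b K) (by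
    rw [cm b a]; simp)
  rcases hu with rfl | rfl | rfl
  · exact ⟨a, by simp, k⟩
  · exact ⟨b, by simp, k⟩
  · exact ⟨a * b, by simp, by rwa [map_mul]⟩

theorem step1 : ∃ v, v ≠ 1 ∧ Nat.card (neg Q z (s v)) = 27 := by
  by_contra hn
  push Not at hn
  have all : ∀ v, v ≠ 1 → neg Q z (s v) = Q := fun e he => by
    rcases h.cards he with k | k | k
    · exact absurd k.1 (hn e he)
    · obtain ⟨a, b, hb⟩ := ex_bas e he
      have E := h.ez.ng (h.sN e) (h.sz e) (sq e Q)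
      obtain ⟨u, hu, k'⟩ := h.four (toEQ E k.1) (h.nneg h.ez h.sN e) a b
      have ne := bas_ne e a b hb u hu
      rcases k' with k' | k'
      · exact absurd (h.small ne.1 h.ez.neg_le k.1 k') (hn _ ne.1)
      · exact absurd (h.small ne.2 h.ez.neg_le k.1 (h.flip h.ez.neg_le (inv_of E k') (inv_neg h.ez))) (hn _ ne.2)
    · exact k
  obtain ⟨e, he⟩ : ∃ e : V8, e ≠ 1 := by decide
  obtain ⟨a, b, hb⟩ := ex_bas e he
  have ne := bas_ne e a b hb a (by simp)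
  exact ne.2 (h.sf _ (h.flip le_rfl (inv_of h.ez (all _ ne.1)) (inv_of h.ez (all _ he))))

theorem step2 : ∃ (Qi : Fin 3 → Subgroup G) (u : Fin 3 → V8), (∀ i, Ez (Qi i) z) ∧ (∀ i, Nat.card (Qi i) = 27) ∧
    (∀ i, Qi i ≤ Q) ∧ (∀ i j, i ≠ j → ∀ p ∈ Qi i, ∀ q ∈ Qi j, p * q = q * p) ∧
    (∀ q ∈ Q, ∃ y : Fin 3 → G, (∀ i, y i ∈ Qi i) ∧ q = (List.ofFn y).prod) ∧ (∀ i, Inv z (s (u i)) (Qi i)) ∧
    (∀ i j, i ≠ j → Qi j ≤ Cx (s (u i))) ∧ Bas (u 0) (u 1) (u 2) := by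
  obtain ⟨e, he, c0⟩ := h.step1
  have cP : Nat.card (Q ⊓ Cx (s e) : Subgroup G) = 243 := by
    rcases h.cards he with k | k | k
    · exact k.2
    · omega
    · rw [k, h.card] at c0; omega
  have E0 := h.ez.ng (h.sN e) (h.sz e) (sq e Q)
  have EP := h.ez.pos (h.sN e) (h.sz e) (sq e Q)
  have nP := h.npos h.sN e
  have n0 := h.nneg h.ez h.sN e
  have i0 : Inv z (s e) (neg Q z (s e)) := inv_neg h.ez
  have spl := fun {q} (hq : q ∈ Q) => h.ez.split (h.sN e) (h.sz e) (sq e Q) hq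
  have cpn := h.ez.comm_pn (t := s e) (h.sz e)
  have l0 : neg Q z (s e) ≤ Q := h.ez.neg_le
  have lP : Q ⊓ Cx (s e) ≤ Q := inf_le_left
  have Pe : Q ⊓ Cx (s e) ≤ Cx (s e) := inf_le_right
  generalize neg Q z (s e) = Q0 at *
  generalize Q ⊓ Cx (s e) = P at *
  have adj : ∀ w, ∃ x ∈ [w, w * e], Q0 ≤ Cx (s x) := fun w => by
    rcases E0.scalar (n0 w) (h.sz w) (sq w _) c0 with k | k
    · exact ⟨w, by simp, k⟩
    · exact ⟨w * e, by simp, h.flip l0 (inv_of E0 k) i0⟩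
  have Pm : ∀ {w x} {K : Subgroup G}, K ≤ P → x ∈ [w, w * e] → K ≤ Cx (s w) → K ≤ Cx (s x) := by
    intro w x K hK hx k
    simp only [List.mem_cons, List.not_mem_nil, or_false] at hx
    rcases hx with rfl | rfl
    · exact k
    · rw [map_mul]
      exact fun q hq => Cx_comm.1 (mul_mem (Cx_comm.1 (k hq)) (Cx_comm.1 (Pe (hK hq))))
  have Pi : ∀ {w x} {K : Subgroup G}, K ≤ P → x ∈ [w, w * e] → Inv z (s w) K → Inv z (s x) K := by
    intro w x K hK hx k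
    simp only [List.mem_cons, List.not_mem_nil, or_false] at hx
    rcases hx with rfl | rfl
    · exact k
    · rw [map_mul]
      exact k.mul (hK.trans Pe)
  have nt : ∀ w, w ≠ 1 → w * e ≠ 1 → ¬ P ≤ Cx (s w) := fun w h1 h2 k => by
    obtain ⟨x, hx, k'⟩ := adj w
    have : x = 1 := h.sf x fun q hq => by
      obtain ⟨p, hp, n, hn, rfl⟩ := spl hq
      exact mul_mem (Pm le_rfl hx k hp) (k' hn)
    simp only [List.mem_cons, List.not_mem_nil, or_false] at hx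
    rcases hx with rfl | rfl
    exacts [h1 this, h2 this]
  obtain ⟨a', b', hb'⟩ := ex_bas e he
  obtain ⟨u, hu, k⟩ := h.four (toEQ EP cP) nP a' b'
  have iu := inv_of EP (k.resolve_left (nt u (bas_ne _ _ _ hb' u hu).1 (bas_ne _ _ _ hb' u hu).2))
  obtain ⟨a, hb⟩ := bas_ex _ _ _ hb' u hu
  have ca : Nat.card (P ⊓ Cx (s a) : Subgroup G) = 27 ∧ Nat.card (neg P z (s a)) = 27 := by
    rcases (toEQ EP cP).cards (nP a) (h.sz a) (sq a P) with k | k | k
    · exact absurd k (nt a (bas_ne _ _ _ hb a (by simp)).1 (bas_ne _ _ _ hb a (by simp)).2)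
    · exact absurd (h.flip lP (inv_of EP k) iu)
        (nt _ (bas_ne _ _ _ hb _ (by simp)).1 (bas_ne _ _ _ hb _ (by simp)).2)
    · exact k
  have E1 := EP.ng (nP a) (h.sz a) (sq a P)
  have E2 := EP.pos (nP a) (h.sz a) (sq a P)
  have i1 : Inv z (s a) (neg P z (s a)) := inv_neg EP
  have spl' := fun {q} (hq : q ∈ P) => EP.split (nP a) (h.sz a) (sq a P) hq
  have cpn' := EP.comm_pn (t := s a) (h.sz a)
  have l1 : neg P z (s a) ≤ P := EP.neg_le
  have l2 : P ⊓ Cx (s a) ≤ P := inf_le_left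
  have a2 : P ⊓ Cx (s a) ≤ Cx (s a) := inf_le_right
  generalize neg P z (s a) = Q1 at *
  generalize P ⊓ Cx (s a) = Q2 at *
  obtain ⟨x, hx, x0⟩ := adj a
  obtain ⟨y, hy, y0⟩ := adj (a * u)
  have i2 : Inv z (s (a * u)) Q2 := by
    rw [mul_comm, map_mul]
    exact Inv.mul (fun q hq => iu q (l2 hq)) a2
  refine ⟨![Q0, Q1, Q2], ![e, x, y], ?_, ?_, ?_, ?_, fun q hq => ?_, ?_, ?_, bas_adj _ _ _ hb x hx y hy⟩
  · intro i; fin_cases i
    exacts [E0, E1, E2]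
  · intro i; fin_cases i
    exacts [c0, ca.2, ca.1]
  · intro i; fin_cases i
    exacts [l0, l1.trans lP, l2.trans lP]
  · intro i j ij p hp q hq
    fin_cases i <;> fin_cases j <;> first
      | exact absurd rfl ij
      | exact (cpn q (l1 hq) p hp).symm | exact (cpn q (l2 hq) p hp).symm
      | exact cpn p (l1 hp) q hq | exact cpn p (l2 hp) q hq
      | exact cpn' p hp q hq | exact (cpn' q hq p hp).symm
  · obtain ⟨p, hp, n, hn, rfl⟩ := spl hq
    obtain ⟨p', hp', n', hn', rfl⟩ := spl' hp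
    refine ⟨![n, n', p'], fun i => by fin_cases i <;> assumption, ?_⟩
    rw [cpn _ hp n hn, cpn' _ hp' _ hn']
    simp [List.ofFn_succ]
  · intro i; fin_cases i
    exacts [i0, Pi l1 hx i1, Pi l2 hy i2]
  · intro i j ij
    fin_cases i <;> fin_cases j <;> first
      | exact absurd rfl ij
      | exact l1.trans Pe | exact l2.trans Pe | exact x0 | exact y0 | exact Pm l2 hx a2
      | exact Pm l1 hy (h.flip (l1.trans lP) i1 fun q hq => iu q (l1 hq))

end Act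

/-- the group `Q₈³` -/
abbrev B8 : Type := QuaternionGroup 2 × QuaternionGroup 2 × QuaternionGroup 2

/-- the centre of `Q₈` -/
def ε0 (a : ZMod 2) : QuaternionGroup 2 := if a = 0 then 1 else .a 2

/-- the centre of `Q₈³` -/
def ε : V8 →* B8 := MonoidHom.mk' (fun v => (ε0 v.toAdd.1, ε0 v.toAdd.2.1, ε0 v.toAdd.2.2)) (by decide +kernel)

theorem ε_inj : ∀ v, ε v = 1 → v = 1 := by decide +kernel

theorem ε_cen : ∀ v b, b * ε v = ε v * b := by decide +kernel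

theorem ε_sur : ∀ b : B8, b * b = 1 → ∃ v, ε v = b := by decide +kernel

theorem b4 : ∀ b : B8, b ^ 4 = 1 := by decide +kernel

theorem eh_of (E : Ez Q z) (c7 : Nat.card Q = 3 ^ 7)
    (nQ : normalizer (zpowers z : Set G) ≤ normalizer (Q : Set G))
    (faith : ∀ g ∈ Cx z, (∀ q ∈ Q, g * q * g⁻¹ * q⁻¹ ∈ zpowers z) → g ∈ Q) (σ : B8 →* G) (σz : ∀ b, σ b ∈ Cx z)
    (σQ : ∀ b, σ b ∈ Q → b = 1) (nrm : ∀ g ∈ Cx z, ∀ b, ∃ c, g * σ b * g⁻¹ * (σ c)⁻¹ ∈ Q) :
    ∃ (Qi : Fin 3 → Subgroup G) (r : Fin 3 → G) (π : Fin 3 → G → SL) (τ : G → Equiv.Perm (Fin 3)),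
      EH z Q Qi r π τ := by
  classical
  have N : ∀ {g}, g ∈ Cx z → g ∈ normalizer (Q : Set G) := fun hg => nQ (Rec3.Cx_le_norm _ hg)
  have A : Act z Q (σ.comp ε) := ⟨E, c7, fun v => N (σz _), fun v => σz _, fun v k => ε_inj v (σQ _ (faith _ (σz _)
    fun q hq => by
      have : q * σ (ε v) = σ (ε v) * q := mem_Cx.1 (k hq)
      rw [← this, mul_inv_cancel_right, mul_inv_cancel]; exact one_mem _))⟩
  obtain ⟨Qi, u, ez, ci, le, cm, dec, ri, rj, bas⟩ := A.step2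
  simp only [MonoidHom.comp_apply] at ri rj
  have ex : ∀ q ∈ Q, q ^ 3 = 1 := fun q hq => by
    obtain ⟨y, hy, rfl⟩ := dec q hq
    have e : ∀ i, y i ^ 3 = 1 := fun i => F1x.exp_of (ez i) (σz _) (hy i) (ri i _ (hy i))
    have c : ∀ i j, i ≠ j → Commute (y i) (y j) := fun i j e => cm i j e _ (hy i) _ (hy j)
    simp only [List.ofFn_succ, List.ofFn_zero, List.prod_cons, List.prod_nil, mul_one]
    rw [((c _ _ (by decide)).mul_right (c _ _ (by decide))).mul_pow, (c _ _ (by decide)).mul_pow, e, e, e]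
    simp
  have nle : ∀ i, ¬ Qi i ≤ zpowers z := fun i e => by
    have := card_le_of_le e
    rw [ci, cardZ E.z1 E.z3] at this
    omega
  have inj : Function.Injective Qi := fun i j e => by
    by_contra k
    exact nle i fun q hq => (ez i).cen q hq fun y hy => cm i j k y hy q (e ▸ hq)
  have negQ : ∀ i, neg Q z (σ (ε (u i))) = Qi i := fun i => by
    refine le_antisymm (fun q n1 => ?_) fun q hq => E.mem_neg.2 ⟨le i hq, ri i q hq⟩
    obtain ⟨y, hy, rfl⟩ := dec q (E.neg_le n1)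
    obtain ⟨a, ha, b, hb, k⟩ := prod_split (K := Q ⊓ Cx (σ (ε (u i))) ⊓ Cx (y i)) y i fun j hj =>
      ⟨⟨le j (hy j), rj i j hj.symm (hy j)⟩, mem_Cx.2 (cm j i hj _ (hy j) _ (hy i))⟩
    rw [k, mem_Cx.1 ha.2, mul_assoc] at n1 ⊢
    have huv := (mul_mem ha hb).1
    rw [mul_mem_cancel_left (E.mem_neg.2 ⟨le i (hy i), ri i _ (hy i)⟩)] at n1
    have n2 := (E.mem_neg.1 n1).2
    rw [← mem_Cx.1 huv.2, mul_inv_cancel_right] at n2
    exact mul_mem (hy i) ((ez i).ZP (of_sq (ex _ huv.1) n2))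
  have rr : ∀ v, σ (ε v) * σ (ε v) = 1 := fun v => by rw [← map_mul, ← map_mul, vv, map_one, map_one]
  have some : ∀ v, v ≠ 1 → ∃ j, Inv z (σ (ε v)) (Qi j) := fun v hv => by
    have c2 : ∀ i j k, j ≠ i → k ≠ i → Qi i ≤ Cx (σ (ε (u j)) * σ (ε (u k))) := fun i j k hj hk q hq =>
      Cx_comm.1 (mul_mem (Cx_comm.1 (rj j i hj hq)) (Cx_comm.1 (rj k i hk hq)))
    rcases bas v with k | k | k | k | k | k | k | k <;> rw [k] <;> try simp only [map_mul]
    · exact absurd k hv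
    · exact ⟨0, ri 0⟩
    · exact ⟨1, ri 1⟩
    · exact ⟨2, ri 2⟩
    · exact ⟨0, (ri 0).mul (rj 1 0 (by decide))⟩
    · exact ⟨0, (ri 0).mul (rj 2 0 (by decide))⟩
    · exact ⟨1, (ri 1).mul (rj 2 1 (by decide))⟩
    · exact ⟨0, (ri 0).mul (c2 0 1 2 (by decide) (by decide))⟩
  have prm : ∀ g ∈ Cx z, ∀ i, ∃ j, cj g (Qi i) = Qi j := fun g hg i => by
    obtain ⟨c, hc⟩ := nrm g hg (ε (u i))
    have e := (neg_cj E (N hg) hg).trans (neg_congr E (N (σz c)) hc)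
    have cc : c * c = 1 := σQ _ (by
      convert inv_mem (mul_mem hc (conj_mem_of_mem_normalizer (N (σz c)) hc)) using 1
      calc _ = σ c * σ c * (g * (σ (ε (u i)) * σ (ε (u i))) * g⁻¹)⁻¹ := by rw [rr]; simp
        _ = _ := by simp [mul_assoc])
    obtain ⟨v, rfl⟩ := ε_sur c cc
    rw [negQ] at e
    by_cases hv : v = 1
    · exfalso
      have k := card_cj g (Qi i)
      rw [e, hv, map_one, map_one, ci] at k
      have : neg Q z 1 ≤ zpowers z := fun q hq => of_sq (ex q (E.neg_le hq)) (by simpa using (E.mem_neg.1 hq).2)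
      have := card_le_of_le this
      rw [k, cardZ E.z1 E.z3] at this
      omega
    · obtain ⟨j, hj⟩ := some v hv
      exact ⟨j, (eq_of_le_of_card_ge (e ▸ fun q hq => E.mem_neg.2 ⟨le j hq, hj q hq⟩)
        (by rw [card_cj, ci, ci])).symm⟩
  choose f hf using prm
  obtain ⟨τ, τa⟩ : ∃ τ : G → Equiv.Perm (Fin 3), ∀ g ∈ Cx z, ∀ i, cj g (Qi i) = Qi (τ g i) :=
    ⟨fun g => if hg : g ∈ Cx z then Equiv.ofBijective (f g hg) (Finite.injective_iff_bijective.1 fun i j e =>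
      inj (cj_injective g (by rw [hf g hg, hf g hg, e]))) else 1, fun g hg i => by
        simp only [dif_pos hg]; exact hf g hg i⟩
  choose π πm πk using fun i => UL1.exists_pi (ez i) (ci i) fun p hp => ex p (le i hp)
  have st : ∀ {g i}, g ∈ Cx z → τ g i = i → g ∈ normalizer (Qi i : Set G) ⊓ Cx z := fun {g i} hg e =>
    ⟨mem_normalizer_iff_cj.2 (by rw [τa g hg, e]), hg⟩
  have H : NH z Q Qi (fun i => σ (ε (u i))) π τ := ⟨E.z1, fun i => (ez i).zQ, le, E.zc, nQ, c7, ci, ex, E.cmt,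
    fun i => (ez i).cen, cm, dec, faith, fun a ha b hb => Equiv.ext fun i => inj (by
      rw [← τa _ (mul_mem ha hb), cj_mul, τa b hb, τa a ha]; rfl), τa,
    fun i a ha e b hb e' => πm i a (st ha e) b (st hb e'), fun i g hg e => πk i g (st hg e), fun i => σz _,
    fun i => rr _, fun i j => by rw [← map_mul, ε_cen, map_mul], ri, rj⟩
  refine ⟨_, _, π, τ, H, fun α hα => ?_⟩
  have h0 : ∀ b, σ b ∈ H.H0 := fun b => H.mem_H0.2 ⟨σz b, Equiv.ext fun i => H.ul_τ_of_cr (σz b)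
    (mem_Cx.2 (by rw [← map_mul, ε_cen, map_mul]))⟩
  have p4 : ∀ i b, π i (σ b) ^ 4 = 1 := fun i b => by rw [← (H.ul_hm i).pow (h0 b), ← map_pow, b4, map_one, H.π_one]
  let F : B8 → Fin 3 → {s : SL // s ^ 4 = 1} := fun b i => ⟨_, p4 i b⟩
  have fi : Function.Injective F := fun a b e => by
    have k : ∀ i, π i (σ (a * b⁻¹)) = 1 := fun i => by
      have e' : π i (σ a) = π i (σ b) := congrArg (fun x => (x i).1) e
      rw [map_mul, map_inv, H.ul_hm i _ (h0 a) _ (inv_mem (h0 b)), (H.ul_hm i).inv (h0 b), e', mul_inv_cancel]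
    exact mul_inv_eq_one.1 (σQ _ (H.mem_Q (σz _) (H.mem_H0.1 (h0 _)).2 k))
  have c8 : Nat.card {s : SL // s ^ 4 = 1} = 8 := by
    rw [Nat.card_eq_fintype_card, Fintype.card_subtype]
    decide +kernel
  have cq : Nat.card (QuaternionGroup 2) = 8 := by rw [Nat.card_eq_fintype_card, QuaternionGroup.card]
  obtain ⟨b, e⟩ := (fi.bijective_of_nat_card_le (by
    rw [Nat.card_fun, c8, Nat.card_prod, Nat.card_prod, cq]; simp)).2 fun i => ⟨α i, hα i⟩
  exact ⟨σ b, σz b, (H.mem_H0.1 (h0 b)).2, fun i => congrArg (fun x => (x i).1) e⟩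

end E1x

open CfsgLib.Sect Es in
theorem exists_EH (H : Subgroup G) (Q : Subgroup H) (hQF : Q = Cfsg.generalizedFittingSubgroup H) [hQn : Q.Normal]
    (hQex : Cfsg.IsExtraspecial 3 Q) (hQcard : Nat.card Q = 3 ^ 7)
    (hZZ : (Subgroup.center Q).map Q.subtype = Subgroup.center H)
    (eO : Cfsg.pCore 2 (H ⧸ Q) ≃* QuaternionGroup 2 × QuaternionGroup 2 × QuaternionGroup 2)
    (Z : Subgroup G) (hZ : Z = (Subgroup.center H).map H.subtype) (hHC : H = Subgroup.centralizer (Z : Set G)) :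
    ∃ (z : G) (Qi : Fin 3 → Subgroup G) (r : Fin 3 → G) (π : Fin 3 → G → SL) (τ : G → Equiv.Perm (Fin 3)),
      EH z (Q.map H.subtype) Qi r π τ ∧ Z = zpowers z := by
  have : Fact (Nat.Prime 2) := ⟨by norm_num⟩
  have cH : Nat.card (center H) = 3 := by rw [← hZZ, card_map_of_injective (subtype_injective _), hQex.2]
  have cZ : Nat.card Z = 3 := by rw [hZ, card_map_of_injective (subtype_injective _), cH]
  obtain ⟨z, zZ, z1⟩ := exists_ne_one (K := Z) (by omega)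
  have z3 : z ^ 3 = 1 := by rw [← cZ]; exact congrArg Subtype.val (pow_card_eq_one' (x := (⟨z, zZ⟩ : Z)))
  have eZ : Z = zpowers z := (eq_of_le_of_card_ge (zpowers_le.2 zZ) (by rw [cZ, cardZ z1 z3])).symm
  have eH : H = Cx z := by
    rw [hHC, eZ]
    exact le_antisymm (centralizer_le (by simp)) fun g hg w hw => (Es.zc hw hg).symm
  subst eH
  have mF : ∀ {g : Cx z}, (g : G) ∈ Q.map (Cx z).subtype ↔ g ∈ Q := mem_map_iff_mem (Cx z).subtype_injective
  have cF : ∀ g ∈ Cx z, (∀ q ∈ Q.map (Cx z).subtype, q * g = g * q) → g ∈ Q.map (Cx z).subtype := fun g hg k =>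
    (mF (g := ⟨g, hg⟩)).2 (by
      rw [hQF] at k mF ⊢
      exact Comp.centralizer_fstar_le fun q hq => Subtype.ext (k q (mF.2 hq)))
  have zc : Q.map (Cx z).subtype ≤ Cx z := map_subtype_le _
  have zz : z ∈ Cx z := mem_Cx.2 rfl
  have zQ := cF z zz fun q hq => mem_Cx.1 (zc hq)
  obtain ⟨k1, k2⟩ := es_facts hQex (z := ⟨⟨z, zz⟩, mF.1 zQ⟩)
    (mem_center_iff.2 fun y => Subtype.ext (Subtype.ext (mem_Cx.1 y.1.2)))
    fun e => z1 (congrArg (fun x => x.1.1) e)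
  have k3 : ∀ x : Q, x ∈ zpowers (⟨⟨z, zz⟩, mF.1 zQ⟩ : Q) → x.1.1 ∈ zpowers z := by
    rintro _ ⟨i, rfl⟩
    exact ⟨i, rfl⟩
  have E : Ez (Q.map (Cx z).subtype) z := by
    refine ⟨⟨hQex.1.1.map _, zQ, z1, z3, zc, ?_⟩, ?_⟩
    · rintro _ ⟨p, hp, rfl⟩ _ ⟨q, hq, rfl⟩
      exact k3 _ (k2 ⟨p, hp⟩ ⟨q, hq⟩)
    · rintro _ ⟨q, hq, rfl⟩ k
      exact k3 ⟨q, hq⟩ (k1 _ fun y => Subtype.ext (Subtype.ext (k _ (mF.2 y.2))))
  have nQ : normalizer (zpowers z : Set G) ≤ normalizer (Q.map (Cx z).subtype : Set G) := fun g hg => by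
    have : Q.Characteristic := by rw [hQF]; exact Comp.fstar_characteristic
    refine Core.normalizer_le_normalizer_map_subtype_of_characteristic Q (mem_normalizer_of_forall fun y hy => ?_)
    have := Es.zc (conj_mem_of_mem_normalizer' hg (mem_zpowers z)) hy
    refine mem_Cx.2 ?_
    calc _ = g * (y * (g⁻¹ * z * g)) * g⁻¹ := by group
      _ = _ := by rw [this]; group
  have faith : ∀ g ∈ Cx z, (∀ q ∈ Q.map (Cx z).subtype, g * q * g⁻¹ * q⁻¹ ∈ zpowers z) →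
      g ∈ Q.map (Cx z).subtype := fun g hg e => by
    have : Fact (Nat.Prime 3) := ⟨Nat.prime_three⟩
    have m : ∀ {k}, k ∈ Cx z ⊓ ⨅ q ∈ Q.map (Cx z).subtype, cmz z q ↔
        k ∈ Cx z ∧ ∀ q ∈ Q.map (Cx z).subtype, k * q * k⁻¹ * q⁻¹ ∈ zpowers z := by
      simp only [mem_inf, mem_iInf]
      exact ⟨fun k => ⟨k.1, fun q hq => (k.2 q hq).2⟩, fun k => ⟨k.1, fun q hq => ⟨k.1, k.2 q hq⟩⟩⟩
    refine ((Core.le_map_pCore (p := 3) inf_le_left (fun a ha => mem_normalizer_of_forall fun k hk => m.2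
      ⟨mul_mem (mul_mem ha hk.1) (inv_mem ha), fun q hq => ?_⟩) (isPGroup_iff_mem.2 fun k hk => ?_)).trans
      (map_mono (hQF ▸ Comp.pCore_le_fstar 3))) (m.2 ⟨hg, e⟩)
    · have := (m.1 hk).2 _ (conj_mem_of_mem_normalizer' (nQ (Rec3.Cx_le_norm _ ha)) hq)
      rw [← zcj this ha] at this
      convert this using 1
      group
    · obtain ⟨n, hn⟩ := isPGroup_iff_mem.1 E.two _
        (cF _ (pow_mem hk.1 3) fun q hq => F1x.cube_cj z3 hk.1 ((m.1 hk).2 q hq))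
      exact ⟨n + 1, by rw [pow_succ', pow_mul, hn]⟩
  let N := Cfsg.pCore 2 (Cx z ⧸ Q)
  have hN : N.Normal := inferInstance
  let M := N.comap (QuotientGroup.mk' Q)
  let ψ : M →* E1x.B8 :=
    eO.toMonoidHom.comp (((QuotientGroup.mk' Q).comp M.subtype).codRestrict N fun m => m.2)
  have ψk : ∀ m : M, ψ m = 1 ↔ m.1 ∈ Q := fun m =>
    (map_eq_one_iff _ eO.injective).trans (Subtype.ext_iff.trans (QuotientGroup.eq_one_iff _))
  have ψs : Function.Surjective ψ := eO.surjective.comp fun n => by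
    obtain ⟨g, hg⟩ := QuotientGroup.mk'_surjective Q n.1
    exact ⟨⟨g, show QuotientGroup.mk' Q g ∈ N from hg ▸ n.2⟩, Subtype.ext hg⟩
  obtain ⟨P⟩ : Nonempty (Sylow 2 M) := inferInstance
  have bij : Function.Bijective (ψ.comp (P : Subgroup M).subtype) := by
    refine ⟨(injective_iff_map_eq_one _).2 fun p hp => ?_, fun b => ?_⟩
    · obtain ⟨k, hk⟩ := P.2 p
      have h5 : p.1.1 ^ 3 ^ 7 = 1 := orderOf_dvd_iff_pow_eq_one.1 (hQcard ▸ orderOf_dvd_natCard Q ((ψk _).1 hp))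
      refine Subtype.ext (Subtype.ext ?_)
      rw [← pow_one p.1.1, ← show Nat.gcd (2 ^ k) (3 ^ 7) = 1 from Nat.Coprime.pow _ _ (by norm_num)]
      exact pow_gcd_eq_one.2 ⟨congrArg (fun x => x.1.1) hk, h5⟩
    · obtain ⟨p, hp, e⟩ : b ∈ (P : Subgroup M).map ψ :=
        ((P.mapSurjective ψs).3 (fun x => ⟨2, Subtype.ext (E1x.b4 x.1)⟩) le_top).le (mem_top _)
      exact ⟨⟨p, hp⟩, e⟩
  let s := (MulEquiv.ofBijective _ bij).symm
  let σ : E1x.B8 →* G :=
    (Cx z).subtype.comp (M.subtype.comp ((P : Subgroup M).subtype.comp s.toMonoidHom))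
  have σψ : ∀ b, ψ (s b) = b := fun b => (MulEquiv.ofBijective _ bij).apply_symm_apply b
  have σz : ∀ b, σ b ∈ Cx z := fun b => (s b).1.1.2
  have σQ : ∀ b, σ b ∈ Q.map (Cx z).subtype → b = 1 := fun b hb => by rw [← σψ b, ψk]; exact mF.1 hb
  have nrm : ∀ g ∈ Cx z, ∀ b, ∃ c, g * σ b * g⁻¹ * (σ c)⁻¹ ∈ Q.map (Cx z).subtype := fun g hg b => by
    let m : M := ⟨_, (hN.comap (QuotientGroup.mk' Q)).conj_mem _ (s b).1.2 ⟨g, hg⟩⟩
    exact ⟨ψ m, (mF (g := (m * (s (ψ m)).1⁻¹ : M))).2 ((ψk _).1 (by rw [map_mul, map_inv, σψ, mul_inv_cancel]))⟩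
  obtain ⟨Qi, r, π, τ, h⟩ := E1x.eh_of E ((card_map_of_injective (subtype_injective _)).trans hQcard) nQ faith σ σz
    σQ nrm
  exact ⟨z, Qi, r, π, τ, h, eZ⟩

end CfsgLib.Rec3E
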