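import Cfsg.Agent.Lib.Rec3E.Defs
import Cfsg.Agent.Lib.E62.SX

/-! `E62.S38.Loc.normal` for a subgroup of odd index in the normaliser (plans/REC3E.md, LN). -/

set_option autoImplicit false
set_option maxRecDepth 100000
set_option maxHeartbeats 400000

namespace CfsgLib.Rec3E

open Subgroup Cfsg CfsgLib.Tech CfsgLib.PComp CfsgLib.W2 CfsgLib.Rec3 CfsgLib.Rec3B CfsgLib.Rec3B.W4
open CfsgLib.U43 (SL)

variable {G : Type*} [Group G] [Finite G]

theorem loc_normal {H : Type*} [Group H] {ψ : H →* G} (hi : Function.Injective ψ) {V : Subgroup G}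
    (hV : V ≤ ψ.range) (hr : ψ.range ≤ normalizer (V : Set G))
    (hodd : Odd (ψ.range.relIndex (normalizer (V : Set G)))) {J : H} (L : E62.S38.Loc (V.comap ψ) J)
    (hO : oddCore G = ⊥)
    (hU : ∀ g d, d ^ 3 = 1 → d ≠ 1 → g * ψ d * g⁻¹ ∈ normalizer (V : Set G) → g ∈ normalizer (V : Set G))
    (hN : ∀ N : Subgroup G, V < N → N ≤ normalizer (V : Set G) → normalizer (V : Set G) ≤ normalizer (N : Set G) →
      ¬ N ⊓ ψ.range ≤ V) : V.Normal := by
  have : Fact (Nat.Prime 3) := ⟨by norm_num⟩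
  have := Finite.of_injective ψ hi
  have hVr := hV
  have hr' := hr
  replace hV : ∀ v ∈ V, v * v = 1 := fun v hv => by
    obtain ⟨a, rfl⟩ := hVr hv
    rw [← map_mul, L.sq a hv, map_one]
  have hab : ∀ x ∈ V, ∀ y ∈ V, x * y = y * x := fun x hx y hy => by
    have e := inv_eq_of_mul_eq_one_right (hV _ (mul_mem hx hy))
    rw [mul_inv_rev, inv_eq_of_mul_eq_one_right (hV x hx), inv_eq_of_mul_eq_one_right (hV y hy)] at e
    exact e.symm
  have h2 : IsPGroup 2 V := isPGroup_iff_mem.2 fun x hx => ⟨1, by rw [pow_one, pow_two, hV x hx]⟩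
  have p3 : ∀ {d : H} (g : G), d ^ 3 = 1 → IsPGroup 3 (zpowers (g * ψ d * g⁻¹)) := fun g h =>
    isPGroup_zpowers_of_pow (k := 1) (by rw [pow_one, conj_pow, ← map_pow, h, map_one]; group)
  have ng : ∀ {g : G} {x : H}, ψ x ∈ cj g V → x ∉ V.comap ψ → ¬ E62.S38.Good x := by
    rintro g x ⟨v, hv, e⟩ hx ⟨d', h1, h3, h4⟩
    replace e : g * v * g⁻¹ = ψ x := e
    obtain ⟨a, rfl⟩ := hVr hv
    obtain ⟨d, h5, h6, h7⟩ := L.good a hv
    obtain ⟨T, hT, h8⟩ := exists_isSylowIn_ge (H := Cx (ψ x)) (p3 1 h1)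
      (zpowers_le.2 (mem_Cx.2 (by simpa using congrArg ψ h4)))
    have h9 : T ≤ normalizer (V : Set G) := by
      by_contra hn
      obtain ⟨y, hy, h10, h11⟩ := exists_mem_normalizer_of_lt hT.pgroup (inf_lt_left.2 hn)
      exact h10 ⟨hy, hU y d' h1 h3 (conj_mem_of_mem_normalizer h11
        ⟨by simpa using h8 (mem_zpowers _), hr ⟨d', rfl⟩⟩).2⟩
    obtain ⟨c, hc, h10⟩ := hT.exists_conj_mem (e ▸ conj_mem_Cx.2 (mem_Cx.2 (by simpa using congrArg ψ h7))) (p3 g h5)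
    have h11 := hU (c * g) d h5 h6 (h9 (by simpa only [mul_inv_rev, mul_assoc] using h10))
    refine hx (mem_comap.2 ?_)
    rw [← mem_Cx'.1 hc, ← e]
    simpa only [mul_inv_rev, mul_assoc] using conj_mem_of_mem_normalizer h11 hv
  have sq' : ∀ {g : G} {x : H}, ψ x ∈ cj g V → x * x = 1 := fun {g x} h => hi (by
    have := congrArg (g * · * g⁻¹) (hV _ (mem_cj.1 h))
    simpa [mul_assoc] using this)
  have toJ : ∀ {g : G} {x : H}, ψ x ∈ cj g V → x ∉ V.comap ψ → ∃ u, ψ u * ψ x * (ψ u)⁻¹ = ψ J := fun h hx => by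
    obtain ⟨u, e⟩ := ((L.inv _ (sq' h)).resolve_left hx).resolve_left (ng h hx)
    exact ⟨u, by rw [← e, map_mul, map_mul, map_inv]⟩
  have odd2 : ∀ {P : Subgroup G}, IsPGroup 2 P → P ≤ normalizer (V : Set G) →
      ∃ n ∈ normalizer (V : Set G), cj n P ≤ ψ.range := fun hP h => by
    obtain ⟨S, hS⟩ := exists_isSylowIn 2 ψ.range
    obtain ⟨n, h1, h2⟩ := (hS.trans hr hodd.not_two_dvd_nat).exists_cj_le hP h
    exact ⟨n, h1, h2.trans hS.le⟩
  have s0 : ∀ {g : G}, cj g V ≤ ψ.range → g ∈ normalizer (V : Set G) := fun {g} h => by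
    refine mem_normalizer_of_cj_le fun y hy => by_contra fun hn => ?_
    obtain ⟨x, rfl⟩ := h hy
    obtain ⟨u, e⟩ := toJ hy hn
    have h3 := L.weak ((cj (ψ u * g) V).comap ψ) (by rw [mem_comap, ← e, cj_mul]; exact conj_mem_cj.2 hy)
      (fun _ => sq') fun _ => ng
    rw [E62.S38.card_comap_of_le hi hVr, E62.S38.card_comap_of_le hi, card_cj] at h3
    · exact h3.false
    · rw [cj_mul, ← cj_eq_of_mem (H := ψ.range) ⟨u, rfl⟩]
      exact cj_mono _ h
  have s1 : ∀ {g : G}, cj g V ≤ normalizer (V : Set G) → g ∈ normalizer (V : Set G) := fun {g} h => by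
    obtain ⟨n, h3, h4⟩ := odd2 (isPGroup_cj g h2) h
    exact (Subgroup.mul_mem_cancel_left _ h3).1 (s0 (by rwa [cj_mul]))
  have s2 : ∀ {P : Subgroup G}, IsPGroup 2 P → V ≤ P → P ≤ normalizer (V : Set G) := fun {P} hP hVP => by
    by_contra hn
    obtain ⟨x, hxP, hx, hx'⟩ := exists_mem_normalizer_of_lt hP (inf_lt_left.2 hn)
    refine hx (mem_inf.2 ⟨hxP, s1 ?_⟩)
    exact ((cj_mono x (le_inf hVP le_normalizer)).trans (mem_normalizer_iff_cj.1 hx').le).trans inf_le_right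
  refine Rec3B.abs_normal (fun _ => True) hV (fun _ _ _ => trivial) (fun v hv => subset_closure ⟨hv, trivial⟩)
    (fun v hv g hg hn => False.elim ?_) (fun W _ _ _ _ => ⟨1, one_mem _, trivial⟩) hO fun N h3 h4 h5 => ?_
  · obtain ⟨m, hm, hg⟩ := odd2 (isPGroup_zpowers_of_pow (k := 1) (x := g * v * g⁻¹)
      (by rw [pow_one, pow_two, conj_mul, hV v hv]; group)) (zpowers_le.2 hg)
    replace hg : m * g * v * (m * g)⁻¹ ∈ ψ.range := by
      simpa only [mul_inv_rev, mul_assoc] using hg (conj_mem_cj.2 (mem_zpowers _))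
    replace hn : m * g * v * (m * g)⁻¹ ∉ V := fun h => hn ((mem_normalizer_iff.1 hm _).2 (by
      simpa only [mul_inv_rev, mul_assoc] using h))
    generalize m * g = g at hg hn
    obtain ⟨x, e⟩ := hg
    obtain ⟨u, e1⟩ := toJ (e ▸ conj_mem_cj.2 hv) (by rwa [mem_comap, e])
    replace e1 : (ψ u * g)⁻¹ * ψ J * (ψ u * g)⁻¹⁻¹ = v := by rw [← e1, e]; group
    obtain ⟨R, n, h3, h4, h5, h6, h7⟩ := L.strong
    obtain ⟨T, hT, hVT⟩ := exists_isSylowIn_ge (H := Cx v) h2 fun x hx => mem_Cx.2 (hab x hx v hv)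
    obtain ⟨c, hc, h8⟩ := hT.exists_cj_le (isPGroup_cj (ψ u * g)⁻¹ (h3.map ψ)) (by
      rw [← e1, ← cj_Cx]
      exact cj_mono _ (map_le_iff_le_comap.2 fun y hy => mem_Cx.2 (by simpa using congrArg ψ (mem_Cx.1 (h4 hy)))))
    obtain ⟨m', hm', h8⟩ := odd2 (hT.pgroup.to_le h8) (h8.trans (s2 hT.pgroup hVT))
    rw [← cj_mul, ← cj_mul] at h8
    replace e1 : m' * c * (ψ u * g)⁻¹ * ψ J * (m' * c * (ψ u * g)⁻¹)⁻¹ ∈ V := by
      convert conj_mem_of_mem_normalizer hm' hv using 1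
      rw [← mem_Cx'.1 hc, ← e1]
      group
    generalize m' * c * (ψ u * g)⁻¹ = k at h8 e1
    have h9 := h6 _ ((isPGroup_cj k (h3.map ψ)).comap_of_injective ψ hi)
    rw [E62.S38.card_comap_of_le hi h8, card_cj, card_map_of_injective hi] at h9
    refine (h9.trans (Nat.mul_le_mul_right n ?_)).not_gt (h7 (R ⊓ (cj k⁻¹ V).comap ψ) inf_le_left
      ⟨h5, mem_comap.2 (mem_cj.2 (by rwa [inv_inv]))⟩ (fun r hr => mem_normalizer_of_forall fun y hy =>
        ⟨R.mul_mem (R.mul_mem hr hy.1) (R.inv_mem hr), mem_comap.2 ?_⟩) (fun _ h => sq' h.2) fun _ h => ng h.2)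
    · rw [← comap_inf, E62.S38.card_comap_of_le hi (inf_le_right.trans hVr), ← card_map_of_injective hi, ← card_cj k (map _ _)]
      refine card_le_of_le ?_
      rintro _ ⟨⟨_, ⟨y, hy, rfl⟩, rfl⟩, h⟩
      exact conj_mem_cj.2 ⟨y, ⟨hy, mem_comap.2 (mem_cj.2 (by rwa [inv_inv]))⟩, rfl⟩
    · have := hr' (h8 (conj_mem_cj.2 ⟨r, hr, rfl⟩))
      rw [map_mul, map_mul, map_inv]
      refine conj_mem_of_mem_normalizer ?_ hy.2
      rw [← cj_normalizer, mem_cj, inv_inv]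
      exact this
  · obtain ⟨j, h6, h7, h8⟩ := L.nrm (N.comap ψ) ⟨fun y hy g => mem_comap.2 (by
      rw [map_mul, map_mul, map_inv]; exact conj_mem_of_mem_normalizer (h5 (hr ⟨g, rfl⟩)) hy)⟩
      (lt_of_le_not_ge (comap_mono h3.le) fun h => hN N h3 h4 h5 (by
        rintro _ ⟨hy, y, rfl⟩
        exact h hy))
    exact ⟨ψ j, h6, h7, by rw [← map_mul, h8, map_one]⟩

end CfsgLib.Rec3E
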