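import Cfsg.Agent.Lib.Rec3E.BY2
import Cfsg.Agent.Lib.Rec3E.LN
import Cfsg.Agent.S3338

/-! `C(t) = E K₀` (plans/REC3E.md, E10). -/

set_option autoImplicit false
set_option maxRecDepth 100000
set_option maxHeartbeats 400000

namespace CfsgLib.Rec3E

open Subgroup Cfsg CfsgLib.Tech CfsgLib.PComp CfsgLib.W2 CfsgLib.Rec3 CfsgLib.Rec3B CfsgLib.Rec3B.W4
open CfsgLib.U43 (SL)

variable {G : Type*} [Group G] [Finite G]
variable {z x σ : G} {Q : Subgroup G} {Qi : Fin 3 → Subgroup G} {r a b : Fin 3 → G} {π : Fin 3 → G → SL}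
  {τ : G → Equiv.Perm (Fin 3)} {i j k : Fin 3} {φ : W4 →* G}

namespace E10

open CfsgLib.Rec3B.KC.KE2 (eq_one_of_cop)

omit [Finite G] in
theorem relIndex_eq {A P M : Subgroup G} (hP : P ≤ M) (h : ∀ g ∈ M, ∃ c ∈ P, ∃ x ∈ A, g = c * x) :
    A.relIndex P = A.relIndex M :=
  Nat.card_eq_of_bijective (quotientSubgroupOfEmbeddingOfLE A hP) ⟨Function.Embedding.injective _, fun q => by
    obtain ⟨⟨g, hg⟩, rfl⟩ := QuotientGroup.mk_surjective q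
    obtain ⟨c, hc, x, hx, rfl⟩ := h g hg
    exact ⟨QuotientGroup.mk ⟨c, hc⟩, QuotientGroup.eq.2 (by simpa [mem_subgroupOf] using hx)⟩⟩

theorem split {H X : Type*} [Group H] [Group X] (j : X →* H) (A : Subgroup H) [A.Normal] (h1 : ∀ x, j x ∈ A → x = 1)
    (h2 : ∀ g, ∃ x, (j x)⁻¹ * g ∈ A) : ∃ p : H →* X, (∀ k, p (j k) = k) ∧ p.ker = A := by
  have hb : Function.Bijective ((QuotientGroup.mk' A).comp j) :=
    ⟨(injective_iff_map_eq_one _).2 fun k h => h1 k ((QuotientGroup.eq_one_iff _).1 h), fun x => by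
      obtain ⟨g, rfl⟩ := QuotientGroup.mk_surjective x
      exact (h2 g).imp fun _ e => QuotientGroup.eq.2 e⟩
  exact ⟨(MulEquiv.ofBijective _ hb).symm.toMonoidHom.comp (QuotientGroup.mk' _),
    (MulEquiv.ofBijective _ hb).symm_apply_apply, by ext; simp⟩

variable (h : EP z Q Qi r π τ a b x σ i j k φ)
include h

theorem cK_v (hs : Sm z π τ ∨ ¬ NoSw z τ) {v : W4} (hv : v ∈ JJ) (h1 : v ≠ 1) :
    Cx (r i) ⊓ Cx (φ v) ≤ M6 φ (a i) (r i) := fun g hg => by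
  obtain ⟨n, hn, -, e⟩ := h.types hv h1
  have nM : n ∈ M6 φ (a i) (r i) := mem_sup_right (h.L0_le hn)
  have c1 : n * g * n⁻¹ ∈ Cx (r i) := mul_mem (mul_mem (h.M_le nM) hg.1) (inv_mem (h.M_le nM))
  have c2 := (conj_mem_Cx (g := n)).2 hg.2
  refine (Subgroup.mul_mem_cancel_left _ nM).1 ((Subgroup.mul_mem_cancel_right _ (inv_mem nM)).1 ?_)
  rcases e with e | e | e <;> rw [e] at c2
  exacts [h.Nz_le ⟨RBx.nz h.toNH c2, c1⟩, h.cK_a ⟨c1, c2⟩, h.cK_b hs ⟨c1, c2⟩]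

theorem exists_X : ∃ X, L0 z (a i) (r i) ≤ X ∧ X ≤ K0 (a i) (r i) ∧ X ⊓ JE z a ≤ L0 z (a i) (r i) ∧
    ∀ g ∈ K0 (a i) (r i), ∃ c ∈ JE z a ⊓ Cx (r i), ∃ x ∈ X, g = c * x := by
  have k : ∀ l ∈ L0 z (a i) (r i), ∀ c ∈ JE z a, c ∈ Cx (r i) → c⁻¹ * l * c ∈ L0 z (a i) (r i) := fun l hl c hc hr =>
    conj_mem_of_mem_normalizer' (h.L0_norm ⟨(mem_JE.1 hc).2 i, hr⟩) hl
  by_cases hs : NoSw z τ
  · refine ⟨_, le_rfl, h.L0_le, inf_le_left, fun g hg => ?_⟩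
    obtain ⟨l, hl, c, hc, hr, rfl⟩ := h.K0_nosw hs hg
    exact ⟨c, ⟨hc, hr⟩, _, k l hl c hc hr, by group⟩
  obtain ⟨ω, hω, sw, ωω, t⟩ := h.exists_swap hs
  have hz : ω ∈ Cx z := h.ez ▸ sw.z
  refine ⟨_, le_sup_left, sup_le h.L0_le (zpowers_le.2 hω), (h.X_J hω hz t ωω).1, fun g hg => ?_⟩
  obtain ⟨l, hl, c, hc, hr, rfl | rfl⟩ := (h.K0_sw hω hz t).2 g hg
  · exact ⟨c, ⟨hc, hr⟩, _, mem_sup_left (k l hl c hc hr), by group⟩
  · exact ⟨c, ⟨hc, hr⟩, _, mul_mem (mem_sup_left (k l hl c hc hr)) (mem_sup_right (mem_zpowers ω)), by group⟩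

theorem one_of {g : G} (h1 : g ∈ E6 φ (r i)) (h2 : g ∈ K0 (a i) (r i)) : g = 1 := mem_bot.1 (h.E_K0.le ⟨h1, h2⟩)

theorem M_norm : M6 φ (a i) (r i) ≤ normalizer (E6 φ (r i) : Set G) := sup_le le_normalizer h.K0_norm

theorem nrm {N : Subgroup G} (hN : N ≤ M6 φ (a i) (r i)) (hn : L0 z (a i) (r i) ≤ normalizer (N : Set G)) :
    N ≤ E6 φ (r i) ∨ L0 z (a i) (r i) ≤ E6 φ (r i) ⊔ N := by
  refine (h.L0_min (N := (E6 φ (r i) ⊔ N) ⊓ K0 (a i) (r i)) inf_le_right fun l hl => ?_).imp (fun e n hn => ?_)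
    fun e => e.trans inf_le_left
  · rw [mem_normalizer_iff_cj, cj_inf, cj_sup, mem_normalizer_iff_cj.1 (hn hl), cj_eq_of_mem (h.L0_le hl),
      mem_normalizer_iff_cj.1 (h.K0_norm (h.L0_le hl))]
  · obtain ⟨u, hu, c, hc, e1⟩ := h.mem_M.1 (hN hn)
    have : c ∈ E6 φ (r i) ⊔ N := (Subgroup.mul_mem_cancel_left _ (mem_sup_left hu)).1 (e1 ▸ mem_sup_right hn)
    rwa [e1, mem_bot.1 (e.le ⟨this, hc⟩), mul_one]

theorem E_sq {g : G} (hg : g ∈ E6 φ (r i)) : g * g ∈ zpowers (r i) :=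
  (h.cpr.sq hg).elim (fun e => e ▸ one_mem _) fun e => e ▸ mem_zpowers _

theorem zE : zpowers (r i) ≤ E6 φ (r i) := zpowers_le.2 h.cpr.es.mem

theorem zp_sq {g : G} (hg : g ∈ zpowers (r i)) : g * g = 1 := by
  rcases (Sect.mem_zpowers_two (h.rr i)).1 hg with rfl | rfl
  exacts [mul_one _, h.rr i]

variable {L : Type*} [Group L] [Finite L] {f : Cx (r i) →* L} (hf : ∀ x, f x = 1 ↔ (x : G) ∈ zpowers (r i))
include hf

theorem core (hs : Sm z π τ ∨ ¬ NoSw z τ) (fs : Function.Surjective f) : oddCore L = ⊥ := by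
  have ho := Core.odd_card_oddCore L
  have hn : Cx (r i) ≤ normalizer (qpre f (pPrimeCore 2 L) : Set G) := fun g hg =>
    norm_pre (x := ⟨g, hg⟩) (le_normalizer_of_normal (mem_top _))
  have h1 : qpre f (pPrimeCore 2 L) ⊓ M6 φ (a i) (r i) ≤ E6 φ (r i) := by
    refine (nrm h inf_le_right fun l hl => ?_).elim id fun e => False.elim ?_
    · rw [mem_normalizer_iff_cj, cj_inf, mem_normalizer_iff_cj.1 (hn (h.L0_le hl).2),
        cj_eq_of_mem (H := M6 φ (a i) (r i)) (mem_sup_right (h.L0_le hl))]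
    have h2 : r j ∈ ((E6 φ (r i) ⊔ qpre f (pPrimeCore 2 L) ⊓ M6 φ (a i) (r i) : Subgroup G) : Set G) :=
      e (h.er ▸ h.phi_L0 gr)
    rw [coe_mul_of_right_le_normalizer_left _ _ (inf_le_right.trans (M_norm h))] at h2
    obtain ⟨u, hu, n, ⟨h3, h4⟩, e1⟩ := h2
    obtain ⟨p, hp, hp'⟩ := h.exists_p
    have rK : r j ∈ K0 (a i) (r i) := h.er ▸ h.phi_K0 gr
    have e2 : p ⟨n, h4⟩ = ⟨r j, rK⟩ := by
      rw [← hp' ⟨r j, rK⟩, ← one_mul (p ⟨n, h4⟩), ← (hp ⟨u, mem_sup_left hu⟩).2 hu, ← map_mul]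
      exact congrArg p (Subtype.ext e1)
    have e3 := (hp (⟨n, h4⟩ ^ Nat.card (pPrimeCore 2 L))).2 (zE h ((hf (⟨n, h.M_le h4⟩ ^ Nat.card (pPrimeCore 2 L))).1 (by
      rw [map_pow]; exact orderOf_dvd_iff_pow_eq_one.1 (orderOf_dvd_natCard _ (mem_pre.1 h3)))))
    rw [map_pow, e2] at e3
    exact (h.q8 j).r1 (DihSyl.eq_one_of_odd_of_two_pow (k := 1) ho (congrArg Subtype.val e3) ((pow_two _).trans (h.rr j)))
  have h3 : (Nat.card (qpre f (pPrimeCore 2 L))).Coprime 3 := coprime_three_of fun u hu u3 => by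
    obtain ⟨g, hg, e⟩ := h.syl_K.exists_conj_mem (pre_le _ hu) (isPGroup_zpowers_of_pow (k := 1) u3)
    have SK : QQ.map φ ⊔ JE z a ⊓ Cx (r i) ≤ K0 (a i) (r i) :=
      sup_le (map_le_iff_le_comap.2 fun u _ => h.phi_K0 u) fun c hc => ⟨(mem_JE.1 hc.1).2 i, hc.2⟩
    have := h1 ⟨conj_mem_of_mem_normalizer (hn hg) hu, mem_sup_right (SK e)⟩
    exact conj_eq_one_iff.1 (eq_one_of_cop (m := 4) (by norm_num) ((RBx.f4 _).trans (zp_sq h (E_sq h this)))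
      (by rw [conj_pow, u3]; group))
  have cJ : Nat.card (JJ.map φ) = 81 := (card_map_of_injective h.inj).trans W4.cards.1
  have : IsMulCommutative (JJ.map φ) := ⟨⟨by
    rintro ⟨_, u, hu, rfl⟩ ⟨_, v, hv, rfl⟩
    exact Subtype.ext (by rw [Subgroup.coe_mul, Subgroup.coe_mul, ← map_mul, ← map_mul, JJ_comm hu hv])⟩⟩
  have h4 : qpre f (pPrimeCore 2 L) ≤ M6 φ (a i) (r i) := by
    refine Coprime.le_of_forall_centralizer_le (A := JJ.map φ) (fun hc => ?_)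
      (map_le_iff_le_comap.2 fun u _ => hn (h.phi_K0 u).2) ?_ ?_
    · obtain ⟨⟨_, u, hu, rfl⟩, hg⟩ := hc.exists_generator
      have := orderOf_dvd_of_pow_eq_one (show (⟨φ u, u, hu, rfl⟩ : JJ.map φ) ^ 3 = 1 from
        Subtype.ext (by rw [Subgroup.coe_pow, ← map_pow, JJ_cube hu, map_one]; rfl))
      rw [orderOf_eq_card_of_forall_mem_zpowers hg, cJ] at this
      omega
    · rw [cJ]; exact (Nat.Coprime.pow_right 4 h3).symm
    · rintro _ ⟨u, hu, rfl⟩ u1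
      exact (inf_le_inf_right _ (pre_le _)).trans (cK_v h hs hu fun e => u1 (by rw [e, map_one]))
  refine eq_bot_iff.2 fun w hw => ?_
  obtain ⟨w, rfl⟩ := fs w
  exact RankOne.eq_one_of_mul_self_eq_one ho hw (by
    rw [← map_mul, hf]; exact E_sq h (h1 ⟨mem_pre.2 hw, h4 (mem_pre.2 hw)⟩))

theorem norm_V {g : Cx (r i)} : f g ∈ normalizer (qim f (E6 φ (r i)) : Set L) ↔ (g : G) ∈ M6 φ (a i) (r i) :=
  (norm_im_iff hf (zE h) h.E_le).trans ⟨fun e => h.NE_le ⟨e, g.2⟩, fun e => M_norm h e⟩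

end E10

open E10 in
theorem EP.cK (h : EP z Q Qi r π τ a b x σ i j k φ) (hs : Sm z π τ ∨ ¬ NoSw z τ) : Cx (r i) ≤ M6 φ (a i) (r i) := by
  obtain ⟨L, _, _, f, fs, hf⟩ := exists_quo (K := Cx (r i)) (Z := zpowers (r i)) fun g hg =>
    mem_normalizer_iff_cj.2 (by rw [cj_zpowers, mem_Cx'.1 hg])
  obtain ⟨X, h1, h2, h3, h4⟩ := exists_X h
  obtain ⟨ψ, π₁, π₂, eψ, gc, sw⟩ := h.exists_gc h1 h2 h3
  obtain ⟨ω, C⟩ := U62K.exists_ctx FTHM.gf4_card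
  obtain ⟨ι, U⟩ := E62.S38.exists_UK C ((gc.u6 sw FTHM.gf4_card).imp_right fun ⟨G₀, e1, e2, e3⟩ =>
    ⟨G₀, normal_of_index_eq_two e1, e1, e2, e3⟩)
  have XM : E6 φ (r i) ⊔ X ≤ M6 φ (a i) (r i) := sup_le_sup_left h2 _
  have XK : X ≤ Cx (r i) := h2.trans inf_le_right
  have zX := (zE h).trans (le_sup_left (b := X))
  have dec : ∀ g ∈ E6 φ (r i) ⊔ X, ∃ c ∈ X, c⁻¹ * g ∈ E6 φ (r i) := fun g hg => by
    have h3 : g ∈ ((X ⊔ E6 φ (r i) : Subgroup G) : Set G) := by rwa [sup_comm]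
    rw [coe_mul_of_left_le_normalizer_right _ _ (h2.trans h.K0_norm)] at h3
    obtain ⟨c, hc, e, he, rfl⟩ := h3
    exact ⟨c, hc, by rwa [inv_mul_cancel_left]⟩
  have hr : qim f (E6 φ (r i) ⊔ X) ≤ normalizer (qim f (E6 φ (r i)) : Set L) := fun _ ⟨g, hg, e⟩ =>
    e ▸ (norm_V h hf).2 (XM hg)
  have hV : qim f (E6 φ (r i)) ≤ qim f (E6 φ (r i) ⊔ X) := fun _ ⟨g, hg, e⟩ => e ▸ mem_im (mem_sup_left hg)
  have : ((qim f (E6 φ (r i))).subgroupOf (qim f (E6 φ (r i) ⊔ X))).Normal := normal_subgroupOf_of_le_normalizer hr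
  let J : X →* qim f (E6 φ (r i) ⊔ X) := (f.comp (inclusion XK)).codRestrict _ fun c => mem_im (mem_sup_right c.2)
  obtain ⟨p, hp, ep⟩ := split J ((qim f (E6 φ (r i))).subgroupOf _)
    (fun c e => Subtype.ext (one_of h ((mem_im_iff hf (zE h)).1 e) (h2 c.2))) (by
      rintro ⟨_, g, hg, rfl⟩
      obtain ⟨c, hc, e⟩ := dec g hg
      have := mem_im (f := f) (x := (⟨c, XK hc⟩ : Cx (r i))⁻¹ * g) e
      rw [map_mul, map_inv] at this
      exact ⟨⟨c, hc⟩, this⟩)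
  obtain ⟨w, Lc⟩ := Cfsg.Agent.S3338.exists_loc C U hp (by
      rw [ep]
      rintro ⟨_, -⟩ ⟨u, hu, rfl⟩ ⟨_, -⟩ ⟨v, hv, rfl⟩
      refine Subtype.ext (mul_inv_eq_iff_eq_mul.1 ((cj_iff hf).1 ?_))
      rcases h.cpr.es.comm u hu v hv with e | e <;> rw [Cj, e]
      · rw [mul_inv_cancel_right, mul_inv_cancel]; exact one_mem _
      · rw [← mul_assoc, mul_inv_cancel_right, mul_inv_cancel_right]; exact mem_zpowers _)
    (by
      rw [ep]
      rintro ⟨_, -⟩ ⟨u, hu, rfl⟩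
      exact Subtype.ext ((map_mul f u u).symm.trans ((hf _).2 (E_sq h hu))))
    (by
      have := card_mul_relIndex' (zE h)
      rw [Nat.card_zpowers, ord_two (h.rr i) h.cpr.es.ne_one, show Nat.card (E6 φ (r i)) = _ from h.cpr.card] at this
      rw [ep, Nat.card_congr (subgroupOfEquivOfLe hV).toEquiv, card_im hf h.E_le]
      omega)
    (by
      rw [ep]
      rintro ⟨_, _⟩ ⟨u, hu, rfl⟩ e
      refine Subtype.ext ((hf u).2 ((Sect.mem_zpowers_two (h.rr i)).2 (h.cE_J hu fun v _ => ?_)))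
      exact (cj_iff hf (g := ⟨φ v, (h.phi_K0 v).2⟩)).2 (congrArg Subtype.val (e ⟨φ v, h1 (h.phi_L0 v)⟩)))
  rw [ep] at Lc
  have := loc_normal (ψ := (qim f (E6 φ (r i) ⊔ X)).subtype) Subtype.val_injective (by rwa [range_subtype])
    (by rwa [range_subtype]) ?_ Lc (core h hf hs fs) ?_ fun N a1 a2 a3 a4 => ?_
  · exact fun g hg => (norm_V h hf (g := ⟨g, hg⟩)).1 (le_normalizer_of_normal (mem_top _))
  · have JM : JE z a ⊓ Cx (r i) ≤ M6 φ (a i) (r i) := fun c hc => mem_sup_right ⟨(mem_JE.1 hc.1).2 i, hc.2⟩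
    rw [range_subtype, ← relIndex_eq (P := qim f (JE z a ⊓ Cx (r i))) (fun _ ⟨g, hg, e⟩ => e ▸ (norm_V h hf).2 (JM hg))]
    · have p3 : IsPGroup 3 (qim f (JE z a ⊓ Cx (r i))) := isPGroup_iff_mem.2 fun _ ⟨g, hg, e⟩ =>
        ⟨1, by rw [← e, ← map_pow, show g ^ 3 ^ 1 = 1 from Subtype.ext (h.J3 _ hg.1), map_one]⟩
      obtain ⟨n, e⟩ := p3.index ((qim f (E6 φ (r i) ⊔ X)).subgroupOf _)
      rw [relIndex, e]
      exact Odd.pow (by decide)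
    intro g hg
    obtain ⟨g, rfl⟩ := fs g
    obtain ⟨e, he, c', hc', e1⟩ := h.mem_M.1 ((norm_V h hf).1 hg)
    obtain ⟨c, hc, u, hu, rfl⟩ := h4 c' hc'
    refine ⟨f ⟨c, hc.2⟩, mem_im hc, f (⟨c, hc.2⟩⁻¹ * g), mem_im ?_, by rw [← map_mul, mul_inv_cancel_left]⟩
    rw [Subgroup.coe_mul, e1, Subgroup.coe_inv, ← mul_assoc, ← mul_assoc]
    exact mul_mem (mem_sup_left (conj_mem_of_mem_normalizer' (M_norm h (JM hc)) he)) (mem_sup_right hu)
  · rintro g ⟨_, d, hd, rfl⟩ d3 d1 e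
    obtain ⟨g, rfl⟩ := fs g
    replace d3 : f d ^ 3 = 1 := congrArg Subtype.val d3
    have e1 : f (d ^ 4) = f d := by rw [map_pow, pow_succ, d3, one_mul]
    have e2 : ((d : G) ^ 4) ^ 3 = 1 := by
      rw [← pow_mul, show 4 * 3 = 3 * 2 * 2 from rfl, pow_mul, pow_mul, pow_two ((d : G) ^ 3),
        zp_sq h (g := d ^ 3) ((hf (d ^ 3)).1 ((map_pow f d 3).trans d3)), one_pow]
    have sy := (IsSylowIn.of_sylow_subgroup gc.toGL0.sylow.toSylowTop).trans (le_sup_right (a := E6 φ (r i))) fun e3 =>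
      absurd (e3.trans (relIndex_dvd_card_of_le_sup le_sup_right (sup_comm _ _).le (h2.trans h.K0_norm)))
        (by rw [show Nat.card (E6 φ (r i)) = _ from h.cpr.card]; norm_num)
    obtain ⟨m, hm, _, ⟨u, hu, rfl⟩, e3⟩ := sy.exists_conj_mem (pow_mem hd 4) (isPGroup_zpowers_of_pow (k := 1) e2)
    replace e3 : φ u = m * d ^ 4 * m⁻¹ := (eψ u).symm.trans e3
    obtain ⟨l, hl, v, hv, e4⟩ := h.conj_J4 hu (h.inj (by rw [map_pow, e3, conj_pow, e2, map_one]; group))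
    have v1 : v ≠ 1 := fun e5 => d1 (Subtype.ext (by
      rw [e5, map_one, conj_eq_one_iff, e3, conj_eq_one_iff] at e4
      exact e1.symm.trans ((hf _).2 (by rw [Subgroup.coe_pow, e4]; exact one_mem _))))
    have lm : l * m ∈ M6 φ (a i) (r i) := mul_mem (mem_sup_right (h.L0_le hl)) (XM hm)
    refine (norm_V h hf).2 ((Subgroup.mul_mem_cancel_right _ (inv_mem lm)).1
      (h.uqK hv v1 (cK_v h hs hv v1) (mul_mem g.2 (inv_mem (h.M_le lm))) ?_))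
    convert (norm_V h hf (g := g * d ^ 4 * g⁻¹)).1 (by rwa [map_mul, map_mul, map_inv, e1]) using 1
    rw [← e4, e3]
    simp only [Subgroup.coe_mul, Subgroup.coe_inv, Subgroup.coe_pow]
    group
  · have EN : E6 φ (r i) ≤ qpre f N := fun g hg => (mem_pre (x := ⟨g, h.E_le hg⟩)).2 (a1.le (mem_im hg))
    rcases nrm h (N := qpre f N) (fun _ ⟨g, hg, e⟩ => e ▸ (norm_V h hf).1 (a2 hg)) (fun l hl =>
      norm_pre (x := ⟨l, (h.L0_le hl).2⟩) (a3 ((norm_V h hf).2 (mem_sup_right (h.L0_le hl))))) with e | e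
    · refine a1.not_ge fun g hg => ?_
      obtain ⟨g, rfl⟩ := fs g
      exact mem_im (e (mem_pre.2 hg))
    · have zL : z ∈ L0 z (a i) (r i) := h.ez ▸ h.phi_L0 gz
      rw [sup_eq_right.2 EN] at e
      rw [range_subtype] at a4
      exact h.z1 (one_of h ((mem_im_iff hf (zE h) (x := ⟨z, XK (h1 zL)⟩)).1
        (a4 ⟨mem_pre.1 (e zL), mem_im (mem_sup_right (h1 zL))⟩)) (h.L0_le zL))

end CfsgLib.Rec3E
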