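import Cfsg.Agent.Lib.Rec3E.F2

/-! A conjugate of `z` lies in `Q`: `EH.exists_in_Q` is proved in `Lib/Rec3E/F2`. -/
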