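import Cfsg.Agent.Lib.Rec3E.Defs
import Cfsg.Agent.Lib.Rec3B.F2

/-! Subgroups of exponent three of `C(z) / Q ≤ SL₂(3) ≀ S₃`. -/

set_option autoImplicit false
set_option maxRecDepth 100000
set_option maxHeartbeats 400000
set_option linter.unusedSectionVars false
set_option linter.unusedVariables false

namespace CfsgLib.Rec3E

open Subgroup Cfsg CfsgLib.Tech CfsgLib.PComp CfsgLib.W2 CfsgLib.Rec3 CfsgLib.Rec3B
open CfsgLib.U43 (SL)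

variable {G : Type*} [Group G] [Finite G]

namespace T3x

open CfsgLib.Sect Es NBx FT FBx F3x

theorem three_mul {K L : Subgroup G} (hK : K ≤ L) (hL : IsPGroup 3 L) (hn : ¬ L ≤ K) :
    3 * Nat.card K ≤ Nat.card L := by
  by_cases c : K.relIndex L ≤ 3
  · exact (eq3 hK hL c hn).ge
  · rw [card_eq_relIndex' hK, mul_comm]
    exact Nat.mul_le_mul_left _ (by omega)

theorem p3 {D : Subgroup G} (e3 : ∀ u ∈ D, u ^ 3 = 1) : IsPGroup 3 D :=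
  isPGroup_iff_mem.2 fun p hp => ⟨1, e3 p hp⟩

section

variable {n : ℕ} {z g k : G} {Q : Subgroup G} {Qi : Fin n → Subgroup G} {r : Fin n → G} {π : Fin n → G → SL}
  {τ : G → Equiv.Perm (Fin n)} (h : NH z Q Qi r π τ) {i j : Fin n}
include h

theorem cj_H0 (hg : g ∈ Cx z) (hk : k ∈ h.H0) : g * k * g⁻¹ ∈ h.H0 := by
  obtain ⟨k1, k2⟩ := h.mem_H0.1 hk
  refine h.mem_H0.2 ⟨mul_mem (mul_mem hg k1) (inv_mem hg), ?_⟩
  rw [h.τm _ (mul_mem hg k1) _ (inv_mem hg), h.τm _ hg _ k1, k2, h.τ_inv hg, mul_one, mul_inv_cancel]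

theorem π_cj (hg : g ∈ Cx z) (hk : k ∈ h.H0) (m : ℕ) : π (τ g i) (g * k * g⁻¹) ^ m = 1 ↔ π i k ^ m = 1 := by
  have a := cj_H0 h hg hk
  have b := h.mem_St.1 (pow_mem (h.H0_le (τ g i) a) m)
  have c := h.mem_St.1 (pow_mem (h.H0_le i hk) m)
  rw [← h.π_pow (h.H0_le _ a), ← h.π_pow (h.H0_le _ hk), h.πk _ _ b.1 b.2, h.πk _ _ c.1 c.2, conj_pow]
  constructor
  · intro e q hq
    have := e _ (h.cj_mem hg hq)
    rw [← zcj this (inv_mem hg)] at this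
    convert this using 1
    group
  · intro e q hq
    have := e _ (mem_cj.1 ((h.τa g hg i).ge hq))
    rw [← zcj this hg] at this
    convert this using 1
    group

theorem π_cj1 (hg : g ∈ Cx z) (hk : k ∈ h.H0) : π (τ g i) (g * k * g⁻¹) = 1 ↔ π i k = 1 := by
  simpa using π_cj h (i := i) hg hk 1

theorem Q_H0 (hg : g ∈ Q) : g ∈ h.H0 := h.mem_H0.2 ⟨h.zc hg, h.τ_Q hg⟩

/-- the kernel of `π i` -/
def Kr (i : Fin n) : Subgroup G := (h.πh i).ker.map (h.St i).subtype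

theorem mem_Kr : g ∈ Kr h i ↔ g ∈ h.St i ∧ π i g = 1 :=
  ⟨by rintro ⟨a, ha, rfl⟩; exact ⟨a.2, ha⟩, fun k => ⟨⟨_, k.1⟩, k.2, rfl⟩⟩

theorem Kr3 {D : Subgroup G} (hD : D ≤ h.H0) (h3 : IsPGroup 3 D) (i : Fin n) : (Kr h i).relIndex D ≤ 3 :=
  idx3 _ nine_SL (hD.trans (h.H0_le i)) h3

/-- an element that is trivial on a factor modulo `z` centralises the commutators with its centraliser -/
theorem cent_Im {f y : G} (hf : f ∈ Cx z) (fi : τ f i = i) (e : π i f = 1) (hy : y ∈ Cx z) (yi : τ y i = i)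
    (fy : f ∈ Cx y) : Im z (Qi i) y ≤ Cx f := fun m hm => by
  obtain ⟨p, hp, k⟩ := (mem_Im (h.ezi i).toHz (h.norm_Qi hy yi)).1 hm
  have k1 := (h.πk i f hf fi).1 e p hp
  have k2 : p * y * p⁻¹ * y⁻¹ ∈ Cx f := Cx_comm.1 (mem_Cx'.2 (by
    calc _ = f * p * f⁻¹ * p⁻¹ * (p * (f * y * f⁻¹) * p⁻¹) * (f * p * f⁻¹ * p⁻¹)⁻¹ * (f * y * f⁻¹)⁻¹ := by group
      _ = _ := by
        rw [mem_Cx'.1 fy, ← Es.zc k1 (mul_mem (mul_mem (h.Qz i hp) hy) (inv_mem (h.Qz i hp))), mul_inv_cancel_right]))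
  simpa only [inv_mul_cancel_right] using mul_mem (mem_Cx.2 (Es.zc k hf).symm) k2

end

variable {z : G} {Q D : Subgroup G} {Qi : Fin 3 → Subgroup G} {r : Fin 3 → G} {π : Fin 3 → G → SL}
  {τ : G → Equiv.Perm (Fin 3)} (h : NH z Q Qi r π τ)
include h

theorem H03 (hD : D ≤ Cx z) (h3 : IsPGroup 3 D) : h.H0.relIndex D ≤ 3 := idx3 h.τh nine_S3 hD h3

theorem le27_0 (hD : D ≤ h.H0) (h3 : IsPGroup 3 D) : Q.relIndex D ≤ 27 := by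
  rw [relIndex_congr (M := Kr h 0 ⊓ Kr h 1 ⊓ Kr h 2) fun g hg => ⟨fun k => by
    have := fun i => (mem_Kr h).2 ⟨h.H0_le i (hD hg), h.π_Q k⟩
    exact ⟨⟨this 0, this 1⟩, this 2⟩, fun k => h.mem_Q (h.mem_H0.1 (hD hg)).1 (h.mem_H0.1 (hD hg)).2 fun m => by
      fin_cases m
      exacts [((mem_Kr h).1 k.1.1).2, ((mem_Kr h).1 k.1.2).2, ((mem_Kr h).1 k.2).2]⟩]
  exact relIndex_inf_le.trans (Nat.mul_le_mul (relIndex_inf_le.trans (Nat.mul_le_mul (Kr3 h hD h3 0) (Kr3 h hD h3 1)))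
    (Kr3 h hD h3 2))

theorem single (hD : D ≤ h.H0) (h3 : IsPGroup 3 D) (h9 : ¬ Q.relIndex D ≤ 9) (i : Fin 3) :
    ∃ e ∈ D, π i e ≠ 1 ∧ ∀ j ≠ i, π j e = 1 := by
  by_contra hi
  push Not at hi
  apply h9
  obtain ⟨j, l, ji, li, al⟩ := (by decide : ∀ i : Fin 3, ∃ j l, j ≠ i ∧ l ≠ i ∧ ∀ m ≠ i, m = j ∨ m = l) i
  rw [relIndex_congr (M := Kr h j ⊓ Kr h l) fun g hg =>
    ⟨fun k => ⟨(mem_Kr h).2 ⟨h.H0_le j (hD hg), h.π_Q k⟩, (mem_Kr h).2 ⟨h.H0_le l (hD hg), h.π_Q k⟩⟩, fun k => ?_⟩]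
  · exact relIndex_inf_le.trans (Nat.mul_le_mul (Kr3 h hD h3 j) (Kr3 h hD h3 l))
  have f : ∀ m ≠ i, π m g = 1 := fun m hm => by
    rcases al m hm with rfl | rfl
    exacts [((mem_Kr h).1 k.1).2, ((mem_Kr h).1 k.2).2]
  refine h.mem_Q (h.mem_H0.1 (hD hg)).1 (h.mem_H0.1 (hD hg)).2 fun m => ?_
  by_cases e : m = i
  · subst e
    by_contra e
    obtain ⟨j, hj, e'⟩ := hi g hg e
    exact e' (f j hj)
  · exact f m e

theorem out (hD : D ≤ Cx z) (e3 : ∀ u ∈ D, u ^ 3 = 1) (c : ¬ D ≤ h.H0) : ∃ σ ∈ D, τ σ ≠ 1 ∧ τ σ ^ 3 = 1 := by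
  obtain ⟨σ, hσ, n0⟩ := SetLike.not_le_iff_exists.1 c
  exact ⟨σ, hσ, fun e => n0 (h.mem_H0.2 ⟨hD hσ, e⟩), by rw [← h.τ_pow (hD hσ), e3 σ hσ, h.τ_one]⟩

/-- `(e σ)³` acts on the factor `i` as `e` does, if `e` is trivial on the other factors -/
theorem cube_single {e σ : G} {i : Fin 3} (he : e ∈ h.H0) (σz : σ ∈ Cx z) (σ1 : τ σ ≠ 1) (σ3 : τ σ ^ 3 = 1)
    (e2 : ∀ j ≠ i, π j e = 1) :
    (e * σ) ^ 3 * (σ ^ 3)⁻¹ ∈ h.H0 ∧ π i ((e * σ) ^ 3 * (σ ^ 3)⁻¹) = π i e := by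
  have c1 := cj_H0 h σz he
  have c2 := cj_H0 h σz c1
  rw [show (e * σ) ^ 3 * (σ ^ 3)⁻¹ = e * (σ * e * σ⁻¹) * (σ * (σ * e * σ⁻¹) * σ⁻¹) by
    rw [pow_three, pow_three]; group]
  refine ⟨mul_mem (mul_mem he c1) c2, ?_⟩
  obtain ⟨j, rfl⟩ := (τ σ).surjective i
  obtain ⟨l, rfl⟩ := (τ σ).surjective j
  obtain ⟨s1, s2, s3, -⟩ := three_orbit _ σ1 σ3 l
  rw [h.π_mul (h.H0_le _ (mul_mem he c1)) (h.H0_le _ c2), h.π_mul (h.H0_le _ he) (h.H0_le _ c1),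
    (π_cj1 h σz he).2 (e2 _ s3.symm), (π_cj1 h σz c1).2 ((π_cj1 h σz he).2 (e2 _ s2.symm)), mul_one, mul_one]

theorem out9 (hD : D ≤ Cx z) (e3 : ∀ u ∈ D, u ^ 3 = 1) (c : ¬ D ≤ h.H0) :
    Q.relIndex (D ⊓ h.H0 : Subgroup G) ≤ 9 := by
  by_contra k
  obtain ⟨σ, hσ, σ1, σ3⟩ := out h hD e3 c
  obtain ⟨e, he, e1, e2⟩ := single h inf_le_right ((p3 e3).to_le inf_le_left) k 0
  have := (cube_single h he.2 (hD hσ) σ1 σ3 e2).2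
  rw [e3 _ (mul_mem he.1 hσ), e3 _ hσ, inv_one, mul_one, h.π_one] at this
  exact e1 this.symm

theorem le27 (hD : D ≤ Cx z) (e3 : ∀ u ∈ D, u ^ 3 = 1) : Q.relIndex D ≤ 27 := by
  by_cases c : D ≤ h.H0
  · exact le27_0 h c (p3 e3)
  · exact (relIndex_le_mul Q D h.H0).trans (Nat.mul_le_mul (out9 h hD e3 c) (H03 h hD (p3 e3)))

theorem ab_le (hD : D ≤ Cx z) (e3 : ∀ u ∈ D, u ^ 3 = 1) (hc : ∀ u ∈ D, ∀ v ∈ D, u * v * u⁻¹ * v⁻¹ ∈ Q)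
    (h9 : ¬ Q.relIndex D ≤ 9) : D ≤ h.H0 := by
  by_contra c
  obtain ⟨σ, hσ, σ1, σ3⟩ := out h hD e3 c
  refine h9 ((relIndex_le_mul Q D h.H0).trans (Nat.mul_le_mul (?_ : _ ≤ 3) (H03 h hD (p3 e3))))
  have k : ∀ g ∈ D ⊓ h.H0, ∀ i, π i g = 1 → π (τ σ i) g = 1 := fun g hg i e => by
    have := (π_cj1 h (hD hσ) hg.2).2 e
    rwa [show σ * g * σ⁻¹ = σ * g * σ⁻¹ * g⁻¹ * g by group, π_mul_Q h (hc σ hσ g hg.1) (hD hg.1)
      (by rw [(h.mem_H0.1 hg.2).2]; rfl)] at this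
  rw [relIndex_congr (H := D ⊓ h.H0) (M := Kr h 0) fun g hg =>
    ⟨fun k => (mem_Kr h).2 ⟨h.H0_le 0 hg.2, h.π_Q k⟩, fun e => h.mem_Q (hD hg.1) (h.mem_H0.1 hg.2).2 fun j => by
      have e0 := ((mem_Kr h).1 e).2
      rcases (three_orbit _ σ1 σ3 0).2.2.2 j with rfl | rfl | rfl
      exacts [e0, k g hg _ e0, k g hg _ (k g hg _ e0)]⟩]
  exact Kr3 h inf_le_right ((p3 e3).to_le inf_le_left) 0

/-- no four-group all of whose involutions invert an element of order three outside `Q` -/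
theorem four {s t u v : G} (sz : s ∈ Cx z) (tz : t ∈ Cx z) (ss : s * s = 1) (tt : t * t = 1) (st : s * t = t * s)
    (uz : u ∈ Cx z) (u3 : u ^ 3 = 1) (uQ : u ∉ Q) (vz : v ∈ Cx z) (v3 : v ^ 3 = 1) (vQ : v ∉ Q)
    (su : s * u * s⁻¹ = u⁻¹) (tu : t ∈ Cx u) (tv : t * v * t⁻¹ = v⁻¹) : False := by
  have a1 := h.τ_ne sz ss uz u3 uQ su
  have a2 := h.τ_ne tz tt vz v3 vQ tv
  have a3 := h.τ_ne (mul_mem sz tz) (by
    calc _ = s * (t * s) * t := by group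
      _ = s * s * (t * t) := by rw [← st]; group
      _ = 1 := by rw [ss, tt, mul_one]) uz u3 uQ (by
    calc _ = s * (t * u * t⁻¹) * s⁻¹ := by group
      _ = _ := by rw [mem_Cx'.1 tu, su])
  rw [h.τm s sz t tz] at a3
  refine (by decide +kernel : ∀ a b : Equiv.Perm (Fin 3), a * a = 1 → b * b = 1 → a * b = b * a → a ≠ 1 → b ≠ 1 →
    a * b ≠ 1 → False) _ _ ?_ ?_ ?_ a1 a2 a3
  · rw [← h.τm s sz s sz, ss, h.τ_one]
  · rw [← h.τm t tz t tz, tt, h.τ_one]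
  · rw [← h.τm s sz t tz, st, h.τm t tz s sz]

end T3x

end CfsgLib.Rec3E
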