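import Cfsg.Agent.Lib.Rec3E.Defs
import Cfsg.Agent.Lib.Rec3B.ULb
import Cfsg.Agent.Lib.Rec3B.FB
import Cfsg.Agent.Lib.Rec3E.T3

/-! Elements of order three in `C(z)` (plans/REC3E.md, EB). -/

set_option autoImplicit false
set_option maxRecDepth 100000
set_option maxHeartbeats 400000
set_option linter.unusedSectionVars false
set_option linter.unusedVariables false

namespace CfsgLib.Rec3E

open Subgroup Cfsg CfsgLib.Tech CfsgLib.PComp CfsgLib.W2 CfsgLib.Rec3 CfsgLib.Rec3B CfsgLib.Rec3B.W4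
open CfsgLib.U43 (SL)
open CfsgLib.Rec3B.Es (cmz)

variable {G : Type*} [Group G] [Finite G]
variable {z x σ : G} {Q : Subgroup G} {Qi : Fin 3 → Subgroup G} {r a b : Fin 3 → G} {π : Fin 3 → G → SL}
  {τ : G → Equiv.Perm (Fin 3)} {i j k : Fin 3} {φ : W4 →* G}

namespace EBp

open CfsgLib.Sect Es NBx

theorem memz {g z x : G} : x ∈ zpowers (g * z * g⁻¹) ↔ g⁻¹ * x * g ∈ zpowers z := by
  rw [← cj_zpowers, mem_cj]

theorem memC {g a x : G} : x ∈ Cx (g * a * g⁻¹) ↔ g⁻¹ * x * g ∈ Cx a := by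
  rw [← conj_mem_Cx (g := g) (x := a)]
  exact Iff.of_eq (congrArg (· ∈ Cx (g * a * g⁻¹)) (by group))

theorem cmul (g a b : G) : g⁻¹ * (a * b) * g = g⁻¹ * a * g * (g⁻¹ * b * g) := by group

theorem ccm (g a b : G) : g⁻¹ * (a * b * a⁻¹ * b⁻¹) * g =
    g⁻¹ * a * g * (g⁻¹ * b * g) * (g⁻¹ * a * g)⁻¹ * (g⁻¹ * b * g)⁻¹ := by group

variable {n : ℕ} {Qi : Fin n → Subgroup G} {r : Fin n → G} {π : Fin n → G → SL} {τ : G → Equiv.Perm (Fin n)}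
variable (h : NH z Q Qi r π τ) {g q p u v a c y x : G} {i j : Fin n}
include h

theorem H0z (hg : g ∈ h.H0) : g ∈ Cx z := (h.mem_H0.1 hg).1

theorem H0i (hg : g ∈ h.H0) (i : Fin n) : τ g i = i := by rw [(h.mem_H0.1 hg).2]; rfl

theorem H0n (hg : g ∈ h.H0) (hq : q ∈ Qi i) : g * q * g⁻¹ ∈ Qi i :=
  conj_mem_of_mem_normalizer (h.norm_Qi (H0z h hg) (H0i h hg i)) hq

theorem H0c (hy : y ∈ h.H0) (hq : q ∈ Qi i) : q * y * q⁻¹ * y⁻¹ ∈ Qi i := by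
  simpa [mul_assoc] using mul_mem hq (H0n h hy (inv_mem hq))

/-- the product of the other factors lies in here -/
theorem oth (hij : j ≠ i) : Qi j ≤ Q ⊓ centralizer (Qi i : Set G) ⊓ Cx (r i) := fun q hq =>
  ⟨⟨h.le j hq, mem_centralizer_iff.2 fun p hp => h.cm i j hij.symm p hp q hq⟩, h.rj i j hij.symm hq⟩

theorem split1 {v : Fin n → G} (hv : ∀ i, v i ∈ Qi i) (i : Fin n) :
    ∃ w ∈ Q ⊓ centralizer (Qi i : Set G) ⊓ Cx (r i), (List.ofFn v).prod = v i * w := by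
  obtain ⟨a, ha, b, hb, e⟩ := prod_split (K := Q ⊓ centralizer (Qi i : Set G) ⊓ Cx (r i)) v i
    fun j hj => oth h hj (hv j)
  exact ⟨a * b, mul_mem ha hb, by rw [e, ← mem_centralizer_iff.1 ha.1.2 _ (hv i), mul_assoc]⟩

theorem dec1 (hq : q ∈ Q) (i : Fin n) :
    ∃ u ∈ Qi i, ∃ w ∈ Q ⊓ centralizer (Qi i : Set G) ⊓ Cx (r i), q = u * w := by
  obtain ⟨v, hv, rfl⟩ := h.dec q hq
  obtain ⟨w, hw, e⟩ := split1 h hv i
  exact ⟨v i, hv i, w, hw, e⟩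

theorem cong (hq : q ∈ Q) (hx : x ∈ Cx z) (hp : p ∈ Q) :
    p * (q * x) * p⁻¹ * (q * x)⁻¹ * (p * x * p⁻¹ * x⁻¹)⁻¹ ∈ zpowers z := by
  have := h.cmt q hq _ (conj_mem_of_mem_normalizer (h.norm_Q hx) (inv_mem hp))
  rw [← zcj this (h.zc hp)] at this
  convert this using 1
  group

theorem cmz_iff (hq : q ∈ Q) (hx : x ∈ Cx z) (hp : p ∈ Q) : p ∈ cmz z (q * x) ↔ p ∈ cmz z x :=
  and_congr_right fun _ => ⟨fun e => inv_mem_iff.1 ((mul_mem_cancel_left e).1 (cong h hq hx hp)),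
    fun e => (mul_mem_cancel_right (inv_mem e)).1 (cong h hq hx hp)⟩

theorem c9 (ha : a ∈ Qi i) (hn : a ∉ zpowers z) : Nat.card (Qi i) = 3 * Nat.card (Qi i ⊓ Cx a : Subgroup G) ∧
    Nat.card (Qi i ⊓ Cx a : Subgroup G) = 3 * Nat.card (zpowers z) := by
  have c3 := (h.ezi i).card3 ha fun k => hn (h.cen i a ha fun y hy => mem_Cx.1 (k hy))
  have := h.cardi i
  exact ⟨c3, by rw [cardZ h.z1 h.z3]; omega⟩

theorem le9 (ha : a ∈ Qi i) (hn : a ∉ zpowers z) {L : Subgroup G} (hz : z ∈ L) (aL : a ∈ L) : Qi i ⊓ Cx a ≤ L :=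
  max3 (zpowers_le.2 hz) ((h.ezi i).cent ha).ZP (c9 h ha hn).2 aL ⟨ha, mem_Cx.2 rfl⟩ hn

theorem zm (hy : y ∈ Cx z) : z ∈ cmz z y :=
  ⟨mem_Cx.2 rfl, by rw [ul_cx.2 (Cx_comm.1 hy)]; exact one_mem _⟩

end EBp

namespace EB

open CfsgLib.Sect Es NBx EBp

section gen

variable {n : ℕ} {Qi : Fin n → Subgroup G} {r : Fin n → G} {π : Fin n → G → SL} {τ : G → Equiv.Perm (Fin n)}
variable (h : NH z Q Qi r π τ) {g q p u c y : G} {i j : Fin n}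
include h

theorem conj (g : G) : NH (g * z * g⁻¹) (cj g Q) (fun i => cj g (Qi i)) (fun i => g * r i * g⁻¹)
    (fun i y => π i (g⁻¹ * y * g)) (fun y => τ (g⁻¹ * y * g)) := by
  refine ⟨fun e => h.z1 (by simpa using e), fun i => conj_mem_cj.2 (h.zQ i), fun i => cj_mono g (h.le i),
    fun q hq => memC.2 (h.zc (mem_cj.1 hq)), ?_, (card_cj g Q).trans h.card, fun i => (card_cj g _).trans (h.cardi i),
    fun q hq => ?_, fun p hp q hq => memz.2 (ccm g p q ▸ h.cmt _ (mem_cj.1 hp) _ (mem_cj.1 hq)),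
    fun i q hq e => memz.2 (h.cen i _ (mem_cj.1 hq) fun y hy => ?_), fun i j ij p hp q hq => ?_, fun q hq => ?_,
    fun a ha e => mem_cj.2 (h.faith _ (memC.1 ha) fun q hq => ?_),
    fun a ha b hb => by rw [cmul, h.τm _ (memC.1 ha) _ (memC.1 hb)], fun a ha i => ?_,
    fun i a ha a1 b hb b1 => by rw [cmul, h.πm i _ (memC.1 ha) a1 _ (memC.1 hb) b1], fun i a ha a1 => ?_,
    fun i => conj_mem_Cx.2 (h.rz i), fun i => by rw [conj_mul, h.rr]; group, fun i j => by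
      rw [conj_mul, conj_mul, h.rm], fun i q hq => memz.2 ?_, fun i j ij q hq => memC.2 (h.rj i j ij (mem_cj.1 hq))⟩
  · rw [← cj_zpowers, ← cj_normalizer, ← cj_normalizer]
    exact cj_mono g h.nQ
  · have := h.exp _ (mem_cj.1 hq)
    calc q ^ 3 = g * (g⁻¹ * q * g) ^ 3 * g⁻¹ := by rw [← conj_pow]; group
      _ = 1 := by rw [this]; group
  · have := e _ (conj_mem_cj.2 hy)
    calc _ = g⁻¹ * (g * y * g⁻¹ * q) * g := by group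
      _ = _ := by rw [this]; group
  · have := h.cm i j ij _ (mem_cj.1 hp) _ (mem_cj.1 hq)
    calc _ = g * (g⁻¹ * p * g * (g⁻¹ * q * g)) * g⁻¹ := by group
      _ = _ := by rw [this]; group
  · obtain ⟨y, hy, e⟩ := h.dec _ (mem_cj.1 hq)
    refine ⟨fun i => g * y i * g⁻¹, fun i => conj_mem_cj.2 (hy i), ?_⟩
    have := map_list_prod (MulAut.conj g) (List.ofFn y)
    rw [← e, List.map_ofFn] at this
    refine Eq.trans ?_ this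
    rw [MulAut.conj_apply]; group
  · have := memz.1 (e _ (conj_mem_cj.2 hq))
    convert this using 1
    group
  · rw [← h.τa _ (memC.1 ha), ← cj_mul, ← cj_mul]
    congr 1
    group
  · rw [h.πk i _ (memC.1 ha) a1]
    refine ⟨fun e q hq => memz.2 (ccm g a q ▸ e _ (mem_cj.1 hq)), fun e q hq => ?_⟩
    have := memz.1 (e _ (conj_mem_cj.2 hq))
    convert this using 1
    group
  · have := h.ri i _ (mem_cj.1 hq)
    convert this using 1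
    group

theorem π_cj (hg : g ∈ Cx z) (hy : y ∈ h.H0) (m : ℕ) : π (τ g i) (g * y * g⁻¹) ^ m = 1 ↔ π i y ^ m = 1 := by
  exact T3x.π_cj h hg hy m

theorem pk (hy : y ∈ h.H0) : π i y = 1 ↔ Qi i ≤ cmz z y := by
  exact (h.πk i y (H0z h hy) (H0i h hy i)).trans
    ⟨fun e q hq => ⟨h.Qz i hq, cmt_symm (e q hq)⟩, fun e q hq => cmt_symm (e hq).2⟩

theorem dec0 (hy : y ∈ h.H0) (y3 : y ^ 3 ∈ Q) : ∃ q ∈ Q, ∃ c ∈ h.H0, (∀ i, c ∈ Cx (r i)) ∧ y = q * c ∧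
    (∀ i, π i c = π i y) ∧ c ^ 3 ∈ zpowers z := by
  obtain ⟨q, hq, c, cz, cρ, e, t, k⟩ := h.ul_dec (H0z h hy)
  have t1 := t.trans (h.mem_H0.1 hy).2
  have c0 : c ∈ h.H0 := h.mem_H0.2 ⟨cz, t1⟩
  have k3 : ∀ i, π i (c ^ 3) = 1 := fun i => by
    rw [(h.ul_hm i).pow c0, k i (H0i h hy i), ← (h.ul_hm i).pow hy, h.π_Q y3]
  exact ⟨q, hq, c, c0, h.ul_cr cz cρ t1, e, fun i => k i (H0i h hy i),
    h.inf_X.le ⟨h.mem_Q (pow_mem cz 3) (h.mem_H0.1 (pow_mem c0 3)).2 k3, pow_mem cρ 3⟩⟩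

theorem F1 (hy : y ∈ h.H0) (y3 : y ^ 3 ∈ Q) (i : Fin n) :
    ∃ c ∈ Qi i, c ∉ zpowers z ∧ c ∈ cmz z y ∧ r i * c * (r i)⁻¹ = c⁻¹ := by
  suffices ∃ a ∈ Qi i, a ∉ zpowers z ∧ a ∈ cmz z y by
    obtain ⟨a, h1, h2, h3⟩ := this
    obtain ⟨w, hw, e⟩ := rp h.z3 (h.rz i) (h.Qz i h1) (h.ri i a h1)
    exact ⟨_, mul_mem (h.ZQi i hw) h1, mt (mul_mem_cancel_left hw).1 h2,
      mul_mem (zpowers_le.2 (zm h (H0z h hy)) hw) h3, e⟩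
  by_cases e : π i y = 1
  · obtain ⟨a, ha, hn⟩ := SetLike.not_le_iff_exists.1 (h.not_le i)
    exact ⟨a, ha, hn, (pk h hy).1 e ha⟩
  obtain ⟨q, hq, c, c0, cr, rfl, e1, c3⟩ := dec0 h hy y3
  obtain ⟨a, b, k, -, -, ab, ca, -⟩ := h.basis (H0z h c0) (H0i h c0 i) (cr i) c3 (e1 i ▸ e)
  have ha : a ∈ Qi i := k ▸ subset_closure (by simp)
  have hb : b ∈ Qi i := k ▸ subset_closure (by simp)
  refine ⟨a, ha, fun m => h.z1 ?_, (cmz_iff h hq (H0z h c0) (h.le i ha)).2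
    ⟨h.Qz i ha, by rw [ul_cx.2 (mem_Cx.2 ca.symm)]; exact one_mem _⟩⟩
  rw [← Es.zc m (h.Qz i hb)] at ab
  simpa using ab.symm

theorem F2 (hy : y ∈ h.H0) (e : π i y ≠ 1) (hc : c ∈ Qi i) (hn : c ∉ zpowers z) (cy : c ∈ cmz z y) (hp : p ∈ Qi i) :
    p ∈ cmz z y ↔ p ∈ Cx c := by
  have l := le9 h hc hn (zm h (H0z h hy)) cy
  refine ⟨fun k => by_contra fun n => e ((pk h hy).2 ?_), fun k => l ⟨hp, k⟩⟩
  exact max3 l inf_le_left (c9 h hc hn).1 k hp fun m => n m.2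

theorem ab (hy : y ∈ h.H0) (e : π i y ≠ 1) (hc : c ∈ Qi i) (cy : c ∈ cmz z y) (hp : p ∈ Qi i)
    (py : p ∈ cmz z y) : p ∈ Cx c := by
  by_cases hn : c ∈ zpowers z
  · exact mem_Cx.2 (Es.zc hn (h.Qz i hp))
  · exact (F2 h hy e hc hn cy hp).1 py

theorem F5' (hy : y ∈ h.H0) (y3 : y ^ 3 ∈ Q) (hp : p ∈ Qi i) : p * y * p⁻¹ * y⁻¹ ∈ cmz z y := by
  obtain ⟨a, ha, hn, ay, -⟩ := F1 h hy y3 i
  refine le9 h ha hn (zm h (H0z h hy)) ay ⟨H0c h hy hp, mem_Cx'.2 ?_⟩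
  have yz := H0z h hy
  have hp' := H0n h hy (inv_mem hp)
  have e := cmt_symm ay.2
  have k3 := (h.ezi i).cmt _ (inv_mem hp) a ha
  have k4 : y * p⁻¹ * y⁻¹ * a * (y * p⁻¹ * y⁻¹)⁻¹ = p⁻¹ * a * p⁻¹⁻¹ := by
    rw [← mul_right_inj (y * a * y⁻¹ * a⁻¹)]
    calc _ = y * p⁻¹ * y⁻¹ * (y * a * y⁻¹ * a⁻¹) * (y * p⁻¹ * y⁻¹)⁻¹ * (y * p⁻¹ * y⁻¹ * a * (y * p⁻¹ * y⁻¹)⁻¹) := by
          rw [zcj e (h.Qz i hp')]
      _ = y * (p⁻¹ * a * p⁻¹⁻¹ * a⁻¹) * y⁻¹ * (y * a * y⁻¹ * a⁻¹) * a := by group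
      _ = _ := by rw [zcj k3 yz, Es.zc e (zle k3)]; group
  calc _ = p * (y * p⁻¹ * y⁻¹ * a * (y * p⁻¹ * y⁻¹)⁻¹) * p⁻¹ := by group
    _ = a := by rw [k4]; group

theorem F3 (hy : y ∈ h.H0) (y3 : y ^ 3 ∈ Q) (e : π i y ≠ 1) (hq : q ∈ Qi i) (qy : q ∈ cmz z y) :
    ∃ p ∈ Qi i, p * y * p⁻¹ * y⁻¹ * q⁻¹ ∈ zpowers z := by
  obtain ⟨b, hb, nb⟩ := SetLike.not_le_iff_exists.1 (mt (pk h hy).2 e)
  have hc := H0c h hy hb
  have cn : b * y * b⁻¹ * y⁻¹ ∉ zpowers z := fun k => nb ⟨h.Qz i hb, k⟩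
  obtain ⟨m, hm, w, hw, rfl⟩ := (mem_sup_of_comm (A := zpowers (b * y * b⁻¹ * y⁻¹)) (B := zpowers z)
    fun u hu w hw => Es.zc hw (h.Qz i (zpowers_le.2 hc hu))).1
    (le9 h hc cn (mem_sup_right (mem_zpowers z)) (mem_sup_left (mem_zpowers _))
      ⟨hq, (F2 h hy e hc cn (F5' h hy y3 hb) hq).1 qy⟩)
  rcases three_cases (h.exp _ (h.le i hc)) hm with rfl | rfl | rfl
  · exact ⟨1, one_mem _, by simpa using hw⟩
  · refine ⟨b, hb, ?_⟩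
    rw [mul_inv_rev, ← mul_assoc, zcj (inv_mem hw) (h.Qz i hc)]
    exact inv_mem hw
  · refine ⟨b⁻¹, inv_mem hb, ?_⟩
    have k := (h.ezi i).cmt _ (inv_mem hb) _ (inv_mem hc)
    rw [← Es.zc hw (inv_mem (h.Qz i hc)) |>.symm, mul_inv_rev, ← mul_assoc, mul_mem_cancel_right (inv_mem hw)]
    convert k using 1
    group

theorem F4 (hy : y ∈ Cx z) (hr : y ∈ Cx (r i)) (hq : q ∈ Qi i) (e : q ∈ cmz z y) : q ∈ Cx y := by
  obtain ⟨w, hw, k⟩ := rp h.z3 (h.rz i) (h.Qz i hq) (h.ri i q hq)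
  have hp := mul_mem (h.ZQi i hw) hq
  have e' := mul_mem (zpowers_le.2 (zm h hy) hw) e
  rw [← mul_mem_cancel_left (mem_Cx.2 (Es.zc hw hy).symm)]
  generalize w * q = p at hp k e'
  have := un h.z3 (h.rz i) (h.Qz i hp) (cmt_symm e'.2) k (by
    rw [inv_mul_cancel_right]
    calc _ = r i * y * (r i)⁻¹ * (r i * p * (r i)⁻¹) * (r i * y * (r i)⁻¹)⁻¹ := by group
      _ = _ := by rw [k, mem_Cx'.1 (Cx_comm.1 hr)]; group)
  exact Cx_comm.1 (ul_cx.1 this)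

theorem F5 (hy : y ∈ h.H0) (y3 : y ^ 3 ∈ Q) (hp : p ∈ Qi i) : p * y * p⁻¹ * y⁻¹ ∈ cmz z y := by
  exact F5' h hy y3 hp

theorem split {v : Fin n → G} (hy : y ∈ h.H0) (hv : ∀ i, v i ∈ Qi i) (e : (List.ofFn v).prod ∈ cmz z y) (i : Fin n) :
    v i ∈ cmz z y := by
  obtain ⟨w, hw, k⟩ := split1 h hv i
  have hu := hv i
  rw [k] at e
  generalize v i = u at hu e
  have yn : y ∈ normalizer (centralizer (Qi i : Set G) : Set G) :=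
    mem_normalizer_iff_cj.2 (by rw [cj_centralizer, h.τa y (H0z h hy), H0i h hy])
  have k1 : w * y * w⁻¹ * y⁻¹ ∈ centralizer (Qi i : Set G) := by
    simpa [mul_assoc] using mul_mem hw.1.2 (conj_mem_of_mem_normalizer yn (inv_mem hw.1.2))
  have k2 : u * w * y * (u * w)⁻¹ * y⁻¹ = w * y * w⁻¹ * y⁻¹ * (u * y * u⁻¹ * y⁻¹) := by
    calc _ = u * (w * y * w⁻¹ * y⁻¹) * (y * u⁻¹ * y⁻¹) := by group
      _ = _ := by rw [mem_centralizer_iff.1 k1 u hu]; group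
  have k3 : u * w * y * (u * w)⁻¹ * y⁻¹ ∈ centralizer (Qi i : Set G) :=
    mem_centralizer_iff.2 fun p hp => Es.zc e.2 (h.Qz i hp)
  rw [k2, mul_mem_cancel_left k1] at k3
  exact ⟨h.Qz i hu, h.cen i _ (H0c h hy hu) (mem_centralizer_iff.1 k3)⟩

theorem to_r (hy : y ∈ h.H0) (y3 : y ^ 3 ∈ Q) (e : π i y ≠ 1) (hc : c ∈ Qi i) (hn : c ∉ zpowers z) (cy : c ∈ Cx y) :
    ∃ p ∈ Qi i, p * y * p⁻¹ ∈ Cx (r i) := by
  obtain ⟨q, hq, d, c0, cr', rfl, e1, c3⟩ := dec0 h hy y3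
  obtain ⟨u, hu, v, hv, rfl⟩ := dec1 h hq i
  have vc := mem_centralizer_iff.1 hv.1.2
  rw [← e1] at e
  have ac : c ∈ cmz z d := (cmz_iff h hq (H0z h c0) (h.le i hc)).1
    ⟨h.Qz i hc, by rw [ul_cx.2 cy]; exact one_mem _⟩
  have cr := cr' i
  have ua : u ∈ Cx c := by
    have := Cx_comm.1 cy
    rwa [mul_mem_cancel_right (Cx_comm.1 (F4 h (H0z h c0) cr hc ac)),
      mul_mem_cancel_right (mem_Cx.2 (vc c hc).symm)] at this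
  obtain ⟨p, hp, k⟩ := F3 h c0 (h.hz.ZP c3) e (inv_mem hu) ((F2 h c0 e hc hn ac (inv_mem hu)).2 (inv_mem ua))
  refine ⟨p, hp, ?_⟩
  have k1 := mul_mem ((h.ezi i).cmt p hp u hu) k
  rw [← zcj k (h.Qz i hu)] at k1
  have := mul_mem (mul_mem (zpowers_le.2 (Cx_comm.1 (h.rz i)) k1) hv.2) cr
  convert this using 1
  calc _ = p * u * p⁻¹ * (p * v * p⁻¹) * (p * d * p⁻¹ * d⁻¹) * d := by group
    _ = p * u * p⁻¹ * (v * (p * d * p⁻¹ * d⁻¹)) * d := by rw [vc p hp]; group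
    _ = _ := by rw [← vc _ (H0c h c0 hp)]; group

theorem cube (hy : y ∈ h.H0) (y3 : y ^ 3 ∈ Q) (hr : y ∈ Cx (r i)) (e : π i y ≠ 1) (hu : u ∈ Qi i)
    (e3 : (u * y) ^ 3 = y ^ 3) : u ∈ cmz z y := by
  have hc := H0c h hy (inv_mem hu)
  have cx := F5 h hy y3 (inv_mem hu)
  by_cases cn : u⁻¹ * y * u⁻¹⁻¹ * y⁻¹ ∈ zpowers z
  · exact (inv_mem_iff (H := cmz z y)).1 ⟨h.Qz i (inv_mem hu), cn⟩
  refine (F2 h hy e hc cn cx hu).2 ?_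
  have c1 := mem_Cx'.1 (Cx_comm.1 (F4 h (H0z h hy) hr hc cx))
  have c3 := h.exp _ (h.le i hc)
  have u3 := h.exp _ (h.le i hu)
  obtain ⟨c, ec⟩ : ∃ c, c = u⁻¹ * y * u⁻¹⁻¹ * y⁻¹ := ⟨_, rfl⟩
  rw [← ec] at c1 c3 hc ⊢
  have e1 : y * u * y⁻¹ = u * c := by rw [ec]; group
  have e2 : u * (u * c) * (u * c * c) = 1 := by
    rw [← mul_left_inj (y ^ 3), one_mul]
    refine Eq.trans ?_ e3
    calc _ = u * (y * u * y⁻¹) * (y * u * y⁻¹ * (y * c * y⁻¹)) * y ^ 3 := by rw [e1, c1]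
      _ = u * (y * u * y⁻¹) * (y * (u * c) * y⁻¹) * y ^ 3 := by group
      _ = _ := by rw [← e1, pow_three, pow_three]; group
  refine Cx_comm.1 (ul_cx.1 ?_)
  have w := (h.ezi i).cmt c hc u hu
  calc _ = u * u * (c * u * c⁻¹ * u⁻¹) * (u * u)⁻¹ * u ^ 3 * c ^ 3 := by
        rw [zcj w (mul_mem (h.Qz i hu) (h.Qz i hu)), u3, c3, mul_one, mul_one]
    _ = u * (u * c) * (u * c * c) := by simp [pow_three, mul_assoc]
    _ = 1 := e2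

theorem cross (hg : g ∈ h.H0) (hy : y ∈ h.H0) (y3 : y ^ 3 ∈ Q) (gy : g ∈ Cx y) (e : π i g ≠ 1)
    (e' : π i y = 1) (hc : c ∈ Qi i) (cg : c ∈ cmz z g) : c ∈ Cx y := by
  obtain ⟨q, hq, d, c0, cr, rfl, e1, -⟩ := dec0 h hy y3
  obtain ⟨u, hu, v, hv, rfl⟩ := dec1 h hq i
  have vc := mem_centralizer_iff.1 hv.1.2
  have cc := h.X_cent (H0z h c0) (H0i h c0 i) (cr i) ((e1 i).trans e')
  have k : ∀ p ∈ Qi i, v * d ∈ Cx p := fun p hp =>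
    mul_mem (mem_Cx.2 (vc p hp).symm) (Cx_comm.1 (cc hp))
  rw [mul_assoc] at gy ⊢
  refine Cx_comm.1 (mul_mem (ab h hg e hc cg hu ((inv_mem_iff (H := cmz z g)).1 ⟨h.Qz i (inv_mem hu),
    h.cen i _ (H0c h hg (inv_mem hu)) fun p hp => ?_⟩)) (k c hc))
  have k1 : g * (v * d) * g⁻¹ ∈ Cx p := by
    have := (conj_mem_Cx (g := g)).2 (k _ (H0n h (inv_mem hg) hp))
    rwa [show g * (g⁻¹ * p * g⁻¹⁻¹) * g⁻¹ = p by group] at this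
  have : u⁻¹ * g * u⁻¹⁻¹ * g⁻¹ = v * d * (g * (v * d) * g⁻¹)⁻¹ := by
    calc _ = u⁻¹ * (g * (u * (v * d)) * g⁻¹) * (g * (v * d) * g⁻¹)⁻¹ := by group
      _ = _ := by rw [mem_Cx'.1 gy]; group
  rw [this]
  exact (mem_Cx.1 (mul_mem (k p hp) (inv_mem k1))).symm

theorem dec (hy : y ∈ h.H0) (y3 : y ^ 3 ∈ Q) : ∃ q ∈ Q, ∃ c ∈ h.H0, (∀ i, c ∈ Cx (r i)) ∧ y = q * c ∧
    (∀ i, π i c = π i y) ∧ c ^ 3 ∈ zpowers z := by
  exact dec0 h hy y3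

end gen

variable (h : NH z Q Qi r π τ) {D : Subgroup G} {t : G}
include h

theorem t1 (hD : D ≤ Cx z) (h3 : ∀ d ∈ D, d ^ 3 = 1) : Q.relIndex D ≤ 27 := by
  exact T3x.le27 h hD h3

theorem t2 (hD : D ≤ Cx z) (h3 : ∀ d ∈ D, d ^ 3 = 1) (hc : ∀ u ∈ D, ∀ v ∈ D, u * v * u⁻¹ * v⁻¹ ∈ Q)
    (e : 27 ≤ Q.relIndex D) : D ≤ h.H0 ∧ ∀ i, ∃ u ∈ D, π i u ≠ 1 ∧ ∀ j, j ≠ i → π j u = 1 := by
  have k := T3x.ab_le h hD h3 hc (by omega)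
  exact ⟨k, T3x.single h k (T3x.p3 h3) (by omega)⟩

theorem t3 (ht : t ∈ Cx z) (tt : t * t = 1) (hD : D ≤ h.H0) (h3 : ∀ d ∈ D, d ^ 3 = 1)
    (e : ∀ d ∈ D, t * d * t⁻¹ = d⁻¹) (hQ : D ⊓ Q = ⊥) : Nat.card D ≤ 3 := by
  by_cases hb : D = ⊥
  · rw [hb, card_bot]; omega
  obtain ⟨⟨d, hd⟩, d1⟩ := ne_bot_iff_exists_ne_one.1 hb
  have nQ : ∀ d ∈ D, d ∈ Q → d = 1 := fun d hd k => mem_bot.1 (hQ ▸ (⟨hd, k⟩ : d ∈ D ⊓ Q))
  have t1 := h.τ_ne ht tt (H0z h (hD hd)) (h3 d hd) (fun k => d1 (Subtype.ext (nQ d hd k))) (e d hd)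
  have t2 : τ t * τ t = 1 := by rw [← h.τm t ht t ht, tt, h.τ_one]
  obtain ⟨i, j, ti, al⟩ := (by decide +kernel : ∀ s : Equiv.Perm (Fin 3), s * s = 1 → s ≠ 1 →
    ∃ i j, s i = i ∧ ∀ m, m = i ∨ m = j ∨ m = s j) _ t2 t1
  have tS : t ∈ h.St i := h.mem_St.2 ⟨ht, ti⟩
  have k := T3x.Kr3 h hD (T3x.p3 h3) j
  have k2 : T3x.Kr h j ⊓ D = ⊥ := eq_bot_iff.2 fun u hu => mem_bot.2 (nQ u hu.2 (by
    have u0 := hD hu.2
    have uj := ((T3x.mem_Kr h).1 hu.1).2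
    refine h.mem_Q (H0z h u0) (h.mem_H0.1 u0).2 fun m => ?_
    rcases al m with rfl | rfl | rfl
    · refine (by decide +kernel : ∀ s w : SL, s * s = 1 → w ^ 3 = 1 → s * w * s⁻¹ = w⁻¹ → w = 1) (π m t) _ ?_ ?_ ?_
      · rw [← h.π_mul tS tS, tt, h.π_one]
      · rw [← h.π_pow (h.H0_le m u0), h3 u hu.2, h.π_one]
      · rw [← h.π_inv tS, ← h.π_mul tS (h.H0_le m u0), ← h.π_mul (mul_mem tS (h.H0_le m u0)) (inv_mem tS),
          e u hu.2, h.π_inv (h.H0_le m u0)]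
    · exact uj
    · have := (T3x.π_cj1 h ht u0).2 uj
      rwa [e u hu.2, h.π_inv (h.H0_le _ u0), inv_eq_one] at this))
  rwa [← inf_relIndex_right, k2, relIndex_bot_left] at k

end EB

theorem EH.conj (h : EH z Q Qi r π τ) (g : G) : EH (g * z * g⁻¹) (cj g Q) (fun i => cj g (Qi i))
    (fun i => g * r i * g⁻¹) (fun i y => π i (g⁻¹ * y * g)) (fun y => τ (g⁻¹ * y * g)) := by
  refine ⟨EB.conj h.toNH g, fun α hα => ?_⟩
  obtain ⟨u, hu, u1, u2⟩ := h.full α hα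
  have e : g⁻¹ * (g * u * g⁻¹) * g = u := by group
  exact ⟨g * u * g⁻¹, conj_mem_Cx.2 hu, by rw [e, u1], fun i => by rw [e, u2]⟩

end CfsgLib.Rec3E
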