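import Cfsg.Agent.Lib.Rec3E.RB
import Cfsg.Agent.Lib.Rec3E.EB
import Cfsg.Agent.Lib.Rec3B.F3

/-! The abelian subgroup `J` (plans/REC3E.md, E3a). -/

set_option autoImplicit false
set_option maxRecDepth 100000
set_option maxHeartbeats 400000
set_option linter.unusedSectionVars false
set_option linter.unusedVariables false

namespace CfsgLib.Rec3E

open Subgroup Cfsg CfsgLib.Tech CfsgLib.PComp CfsgLib.W2 CfsgLib.Rec3 CfsgLib.Rec3B CfsgLib.Rec3B.W4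
open CfsgLib.U43 (SL)

variable {G : Type*} [Group G] [Finite G]
variable {z x σ : G} {Q : Subgroup G} {Qi : Fin 3 → Subgroup G} {r a b : Fin 3 → G} {π : Fin 3 → G → SL}
  {τ : G → Equiv.Perm (Fin 3)} {i j k : Fin 3} {φ : W4 →* G}

namespace E3

open CfsgLib.Sect Es NBx FT FBx

variable {K : Subgroup G} {y u v q p w s : G}

theorem AE_le : AE z a ≤ K ↔ (∀ i, a i ∈ K) ∧ z ∈ K := by
  rw [AE, closure_le]
  refine ⟨fun e => ⟨fun i => ?_, e (by simp)⟩, fun e => ?_⟩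
  · fin_cases i <;> exact e (by simp)
  · rintro _ (rfl | rfl | rfl | rfl)
    exacts [e.1 0, e.1 1, e.1 2, e.2]

theorem aA (i : Fin 3) : a i ∈ AE z a := (AE_le.1 le_rfl).1 i

theorem zA : z ∈ AE z a := (AE_le.1 le_rfl).2

theorem J_cent (hu : u ∈ JE z a) : AE z a ≤ Cx u :=
  AE_le.2 ⟨fun i => Cx_comm.1 ((mem_JE.1 hu).2 i), Cx_comm.1 (mem_JE.1 hu).1⟩

theorem cx_cmz (h1 : u ∈ Cx z) (h2 : u ∈ Cx q) : u ∈ cmz z q := ⟨h1, by rw [cmt_of h2]; exact one_mem _⟩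

theorem cmz_symm (h1 : q ∈ Cx z) (h2 : u ∈ cmz z q) : q ∈ cmz z u := ⟨h1, cmt_symm h2.2⟩

theorem third : ∀ i j : Fin 3, ∃ k, i ≠ k ∧ j ≠ k := by decide

section NH

variable (h : NH z Q Qi r π τ)
include h

theorem Q_cmz (hp : p ∈ Q) (hq : q ∈ Q) : p ∈ cmz z q := ⟨h.zc hp, h.cmt p hp q hq⟩

theorem cmt_mod (hp : p ∈ Q) (hq : q ∈ Q) (hs : s ∈ Cx z) (hw : w ∈ Cx z) (e : s * w * s⁻¹ * w⁻¹ ∈ Q) :
    p * s * (q * w) * (p * s)⁻¹ * (q * w)⁻¹ ∈ Q := by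
  convert mul_mem (mul_mem (mul_mem (mul_mem hp (conj_mem_of_mem_normalizer (h.norm_Q hs) hq)) e)
    (conj_mem_of_mem_normalizer (h.norm_Q hw) (inv_mem hp))) (inv_mem hq) using 1
  group

theorem two_cent (hu : u ∈ Cx z) (hq : q ∈ Qi i) : ∃ k, u * q * u⁻¹ * q⁻¹ ∈ centralizer (Qi k : Set G) := by
  obtain ⟨k, k1, k2⟩ := third (τ u i) i
  exact ⟨k, mul_mem (le_cent h k1 (h.cj_mem hu hq)) (inv_mem (le_cent h k2 hq))⟩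

theorem supp1 (hq : q ∈ Q) (e : ∀ j, j ≠ i → q ∈ centralizer (Qi j : Set G)) : q ∈ Qi i := by
  obtain ⟨y, hy, rfl⟩ := h.dec q hq
  refine prod_mem fun j => ?_
  by_cases k : j = i
  · exact k ▸ hy j
  · exact h.ZQi i (h.comp hy fun w hw => mem_Cx.2 (e j k w hw).symm)

theorem cZD (hy : y ∈ Q) (hn : y ∉ zpowers z) :
    Nat.card (Q ⊓ centralizer ((Q ⊓ Cx y : Subgroup G) : Set G) : Subgroup G) = 3 * Nat.card (zpowers z) := by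
  have n1 : ¬ Q ≤ Cx y := fun e => hn (h.cenQ hy fun p hp => mem_Cx.1 (e hp))
  obtain ⟨p, hp, np⟩ := SetLike.not_le_iff_exists.1 n1
  have c1 := card_le3' h.hz (inf_le_left : Q ⊓ centralizer ((Q ⊓ Cx y : Subgroup G) : Set G) ≤ Q) hp
  have c2 := card_le_of_le (show Q ⊓ centralizer ((Q ⊓ Cx y : Subgroup G) : Set G) ⊓ Cx p ≤ zpowers z from
    fun u hu => h.cenQ hu.1.1 fun v hv => mem_Cx.1 (max3 (L := Cx u) (fun w hw => mem_Cx.2 (hu.1.2 w hw))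
      inf_le_left (h.hz.card3 hy n1) (Cx_comm.1 hu.2) hp (fun e => np e.2) hv))
  have c3 := ul_lt3 (h.hz.two.to_le (inf_le_left : Q ⊓ centralizer ((Q ⊓ Cx y : Subgroup G) : Set G) ≤ Q))
    (K := zpowers z) (zpowers_le.2 ⟨h.z_mem, fun w hw => mem_Cx.1 (h.zc hw.1)⟩)
    ⟨hy, fun w hw => mem_Cx.1 hw.2⟩ hn
  omega

theorem ZD (hy : y ∈ Q) (hn : y ∉ zpowers z) (h1 : z ∈ K) (h2 : y ∈ K) (hq : q ∈ Q)
    (e : Q ⊓ Cx y ≤ Cx q) : q ∈ K :=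
  max3 (H := Q ⊓ centralizer ((Q ⊓ Cx y : Subgroup G) : Set G)) (zpowers_le.2 h1)
    (zpowers_le.2 ⟨h.z_mem, fun w hw => mem_Cx.1 (h.zc hw.1)⟩) (cZD h hy hn) h2
    ⟨hy, fun w hw => mem_Cx.1 hw.2⟩ hn ⟨hq, fun w hw => mem_Cx.1 (e hw)⟩

theorem τ3 (hu : u ∈ Cx z) (u3 : u ^ 3 = 1) : τ u ^ 3 = 1 := by rw [← h.τ_pow hu, u3, h.τ_one]

theorem cj_H0 (hs : s ∈ Cx z) (hu : u ∈ h.H0) : s * u * s⁻¹ ∈ h.H0 := by
  obtain ⟨u1, u2⟩ := h.mem_H0.1 hu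
  exact h.mem_H0.2 ⟨mul_mem (mul_mem hs u1) (inv_mem hs), by
    rw [h.τm _ (mul_mem hs u1) _ (inv_mem hs), h.τm _ hs _ u1, h.τ_inv hs, u2, mul_one, mul_inv_cancel]⟩

theorem π_cj1 (hs : s ∈ Cx z) (hu : u ∈ h.H0) : π (τ s i) (s * u * s⁻¹) = 1 ↔ π i u = 1 := by
  simpa using EB.π_cj h hs hu 1 (i := i)

variable (aQ : ∀ i, a i ∈ Qi i)
include aQ

theorem aa (i j : Fin 3) : a i ∈ Cx (a j) := by
  by_cases e : i = j
  · rw [e]; exact mem_Cx.2 rfl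
  · exact mem_Cx.2 (h.cm i j e _ (aQ i) _ (aQ j))

theorem A_Q : AE z a ≤ Q := AE_le.2 ⟨fun i => h.le i (aQ i), h.z_mem⟩

theorem A_J : AE z a ≤ JE z a :=
  AE_le.2 ⟨fun i => mem_JE.2 ⟨h.Qz i (aQ i), aa h aQ i⟩,
    mem_JE.2 ⟨mem_Cx.2 rfl, fun i => Cx_comm.1 (h.Qz i (aQ i))⟩⟩

theorem A_cmz (hu : u ∈ Cx z) (e : ∀ i, u ∈ cmz z (a i)) : AE z a ≤ cmz z u :=
  AE_le.2 ⟨fun i => cmz_symm (h.Qz i (aQ i)) (e i), cx_cmz (mem_Cx.2 rfl) (Cx_comm.1 hu)⟩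

variable (an : ∀ i, a i ∉ zpowers z)
include an

theorem QJ_A (hq : q ∈ Q) (e : ∀ i, q ∈ Cx (a i)) : q ∈ AE z a :=
  FT.CA h aQ (fun i => QA_le h (aQ i) (an i) (aA i) zA) hq e

theorem cardA : Nat.card (AE z a) = 81 := by
  have c0 := h.card
  have c1 := card_le3' h.hz le_rfl (h.le 0 (aQ 0))
  have c2 := card_le3' h.hz (inf_le_left : Q ⊓ Cx (a 0) ≤ Q) (h.le 1 (aQ 1))
  have c3 := card_le3' h.hz (inf_le_left.trans inf_le_left : Q ⊓ Cx (a 0) ⊓ Cx (a 1) ≤ Q) (h.le 2 (aQ 2))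
  have c4 := card_le_of_le (show Q ⊓ Cx (a 0) ⊓ Cx (a 1) ⊓ Cx (a 2) ≤ AE z a from fun q hq =>
    QJ_A h aQ an hq.1.1.1 fun i => by
      fin_cases i
      exacts [hq.1.1.2, hq.1.2, hq.2])
  have c5 := h.abel_le (A_Q h aQ) fun u hu v hv => mem_Cx.1 (J_cent (A_J h aQ hv) hu)
  omega

theorem fix_H0 (hu : u ∈ Cx z) (e : ∀ i, u ∈ cmz z (a i)) : τ u = 1 ∧ ∀ i, π i u ^ 3 = 1 := by
  have := fun i => h.π_cube hu (aQ i) (an i) (e i).2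
  exact ⟨Equiv.ext fun i => (this i).1, fun i => (this i).2⟩

theorem J_H0 (hu : u ∈ JE z a) : u ∈ h.H0 ∧ ∀ i, π i u ^ 3 = 1 := by
  obtain ⟨u1, u2⟩ := mem_JE.1 hu
  have := fix_H0 h aQ an u1 fun i => cx_cmz u1 (u2 i)
  exact ⟨h.mem_H0.2 ⟨u1, this.1⟩, this.2⟩

theorem dec (hu : u ∈ Cx z) (e : ∀ i, u ∈ cmz z (a i)) :
    ∃ q ∈ Q, ∃ c ∈ JE z a, c ∈ Cx (rho r) ∧ u = q * c := by
  obtain ⟨q, hq, k⟩ := h.exists_X hu
  have c1 := mul_mem (h.zc (inv_mem hq)) hu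
  have c2 : ∀ i, q⁻¹ * u ∈ cmz z (a i) := fun i => mul_mem (Q_cmz h (inv_mem hq) (h.le i (aQ i))) (e i)
  exact ⟨q, hq, _, mem_JE.2 ⟨c1, fun i => Cx_comm.1 (EB.F4 h c1 (X_cent_r h c1 k (fix_H0 h aQ an c1 c2).1 i)
    (aQ i) (cmz_symm (h.Qz i (aQ i)) (c2 i)))⟩, k, by group⟩

theorem decJ (hu : u ∈ JE z a) : ∃ q ∈ AE z a, ∃ c ∈ JE z a, c ∈ Cx (rho r) ∧ u = q * c := by
  obtain ⟨u1, u2⟩ := mem_JE.1 hu
  obtain ⟨q, hq, c, hc, k, rfl⟩ := dec h aQ an u1 fun i => cx_cmz u1 (u2 i)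
  exact ⟨q, QJ_A h aQ an hq (mem_JE.1 ((mul_mem_cancel_right hc).1 hu)).2, c, hc, k, rfl⟩

theorem J_cube (hu : u ∈ JE z a) : u ^ 3 ∈ zpowers z := by
  obtain ⟨q, hq, c, hc, k, rfl⟩ := decJ h aQ an hu
  obtain ⟨c1, c2⟩ := J_H0 h aQ an hc
  have c3 := h.mem_H0.1 (pow_mem c1 3)
  rw [Commute.mul_pow (mem_Cx.1 (J_cent hc hq)), h.exp q (A_Q h aQ hq), one_mul]
  exact h.inf_X.le ⟨h.mem_Q c3.1 c3.2 fun i => by rw [h.π_pow (h.H0_le i c1), c2], pow_mem k 3⟩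

theorem J_cmt (hu : u ∈ JE z a) (hv : v ∈ JE z a) : u * v * u⁻¹ * v⁻¹ ∈ zpowers z := by
  obtain ⟨q, hq, c, hc, k, rfl⟩ := decJ h aQ an hu
  obtain ⟨p, hp, d, hd, l, rfl⟩ := decJ h aQ an hv
  have e : q * c * (p * d) * (q * c)⁻¹ * (p * d)⁻¹ = c * d * c⁻¹ * d⁻¹ := by
    calc _ = q * (c * p * c⁻¹ * (c * d * c⁻¹)) * q⁻¹ * (p * d)⁻¹ := by group
      _ = p * (c * d * c⁻¹ * d⁻¹) * p⁻¹ := by
        rw [mem_Cx'.1 (Cx_comm.1 (J_cent hc hp)),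
          mem_Cx'.1 (J_cent (mul_mem (A_J h aQ hp) (mul_mem (mul_mem hc hd) (inv_mem hc))) hq)]
        group
      _ = _ := mem_Cx'.1 (J_cent (mul_mem (mul_mem (mul_mem hc hd) (inv_mem hc)) (inv_mem hd)) hp)
  rw [e]
  have c0 := (J_H0 h aQ an hc).1
  have d0 := (J_H0 h aQ an hd).1
  have m0 := h.mem_H0.1 (mul_mem (mul_mem (mul_mem c0 d0) (inv_mem c0)) (inv_mem d0))
  refine h.inf_X.le (mem_inf.2 ⟨h.mem_Q m0.1 m0.2 fun i => ?_,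
    mul_mem (mul_mem (mul_mem k l) (inv_mem k)) (inv_mem l)⟩)
  have m := h.ul_hm i
  rw [m _ (mul_mem (mul_mem c0 d0) (inv_mem c0)) _ (inv_mem d0), m _ (mul_mem c0 d0) _ (inv_mem c0), m _ c0 _ d0,
    m.inv c0, m.inv d0]
  refine (by decide +kernel : ∀ s t : SL, s ^ 3 = 1 → t ^ 3 = 1 → (s * t) ^ 3 = 1 → (s * t⁻¹) ^ 3 = 1 →
    s * t * s⁻¹ * t⁻¹ = 1) _ _ ((J_H0 h aQ an hc).2 i) ((J_H0 h aQ an hd).2 i) ?_ ?_
  · rw [← m _ c0 _ d0]; exact (J_H0 h aQ an (mul_mem hc hd)).2 i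
  · rw [← m.inv d0, ← m _ c0 _ (inv_mem d0)]; exact (J_H0 h aQ an (mul_mem hc (inv_mem hd))).2 i

end NH

/-- `a i` is the component of `y` in `Qi i` -/
structure Cmp (z : G) (Qi : Fin 3 → Subgroup G) (r : Fin 3 → G) (y : G) (a : Fin 3 → G) : Prop where
  aQ : ∀ i, a i ∈ Qi i
  an : ∀ i, a i ∉ zpowers z
  ra : ∀ i, r i * a i * (r i)⁻¹ = (a i)⁻¹
  ce : ∀ i, (a i)⁻¹ * y ∈ centralizer (Qi i : Set G)
  cr : ∀ i, (a i)⁻¹ * y ∈ Cx (r i)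

namespace Cmp

variable (c : Cmp z Qi r y a) (h : NH z Q Qi r π τ)
include c

theorem ya (i : Fin 3) : a i ∈ Cx y := by
  have := mul_mem (mem_Cx.2 rfl : a i ∈ Cx (a i)) (mem_Cx.2 (c.ce i _ (c.aQ i)).symm)
  rw [mul_inv_cancel_left] at this
  exact Cx_comm.1 this

theorem refl (i : Fin 3) : r i * y * (r i)⁻¹ = (a i)⁻¹ * ((a i)⁻¹ * y) := by
  calc _ = r i * a i * (r i)⁻¹ * (r i * ((a i)⁻¹ * y) * (r i)⁻¹) := by group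
    _ = _ := by rw [c.ra, mem_Cx'.1 (Cx_comm.1 (c.cr i))]

include h

theorem perm (hu : u ∈ cmz z y) (i : Fin 3) : u * a i * u⁻¹ * (a (τ u i))⁻¹ ∈ zpowers z := by
  have k1 := cent_cj h hu.1 (c.ce i)
  have k2 := h.cj_mem hu.1 (c.aQ i)
  have k3 := mul_mem (mul_mem k1 (inv_mem (c.ce (τ u i)))) (inv_mem (z_cent h hu.2))
  have e : u * ((a i)⁻¹ * y) * u⁻¹ * ((a (τ u i))⁻¹ * y)⁻¹ * (u * y * u⁻¹ * y⁻¹)⁻¹ =
      (u * a i * u⁻¹)⁻¹ * a (τ u i) := by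
    rw [← zcj hu.2 (inv_mem (h.Qz _ (c.aQ (τ u i))))]
    group
  rw [e] at k3
  have k4 := inv_mem (h.cen _ _ (mul_mem (inv_mem k2) (c.aQ _)) k3)
  rw [← zcj k4 (h.Qz _ (c.aQ (τ u i)))] at k4
  convert k4 using 1
  group

theorem fix (hu : u ∈ cmz z y) (e : τ u = 1) (i : Fin 3) : u ∈ cmz z (a i) :=
  ⟨hu.1, by simpa [e] using c.perm h hu i⟩

theorem prod (yQ : y ∈ Q) : ∃ m : ℕ, y = a 0 * a 1 * a 2 * z ^ m := by
  have aQ : ∀ i, a i ∈ Q := fun i => h.le i (c.aQ i)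
  obtain ⟨m, hm⟩ := mem_powers_iff_mem_zpowers.2 (cent_all h
    (mul_mem (inv_mem (mul_mem (mul_mem (aQ 0) (aQ 1)) (aQ 2))) yQ) fun i => by
      obtain ⟨u, hu, v, hv, e⟩ := prod_split (K := centralizer (Qi i : Set G)) a i fun j hj =>
        le_cent h hj (c.aQ j)
      rw [← hu _ (c.aQ i)] at e
      simp only [List.ofFn_succ, List.ofFn_zero, List.prod_cons, List.prod_nil, mul_one] at e
      convert mul_mem (inv_mem (mul_mem hu hv)) (c.ce i) using 1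
      rw [mul_assoc (a 0), show a 0 * (a 1 * a 2) = a i * u * v from e]
      group)
  exact ⟨m, by rw [show z ^ m = _ from hm, mul_inv_cancel_left]⟩

theorem yA (yQ : y ∈ Q) : y ∈ AE z a := QJ_A h c.aQ c.an yQ fun i => Cx_comm.1 (c.ya i)

end Cmp

theorem exists_cmp (h : NH z Q Qi r π τ) (yQ : y ∈ Q) (f : ∀ i, y ∉ centralizer (Qi i : Set G)) :
    ∃ a, Cmp z Qi r y a := by
  have : ∀ i, ∃ c ∈ Qi i, c ∉ zpowers z ∧ r i * c * (r i)⁻¹ = c⁻¹ ∧ c⁻¹ * y ∈ centralizer (Qi i : Set G) ∧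
      c⁻¹ * y ∈ Cx (r i) := fun i => by
    obtain ⟨u, hu, w, hw, c1, c2, rfl⟩ := split h i yQ
    obtain ⟨v, hv, e⟩ := rp h.z3 (h.rz i) (h.Qz i hu) (h.ri i u hu)
    have e1 : (v * u)⁻¹ * (u * w) = v⁻¹ * w := by rw [← Es.zc hv (h.Qz i hu)]; group
    refine ⟨v * u, mul_mem (h.ZQi i hv) hu, fun k => f i (mul_mem (z_cent h ?_) c1), e, ?_, ?_⟩
    · exact (mul_mem_cancel_left hv).1 k
    · rw [e1]; exact mul_mem (z_cent h (inv_mem hv)) c1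
    · rw [e1]; exact mul_mem (mem_Cx.2 (Es.zc (inv_mem hv) (h.rz i)).symm) c2
  choose a h1 h2 h3 h4 h5 using this
  exact ⟨a, h1, h2, h3, h4, h5⟩

/-- two central elements, each in the extraspecial group of the other -/
structure Pr (z : G) (Q : Subgroup G) (Qi : Fin 3 → Subgroup G) (r : Fin 3 → G) (π : Fin 3 → G → SL)
    (τ : G → Equiv.Perm (Fin 3)) (y : G) (Q' : Subgroup G) (Qi' : Fin 3 → Subgroup G) (r' : Fin 3 → G)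
    (π' : Fin 3 → G → SL) (τ' : G → Equiv.Perm (Fin 3)) : Prop where
  h : NH z Q Qi r π τ
  h' : NH y Q' Qi' r' π' τ'
  yQ : y ∈ Q
  zQ : z ∈ Q'
  yn : y ∉ zpowers z

variable {Q' : Subgroup G} {Qi' : Fin 3 → Subgroup G} {r' a' : Fin 3 → G} {π' : Fin 3 → G → SL}
  {τ' : G → Equiv.Perm (Fin 3)}

theorem sym0 (h : NH z Q Qi r π τ) (h' : NH y Q' Qi' r' π' τ') (yQ : y ∈ Q) (yn : y ∉ zpowers z) : z ∈ Q' := by
  by_contra k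
  have c1 := h.card_cent yQ yn
  have c2 := EB.t1 h' (D := Q ⊓ Cx y) inf_le_right fun d hd => h.exp d hd.1
  have c3 := card_eq_relIndex Q' (Q ⊓ Cx y)
  have c4 := cZD h yQ yn
  rw [cardZ h.z1 h.z3] at c4
  have c5 := card_le_of_le (show Q' ⊓ (Q ⊓ Cx y) ≤ Q ⊓ centralizer ((Q ⊓ Cx y : Subgroup G) : Set G) from
    fun e he => ⟨he.2.1, fun d hd => mem_Cx.1 (cmt_one (eq_one_of h.z3 (h.cmt d hd.1 e he.2.1)
      (mul_mem (conj_mem_of_mem_normalizer (h'.norm_Q hd.2) he.1) (inv_mem he.1)) k))⟩)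
  have := Nat.mul_le_mul c5 c2
  omega

namespace Pr

variable (P : Pr z Q Qi r π τ y Q' Qi' r' π' τ')
include P

theorem zn : z ∉ zpowers y := fun k => P.yn (mem_of_ne P.h'.z3 k (mem_zpowers z) P.h.z1)

theorem symm : Pr y Q' Qi' r' π' τ' z Q Qi r π τ := ⟨P.h', P.h, P.zQ, P.yQ, P.zn⟩

theorem one (h1 : w ∈ zpowers z) (h2 : w ∈ zpowers y) : w = 1 := eq_one_of P.h.z3 h1 h2 P.zn

theorem Ec : ∀ u ∈ Q ⊓ Q', ∀ v ∈ Q ⊓ Q', u * v = v * u := fun u hu v hv =>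
  mem_Cx.1 (cmt_one (P.one (P.h.cmt u hu.1 v hv.1) (P.h'.cmt u hu.2 v hv.2)))

theorem E_le : Nat.card (Q ⊓ Q' : Subgroup G) ≤ 81 := P.h.abel_le inf_le_left P.Ec

theorem QU : Q ⊓ (Q' ⊓ Cx z) = Q ⊓ Q' :=
  le_antisymm (inf_le_inf_left _ inf_le_left) fun u hu => ⟨hu.1, hu.2, P.h.zc hu.1⟩

theorem cU : Nat.card (Q' ⊓ Cx z : Subgroup G) = 729 := P.h'.card_cent P.zQ P.zn

theorem E81 : 81 ≤ Nat.card (Q ⊓ Q' : Subgroup G) := by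
  have h := P.h
  have U3 : ∀ d ∈ Q' ⊓ Cx z, d ^ 3 = 1 := fun d hd => P.h'.exp d hd.1
  by_contra k
  have c1 := card_eq_relIndex Q (Q' ⊓ Cx z)
  rw [P.QU, P.cU] at c1
  have c2 : 27 ≤ Q.relIndex (Q' ⊓ Cx z) := by
    have d : Q.relIndex (Q' ⊓ Cx z) ∣ 3 ^ 6 := Dvd.intro_left _ c1.symm
    obtain ⟨m, hm, e⟩ := (Nat.dvd_prime_pow Nat.prime_three).1 d
    rw [e] at c1 ⊢
    interval_cases m <;> omega
  obtain ⟨U0, hu⟩ := EB.t2 h (D := Q' ⊓ Cx z) inf_le_right U3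
    (fun u hu v hv => zpowers_le.2 P.yQ (P.h'.cmt u hu.1 v hv.1)) c2
  have : ∀ i, ∃ c ∈ Qi i, c ∉ zpowers z ∧ c ∈ Q' := fun i => by
    obtain ⟨u, uU, u1, u2⟩ := hu i
    have u0 := U0 uU
    have u3 : u ^ 3 ∈ Q := by rw [U3 u uU]; exact one_mem _
    have n := h.norm_Q uU.2
    obtain ⟨c, hc, cn, cu, -⟩ := EB.F1 h u0 u3 i
    refine ⟨c, hc, cn, ?_⟩
    by_cases e : Q ⊓ Cx y ≤ cmz z u
    · obtain ⟨p, hp, e1⟩ := EB.F3 h u0 u3 u1 hc cu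
      have cI : c ∈ Im z Q u := by
        convert mul_mem (inv_mem (z_Im h.hz n e1)) (cm_Im h.hz n (h.le i hp)) using 1
        group
      exact ZD h P.yQ P.yn P.zQ P.h'.z_mem (h.le i hc) fun q hq =>
        Cx_comm.1 (Im_perp h.hz n uU.2 hq.1 (cmt_symm (e hq).2) cI)
    · obtain ⟨p, hp, pn⟩ := SetLike.not_le_iff_exists.1 e
      have mI := cm_Im h.hz n hp.1
      have m1 : p * u * p⁻¹ * u⁻¹ ∈ Qi i := supp1 h (Im_le h.hz n mI) fun j hj q hq =>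
        (mem_Cx.1 (Im_perp h.hz n uU.2 (h.le j hq) (cmt_symm (((EB.pk h u0).1 (u2 j hj)) hq).2) mI)).symm
      have m2 : p * u * p⁻¹ * u⁻¹ ∈ Q' :=
        mul_mem (conj_mem_of_mem_normalizer (P.h'.norm_Q hp.2) uU.1) (inv_mem uU.1)
      obtain ⟨s, hs, t, ht, e1⟩ := QA h hc cn m1 (Im_perp h.hz n uU.2 (h.le i hc) (cmt_symm cu.2) mI)
      refine mem_of_ne (h.exp c (h.le i hc)) hs ?_ fun e2 => pn ⟨h.zc hp.1, ?_⟩
      · rwa [e1, mul_mem_cancel_right (zpowers_le.2 P.zQ ht)] at m2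
      · rwa [e1, e2, one_mul]
  choose c c1 c2 c3 using this
  have := card_le_of_le (show AE z c ≤ Q ⊓ Q' from le_inf (A_Q h c1) (AE_le.2 ⟨c3, P.zQ⟩))
  rw [cardA h c1 c2] at this
  exact k this

theorem maxE (hu : u ∈ Q') (e : Q ⊓ Q' ≤ Cx u) : u ∈ Q :=
  ((mq P.h').max inf_le_right P.Ec P.E81 hu e).1

theorem big (k : K.relIndex (Q' ⊓ Cx z) ≤ 3) : ∃ u ∈ K, u ∈ Q' ∧ u ∈ Cx z ∧ u ∉ Q := by
  by_contra e
  push Not at e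
  have := Nat.mul_le_mul ((card_le_of_le (show K ⊓ (Q' ⊓ Cx z) ≤ Q ⊓ Q' from fun u hu =>
    ⟨e u hu.1 hu.2.1 hu.2.2, hu.2.1⟩)).trans P.E_le) k
  have := card_eq_relIndex K (Q' ⊓ Cx z)
  have := P.cU
  omega

theorem ker (hu : u ∈ Q') (uz : u ∈ Cx z) (t : τ u i = i) (e1 : π i u = 1) (hi : y ∉ centralizer (Qi i : Set G)) :
    u ∈ Q := by
  have h := P.h
  refine P.maxE hu fun e he => Cx_comm.1 (mem_Cx'.2 ?_)
  have := eq_one_of P.h'.z3 (P.h'.cmt _ (inv_mem he.2) _ hu) (fun p hp => ?_) hi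
  · rw [← mul_right_inj e⁻¹, inv_mul_cancel, ← this]; group
  · have := perp h.hz uz (h.le i hp) he.1 (conj_mem_of_mem_normalizer (h.norm_Q uz) he.1)
      ((h.πk i u uz t).1 e1 p hp)
    rw [inv_inv, mul_assoc e⁻¹, mul_assoc e⁻¹]
    exact (mem_Cx.1 this).symm

theorem U3 : IsPGroup 3 (Q' ⊓ Cx z : Subgroup G) := P.h'.hz.two.to_le inf_le_left

theorem exσ : ∃ s ∈ Q', s ∈ Cx z ∧ τ s ≠ 1 := by
  have h := P.h
  by_contra k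
  push Not at k
  obtain ⟨i, hi⟩ : ∃ i, y ∉ centralizer (Qi i : Set G) := by
    by_contra k
    push Not at k
    exact P.yn (cent_all h P.yQ k)
  obtain ⟨_, ⟨u, hu, rfl⟩, u1, u2, u3⟩ := P.big (idx3 (h.πh i) F3x.nine_SL
    (fun u hu => h.H0_le i (h.mem_H0.2 ⟨hu.2, k u hu.1 hu.2⟩)) P.U3)
  exact u3 (P.ker u1 u2 (h.mem_St.1 u.2).2 hu hi)

theorem full (i : Fin 3) : y ∉ centralizer (Qi i : Set G) := fun e => by
  obtain ⟨s, s1, s2, s3⟩ := P.exσ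
  exact P.yn (orbit P.h s2 s3 (τ3 P.h s2 (P.h'.exp s s1)) P.yQ (cx_cmz s2 (P.h'.zc s1)).2 e)

theorem key (hu : u ∈ Cx z) (hq : q ∈ Qi i) (e : u * q * u⁻¹ * q⁻¹ ∈ zpowers y) : u ∈ Cx q := by
  obtain ⟨k, hk⟩ := two_cent P.h hu hq
  exact cmt_one (eq_one_of P.h'.z3 e hk (P.full k))

variable (c : Cmp z Qi r y a) (c' : Cmp y Qi' r' z a')
include c c'

theorem τa (j : Fin 3) : τ (a' j) = 1 := by
  have h := P.h
  by_contra k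
  have s1 := c'.ya j
  have s3 := τ3 h s1 (P.h'.exp _ (P.h'.le j (c'.aQ j)))
  have k1 := c'.perm P.h' (cx_cmz (c.ya 0) (h.Qz 0 (c.aQ 0))) j
  have k2 : a 0 * a' j * (a 0)⁻¹ * (a' j)⁻¹ ∈ Cx (a' j) := by
    refine mul_mem ?_ (inv_mem (mem_Cx.2 rfl))
    convert mul_mem (mem_Cx.2 (Es.zc k1 (P.h'.Qz j (c'.aQ j))).symm) (aa P.h' c'.aQ (τ' (a 0) j) j) using 1
    group
  obtain ⟨l, hl⟩ := two_cent h s1 (c.aQ 0)
  have k3 := orbit h s1 k s3 (mul_mem (conj_mem_of_mem_normalizer (h.norm_Q s1) (h.le 0 (c.aQ 0)))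
    (inv_mem (h.le 0 (c.aQ 0)))) (cx_cmz s1 (Cx_comm.1 (by convert inv_mem k2 using 1; group))).2 hl
  exact (three_orbit _ k s3 0).1 (h.π_cube s1 (c.aQ 0) (c.an 0) k3).1

theorem AA (i j : Fin 3) : a i ∈ Cx (a' j) :=
  P.symm.key (c.ya i) (c'.aQ j)
    (cmt_symm (c.fix P.h (cx_cmz (c'.ya j) (P.h'.Qz j (c'.aQ j))) (P.τa c c' j) i).2)

theorem a'J (j : Fin 3) : a' j ∈ JE z a := mem_JE.2 ⟨c'.ya j, fun i => Cx_comm.1 (P.AA c c' i j)⟩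

theorem JJ : JE z a ≤ JE y a' := fun u hu => by
  have uy : u ∈ Cx y := Cx_comm.1 (J_cent hu (c.yA P.h P.yQ))
  exact mem_JE.2 ⟨uy, fun j => P.symm.key uy (c'.aQ j) (J_cmt P.h c.aQ c.an hu (P.a'J c c' j))⟩

theorem Jc (hu : u ∈ JE z a) (hv : v ∈ JE z a) : u * v = v * u :=
  mem_Cx.1 (cmt_one (P.one (J_cmt P.h c.aQ c.an hu hv)
    (J_cmt P.h' c'.aQ c'.an (P.JJ c c' hu) (P.JJ c c' hv))))

theorem J3 (hu : u ∈ JE z a) : u ^ 3 = 1 :=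
  P.one (J_cube P.h c.aQ c.an hu) (J_cube P.h' c'.aQ c'.an (P.JJ c c' hu))

theorem exw : ∃ j, a' j ∉ Q := by
  have h := P.h
  by_contra k
  push Not at k
  have e : AE y a' = Q ⊓ Q' := eq_of_le_of_card_ge (le_inf (AE_le.2 ⟨k, P.yQ⟩) (A_Q P.h' c'.aQ))
    (P.E_le.trans (cardA P.h' c'.aQ c'.an).ge)
  obtain ⟨u, u0, u1, u2, u3⟩ := P.big (K := h.H0) (idx3 h.τh F3x.nine_S3 inf_le_right P.U3)
  refine u3 (P.maxE u1 fun v hv => cmt_one (P.one ?_ (P.h'.cmt v hv.2 u u1)))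
  exact (A_cmz h c.aQ u2 (c.fix h (cx_cmz u2 (P.h'.zc u1)) (h.mem_H0.1 u0).2) (QJ_A h c.aQ c.an hv.1
    (mem_JE.1 (P.symm.JJ c' c (A_J P.h' c'.aQ (e.ge hv)))).2)).2

omit c' in
theorem nD0 (hu : u ∈ JE z a) (e : ∀ j, j ≠ i → π j u = 1) : π i u = 1 := by
  have h := P.h
  obtain ⟨s, s1, s2, s3⟩ := P.exσ
  have t3 := τ3 h s2 (P.h'.exp s s1)
  obtain ⟨o1, o2, -⟩ := three_orbit _ s3 t3 i
  have u0 := (J_H0 h c.aQ c.an hu).1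
  have v0 := cj_H0 h s2 u0
  have w0 := mul_mem v0 (inv_mem u0)
  have m := fun i => h.ul_hm i
  have vQ : s * u * s⁻¹ * u⁻¹ ∈ Q := by
    refine P.ker (i := τ s (τ s i)) ?_ (h.mem_H0.1 w0).1 (by rw [(h.mem_H0.1 w0).2]; rfl) ?_ (P.full _)
    · have := mul_mem s1 (conj_mem_of_mem_normalizer
        (P.h'.norm_Q (Cx_comm.1 (J_cent hu (c.yA h P.yQ)))) (inv_mem s1))
      simpa only [mul_assoc] using this
    · rw [m _ _ v0 _ (inv_mem u0), (m _).inv u0, e _ o2, (π_cj1 h s2 u0).2 (e _ o1), inv_one, one_mul]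
  have k := h.π_Q (i := i) vQ
  have k2 := (π_cj1 h s2 u0).2 (e _ o2)
  rw [show τ s (τ s (τ s i)) = i from by
    have := congrArg (· i) t3
    simpa [pow_three] using this] at k2
  rwa [m _ _ v0 _ (inv_mem u0), (m _).inv u0, k2, one_mul, inv_eq_one] at k

end Pr

theorem nD (h : EH z Q Qi r π τ) (aQ : ∀ i, a i ∈ Qi i) (an : ∀ i, a i ∉ zpowers z)
    (H : ∀ u ∈ JE z a, (∀ j, j ≠ i → π j u = 1) → π i u = 1) (hu : u ∈ Cx z) (t : τ u = 1)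
    (e : ∀ j, j ≠ i → π j u = 1) : π i u ^ 4 = 1 := by
  have N := h.toNH
  have u0 := pow_mem (h.mem_H0.2 ⟨hu, t⟩) 4
  have m := fun i => h.ul_hm i
  rw [← (m i).pow (h.mem_H0.2 ⟨hu, t⟩)]
  have e1 : ∀ j, j ≠ i → π j (u ^ 4) = 1 := fun j hj => by rw [(m j).pow (h.mem_H0.2 ⟨hu, t⟩), e j hj, one_pow]
  have e3 : (u ^ 4) ^ 3 ∈ Q := by
    have := h.mem_H0.1 (pow_mem u0 3)
    refine h.mem_Q this.1 this.2 fun j => ?_
    rw [(m j).pow u0, (m j).pow (h.mem_H0.2 ⟨hu, t⟩)]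
    exact (by decide +kernel : ∀ s : SL, (s ^ 4) ^ 3 = 1) _
  generalize u ^ 4 = v at u0 e1 e3
  obtain ⟨c, hc, cn, cv, -⟩ := EB.F1 N u0 e3 i
  obtain ⟨s, hs, k⟩ := h.R_trans hc cn (aQ i) (an i)
  obtain ⟨s1, s2, -⟩ := h.R_H0 hs
  have v0 := cj_H0 N s1 u0
  have e2 : ∀ j, π j (s * v * s⁻¹) = 1 ↔ π j v = 1 := fun j => by
    simpa [s2] using π_cj1 N s1 u0 (i := j)
  obtain ⟨q, hq, d, hd, -, ed⟩ := dec N aQ an (h.mem_H0.1 v0).1 fun j => by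
    refine cmz_symm (h.mem_H0.1 v0).1 ?_
    by_cases hj : j = i
    · subst hj
      have k1 : s * c * s⁻¹ ∈ cmz z (s * v * s⁻¹) := ⟨mul_mem (mul_mem s1 cv.1) (inv_mem s1), by
        have := cv.2
        rw [← zcj this s1] at this
        convert this using 1
        group⟩
      have k2 : s * c * s⁻¹ * (a j)⁻¹ ∈ cmz z (s * v * s⁻¹) :=
        cx_cmz (zle k) (mem_Cx.2 (Es.zc k (h.mem_H0.1 v0).1).symm)
      convert mul_mem (inv_mem k2) k1 using 1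
      group
    · exact (EB.pk N v0).1 ((e2 j).2 (e1 j hj)) (aQ j)
  have d0 := h.mem_H0.1 (J_H0 N aQ an hd).1
  have e4 : ∀ j, π j (s * v * s⁻¹) = π j d := fun j => by
    rw [ed, π_mul_Q N hq d0.1 (by rw [d0.2]; rfl)]
  rw [← e2, e4]
  exact H d hd fun j hj => by rw [← e4, e2, e1 j hj]

theorem pr_of (h : NH z Q Qi r π τ) (g : G) (e : g * z * g⁻¹ ∈ Q) (hn : g * z * g⁻¹ ∉ zpowers z) :
    Pr z Q Qi r π τ (g * z * g⁻¹) (cj g Q) (fun i => cj g (Qi i)) (fun i => g * r i * g⁻¹)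
      (fun i y => π i (g⁻¹ * y * g)) (fun y => τ (g⁻¹ * y * g)) :=
  ⟨h, EB.conj h g, e, sym0 h (EB.conj h g) e hn, hn⟩

end E3

open CfsgLib.Sect Es NBx FT FBx E3

theorem EH.sym (h : EH z Q Qi r π τ) (g : G) (e : g * z * g⁻¹ ∈ Q) : g⁻¹ * z * g ∈ Q := by
  by_cases hn : g * z * g⁻¹ ∈ zpowers z
  · refine conj_mem_of_mem_normalizer' (h.nQ (mem_normalizer_of_forall ?_)) h.z_mem
    rintro _ ⟨m, rfl⟩
    rw [← conj_zpow]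
    exact zpow_mem hn m
  · exact mem_cj.1 (pr_of h.toNH g e hn).zQ

theorem EH.wc (h : EH z Q Qi r π τ) (g : G) (e : g * z * g⁻¹ ∈ Q) (hn : g * z * g⁻¹ ∉ zpowers z) :
    Full Qi (g * z * g⁻¹) := by
  exact fun i k => (pr_of h.toNH g e hn).full i fun q hq => mem_Cx.1 (k hq)

theorem EH.exists_ET (h : EH z Q Qi r π τ) (hq : ∃ g, g * z * g⁻¹ ∈ Q ∧ g * z * g⁻¹ ∉ zpowers z) :
    ∃ a x σ, ET z Q Qi r π τ a x σ := by
  obtain ⟨g, e, hn⟩ := hq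
  have N := h.toNH
  have P := pr_of N g e hn
  obtain ⟨a, c⟩ := exists_cmp N e P.full
  obtain ⟨a', c'⟩ := exists_cmp P.h' P.zQ P.symm.full
  obtain ⟨j, hj⟩ := P.exw c c'
  have w1 : (a' j)⁻¹ * ((a' j)⁻¹ * z) ∈ cj g Q :=
    mul_mem (inv_mem (P.h'.le j (c'.aQ j))) (mul_mem (inv_mem (P.h'.le j (c'.aQ j))) P.zQ)
  have wJ : (a' j)⁻¹ * ((a' j)⁻¹ * z) ∈ JE z a :=
    mul_mem (inv_mem (P.a'J c c' j)) (mul_mem (inv_mem (P.a'J c c' j)) (A_J N c.aQ zA))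
  have wQ : (a' j)⁻¹ * ((a' j)⁻¹ * z) ∉ Q := fun k => by
    rw [← mul_assoc, mul_mem_cancel_right h.z_mem, ← mul_inv_rev, inv_mem_iff] at k
    exact hj (of_sq (P.h'.exp _ (P.h'.le j (c'.aQ j))) k)
  have we := c'.refl j
  generalize (a' j)⁻¹ * ((a' j)⁻¹ * z) = w at w1 wJ wQ we
  obtain ⟨q, hq, x, xJ, xρ, ex⟩ := decJ N c.aQ c.an wJ
  have x0 := h.mem_H0.1 (J_H0 N c.aQ c.an xJ).1
  have w0 := h.mem_H0.1 (J_H0 N c.aQ c.an wJ).1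
  obtain ⟨s, s1, s2, s3⟩ : ∃ s ∈ cj g Q, s ∈ Cx z ∧ ∀ i, τ s i = i + 1 := by
    obtain ⟨s, s1, s2, s3⟩ := P.exσ
    rcases (by decide +kernel : ∀ t : Equiv.Perm (Fin 3), t ≠ 1 → t ^ 3 = 1 → (∀ i, t i = i + 1) ∨
      ∀ i, t⁻¹ i = i + 1) _ s3 (τ3 N s2 (P.h'.exp s s1)) with k | k
    · exact ⟨s, s1, s2, k⟩
    · exact ⟨s⁻¹, inv_mem s1, inv_mem s2, by rwa [h.τ_inv s2]⟩
  obtain ⟨p, hp, σ1, σ2, -⟩ := Xdec N s2 (P.h'.exp s s1)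
  have σ3 : ∀ i, τ (p * s) i = i + 1 := by rwa [τ_mul_Q N hp s2]
  obtain ⟨m, hm⟩ := c.prod N e
  refine ⟨a, x, p * s, h, c.aQ, c.an, c.ra, xJ, X_cent_r N x0.1 xρ x0.2, fun i k => wQ ?_, σ1, σ2, σ3, fun i => ?_,
    ?_, fun u hu v hv => P.Jc c c' hu hv, fun u hu => P.J3 c c' hu, ⟨g, m, hm⟩, ⟨g * r j * g⁻¹, Or.inl ?_⟩,
    fun u hu t i => E3.nD h c.aQ c.an (fun u hu => P.nD0 c hu) hu t⟩
  · refine P.ker w1 w0.1 (by rw [w0.2]; rfl) ?_ (P.full i)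
    rwa [ex, π_mul_Q N (A_Q N c.aQ hq) x0.1 (by rw [x0.2]; rfl)]
  · have k := c.perm N (mul_mem (Q_cmz N hp e) (cx_cmz s2 (P.h'.zc s1))) i
    have k1 := h.X_r σ1 σ2 i
    rw [σ3] at k k1
    have := un h.z3 (h.rz _) (h.Qz _ (c.aQ _)) k (c.ra _) (by
      rw [inv_mul_cancel_right, ← k1]
      calc _ = p * s * (r i * a i * (r i)⁻¹) * (p * s)⁻¹ := by group
        _ = _ := by rw [c.ra]; group)
    exact mul_inv_eq_one.1 this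
  · refine h.inf_X.le (mem_inf.2 ⟨?_, mul_mem (mul_mem (mul_mem σ2 xρ) (inv_mem σ2)) (inv_mem xρ)⟩)
    have := cmt_mod N hp (inv_mem (A_Q N c.aQ hq)) s2 w0.1 (zpowers_le.2 e (P.h'.cmt s s1 w w1))
    rwa [ex, inv_mul_cancel_left] at this
  · rwa [we, ex, mul_inv_cancel_right]

end CfsgLib.Rec3E
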