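import Cfsg.Agent.Lib.Rec3E.F2

/-! A conjugate of `z` inside `Q` (plans/REC3E.md, E3a), the part that uses one side only. -/

set_option autoImplicit false
set_option maxRecDepth 100000
set_option maxHeartbeats 400000
set_option linter.unusedSectionVars false
set_option linter.unusedVariables false

namespace CfsgLib.Rec3E

open Subgroup Cfsg CfsgLib.Tech CfsgLib.PComp CfsgLib.W2 CfsgLib.Rec3 CfsgLib.Rec3B
open CfsgLib.U43 (SL)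

variable {G : Type*} [Group G] [Finite G]
variable {z x σ : G} {Q : Subgroup G} {Qi : Fin 3 → Subgroup G} {r a b : Fin 3 → G} {π : Fin 3 → G → SL}
  {τ : G → Equiv.Perm (Fin 3)}

namespace E3y

open CfsgLib.Sect Es NBx FT F3x T3x F2y

theorem ind3 {p : Fin 3 → Prop} (h0 : p 0) (hs : ∀ i, p i → p (i + 1)) (i : Fin 3) : p i := by
  fin_cases i
  exacts [h0, hs 0 h0, hs 1 (hs 0 h0)]

theorem AE_le {K : Subgroup G} : AE z a ≤ K ↔ (∀ i, a i ∈ K) ∧ z ∈ K := by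
  rw [AE, closure_le]
  refine ⟨fun e => ⟨fun i => e ?_, e (by simp)⟩, fun e => ?_⟩
  · fin_cases i <;> simp
  · rintro _ (rfl | rfl | rfl | rfl)
    exacts [e.1 0, e.1 1, e.1 2, e.2]

theorem aA (i : Fin 3) : a i ∈ AE z a := (AE_le.1 le_rfl).1 i

theorem zA : z ∈ AE z a := (AE_le.1 le_rfl).2

theorem cmz_symm {p q : G} (hq : q ∈ Cx z) (e : p ∈ cmz z q) : q ∈ cmz z p := ⟨hq, cmt_symm e.2⟩

theorem cmz_of {p q : G} (hp : p ∈ Cx z) (e : p ∈ Cx q) : p ∈ cmz z q := ⟨hp, by rw [cmt_of e]; exact one_mem _⟩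

section N

variable (h : NH z Q Qi r π τ) {g q y s : G} {i : Fin 3} {K : Subgroup G}
include h

theorem Q_cmz (hq : q ∈ Q) : Q ≤ cmz z q := fun p hp => ⟨h.zc hp, h.cmt p hp q hq⟩

theorem cent_le (hq : q ∈ Q) (e : q ∈ centralizer (Qi i : Set G)) (hK : ∀ j ≠ i, Qi j ≤ K) (zK : z ∈ K) : q ∈ K := by
  obtain ⟨y, hy, rfl⟩ := h.dec q hq
  refine prod_mem fun j => ?_
  by_cases c : j = i
  · subst c
    exact zpowers_le.2 zK (h.comp hy fun w hw => mem_Cx.2 (e w hw).symm)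
  · exact hK j c (hy j)

theorem ker_cmz (hg : g ∈ Cx z) (t : τ g i = i) (e : π i g = 1) : Qi i ≤ cmz z g := fun p hp =>
  ⟨h.Qz i hp, cmt_symm ((h.πk i g hg t).1 e p hp)⟩

theorem adj (hy : y ∈ Q) (yn : y ∉ zpowers z) (hg : g ∈ cmz z y) : ∃ q ∈ Q, q * g ∈ Cx y := by
  obtain ⟨p, hp, pn⟩ : ∃ p ∈ Q, p ∉ Cx y := by
    by_contra k
    push Not at k
    exact yn (h.cenQ hy fun p hp => mem_Cx.1 (k p hp))
  have k : ∀ q ∈ Q, q * y * q⁻¹ * y⁻¹ = (g * y * g⁻¹ * y⁻¹)⁻¹ → q * g ∈ Cx y := fun q hq e => cmt_one (by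
    calc _ = q * (g * y * g⁻¹ * y⁻¹) * q⁻¹ * (q * y * q⁻¹ * y⁻¹) := by group
      _ = 1 := by rw [e, zcj hg.2 (h.zc hq), mul_inv_cancel])
  have c := h.cmt p hp y hy
  have e' : p⁻¹ * y * p⁻¹⁻¹ * y⁻¹ = (p * y * p⁻¹ * y⁻¹)⁻¹ := by
    rw [← zcj (inv_mem c) (h.zc (inv_mem hp))]; group
  rcases three_cases h.z3 hg.2 with e | e | e
  · exact ⟨1, one_mem _, by rw [one_mul]; exact cmt_one e⟩
  · rcases three_cases h.z3 c with e2 | e2 | e2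
    · exact absurd (cmt_one e2) pn
    · exact ⟨_, inv_mem hp, k _ (inv_mem hp) (by rw [e', e, e2])⟩
    · exact ⟨_, hp, k _ hp (by rw [e, e2])⟩
  · rcases three_cases h.z3 c with e2 | e2 | e2
    · exact absurd (cmt_one e2) pn
    · exact ⟨_, hp, k _ hp (by rw [e, e2, inv_inv])⟩
    · exact ⟨_, inv_mem hp, k _ (inv_mem hp) (by rw [e', e, e2])⟩

theorem all_of (sz : s ∈ Cx z) (s1 : τ s ≠ 1) (s3 : τ s ^ 3 = 1) (hg : g ∈ h.H0) (c : s * g * s⁻¹ * g⁻¹ ∈ Q)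
    (e : π i g = 1) : g ∈ Q := by
  obtain ⟨g1, g2⟩ := h.mem_H0.1 hg
  have k : ∀ i, π i g = 1 → π (τ s i) g = 1 := fun i e => by
    have := (π_cj1 h sz hg).2 e
    rwa [show s * g * s⁻¹ = s * g * s⁻¹ * g⁻¹ * g by group, π_mul_Q h c g1 (by rw [g2]; rfl)] at this
  refine h.mem_Q g1 g2 fun j => ?_
  rcases (three_orbit _ s1 s3 i).2.2.2 j with rfl | rfl | rfl
  exacts [e, k _ e, k _ (k _ e)]

end N

/-- a conjugate `y` of `z` in `Q` -/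
structure PQ (z : G) (Q : Subgroup G) (Qi : Fin 3 → Subgroup G) (r : Fin 3 → G) (π : Fin 3 → G → SL)
    (τ : G → Equiv.Perm (Fin 3)) (y : G) (R : Subgroup G) : Prop extends NH z Q Qi r π τ where
  M : MQ 3 y R
  cR : Nat.card R = 3 ^ 7
  yQ : y ∈ Q
  yn : y ∉ zpowers z
  th : ∀ D ≤ Cx y, (∀ u ∈ D, u ^ 3 = 1) → R.relIndex D ≤ 27

theorem mkPQ (h : NH z Q Qi r π τ) {g : G} (h1 : g * z * g⁻¹ ∈ Q) (h2 : g * z * g⁻¹ ∉ zpowers z) :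
    PQ z Q Qi r π τ (g * z * g⁻¹) (cj g Q) := by
  refine ⟨h, (mq h).conj g, (card_cj g Q).trans h.card, h1, h2, fun D hD e3 => ?_⟩
  have := le27 h (D := cj g⁻¹ D) ((cj_mono g⁻¹ (hD.trans (cj_Cx g z).ge)).trans (cj_inv_cj g _).le) fun u hu => by
    have := conj3 (e3 _ (mem_cj.1 hu)) g⁻¹
    rwa [show g⁻¹ * (g⁻¹⁻¹ * u * g⁻¹) * g⁻¹⁻¹ = u by group] at this
  rwa [← relIndex_cj g, cj_cj_inv] at this

namespace PQ

variable {y u v s e : G} {R : Subgroup G} {i : Fin 3} (h : PQ z Q Qi r π τ y R)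
include h

theorem zn : z ∉ zpowers y := fun k => h.yn (mem_of_ne h.M.z3 k (mem_zpowers z) h.z1)

theorem zR : z ∈ R := by
  by_contra k
  have c1 := h.card_cent h.yQ h.yn
  have c2 := h.th (Q ⊓ Cx y) inf_le_right fun u hu => h.exp u hu.1
  have c3 := card_eq_relIndex R (Q ⊓ Cx y)
  obtain ⟨E, eE⟩ : ∃ E, E = R ⊓ (Q ⊓ Cx y) := ⟨_, rfl⟩
  rw [← eE] at c3
  have E1 : ∀ u ∈ E, u ∈ R ∧ u ∈ Q ⊓ Cx y := fun u hu => by rw [eE] at hu; exact hu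
  have BD : ∀ p ∈ Q ⊓ Cx y, E ⊔ zpowers z ≤ Cx p := fun p hp => sup_le (fun u hu => Cx_comm.1 (cmt_one
    (eq_one_of h.z3 (h.cmt p hp.1 u (E1 u hu).2.1)
      (mul_mem (conj_mem_of_mem_normalizer (h.M.nQ hp.2) (E1 u hu).1) (inv_mem (E1 u hu).1)) k)))
    (zpowers_le.2 (Cx_comm.1 (h.zc hp.1)))
  have BD' : E ⊔ zpowers z ≤ Q ⊓ Cx y :=
    sup_le (fun u hu => (E1 u hu).2) (zpowers_le.2 ⟨h.z_mem, Cx_comm.1 (h.zc h.yQ)⟩)
  have Bc : ∀ u ∈ E ⊔ zpowers z, ∀ v ∈ E ⊔ zpowers z, u * v = v * u := fun u hu v hv =>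
    mem_Cx.1 (BD v (BD' hv) hu)
  have BQ := BD'.trans inf_le_left
  have c4 := three_mul (le_sup_left : E ≤ E ⊔ zpowers z) (h.hz.two.to_le BQ)
    fun e => k (E1 z (e (mem_sup_right (mem_zpowers z)))).1
  have c5 := Nat.mul_le_mul_left (Nat.card E) c2
  have c6 := card_le_of_le (show Q ⊓ Cx y ≤ E ⊔ zpowers z from fun p hp =>
    (mq h.toNH).max BQ Bc (by omega) hp.1 (BD p hp))
  have := h.abel_le BQ Bc
  omega

theorem cU : Nat.card (R ⊓ Cx z : Subgroup G) = 729 := h.M.cc z h.zR h.zn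

theorem U3 : ∀ u ∈ R ⊓ Cx z, u ^ 3 = 1 := fun u hu => h.M.exp u hu.1

theorem Uc : ∀ u ∈ R ⊓ Cx z, ∀ v ∈ R ⊓ Cx z, u * v * u⁻¹ * v⁻¹ ∈ Q := fun u hu v hv =>
  zpowers_le.2 h.yQ (h.M.cmt u hu.1 v hv.1)

theorem Ec : ∀ u ∈ Q ⊓ (R ⊓ Cx z), ∀ v ∈ Q ⊓ (R ⊓ Cx z), u * v = v * u := fun u hu v hv => mem_Cx.1 (cmt_one
  (eq_one_of h.z3 (h.cmt u hu.1 v hv.1) (h.M.cmt u hu.2.1 v hv.2.1) h.zn))

theorem ker_cent (hi : y ∉ centralizer (Qi i : Set G)) (hu : u ∈ R ⊓ Cx z) (t : τ u i = i) (e : π i u = 1) :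
    Q ⊓ (R ⊓ Cx z) ≤ Cx u := fun e' he => Cx_comm.1 (mem_Cx'.2 (by
  have := eq_one_of h.M.z3 (h.M.cmt _ (inv_mem he.2.1) _ hu.1) (fun p hp => ?_) hi
  · rw [← mul_right_inj e'⁻¹, inv_mul_cancel, ← this]; group
  · have := perp h.hz hu.2 (h.le i hp) he.1 (conj_mem_of_mem_normalizer (h.norm_Q hu.2) he.1)
      ((h.πk i u hu.2 t).1 e p hp)
    rw [inv_inv, mul_assoc e'⁻¹, mul_assoc e'⁻¹]
    exact (mem_Cx.1 this).symm))

theorem not_H0 : ¬ R ⊓ Cx z ≤ h.H0 := fun H => by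
  obtain ⟨i, hi⟩ : ∃ i, y ∉ centralizer (Qi i : Set G) := by
    by_contra k
    push Not at k
    exact h.yn (cent_all h.toNH h.yQ k)
  have c1 := h.cU
  have c2 := card_eq_relIndex Q (R ⊓ Cx z)
  have c3 := h.abel_le inf_le_left h.Ec
  have c4 := Kr3 h.toNH H (p3 h.U3) i
  have c5 := card_eq_relIndex (Kr h.toNH i) (R ⊓ Cx z)
  have t : ∀ u ∈ R ⊓ Cx z, ∀ j, τ u j = j := fun u hu j => by rw [(h.mem_H0.1 (H hu)).2]; rfl
  have kc : ∀ u ∈ Kr h.toNH i ⊓ (R ⊓ Cx z), Q ⊓ (R ⊓ Cx z) ≤ Cx u := fun u hu =>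
    h.ker_cent hi hu.2 (t u hu.2 i) ((mem_Kr h.toNH).1 hu.1).2
  by_cases k : Q.relIndex (R ⊓ Cx z) ≤ 9
  · have c6 := Nat.mul_le_mul_left (Nat.card (Q ⊓ (R ⊓ Cx z) : Subgroup G)) k
    have c7 := card_le_of_le (show Kr h.toNH i ⊓ (R ⊓ Cx z) ≤ Q ⊓ (R ⊓ Cx z) from fun u hu =>
      h.M.max (inf_le_right.trans inf_le_left) h.Ec (by omega) hu.2.1 (kc u hu))
    have := Nat.mul_le_mul c7 c4
    omega
  obtain ⟨f, hf, f1, f2⟩ := single h.toNH H (p3 h.U3) k i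
  have fE : Q ⊓ (R ⊓ Cx z) ≤ Cx f := by
    by_cases c : ∀ l ≠ i, y ∈ centralizer (Qi l : Set G)
    · obtain ⟨u, hu, w, hw, w1, -, e⟩ := split h.toNH i h.yQ
      have wz : w ∈ zpowers z := cent_all h.toNH hw fun l => by
        by_cases c' : l = i
        · exact c' ▸ w1
        · exact (mul_mem_cancel_left (le_cent h.toNH (Ne.symm c') hu)).1 (e ▸ c l c')
      have yi : y ∈ Qi i := e ▸ mul_mem hu (h.ZQi i wz)
      intro p hp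
      refine Cx_comm.1 (cmt_one (eq_one_of h.z3 (cmt_symm (?_ : p ∈ cmz z f).2) (h.M.cmt f hf.1 p hp.2.1) h.zn))
      refine FT.CA h.toNH (a := Function.update 1 i y) (fun l => ?_) (fun l => ?_) hp.1 fun l => ?_
      · by_cases c' : l = i
        · subst c'; simpa using yi
        · simp [c']
      · by_cases c' : l = i
        · subst c'
          rw [Function.update_self]
          exact QA_le h.toNH yi h.yn (cmz_of (h.zc h.yQ) (Cx_comm.1 (h.M.zc hf.1)))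
            (cmz_of (mem_Cx.2 rfl) (Cx_comm.1 hf.2))
        · exact inf_le_left.trans (ker_cmz h.toNH hf.2 (t f hf l) (f2 l c'))
      · by_cases c' : l = i
        · subst c'
          rw [Function.update_self]
          exact h.M.zc hp.2.1
        · simp [c', mem_Cx]
    · push Not at c
      obtain ⟨l, li, hl⟩ := c
      exact h.ker_cent hl hf (t f hf l) (f2 l li)
  have fK : f ∉ Kr h.toNH i ⊓ (R ⊓ Cx z) := fun e => f1 ((mem_Kr h.toNH).1 e.1).2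
  have c6 := eq3 (inf_le_right : Kr h.toNH i ⊓ (R ⊓ Cx z) ≤ _) (p3 h.U3) (by rwa [inf_relIndex_right])
    fun e => fK (e hf)
  have UE : ∀ p ∈ Q ⊓ (R ⊓ Cx z), R ⊓ Cx z ≤ Cx p := fun p hp =>
    max3 (fun u hu => Cx_comm.1 (kc u hu hp)) inf_le_right c6 (Cx_comm.1 (fE hp)) hf fK
  have c7 := h.cR
  obtain ⟨v, hv, vn⟩ := SetLike.not_le_iff_exists.1 fun e : R ≤ R ⊓ Cx z => by
    have := card_le_of_le e
    omega
  have c8 := card_le3' h.M.toHz (inf_le_right.trans inf_le_left : Q ⊓ (R ⊓ Cx z) ≤ R) hv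
  have c9 := card_le_of_le (show Q ⊓ (R ⊓ Cx z) ⊓ Cx v ≤ zpowers y from fun p hp => by
    by_contra pn
    have := h.M.cc p hp.1.2.1 pn
    rw [inf_eq_left.2 (max3 (UE p hp.1) inf_le_left (by omega) (Cx_comm.1 hp.2) hv vn)] at this
    omega)
  rw [cardZ h.M.z1 h.M.z3] at c9
  have := Nat.mul_le_mul_left (Nat.card (Q ⊓ (R ⊓ Cx z) : Subgroup G)) (le27 h.toNH inf_le_right h.U3)
  omega

theorem ex_s : ∃ s ∈ R ⊓ Cx z, ∀ i, τ s i = i + 1 := by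
  obtain ⟨s, hs, s1, s3⟩ := out h.toNH inf_le_right h.U3 h.not_H0
  rcases (by decide +kernel : ∀ t : Equiv.Perm (Fin 3), t ≠ 1 → t ^ 3 = 1 → (∀ i, t i = i + 1) ∨ ∀ i, t⁻¹ i = i + 1)
    _ s1 s3 with e | e
  · exact ⟨s, hs, e⟩
  · exact ⟨_, inv_mem hs, by rwa [h.τ_inv hs.2]⟩

omit h in
theorem cyc {t : Equiv.Perm (Fin 3)} (e : ∀ i, t i = i + 1) : t ≠ 1 ∧ t ^ 3 = 1 := by
  revert t; decide +kernel

theorem full (i : Fin 3) : y ∉ centralizer (Qi i : Set G) := fun e => by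
  obtain ⟨s, hs, s1⟩ := h.ex_s
  exact h.yn (orbit h.toNH hs.2 (cyc s1).1 (cyc s1).2 h.yQ (by rw [cmt_of (h.M.zc hs.1)]; exact one_mem _) e)

theorem cE : 81 ≤ Nat.card (Q ⊓ (R ⊓ Cx z) : Subgroup G) := by
  have k : Q.relIndex (R ⊓ Cx z) ≤ 9 := by
    by_contra k
    exact h.not_H0 (ab_le h.toNH inf_le_right h.U3 h.Uc k)
  have c1 := h.cU
  have c2 := card_eq_relIndex Q (R ⊓ Cx z)
  have c6 := Nat.mul_le_mul_left (Nat.card (Q ⊓ (R ⊓ Cx z) : Subgroup G)) k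
  omega

theorem RQi (h1 : e ∈ Qi i) (h2 : e ∈ R) : e ∈ zpowers z := by
  obtain ⟨s, hs, s1⟩ := h.ex_s
  have c := h.cj_mem hs.2 h1
  rw [s1] at c
  obtain ⟨k, k1, k2⟩ := F4x.third i (i + 1)
  have := eq_one_of h.M.z3 (h.M.cmt s hs.1 e h2)
    (mul_mem (le_cent h.toNH k2 c) (inv_mem (le_cent h.toNH k1 h1))) (h.full k)
  rw [mul_inv_eq_one.1 this] at c
  exact h.inf_le ((by decide : ∀ i : Fin 3, i ≠ i + 1) i) h1 c

theorem ex_v : ∃ v ∈ R ⊓ Cx z, τ v = 1 ∧ v ∉ Q := by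
  by_contra k
  push Not at k
  have c1 := h.cU
  have c2 := card_eq_relIndex h.H0 (R ⊓ Cx z)
  have c3 := h.abel_le inf_le_left h.Ec
  have c4 := card_le_of_le (show h.H0 ⊓ (R ⊓ Cx z) ≤ Q ⊓ (R ⊓ Cx z) from fun u hu =>
    ⟨k u hu.2 (h.mem_H0.1 hu.1).2, hu.2⟩)
  have := Nat.mul_le_mul c4 (H03 h.toNH inf_le_right (p3 h.U3))
  omega

theorem π_ne (hv : v ∈ R ⊓ Cx z) (t : τ v = 1) (e : π i v = 1) : v ∈ Q := by
  obtain ⟨s, hs, s1⟩ := h.ex_s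
  exact all_of h.toNH hs.2 (cyc s1).1 (cyc s1).2 (h.mem_H0.2 ⟨hv.2, t⟩) (h.Uc s hs v hv) e

theorem tri (hv : v ∈ R ⊓ Cx z) (t : τ v = 1) (vQ : v ∉ Q) (hu : u ∈ R ⊓ Cx z) (t' : τ u = 1) :
    u ∈ Q ∨ u * v ∈ Q ∨ u * v⁻¹ ∈ Q := by
  have v0 := h.mem_H0.2 ⟨hv.2, t⟩
  have u0 := h.mem_H0.2 ⟨hu.2, t'⟩
  have s1 := h.H0_le 0 v0
  have s2 := h.H0_le 0 u0
  have c := h.π_Q (i := 0) (h.Uc u hu v hv)
  rw [h.π_mul (mul_mem (mul_mem s2 s1) (inv_mem s2)) (inv_mem s1), h.π_mul (mul_mem s2 s1) (inv_mem s2),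
    h.π_mul s2 s1, h.π_inv s2, h.π_inv s1] at c
  rcases (by decide +kernel : ∀ a b : SL, a ^ 3 = 1 → b ^ 3 = 1 → a ≠ 1 → b * a * b⁻¹ * a⁻¹ = 1 →
    b = 1 ∨ b * a = 1 ∨ b * a⁻¹ = 1) (π 0 v) (π 0 u) (by rw [← h.π_pow s1, h.U3 v hv, h.π_one])
    (by rw [← h.π_pow s2, h.U3 u hu, h.π_one]) (fun e => vQ (h.π_ne hv t e)) c with e | e | e
  · exact Or.inl (h.π_ne hu t' e)
  · exact Or.inr (Or.inl (h.π_ne (i := 0) (mul_mem hu hv) (h.mem_H0.1 (mul_mem u0 v0)).2 (by rwa [h.π_mul s2 s1])))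
  · exact Or.inr (Or.inr (h.π_ne (i := 0) (mul_mem hu (inv_mem hv)) (h.mem_H0.1 (mul_mem u0 (inv_mem v0))).2
      (by rwa [h.π_mul s2 (inv_mem s1), h.π_inv s1])))

end PQ

end E3y

end CfsgLib.Rec3E
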