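import Cfsg.Agent.Lib.Rec3E.Defs
import Cfsg.Agent.Lib.Rec3B.UMain

/-! The normal closure of `z` in the case of two factors (plans/REC3E.md, U0). -/

set_option autoImplicit false
set_option maxRecDepth 100000
set_option maxHeartbeats 400000
set_option linter.unusedSectionVars false

namespace CfsgLib.Rec3E

open Subgroup Cfsg CfsgLib.Tech CfsgLib.PComp CfsgLib.W2 CfsgLib.Rec3 CfsgLib.Rec3B CfsgLib.Rec3B.W4
open CfsgLib.U43 (SL)

variable {G : Type*} [Group G] [Finite G]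

variable {z : G} {Q : Subgroup G} {Qi : Fin 2 → Subgroup G} {r : Fin 2 → G} {π : Fin 2 → G → SL}
  {τ : G → Equiv.Perm (Fin 2)} {K : Type*} [Field K] [Fintype K]

theorem gc_nonreal {φ : W4 →* G} {R : Subgroup G} {π₁ π₂ : G → SL} (h : GC φ R π₁ π₂) (hK : Fintype.card K = 4)
    (e : G ≃* PSU 6 K 2) : ∀ g ∈ Cx (φ gr), g * φ gz * g⁻¹ ≠ (φ gz)⁻¹ := by
  have c : Nat.card G = 9196830720 := (Nat.card_congr e.toEquiv).trans (Fischer.card_PSU62 hK)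
  rcases h.main hK with k | ⟨G₀, h1, ⟨l⟩, -⟩ | ⟨-, -, h2, ⟨l⟩⟩
  · exact k.2
  · have c1 := (Nat.card_congr l.toEquiv).trans (Fischer.card_PSU62 hK)
    have := G₀.card_mul_index
    rw [c, c1, h1] at this
    omega
  · have c1 : Nat.card (Cx (φ gr) ⧸ pCore 2 (Cx (φ gr))) = 1451520 := (Nat.card_congr l.toEquiv).trans Sp62.card_Sp
    have c2 := card_eq_card_quotient_mul_card_subgroup (pCore 2 (Cx (φ gr)))
    have c3 := card_subgroup_dvd_card (Cx (φ gr))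
    rw [c2, c1, h2, c] at c3
    omega

theorem uh_sub (h : UH z Q Qi r π τ) {Y : Subgroup G} (hz : z ∈ Y) (hQ : Q ≤ Y) (hr : ∀ i, r i ∈ Y)
    (hf : ∀ α β : SL, α ^ 4 = 1 → β ^ 4 = 1 → ∃ g ∈ Cx z, g ∈ Y ∧ τ g = 1 ∧ π 0 g = α ∧ π 1 g = β) :
    UH (⟨z, hz⟩ : Y) (Q.subgroupOf Y) (fun i => (Qi i).subgroupOf Y) (fun i => ⟨r i, hr i⟩) (fun i g => π i g)
      (fun g => τ g) := by
  have cx : ∀ {a g : Y}, g ∈ Cx a ↔ (g : G) ∈ Cx (a : G) := fun {a g} => by rw [GKP.cx_sub, mem_subgroupOf]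
  have zp : ∀ {g : Y}, g ∈ zpowers (⟨z, hz⟩ : Y) ↔ (g : G) ∈ zpowers z := fun {g} => by
    rw [GKP.zp_sub, mem_subgroupOf]
  have hi : ∀ i, Qi i ≤ Y := fun i => (h.le i).trans hQ
  refine
    { z1 := fun e => h.z1 (congrArg Subtype.val e)
      zQ := h.zQ
      le := fun i => comap_mono (h.le i)
      zc := fun q hq => cx.2 (h.zc hq)
      nQ := fun g hg => (RDx.norm_sub hQ g).2 (h.nQ ((RDx.norm_sub (zpowers_le.2 hz) g).1 (by
        rwa [GKP.zp_sub] at hg)))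
      card := (Core.card_subgroupOf_of_le hQ).trans h.card
      cardi := fun i => (Core.card_subgroupOf_of_le (hi i)).trans (h.cardi i)
      exp := fun q hq => Subtype.ext (h.exp q hq)
      cmt := fun p hp q hq => zp.2 (h.cmt p hp q hq)
      cen := fun i q hq e => zp.2 (h.cen i q hq fun y hy => congrArg Subtype.val (e ⟨y, hi i hy⟩ hy))
      cm := fun i j hij p hp q hq => Subtype.ext (h.cm i j hij p hp q hq)
      dec := fun q hq => by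
        obtain ⟨y, hy, e⟩ := h.dec q hq
        refine ⟨fun i => ⟨y i, hi i (hy i)⟩, hy, Subtype.ext ?_⟩
        simpa using e
      faith := fun g hg e => h.faith g (cx.1 hg) fun q hq => zp.1 (e ⟨q, hQ hq⟩ hq)
      τm := fun a ha b hb => h.τm a (cx.1 ha) b (cx.1 hb)
      τa := fun g hg i => by rw [RDx.cj_sub, h.τa g (cx.1 hg)]
      πm := fun i a ha a1 b hb b1 => h.πm i a (cx.1 ha) a1 b (cx.1 hb) b1
      πk := fun i g hg e => (h.πk i g (cx.1 hg) e).trans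
        ⟨fun k q hq => zp.2 (k q hq), fun k q hq => zp.1 (k ⟨q, hi i hq⟩ hq)⟩
      rz := fun i => cx.2 (h.rz i)
      rr := fun i => Subtype.ext (h.rr i)
      rm := fun i j => Subtype.ext (h.rm i j)
      ri := fun i q hq => zp.2 (h.ri i q hq)
      rj := fun i j hij q hq => cx.2 (h.rj i j hij hq)
      full := fun α β ha hb => by
        obtain ⟨g, g1, g2, g3⟩ := hf α β ha hb
        exact ⟨⟨g, g2⟩, cx.2 g1, g3⟩
      wc := fun g e => zp.2 (h.wc g e) }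

namespace U0x

open Es NBx RAx

theorem sl_cmt : ∀ s : SL, s ≠ 1 → s ^ 3 = 1 → ∀ β : SL, β ^ 4 = 1 →
    ∃ α : SL, α ^ 4 = 1 ∧ ∃ k : Fin 4, (α * s * α⁻¹ * s⁻¹) ^ k.val = β := by decide +kernel

theorem sl_fin : (∀ s : SL, s ≠ 1 → s ^ 3 = 1 → ∀ t, t = s ∨ t = s⁻¹ → ∃ e : Fin 3, t * (s ^ e.val)⁻¹ = 1) ∧
    (∀ s : SL, s ^ 3 = 1 → ∀ t, t = s ∨ t = s⁻¹ → ∀ e : Fin 3, (t * (s ^ e.val)⁻¹) ^ 4 = 1 → t * (s ^ e.val)⁻¹ = 1) ∧
    (SL.o 1 : SL) ^ 4 = 1 := by decide +kernel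

theorem w4_fin : (∀ α ∈ L2, α ≠ 1 → gx * α = α * gx → α = gc ∨ α = gc⁻¹) ∧
    (∀ α ∈ L1, α ≠ 1 → gx * α = α * gx → α = ga ∨ α = ga⁻¹) ∧ (¬ Om (gz * gx) ∧ ¬ Om (gz⁻¹ * gx)) ∧
    (gz * gx ∈ JJ ∧ gz⁻¹ * gx ∈ JJ) ∧ Om gx ∧ Om gz⁻¹ := by decide +kernel

theorem w4_rel : ga ∈ Q1 ∧ gb ∈ Q1 ∧ gc ∈ Q2 ∧ gr * ga * gr⁻¹ = ga⁻¹ ∧ gr * gb * gr⁻¹ = gb⁻¹ ∧ gs * gc * gs⁻¹ = gc⁻¹ ∧
    ga * gb = gz * (gb * ga) ∧ gx * gb * gx⁻¹ = gb * ga * gz⁻¹ ∧ gx * ga = ga * gx ∧ gx * gc = gc * gx ∧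
    ga ≠ 1 ∧ gc ≠ 1 ∧ gr * gc * gr⁻¹ = gc ∧ gs * ga * gs⁻¹ = ga ∧ gr * gx = gx * gr ∧ gs * gx = gx * gs ∧ gx ^ 3 = 1 := by
  decide +kernel

/-- elements of `Q` that centralise `Q` -/
theorem cen_Q (h : NH z Q Qi r π τ) {w : G} (hw : w ∈ Cx z) (e : ∀ q ∈ Q, q * w = w * q) : w ∈ zpowers z :=
  h.cenQ (h.faith w hw fun q hq => by rw [← e q hq]; simp) e

theorem z_mem (h : NH z Q Qi r π τ) {N : Subgroup G} [N.Normal] (h3 : 3 ∣ Nat.card N) : z ∈ N := by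
  have : Fact (Nat.Prime 3) := ⟨by norm_num⟩
  obtain ⟨T, hT, QT⟩ := exists_isSylowIn_ge h.hz.two h.zc
  have s := (h.sylow hT).inf_of_le_normalizer (N := N) le_normalizer_of_normal
  rw [top_inf_eq] at s
  obtain ⟨w, hw, w3, e⟩ := exists_mem_center_of_normalized hT.pgroup (inf_le_left (b := N))
    (fun t ht => mem_normalizer_of_forall fun x hx =>
      ⟨T.mul_mem (T.mul_mem ht hx.1) (T.inv_mem ht), Normal.conj_mem inferInstance x hx.2 t⟩) fun e => by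
      have := s.not_dvd
      rw [e, relIndex_bot_left] at this
      exact this h3
  have w1 : w ≠ 1 := fun e => by rw [e, orderOf_one] at w3; omega
  rcases three_cases h.z3 (cen_Q h (hT.le hw.1) fun q hq => e q (QT hq)) with k | k | k
  · exact absurd k w1
  · exact k ▸ hw.2
  · exact inv_mem_iff.1 (k ▸ hw.2)

theorem fratt (h : NH z Q Qi r π τ) {N : Subgroup G} [N.Normal] (hQ : Q ≤ N) (g : G) :
    ∃ l ∈ N, g * z * g⁻¹ = l * z * l⁻¹ ∨ g * z * g⁻¹ = l * z⁻¹ * l⁻¹ := by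
  have : Fact (Nat.Prime 3) := ⟨by norm_num⟩
  obtain ⟨T, hT, QT⟩ := exists_isSylowIn_ge h.hz.two h.zc
  have s := (h.sylow hT).inf_of_le_normalizer (N := N) le_normalizer_of_normal
  rw [top_inf_eq] at s
  obtain ⟨n, hn, e⟩ := s.frattini (g := g) (le_normalizer_of_normal (mem_top g))
  have k : ∀ q ∈ Q, q * (n * g * z * (n * g)⁻¹) = n * g * z * (n * g)⁻¹ * q := fun q hq => by
    have := mem_Cx.1 (hT.le (conj_mem_of_mem_normalizer (inv_mem e) ⟨QT hq, hQ hq⟩).1)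
    calc _ = n * g * ((n * g)⁻¹ * q * (n * g)⁻¹⁻¹ * z) * (n * g)⁻¹ := by group
      _ = _ := by rw [this]; group
  refine ⟨n⁻¹, inv_mem hn, ?_⟩
  rcases three_cases h.z3 (cen_Q h (mem_Cx.2 (k z h.z_mem).symm) k) with l | l | l
  · exact absurd (conj_eq_one_iff.1 l) h.z1
  · refine Or.inl ?_
    conv_rhs => rw [← l]
    group
  · exact Or.inr (by rw [← l]; group)

/-- a normal subgroup that contains `z` contains `Q . (Q₈ × Q₈)` -/
theorem big {φ : W4 →* G} (h : UX Q Qi r π τ φ) {N : Subgroup G} [hN : N.Normal] (hz : φ gz ∈ N) :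
    Q ≤ N ∧ ∀ g ∈ Cx (φ gz), τ g = 1 → (∀ i, π i g ^ 4 = 1) → g ∈ N := by
  have hx : φ gx ∈ N := by
    obtain ⟨g, e | e⟩ := h.xz
    · exact e ▸ hN.conj_mem _ hz g
    · exact inv_mem_iff.1 (e ▸ hN.conj_mem _ hz g)
  have m := h.toNH.ul_hm
  have k : ∀ i j : Fin 2, i ≠ j → ∀ β : SL, β ^ 4 = 1 → ∃ l ∈ N, l ∈ h.toNH.H0 ∧ π i l = β ∧ π j l = 1 :=
    fun i j hij β hβ => by
      obtain ⟨α, hα, k, e⟩ := sl_cmt _ (πx h i).1 (πx h i).2 β hβ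
      obtain ⟨g, hg, g1, g2⟩ : ∃ g ∈ h.toNH.H0, π i g = α ∧ π j g = 1 := by
        rcases ul_two hij with ⟨rfl, rfl⟩ | ⟨rfl, rfl⟩
        · obtain ⟨g, g0, g1, g2⟩ := h.full α 1 hα (one_pow _)
          exact ⟨g, h.toNH.mem_H0.2 ⟨g0, g1⟩, g2⟩
        · obtain ⟨g, g0, g1, g2⟩ := h.full 1 α (one_pow _) hα
          exact ⟨g, h.toNH.mem_H0.2 ⟨g0, g1⟩, g2.symm⟩
      have c := mul_mem (mul_mem (mul_mem hg (xH h)) (inv_mem hg)) (inv_mem (xH h))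
      have p : ∀ i, π i ((g * φ gx * g⁻¹ * (φ gx)⁻¹) ^ k.val) =
          (π i g * π i (φ gx) * (π i g)⁻¹ * (π i (φ gx))⁻¹) ^ k.val := fun i => by
        rw [h.toNH.π_pow (h.toNH.H0_le i c), m i _ (mul_mem (mul_mem hg (xH h)) (inv_mem hg)) _ (inv_mem (xH h)),
          m i _ (mul_mem hg (xH h)) _ (inv_mem hg), m i _ hg _ (xH h), h.toNH.π_inv (h.toNH.H0_le i hg),
          h.toNH.π_inv (h.toNH.H0_le i (xH h))]
      refine ⟨_, pow_mem (mul_mem (hN.conj_mem _ hx g) (inv_mem hx)) k.val, pow_mem c _, by rw [p, g1, e], ?_⟩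
      rw [p, g2]
      simp
  have rH : ∀ i, r i ∈ h.toNH.H0 := fun i => h.toNH.mem_H0.2 ⟨h.rz i, h.toNH.τ_r⟩
  have hQ : Q ≤ N := h.toNH.gen_le fun i p hp => by
    obtain ⟨j, hij⟩ := exists_ne i
    obtain ⟨l, hl, l0, l1, l2⟩ := k i j hij.symm _ sl_fin.2.2
    have hq : l * (r i)⁻¹ ∈ Q := h.toNH.ub_memQ hij.symm (mul_mem l0 (inv_mem (rH i)))
      (by rw [m i _ l0 _ (inv_mem (rH i)), h.toNH.π_inv (h.toNH.H0_le i (rH i)), l1, (h.toNH.π_r (j := i)).1]; simp)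
      (by rw [m j _ l0 _ (inv_mem (rH i)), h.toNH.π_inv (h.toNH.H0_le j (rH i)), l2, h.toNH.π_r.2 hij]; simp)
    have c := zpowers_le.2 hz (h.toNH.ub_cong hq (h.rz i) (h.le i hp))
    rw [inv_mul_cancel_right] at c
    have c1 := (mul_mem_cancel_left (mul_mem (hN.conj_mem _ hl p) (inv_mem hl))).1 c
    have c2 := hN.conj_mem _ (zpowers_le.2 hz (h.ri i _ (inv_mem hp))) p
    refine of_sq (h.exp p (h.le i hp)) ?_
    convert mul_mem (inv_mem c2) (inv_mem c1) using 1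
    rw [← pow_two]
    group
  refine ⟨hQ, fun g hg g1 g4 => ?_⟩
  obtain ⟨l, hl, l0, l1, l2⟩ := k 0 1 (by decide) _ (g4 0)
  obtain ⟨l', hl', l0', l1', l2'⟩ := k 1 0 (by decide) _ (g4 1)
  have gH := h.toNH.mem_H0.2 ⟨hg, g1⟩
  have c := mul_mem l0 l0'
  have hq : (l * l')⁻¹ * g ∈ Q := h.toNH.ul_mem_Q (mul_mem (inv_mem c) gH)
    (by rw [m 0 _ (inv_mem c) _ gH, h.toNH.π_inv (h.toNH.H0_le 0 c), m 0 _ l0 _ l0', l1, l2']; simp)
    (by rw [m 1 _ (inv_mem c) _ gH, h.toNH.π_inv (h.toNH.H0_le 1 c), m 1 _ l0 _ l0', l2, l1']; simp)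
  exact (mul_mem_cancel_left (inv_mem (mul_mem hl hl'))).1 (hQ hq)

theorem h3_of {φ : W4 →* G} (h : UX Q Qi r π τ φ) (c : ¬ 3 ^ 7 ∣ Nat.card G) :
    ∀ g ∈ Cx (φ gz), τ g = 1 → π 0 g = 1 → π 1 g ^ 4 = 1 := fun g hg g1 g2 => by
  by_contra g3
  have m := h.toNH.ul_hm 0
  have k : HM m.ker (π 1) := (h.toNH.ul_hm 1).mono fun g hg => (m.mem_ker.1 hg).1
  have e1 : k.ker = Q := by
    ext g
    rw [k.mem_ker, m.mem_ker]
    exact ⟨fun l => h.toNH.ul_mem_Q l.1.1 l.1.2 l.2, fun l => ⟨⟨h.toNH.ul_QH0 l, h.toNH.π_Q l⟩, h.toNH.π_Q l⟩⟩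
  have c1 := m.card
  have c2 := k.card
  obtain ⟨a, ha⟩ := m.three (xH h) (πx h 0).1 (by rw [← map_pow, w4_rel.2.2.2.2.2.2.2.2.2.2.2.2.2.2.2.2, map_one])
  obtain ⟨b, hb⟩ : 3 ∣ Nat.card k.hom.range := by
    by_contra l
    obtain ⟨d, hd⟩ : Nat.card k.hom.range ∣ 8 :=
      (Nat.Coprime.symm ((Nat.Prime.coprime_iff_not_dvd (by norm_num)).2 l)).dvd_of_dvd_mul_left (n := 8) k.dvd
    refine g3 ((by decide +kernel : ∀ s : SL, s ^ 8 = 1 → s ^ 4 = 1) _ ?_)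
    rw [hd, pow_mul, k.pow_card (m.mem_ker.2 ⟨h.toNH.mem_H0.2 ⟨hg, g1⟩, g2⟩), one_pow]
  rw [e1, h.card, hb] at c2
  rw [← c2, ha] at c1
  exact c (Dvd.dvd.trans ⟨a * b, by rw [← c1]; ring⟩ (card_subgroup_dvd_card h.toNH.H0))

theorem swap {φ : W4 →* G} (h : UX Q Qi r π τ φ) {R : Subgroup G} {π₁ π₂ : G → SL} (c : GC φ R π₁ π₂)
    (h3 : ∀ g ∈ Cx (φ gz), τ g = 1 → π 0 g = 1 → π 1 g ^ 4 = 1) {g : G} (hg : g ∈ Cx (φ gz)) (ht : τ g ≠ 1) :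
    ∃ ω, Swap φ ω := by
  obtain ⟨a1, b1, c2, ra, rb, sc, ab, xb, xa, xc, a0, c0, rc, sa, rx, sx, x3⟩ := w4_rel
  have m := h.toNH.ul_hm
  have xz := h.toNH.H0z (xH h)
  have cH : ∀ g ∈ Cx (φ gz), g * φ gx * g⁻¹ ∈ h.toNH.H0 := fun g hg =>
    h.toNH.mem_H0.2 ⟨mul_mem (mul_mem hg xz) (inv_mem hg), by
      rw [h.τm _ (mul_mem hg xz) _ (inv_mem hg), h.τm _ hg _ xz, (h.toNH.mem_H0.1 (xH h)).2, h.toNH.τ_inv hg]; simp⟩
  have y3 : ∀ i, π i (g * φ gx * g⁻¹) ≠ 1 ∧ π i (g * φ gx * g⁻¹) ^ 3 = 1 := fun i => ⟨fun e => by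
    have e1 := (h.πk i _ (h.toNH.H0z (cH g hg)) (h.toNH.H0i (cH g hg) i)).1 e
    refine (πx h ((τ g)⁻¹ i)).1 ((h.πk _ _ xz (h.toNH.H0i (xH h) _)).2 fun p hp => ?_)
    have := e1 _ (by simpa using h.toNH.cj_mem hg hp)
    rw [← zcj this (inv_mem hg)] at this
    convert this using 1
    group, by rw [← (m i).pow (cH g hg), conj_pow, ← map_pow, x3, map_one, mul_one, mul_inv_cancel, (m i).one]⟩
  obtain ⟨α, hα, eα⟩ := sl_conj _ (πx h 0).1 (πx h 0).2 _ (y3 0).1 (y3 0).2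
  obtain ⟨β, hβ, eβ⟩ := sl_conj _ (πx h 1).1 (πx h 1).2 _ (y3 1).1 (y3 1).2
  obtain ⟨k, kz, k1, kα, kβ⟩ := h.full α β hα hβ
  have kH := h.toNH.mem_H0.2 ⟨kz, k1⟩
  obtain ⟨q, hq, n, nz, nρ, en, tn, -⟩ := h.toNH.ul_dec (mul_mem kz hg)
  rw [h.τm _ kz _ hg, k1, one_mul] at tn
  have qH := h.toNH.ul_QH0 hq
  have pn : ∀ i, π i (n * φ gx * n⁻¹) = π i k * π i (g * φ gx * g⁻¹) * (π i k)⁻¹ := fun i => by
    rw [← (m i).inv kH, ← m i _ kH _ (cH g hg), ← m i _ (mul_mem kH (cH g hg)) _ (inv_mem kH),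
      show k * (g * φ gx * g⁻¹) * k⁻¹ = k * g * φ gx * (k * g)⁻¹ by group, en,
      show q * n * φ gx * (q * n)⁻¹ = q * (n * φ gx * n⁻¹) * q⁻¹ by group,
      m i _ (mul_mem qH (cH n nz)) _ (inv_mem qH), m i _ qH _ (cH n nz), h.toNH.π_Q hq, h.toNH.π_Q (inv_mem hq),
      one_mul, mul_one]
  rw [← kα, ← pn] at eα
  rw [← kβ, ← pn] at eβ
  obtain ⟨e, he⟩ := sl_fin.1 _ (πx h 0).1 (πx h 0).2 _ eα
  have uH := mul_mem (cH n nz) (inv_mem (pow_mem (xH h) e.val))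
  have pu : ∀ i, π i (n * φ gx * n⁻¹ * (φ gx ^ e.val)⁻¹) = π i (n * φ gx * n⁻¹) * (π i (φ gx) ^ e.val)⁻¹ := fun i => by
    rw [m i _ (cH n nz) _ (inv_mem (pow_mem (xH h) _)), (m i).inv (pow_mem (xH h) _), (m i).pow (xH h)]
  have u0 := (pu 0).trans he
  have uZ : n * φ gx * n⁻¹ * (φ gx ^ e.val)⁻¹ ∈ zpowers (φ gz) := h.toNH.inf_X.le (mem_inf.2 ⟨h.toNH.ul_mem_Q uH u0
    ((pu 1).trans (sl_fin.2.1 _ (πx h 1).2 _ eβ e (pu 1 ▸ h3 _ (h.toNH.H0z uH) (h.toNH.mem_H0.1 uH).2 u0))),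
    mul_mem (mul_mem (mul_mem nρ (xρ h)) (inv_mem nρ)) (inv_mem (pow_mem (xρ h) _))⟩)
  have t0 : τ n 0 = 1 ∧ τ n 1 = 0 := by
    rw [tn]
    revert ht
    generalize τ g = σ
    revert σ
    decide
  have r0 : n * φ gr * n⁻¹ = φ gs := by rw [h.r0, h.r1, h.toNH.X_r nz nρ, t0.1]
  have r1 : n * φ gs * n⁻¹ = φ gr := by rw [h.r0, h.r1, h.toNH.X_r nz nρ, t0.2]
  obtain ⟨w, hw⟩ : ∃ w, w = n * φ gx * n⁻¹ * (φ gx ^ e.val)⁻¹ := ⟨_, rfl⟩
  rw [← hw] at uZ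
  have ex : n * φ gx * n⁻¹ = w * φ (gx ^ e.val) := by rw [hw, map_pow, inv_mul_cancel_right]
  have cj3 : ∀ {u v t u' v' t' : W4}, n * φ u * n⁻¹ = φ u' → n * φ v * n⁻¹ = φ v' → n * φ t * n⁻¹ = φ t' →
      u * v * u⁻¹ = t → u' * v' * u'⁻¹ = t' := fun {u v t u' v' t'} e1 e2 e3 e4 => h.inj (by
    rw [map_mul, map_mul, map_inv, ← e1, ← e2, ← e3, ← e4, map_mul, map_mul, map_inv]; group)
  have iv : ∀ {u u' : W4}, n * φ u * n⁻¹ = φ u' → n * φ u⁻¹ * n⁻¹ = φ u'⁻¹ := fun {u u'} e => by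
    rw [map_inv, map_inv, ← e]; group
  have ml : ∀ {u u' v v' : W4}, n * φ u * n⁻¹ = φ u' → n * φ v * n⁻¹ = φ v' → n * φ (u * v) * n⁻¹ = φ (u' * v') :=
    fun {u u' v v'} e e' => by rw [map_mul, map_mul, ← e, ← e']; group
  have cx : ∀ {u u' t t' : W4}, n * φ u * n⁻¹ = φ u' → n * φ t * n⁻¹ = φ t' → gx * u * gx⁻¹ = t →
      gx ^ e.val * u' * (gx ^ e.val)⁻¹ = t' := fun {u u' t t'} e1 e3 e4 => h.inj (by
    rw [← e3, ← e4, map_mul, map_mul, map_mul, map_mul, map_inv, map_inv, ← conj_mul, ← conj_mul, ← conj_inv, e1, ex]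
    have := zc uZ (mul_mem (mul_mem (phi_z φ (gx ^ e.val)) (phi_z φ u')) (inv_mem (phi_z φ (gx ^ e.val))))
    calc _ = φ (gx ^ e.val) * φ u' * (φ (gx ^ e.val))⁻¹ * w * w⁻¹ := by group
      _ = _ := by rw [this]; group)
  have nz' : n * φ gz * n⁻¹ = φ gz := mem_Cx'.1 nz
  obtain ⟨a', a2, ea⟩ := h.e1.ge (t0.1 ▸ h.toNH.cj_mem nz ((m0 h).2 a1))
  obtain ⟨b', b2, eb⟩ := h.e1.ge (t0.1 ▸ h.toNH.cj_mem nz ((m0 h).2 b1))
  obtain ⟨c', c1, ec⟩ := h.e0.ge (t0.2 ▸ h.toNH.cj_mem nz ((m1 h).2 c2))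
  have aL := mem_L2 a' a2 (cj3 r0 ea.symm (iv ea.symm) ra)
  have cL := mem_L1 c' c1 (cj3 r1 ec.symm (iv ec.symm) sc)
  obtain rfl : e = 1 := sign2 a' aL b' (mem_L2 b' b2 (cj3 r0 eb.symm (iv eb.symm) rb))
    (h.inj (by rw [← ml ea.symm eb.symm, ← ml nz' (ml eb.symm ea.symm), ab])) e
    (cx eb.symm (ml (ml eb.symm ea.symm) (iv nz')) xb)
  simp only [Fin.val_one, pow_one] at ex cx
  have nx : n * φ gx * n⁻¹ = φ gx := by
    obtain ⟨l, -, el⟩ := c.om' w4_fin.2.2.2.2.1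
    have : n * l * φ gz * (n * l)⁻¹ = w * φ gx := by rw [← ex, ← el]; group
    rcases three_cases h.toNH.z3 uZ with k | k | k <;> rw [k] at ex this
    · rw [ex, one_mul]
    · exact absurd ((c.om w4_fin.2.2.2.1.1).1 ⟨_, by rw [this, map_mul]⟩) w4_fin.2.2.1.1
    · exact absurd ((c.om w4_fin.2.2.2.1.2).1 ⟨_, by rw [this, map_mul, map_inv]⟩) w4_fin.2.2.1.2
  have ne : ∀ {u u' : W4}, φ u' = n * φ u * n⁻¹ → u ≠ 1 → u' ≠ 1 := fun {u u'} e l l' => l (h.inj (by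
    rw [l', map_one] at e
    rw [map_one, conj_eq_one_iff.1 e.symm]))
  have fa := w4_fin.1 a' aL (ne ea a0) (mul_inv_eq_iff_eq_mul.1 (cx ea.symm ea.symm (mul_inv_eq_iff_eq_mul.2 xa)))
  have fc := w4_fin.2.1 c' cL (ne ec c0) (mul_inv_eq_iff_eq_mul.1 (cx ec.symm ec.symm (mul_inv_eq_iff_eq_mul.2 xc)))
  obtain ⟨u, u1, u2, u3⟩ : ∃ u : W4, u * gx = gx * u ∧ u * a' * u⁻¹ = gc ∧ u * c' * u⁻¹ = ga := by
    rcases fa with rfl | rfl <;> rcases fc with rfl | rfl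
    exacts [⟨1, by decide +kernel⟩, ⟨gr, by decide +kernel⟩, ⟨gs, by decide +kernel⟩, ⟨gr * gs, by decide +kernel⟩]
  refine ⟨φ u * n, mul_mem (phi_z φ u) nz, mul_mem (phi_Cx φ u1) (mem_Cx'.2 nx), ?_, ?_⟩
  · rw [← u2, map_mul, map_mul, map_inv, ea]; group
  · rw [← u3, map_mul, map_mul, map_inv, ec]; group

theorem core (h : UH z Q Qi r π τ) (nw : NW z) (hK : Fintype.card K = 4) (e : G ≃* PSU 6 K 2) :
    (∀ g ∈ Cx z, τ g = 1 ∧ (π 0 g = 1 → π 1 g ^ 4 = 1)) ∧ ∃ l, l * z * l⁻¹ = z⁻¹ := by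
  obtain ⟨φ, rfl, k⟩ := h.exists_UX nw
  have h3 := h3_of k (by rw [(Nat.card_congr e.toEquiv).trans (Fischer.card_PSU62 hK)]; norm_num)
  obtain ⟨R, π₁, π₂, c, -⟩ := k.exists_GC h3
  have t : ∀ g ∈ Cx (φ gz), τ g = 1 := fun g hg => by
    by_contra ht
    obtain ⟨ω, hω⟩ := swap k c h3 hg ht
    obtain ⟨l, l1, l2⟩ := c.real hω
    exact gc_nonreal c hK e l l1 l2
  obtain ⟨l, -, el⟩ := c.om' w4_fin.2.2.2.2.2
  exact ⟨fun g hg => ⟨t g hg, h3 g hg (t g hg)⟩, l, by rw [el, map_inv]⟩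

end U0x

open U0x Es in
theorem uh_l0 (h : UH z Q Qi r π τ) (nw : NW z) (hK : Fintype.card K = 4) :
    Nonempty (normalClosure {z} ≃* PSU 6 K 2) ∧ centralizer (normalClosure {z} : Set G) = ⊥ ∧ Q ≤ normalClosure {z} ∧
      (∀ g ∈ Cx z, τ g = 1 → (∀ i, π i g ^ 4 = 1) → g ∈ normalClosure {z}) ∧
      (∀ g, ∃ l ∈ normalClosure {z}, ∃ c ∈ Cx z, g = l * c) ∧
      ∀ g ∈ normalClosure {z}, g ∈ Cx z → τ g = 1 ∧ (π 0 g = 1 → π 1 g ^ 4 = 1) := by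
  obtain ⟨L, hn, ⟨e⟩, hc⟩ := h.u6 nw hK
  have hz : z ∈ L := z_mem h.toNH (by rw [(Nat.card_congr e.toEquiv).trans (Fischer.card_PSU62 hK)]; norm_num)
  have eL : normalClosure {z} = L := by
    have := Unitary.isSimpleGroup_PSU (F := K) (q := 2) (n := 6) hK (by decide) (by decide)
    have := e.isSimpleGroup
    refine le_antisymm (normalClosure_le_normal (by simpa using hz)) (subgroupOf_eq_top.1
      ((Normal.eq_bot_or_eq_top (H := (normalClosure {z}).subgroupOf L) inferInstance).resolve_left fun l => ?_))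
    have : (⟨z, hz⟩ : L) ∈ (normalClosure {z}).subgroupOf L := subset_normalClosure (Set.mem_singleton z)
    rw [l, mem_bot] at this
    exact h.z1 (congrArg Subtype.val this)
  rw [eL]
  obtain ⟨hQ, h4⟩ : Q ≤ L ∧ ∀ g ∈ Cx z, τ g = 1 → (∀ i, π i g ^ 4 = 1) → g ∈ L := by
    obtain ⟨φ, rfl, k⟩ := h.exists_UX nw
    exact big k hz
  have hL := uh_sub h hz hQ (fun i => h4 _ (h.rz i) h.toNH.τ_r fun j => by
      by_cases l : j = i
      · rw [l, (h.toNH.π_r (j := i)).1, sl_fin.2.2]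
      · rw [h.toNH.π_r.2 l, one_pow]) fun α β hα hβ => by
    obtain ⟨g, g0, g1, g2, g3⟩ := h.full α β hα hβ
    exact ⟨g, g0, h4 g g0 g1 (Fin.forall_fin_two.2 ⟨g2 ▸ hα, g3 ▸ hβ⟩), g1, g2, g3⟩
  obtain ⟨k1, l, k2⟩ := core hL (by
    obtain ⟨g, g1, g2⟩ := nw
    obtain ⟨l, hl, k⟩ := fratt h.toNH hQ g
    refine ⟨⟨l, hl⟩, ?_⟩
    rw [GKP.cx_sub, GKP.zp_sub, mem_subgroupOf, mem_subgroupOf]
    rcases k with k | k <;> rw [k] at g1 g2
    · exact ⟨g1, g2⟩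
    · rw [← conj_inv, inv_mem_iff] at g1 g2
      exact ⟨g1, g2⟩) hK e
  refine ⟨⟨e⟩, hc, hQ, h4, fun g => ?_, fun g hg gz => k1 ⟨g, hg⟩ (by rwa [GKP.cx_sub, mem_subgroupOf])⟩
  obtain ⟨m, hm, k⟩ := fratt h.toNH hQ g
  rcases k with k | k
  · exact ⟨m, hm, m⁻¹ * g, mem_Cx'.2 (by
      rw [show m⁻¹ * g * z * (m⁻¹ * g)⁻¹ = m⁻¹ * (g * z * g⁻¹) * m by group, k]; group), by group⟩
  · have k3 : (l : G) * z * (l : G)⁻¹ = z⁻¹ := congrArg Subtype.val k2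
    exact ⟨m * l, mul_mem hm l.2, (m * l)⁻¹ * g, mem_Cx'.2 (by
      rw [show (m * l)⁻¹ * g * z * ((m * l)⁻¹ * g)⁻¹ = (m * l)⁻¹ * (g * z * g⁻¹) * (m * l) by group, k, ← k3]; group),
      by group⟩

theorem U0x.push (h : UH z Q Qi r π τ) {Y : Type*} [Group Y] [Finite Y] (ι : G →* Y)
    (hi : Function.Injective ι) (hN : normalizer (zpowers (ι z) : Set Y) ≤ ι.range)
    (wc : ∀ g, g * ι z * g⁻¹ ∈ Q.map ι → g * ι z * g⁻¹ ∈ zpowers (ι z)) :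
    UH (ι z) (Q.map ι) (fun i => (Qi i).map ι) (fun i => ι (r i)) (fun i y => π i (Function.invFun ι y))
      (fun y => τ (Function.invFun ι y)) := by
  have li : ∀ g, Function.invFun ι (ι g) = g := Function.leftInverse_invFun hi
  have cx : ∀ {a g : G}, ι g ∈ Cx (ι a) ↔ g ∈ Cx a := fun {a g} => by
    rw [mem_Cx, mem_Cx, ← map_mul, ← map_mul, hi.eq_iff]
  have zp : ∀ {g : G}, ι g ∈ zpowers (ι z) ↔ g ∈ zpowers z := fun {g} => by
    rw [← MonoidHom.map_zpowers, mem_map_iff_mem hi]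
  have lf : ∀ {P : Y → Prop}, (∀ g ∈ Cx z, P (ι g)) → ∀ y ∈ Cx (ι z), P y := fun {P} k y hy => by
    obtain ⟨g, rfl⟩ := hN (Rec3.Cx_le_norm _ hy)
    exact k g (cx.1 hy)
  have lm : ∀ {A : Subgroup G} {P : Y → Prop}, (∀ y ∈ A.map ι, P y) ↔ ∀ g ∈ A, P (ι g) := fun {A P} =>
    ⟨fun k g hg => k _ (mem_map_of_mem ι hg), fun k _ ⟨g, hg, e⟩ => e ▸ k g hg⟩
  refine
    { z1 := fun e => h.z1 (hi (e.trans (map_one ι).symm))
      zQ := fun i => mem_map_of_mem ι (h.zQ i)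
      le := fun i => map_mono (h.le i)
      zc := lm.2 fun q hq => cx.2 (h.zc hq)
      nQ := fun y hy => by
        obtain ⟨g, rfl⟩ := hN hy
        refine le_normalizer_map ι (mem_map_of_mem ι (h.nQ (mem_normalizer_of_forall fun x hx => zp.1 ?_)))
        rw [map_mul, map_mul, map_inv]
        exact conj_mem_of_mem_normalizer hy (zp.2 hx)
      card := (card_map_of_injective hi).trans h.card
      cardi := fun i => (card_map_of_injective hi).trans (h.cardi i)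
      exp := lm.2 fun q hq => by rw [← map_pow, h.exp q hq, map_one]
      cmt := lm.2 fun p hp => lm.2 fun q hq => by simpa using zp.2 (h.cmt p hp q hq)
      cen := fun i => lm.2 fun q hq e => zp.2 (h.cen i q hq fun y hy => hi (by simpa using lm.1 e y hy))
      cm := fun i j hij => lm.2 fun p hp => lm.2 fun q hq => by rw [← map_mul, h.cm i j hij p hp q hq, map_mul]
      dec := lm.2 fun q hq => by
        obtain ⟨y, hy, e⟩ := h.dec q hq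
        exact ⟨fun i => ι (y i), fun i => mem_map_of_mem ι (hy i), by simp [e]⟩
      faith := lf fun g hg e => mem_map_of_mem ι (h.faith g hg fun q hq => zp.1 (by simpa using lm.1 e q hq))
      τm := lf fun a ha => lf fun b hb => by rw [← map_mul, li, li, li, h.τm a ha b hb]
      τa := lf fun g hg i => by
        rw [li, ← h.τa g hg i]
        ext y
        constructor
        · rintro ⟨_, ⟨q, hq, rfl⟩, rfl⟩
          exact ⟨g * q * g⁻¹, conj_mem_cj.2 hq, by simp⟩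
        · rintro ⟨_, ⟨q, hq, rfl⟩, rfl⟩
          exact ⟨ι q, mem_map_of_mem ι hq, by simp⟩
      πm := fun i => lf fun a ha a1 => lf fun b hb b1 => by
        rw [li] at a1 b1
        rw [← map_mul, li, li, li, h.πm i a ha a1 b hb b1]
      πk := fun i => lf fun g hg e => by
        rw [li] at e
        rw [li, h.πk i g hg e, lm]
        exact forall₂_congr fun q _ => by rw [← zp]; simp
      rz := fun i => cx.2 (h.rz i)
      rr := fun i => by rw [← map_mul, h.rr, map_one]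
      rm := fun i j => by rw [← map_mul, h.rm, map_mul]
      ri := fun i => lm.2 fun q hq => by simpa using zp.2 (h.ri i q hq)
      rj := fun i j hij => lm.2 fun q hq => cx.2 (h.rj i j hij hq)
      full := fun α β ha hb => by
        obtain ⟨g, g1, g2⟩ := h.full α β ha hb
        exact ⟨ι g, cx.2 g1, by rwa [li]⟩
      wc := wc }

theorem uh_rig (h : UH z Q Qi r π τ) (nw : NW z) {Y : Type*} [Group Y] [Finite Y] (ι : G →* Y)
    (hi : Function.Injective ι) (hN : normalizer (zpowers (ι z) : Set Y) ≤ ι.range)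
    (wc : ∀ g, g * ι z * g⁻¹ ∈ Q.map ι → g * ι z * g⁻¹ ∈ zpowers (ι z)) : Function.Surjective ι := by
  obtain ⟨⟨e⟩, -⟩ := uh_l0 h nw (K := Classical.GF4) FTHM.gf4_card
  obtain ⟨⟨e'⟩, -, -, -, k, -⟩ := uh_l0 (U0x.push h ι hi hN wc) (K := Classical.GF4) (by
    obtain ⟨g, g1, g2⟩ := nw
    refine ⟨ι g, mem_Cx.2 (by simpa using congrArg ι (mem_Cx.1 g1)), fun l => g2 ?_⟩
    rwa [← MonoidHom.map_zpowers, ← map_inv, ← map_mul, ← map_mul, mem_map_iff_mem hi] at l) FTHM.gf4_card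
  have e1 : (normalClosure {z}).map ι = normalClosure {ι z} := eq_of_le_of_card_ge
    (map_le_iff_le_comap.2 (normalClosure_le_normal (by simpa using subset_normalClosure (Set.mem_singleton _))))
    (by rw [card_map_of_injective hi, Nat.card_congr e.toEquiv, Nat.card_congr e'.toEquiv])
  intro y
  obtain ⟨l, hl, c, hc, rfl⟩ := k y
  exact mul_mem (map_le_range ι _ (e1.ge hl)) (hN (Rec3.Cx_le_norm _ hc))

end CfsgLib.Rec3E
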