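import Cfsg.Agent.Lib.Rec3E.JB2
import Cfsg.Agent.Lib.Rec3E.U0

/-! The group `K₀ = C(a, t)` (plans/REC3E.md, E4). -/

set_option autoImplicit false
set_option maxRecDepth 100000
set_option maxHeartbeats 400000
set_option linter.unusedSectionVars false

namespace CfsgLib.Rec3E

open Subgroup Cfsg CfsgLib.Tech CfsgLib.PComp CfsgLib.W2 CfsgLib.Rec3 CfsgLib.Rec3B CfsgLib.Rec3B.W4
open CfsgLib.U43 (SL)

variable {G : Type*} [Group G] [Finite G]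
variable {z x σ : G} {Q : Subgroup G} {Qi : Fin 3 → Subgroup G} {r a b : Fin 3 → G} {π : Fin 3 → G → SL}
  {τ : G → Equiv.Perm (Fin 3)} {i j k : Fin 3} {φ : W4 →* G}

namespace E4x

def ix (j k : Fin 3) : Fin 2 → Fin 3 := ![j, k]

def t2 (s : Equiv.Perm (Fin 3)) : Equiv.Perm (Fin 2) := if s = 1 then 1 else Equiv.swap 0 1

theorem fin1 : ∀ i j k : Fin 3, i ≠ j → i ≠ k → j ≠ k → (∀ l, ix j k l ≠ i) ∧ ∀ l m, l ≠ m → ix j k l ≠ ix j k m := by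
  decide +kernel

theorem fin2 : ∀ i j k : Fin 3, i ≠ j → i ≠ k → j ≠ k → ∀ s : Equiv.Perm (Fin 3), s i = i →
    (∀ l, s (ix j k l) = ix j k (t2 s l)) ∧ ∀ l, t2 s l = l → s = 1 := by decide +kernel

theorem fin3 : ∀ i : Fin 3, ∀ s : Equiv.Perm (Fin 3), s i = i → (∀ j, i ≠ j → s j = j → s = 1) ∧ (s ^ 3 = 1 → s = 1) := by
  decide +kernel

theorem fin4 : ∀ i : Fin 3, ∀ s : Equiv.Perm (Fin 3), s i = i → ∀ t : Equiv.Perm (Fin 3), t i = i →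
    t2 (s * t) = t2 s * t2 t ∧ (s ≠ 1 → t ≠ 1 → s * t⁻¹ = 1) := by decide +kernel

theorem ka {a t g : G} (hg : g ∈ K0 a t) : g ∈ Cx a := hg.1

theorem kr {a t g : G} (hg : g ∈ K0 a t) : g ∈ Cx t := hg.2

theorem t2_one : t2 1 = 1 := if_pos rfl

theorem w4a : (∀ u ∈ QQ, ga ^ (u.v % 3) * gb ^ (u.v / 81 % 3) ∈ Q1 ∧ (ga ^ (u.v % 3) * gb ^ (u.v / 81 % 3))⁻¹ * u ∈ Q2) ∧
    (∀ v : V81, ∃ s, Perp (w10 s) (W4.vec v)) ∧ ∀ v : V81, W4.vec v ∈ QQ → v ≠ 1 → Om (W4.vec v) ∨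
      ∃ s, W4.vec (W4.act s v) = ga ∨ W4.vec (W4.act s v) = gc ∨ W4.vec (W4.act s v) = U6x.gy := by decide +kernel

theorem prod3 (ij : i ≠ j) (ik : i ≠ k) (jk : j ≠ k) {y : Fin 3 → G} (e : y i = 1) (c : y j * y k = y k * y j) :
    y 0 * y 1 * y 2 = y j * y k := by
  revert ij ik jk e c
  rcases JBy.c3 i with rfl | rfl | rfl <;> rcases JBy.c3 j with rfl | rfl | rfl <;> rcases JBy.c3 k with rfl | rfl | rfl <;>
    intro ij ik jk e c <;> first | exact absurd rfl ij | exact absurd rfl ik | exact absurd rfl jk | simp [e, c]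

theorem map_sub {Y : Subgroup G} {ψ : W4 →* Y} (e : ∀ u, (ψ u : G) = φ u) (K : Subgroup W4) :
    K.map ψ = (K.map φ).subgroupOf Y := by
  ext y
  rw [mem_subgroupOf]
  exact ⟨fun ⟨u, hu, l⟩ => ⟨u, hu, by rw [← l, e]⟩, fun ⟨u, hu, l⟩ => ⟨u, hu, Subtype.ext (by rw [← l, e])⟩⟩

theorem L0_eq {a t : G} (hz : z ∈ K0 a t) :
    L0 z a t = (normalClosure {(⟨z, hz⟩ : K0 a t)}).map (K0 a t).subtype := by
  rw [normalClosure, MonoidHom.map_closure, L0]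
  congr 1
  ext w
  constructor
  · rintro ⟨g, hg, rfl⟩
    exact ⟨⟨g, hg⟩ * ⟨z, hz⟩ * (⟨g, hg⟩ : K0 a t)⁻¹, Group.mem_conjugatesOfSet_iff.2 ⟨_, rfl, isConj_iff.2 ⟨_, rfl⟩⟩, rfl⟩
  · rintro ⟨w, hw, rfl⟩
    obtain ⟨_, rfl, e⟩ := Group.mem_conjugatesOfSet_iff.1 hw
    obtain ⟨g, rfl⟩ := isConj_iff.1 e
    exact ⟨g, g.2, rfl⟩

theorem mem_L0 {a t : G} (hz : z ∈ K0 a t) {g : K0 a t} :
    (g : G) ∈ L0 z a t ↔ g ∈ normalClosure {(⟨z, hz⟩ : K0 a t)} := by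
  rw [L0_eq hz]
  exact mem_map_iff_mem (K0 a t).subtype_injective

end E4x

namespace EP

open E4x Es

variable (h : EP z Q Qi r π τ a b x σ i j k φ) {g : G}
include h

theorem e4_Q1 : Q1.map φ = Qi j := by rw [← h.gen, ← h.ea, ← h.eb, map_pair]; rfl

theorem e4_Q2 : Q2.map φ = Qi k := by rw [← h.gen, ← h.ec, ← h.ed, map_pair]; rfl

theorem e4_Qi {l : Fin 3} (li : l ≠ i) : Qi l ≤ K0 (a i) (r i) := fun p hp =>
  ⟨mem_Cx.2 (h.cm l i li p hp _ (h.aQ i)), h.rj i l li.symm hp⟩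

theorem e4_R {l : Fin 3} (li : l ≠ i) : RE z Q (r l) ≤ K0 (a i) (r i) := fun _ hy =>
  ⟨Cx_comm.1 (h.toEH.R_Q li hy (h.aQ i)), (h.toEH.R_H0 hy).2.2.2.2 i⟩

theorem e4_z : z ∈ K0 (a i) (r i) := h.e4_Qi h.ij.symm (h.zQ j)

theorem e4_J (hg : g ∈ JE z a) (hr : g ∈ Cx (r i)) : g ∈ K0 (a i) (r i) := ⟨(mem_JE.1 hg).2 i, hr⟩

theorem phi_K0 (u : W4) : φ u ∈ K0 (a i) (r i) := by
  refine W4.ind (P := fun u => φ u ∈ K0 (a i) (r i)) (by simp only [map_one, one_mem])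
    (fun _ _ h1 h2 => by simpa only [map_mul] using mul_mem h1 h2) u (Or.inr ?_) (Or.inr ?_) (Or.inr ?_) (Or.inr ?_)
    (Or.inr ?_) (Or.inr ?_) (Or.inr ?_) (Or.inr ?_)
  · exact h.ea ▸ h.e4_Qi h.ij.symm (h.aQ j)
  · exact h.ec ▸ h.e4_Qi h.ik.symm (h.aQ k)
  · exact h.ex ▸ h.e4_J h.xJ (h.xr i)
  · exact h.ez ▸ h.e4_z
  · exact h.eb ▸ h.e4_Qi h.ij.symm (h.jb_bQ j)
  · exact h.ed ▸ h.e4_Qi h.ik.symm (h.jb_bQ k)
  · exact h.er ▸ h.e4_R h.ij.symm (RBx.r_R h.toNH j)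
  · exact h.es ▸ h.e4_R h.ik.symm (RBx.r_R h.toNH k)

theorem e4_QQ : QQ.map φ = Q ⊓ Cx (r i) := by
  refine le_antisymm (fun _ ⟨u, hu, e⟩ => e ▸ ⟨(h.phi_QQ hu).1, (h.phi_K0 u).2⟩) ?_
  rw [h.toEH.QC h.ij h.ik h.jk, ← h.e4_Q1, ← h.e4_Q2]
  exact sup_le (map_mono les.2.2.2.2.1) (map_mono les.2.2.2.2.2.1)

theorem e4_τ (hg : g ∈ K0 (a i) (r i)) (hz : g ∈ Cx z) : τ g i = i := h.toNH.ul_τ_of_cr hz hg.2

theorem e4_π (hg : g ∈ Cx (a i)) (hz : g ∈ Cx z) : τ g i = i ∧ π i g ^ 3 = 1 :=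
  h.toNH.π_cube hz (h.aQ i) (h.an i) (by rw [mem_Cx'.1 hg, mul_inv_cancel]; exact one_mem _)

theorem e4_wc (e : g * z * g⁻¹ ∈ Q ⊓ Cx (r i)) : g * z * g⁻¹ ∈ zpowers z := by
  obtain ⟨u, hu, e'⟩ := h.e4_QQ.ge e
  exact J2a.nO h.toEX e.1 (e' ▸ (h.phi_QQ hu).2) ⟨g, rfl⟩

theorem e4_uh {Y : Subgroup G} (hφ : ∀ u, φ u ∈ Y) (hR : ∀ l, RE z Q (r (ix j k l)) ≤ Y) (hK : Y ≤ K0 (a i) (r i))
    (hz : z ∈ Y) : UH (⟨z, hz⟩ : Y) ((Q ⊓ Cx (r i)).subgroupOf Y) (fun l => (Qi (ix j k l)).subgroupOf Y)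
      (fun l => ⟨r (ix j k l), hR l (RBx.r_R h.toNH _)⟩) (fun l g => π (ix j k l) g) (fun g => t2 (τ g)) := by
  obtain ⟨f1, f2⟩ := fin1 i j k h.ij h.ik h.jk
  have f4 := fin2 i j k h.ij h.ik h.jk
  have cx : ∀ {a g : Y}, g ∈ Cx a ↔ (g : G) ∈ Cx (a : G) := fun {a g} => by rw [GKP.cx_sub, mem_subgroupOf]
  have zp : ∀ {g : Y}, g ∈ zpowers (⟨z, hz⟩ : Y) ↔ (g : G) ∈ zpowers z := fun {g} => by
    rw [GKP.zp_sub, mem_subgroupOf]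
  have hQ : Q ⊓ Cx (r i) ≤ Y := h.e4_QQ ▸ fun _ ⟨u, _, e⟩ => e ▸ hφ u
  have le : ∀ l, Qi (ix j k l) ≤ Q ⊓ Cx (r i) := fun l => RBx.Qj_le h.toNH (f1 l)
  have hi : ∀ l, Qi (ix j k l) ≤ Y := fun l => (le l).trans hQ
  have ti : ∀ {g : Y}, g ∈ Cx (⟨z, hz⟩ : Y) → τ g i = i := fun {g} hg => h.e4_τ (hK g.2) (cx.1 hg)
  have t1 : ∀ {g : Y} {l}, g ∈ Cx (⟨z, hz⟩ : Y) → t2 (τ g) l = l → τ g (ix j k l) = ix j k l := fun {g l} hg e => by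
    rw [(f4 _ (ti hg)).2 l e]; rfl
  refine
    { z1 := fun e => h.z1 (congrArg Subtype.val e)
      zQ := fun l => h.zQ _
      le := fun l => comap_mono (le l)
      zc := fun q hq => cx.2 (h.zc hq.1)
      nQ := fun g hg => (RDx.norm_sub hQ g).2 (mem_normalizer_of_forall fun p hp => mem_inf.2 ⟨conj_mem_of_mem_normalizer
        (h.nQ ((RDx.norm_sub (zpowers_le.2 hz) g).1 (by rwa [GKP.zp_sub] at hg))) hp.1,
        mul_mem (mul_mem (kr (hK g.2)) (mem_inf.1 hp).2) (inv_mem (kr (hK g.2)))⟩)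
      card := (Core.card_subgroupOf_of_le hQ).trans (by rw [← h.e4_QQ, card_map_of_injective h.inj, W4.cards.2.2.1]; rfl)
      cardi := fun l => (Core.card_subgroupOf_of_le (hi l)).trans (h.cardi _)
      exp := fun q hq => Subtype.ext (h.exp q hq.1)
      cmt := fun p hp q hq => zp.2 (h.cmt p hp.1 q hq.1)
      cen := fun l q hq e => zp.2 (h.cen _ q hq fun y hy => congrArg Subtype.val (e ⟨y, hi l hy⟩ hy))
      cm := fun l m hlm p hp q hq => Subtype.ext (h.cm _ _ (f2 l m hlm) p hp q hq)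
      dec := fun q hq => by
        obtain ⟨u, hu, e⟩ := h.e4_QQ.ge hq
        obtain ⟨u1, u2⟩ := w4a.1 u hu
        refine ⟨![⟨_, hφ _⟩, ⟨_, hφ _⟩], Fin.forall_fin_two.2 ⟨h.e4_Q1.le (mem_map_of_mem φ u1),
          h.e4_Q2.le (mem_map_of_mem φ u2)⟩, Subtype.ext ?_⟩
        refine e.symm.trans ?_
        simp [mul_assoc]
      faith := fun g hg e => by
        have gz := cx.1 hg
        have e' : ∀ l, l ≠ i → ∀ q ∈ Qi l, (g : G) * q * (g : G)⁻¹ * q⁻¹ ∈ zpowers z := fun l li q hq =>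
          zp.1 (e ⟨q, hQ (RBx.Qj_le h.toNH li hq)⟩ (RBx.Qj_le h.toNH li hq))
        have t : τ g = 1 := (fin3 i _ (ti hg)).1 j h.ij (h.toNH.τ_fix gz fun p hp => by
          simpa using mul_mem (h.toNH.ZQi j (e' j h.ij.symm p hp)) hp)
        have p : ∀ l, l ≠ i → π l g = 1 := fun l li => (h.πk l g gz (by rw [t]; rfl)).2 (e' l li)
        refine ⟨h.toNH.mem_Q gz t fun l => ?_, (hK g.2).2⟩
        by_cases li : l = i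
        · exact li ▸ RBx.one_of (h.e4_π (hK g.2).1 gz).2 (h.nD g gz t i p)
        · exact p l li
      τm := fun a ha b hb => by rw [coe_mul, h.τm _ (cx.1 ha) _ (cx.1 hb), (fin4 i _ (ti ha) _ (ti hb)).1]
      τa := fun g hg l => by rw [RDx.cj_sub, h.τa g (cx.1 hg), (f4 _ (ti hg)).1]
      πm := fun l a ha a1 b hb b1 => h.πm _ a (cx.1 ha) (t1 ha a1) b (cx.1 hb) (t1 hb b1)
      πk := fun l g hg e => (h.πk _ g (cx.1 hg) (t1 hg e)).trans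
        ⟨fun k q hq => zp.2 (k q hq), fun k q hq => zp.1 (k ⟨q, hi l hq⟩ hq)⟩
      rz := fun l => cx.2 (h.rz _)
      rr := fun l => Subtype.ext (h.rr _)
      rm := fun l m => Subtype.ext (h.rm _ _)
      ri := fun l q hq => zp.2 (h.ri _ q hq)
      rj := fun l m hlm q hq => cx.2 (h.rj _ _ (f2 l m hlm) hq)
      full := fun α β ha hb => by
        obtain ⟨y, hy, e⟩ := h.toEH.R_onto j ha
        obtain ⟨y', hy', e'⟩ := h.toEH.R_onto k hb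
        obtain ⟨c, t, -, p, -⟩ := h.toEH.R_H0 hy
        obtain ⟨c', t', -, p', -⟩ := h.toEH.R_H0 hy'
        have m := fun l => h.toNH.π_mul (RBx.R_St h.toNH hy l) (RBx.R_St h.toNH hy' l)
        refine ⟨⟨y * y', mul_mem (hR 0 hy) (hR 1 hy')⟩, cx.2 (mul_mem c c'), ?_, (m j).trans ?_, (m k).trans ?_⟩
        · rw [h.τm _ c _ c', t, t', mul_one, t2_one]
        · rw [e, p' j h.jk, mul_one]
        · rw [e', p k h.jk.symm, one_mul]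
      wc := fun g e => zp.2 (h.e4_wc e) }

theorem e4_ix (l : Fin 2) : ix j k l ≠ i := (fin1 i j k h.ij h.ik h.jk).1 l

theorem e4_uhK : UH (⟨z, h.e4_z⟩ : K0 (a i) (r i)) ((Q ⊓ Cx (r i)).subgroupOf _) (fun l => (Qi (ix j k l)).subgroupOf _)
    (fun l => ⟨r (ix j k l), h.e4_R (h.e4_ix l) (RBx.r_R h.toNH _)⟩) (fun l g => π (ix j k l) g) (fun g => t2 (τ g)) :=
  h.e4_uh h.phi_K0 (fun l => h.e4_R (h.e4_ix l)) le_rfl h.e4_z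

theorem e4_nw : NW (⟨z, h.e4_z⟩ : K0 (a i) (r i)) := by
  obtain ⟨g, hg, g1, g2⟩ := h.nw0 i
  refine ⟨⟨g, hg⟩, ?_⟩
  rw [GKP.cx_sub, GKP.zp_sub, mem_subgroupOf, mem_subgroupOf]
  exact ⟨(mem_JE.1 g1).1, g2⟩

theorem L0_iso {K : Type*} [Field K] [Fintype K] (hK : Fintype.card K = 4) :
    Nonempty (L0 z (a i) (r i) ≃* PSU 6 K 2) := by
  obtain ⟨⟨e⟩, -⟩ := uh_l0 h.e4_uhK h.e4_nw hK
  rw [L0_eq h.e4_z]
  exact ⟨(equivMapOfInjective _ _ (subtype_injective _)).symm.trans e⟩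

theorem L0_le : L0 z (a i) (r i) ≤ K0 (a i) (r i) := by
  rw [L0_eq h.e4_z]
  exact map_subtype_le _

theorem L0_norm : K0 (a i) (r i) ≤ normalizer (L0 z (a i) (r i) : Set G) := fun g hg =>
  mem_normalizer_of_forall fun y hy => (mem_L0 h.e4_z (g := ⟨g, hg⟩ * ⟨y, h.L0_le hy⟩ * (⟨g, hg⟩ : K0 _ _)⁻¹)).2
    (normalClosure_normal.conj_mem _ ((mem_L0 h.e4_z).1 hy) _)

theorem e4_l0 : (∀ g ∈ K0 (a i) (r i), (∀ l ∈ L0 z (a i) (r i), l * g = g * l) → g = 1) ∧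
    Q ⊓ Cx (r i) ≤ L0 z (a i) (r i) ∧
    (∀ g ∈ K0 (a i) (r i), g ∈ Cx z → τ g = 1 → π j g ^ 4 = 1 → π k g ^ 4 = 1 → g ∈ L0 z (a i) (r i)) ∧
    (∀ g ∈ K0 (a i) (r i), ∃ l ∈ L0 z (a i) (r i), ∃ c ∈ K0 (a i) (r i), c ∈ Cx z ∧ g = l * c) ∧
    ∀ g ∈ L0 z (a i) (r i), g ∈ Cx z → τ g = 1 ∧ (π j g = 1 → π k g ^ 4 = 1) := by
  obtain ⟨-, k1, k2, k3, k4, k5⟩ := uh_l0 h.e4_uhK h.e4_nw (K := Classical.GF4) FTHM.gf4_card
  have cx : ∀ {g : K0 (a i) (r i)}, g ∈ Cx (⟨z, h.e4_z⟩ : K0 (a i) (r i)) ↔ (g : G) ∈ Cx z := fun {g} => by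
    rw [GKP.cx_sub, mem_subgroupOf]
  have m := @mem_L0 G _ _ z _ _ h.e4_z
  refine ⟨fun g hg e => ?_, fun q hq => ?_, fun g hg gz t p p' => m.2 (k3 ⟨g, hg⟩ (cx.2 gz) (by rw [t, t2_one]) (Fin.forall_fin_two.2 ⟨p, p'⟩)),
    fun g hg => ?_, fun g hg gz => ?_⟩
  · have : (⟨g, hg⟩ : K0 (a i) (r i)) ∈ (⊥ : Subgroup _) := k1.le fun l hl => Subtype.ext (e l (m.2 hl))
    exact congrArg Subtype.val (mem_bot.1 this)
  · obtain ⟨u, hu, rfl⟩ := h.e4_QQ.ge hq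
    exact (m (g := ⟨_, h.phi_K0 u⟩)).2 (k2 hq)
  · obtain ⟨l, hl, c, hc, e⟩ := k4 ⟨g, hg⟩
    exact ⟨l, m.2 hl, c, c.2, cx.1 hc, congrArg Subtype.val e⟩
  · obtain ⟨t, p⟩ := k5 ⟨g, h.L0_le hg⟩ (m.1 hg) (cx.2 gz)
    exact ⟨(fin2 i j k h.ij h.ik h.jk _ (h.e4_τ (h.L0_le hg) gz)).2 0 (by rw [t]; rfl), p⟩

theorem L0_min {N : Subgroup G} (h1 : N ≤ K0 (a i) (r i)) (h2 : L0 z (a i) (r i) ≤ normalizer (N : Set G)) :
    N = ⊥ ∨ L0 z (a i) (r i) ≤ N := by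
  obtain ⟨e⟩ := h.L0_iso (K := Classical.GF4) FTHM.gf4_card
  have := Unitary.isSimpleGroup_PSU (F := Classical.GF4) (q := 2) (n := 6) FTHM.gf4_card (by decide) (by decide)
  have := e.isSimpleGroup
  refine (Normal.eq_bot_or_eq_top (H := N.subgroupOf (L0 z (a i) (r i)))
    ⟨fun n hn g => conj_mem_of_mem_normalizer (H := N) (h2 g.2) hn⟩).imp (fun e => ?_) subgroupOf_eq_top.1
  refine eq_bot_iff.2 fun n hn => h.e4_l0.1 n (h1 hn) fun l hl => ?_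
  have m : l * n * l⁻¹ * n⁻¹ ∈ L0 z (a i) (r i) := by
    simpa only [mul_assoc] using mul_mem hl (conj_mem_of_mem_normalizer (h.L0_norm (h1 hn)) (inv_mem hl))
  have : (⟨_, m⟩ : L0 z (a i) (r i)) ∈ N.subgroupOf _ := mul_mem (conj_mem_of_mem_normalizer (h2 hl) hn) (inv_mem hn)
  rw [e, mem_bot] at this
  exact mul_inv_eq_iff_eq_mul.1 (mul_inv_eq_one.1 (congrArg Subtype.val this))

theorem K0_dec (hg : g ∈ K0 (a i) (r i)) : ∃ l ∈ L0 z (a i) (r i), ∃ c ∈ K0 (a i) (r i), c ∈ Cx z ∧ g = l * c :=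
  h.e4_l0.2.2.2.1 g hg

theorem R_L0 : RE z Q (r j) ≤ L0 z (a i) (r i) ∧ RE z Q (r k) ≤ L0 z (a i) (r i) := by
  refine ⟨fun y hy => ?_, fun y hy => ?_⟩ <;> obtain ⟨c, t, p, p', -⟩ := h.toEH.R_H0 hy
  · exact h.e4_l0.2.2.1 y (h.e4_R h.ij.symm hy) c t p (by rw [p' k h.jk.symm, one_pow])
  · exact h.e4_l0.2.2.1 y (h.e4_R h.ik.symm hy) c t (by rw [p' j h.jk, one_pow]) p

theorem e4_zL : z ∈ L0 z (a i) (r i) := h.e4_l0.2.1 (RBx.Qj_le h.toNH h.ij.symm (h.zQ j))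

theorem e4_QL {u : W4} (hu : u ∈ QQ) : φ u ∈ L0 z (a i) (r i) := h.e4_l0.2.1 (h.e4_QQ.le (mem_map_of_mem φ hu))

theorem e4_xz : ∃ l ∈ L0 z (a i) (r i), l * z * l⁻¹ = x ∨ l * z * l⁻¹ = x⁻¹ := by
  obtain ⟨g, hg, g1, g2⟩ := h.nw0 i
  obtain ⟨l, hl, c, -, cz, rfl⟩ := h.K0_dec hg
  rw [show l * c * z * (l * c)⁻¹ = l * (c * z * c⁻¹) * l⁻¹ by group, mem_Cx'.1 cz] at g1 g2
  obtain ⟨u, hu, e⟩ := (h.phi_J h).ge (mem_inf.2 ⟨h.om_J5 g1,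
    kr (h.L0_le (mul_mem (mul_mem hl h.e4_zL) (inv_mem hl)))⟩)
  have o := (h.om4 hu).1 ⟨l, e.symm⟩
  rw [← eq_vec hu] at o e
  have cj : ∀ s v, φ (W4.vec (W4.act s v)) = l * z * l⁻¹ →
      (φ (W4.lin s))⁻¹ * l * z * ((φ (W4.lin s))⁻¹ * l)⁻¹ = φ (W4.vec v) := fun s v e => by
    rw [← G2x.conj_lin] at e
    calc _ = (φ (W4.lin s))⁻¹ * (l * z * l⁻¹) * φ (W4.lin s) := by group
      _ = _ := by rw [← e]; group
  rcases G2x.om_cases _ o with k | k | ⟨s, hs, k | k⟩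
  · exact absurd (by rw [← e, k, G2x.vecs.2.2.2, h.ez]; exact mem_zpowers z) g2
  · exact absurd (by rw [← e, k, map_inv, map_inv, G2x.vecs.2.2.2, h.ez]; exact inv_mem (mem_zpowers z)) g2
  · exact ⟨_, mul_mem (inv_mem (h.e4_QL hs)) hl, Or.inl (by rw [cj s _ (k ▸ e), G2x.vecs.2.2.1, h.ex])⟩
  · exact ⟨_, mul_mem (inv_mem (h.e4_QL hs)) hl,
      Or.inr (by rw [cj s _ (k ▸ e), map_inv, map_inv, G2x.vecs.2.2.1, h.ex])⟩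

theorem e4_xL : x ∈ L0 z (a i) (r i) := by
  obtain ⟨l, hl, e | e⟩ := h.e4_xz
  · exact e ▸ mul_mem (mul_mem hl h.e4_zL) (inv_mem hl)
  · exact inv_mem_iff.1 (e ▸ mul_mem (mul_mem hl h.e4_zL) (inv_mem hl))

theorem phi_L0 (u : W4) : φ u ∈ L0 z (a i) (r i) := by
  refine W4.ind (P := fun u => φ u ∈ L0 z (a i) (r i)) (by simp only [map_one, one_mem])
    (fun _ _ h1 h2 => by simpa only [map_mul] using mul_mem h1 h2) u (Or.inr (h.e4_QL (by decide +kernel)))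
    (Or.inr (h.e4_QL (by decide +kernel))) (Or.inr ?_) (Or.inr (h.e4_QL (by decide +kernel)))
    (Or.inr (h.e4_QL (by decide +kernel))) (Or.inr (h.e4_QL (by decide +kernel))) (Or.inr ?_) (Or.inr ?_)
  · exact h.ex ▸ h.e4_xL
  · exact h.er ▸ h.R_L0.1 (RBx.r_R h.toNH j)
  · exact h.es ▸ h.R_L0.2 (RBx.r_R h.toNH k)

theorem cK0 (hg : g ∈ K0 (a i) (r i)) (hz : g ∈ Cx z) (t : τ g = 1) : ∃ y ∈ RE z Q (r j), ∃ y' ∈ RE z Q (r k),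
    ∃ u ∈ QQ, ∃ c ∈ JE z a, c ∈ Cx (r i) ∧ g = y * y' * φ u * c := by
  obtain ⟨q, hq, y, hy, c, hc, cr, e⟩ := h.dec0 hz t
  have S := fun l => RBx.R_St h.toNH (hy l) i
  have e1 : g * c⁻¹ = q * (y 0 * y 1 * y 2) := by rw [e, mul_inv_cancel_right]
  have p : π i (g * c⁻¹) = π i (y i) := by
    have p := fun l => (h.toEH.R_H0 (hy l)).2.2.2.1 i
    rw [e1, h.toNH.π_mul (h.toNH.H0_le i (h.toNH.ul_QH0 hq)) (mul_mem (mul_mem (S 0) (S 1)) (S 2)),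
      h.toNH.π_mul (mul_mem (S 0) (S 1)) (S 2), h.toNH.π_mul (S 0) (S 1), h.toNH.π_Q hq, one_mul]
    rcases JBy.c3 i with rfl | rfl | rfl
    · rw [p 1 (by decide), p 2 (by decide), mul_one, mul_one]
    · rw [p 0 (by decide), p 2 (by decide), mul_one, one_mul]
    · rw [p 0 (by decide), p 1 (by decide), mul_one, one_mul]
  have gc := mul_mem hg (inv_mem (h.e4_J hc (cr i)))
  have y1 : y i = 1 := h.toEH.R_inj (hy i) (RBx.one_of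
    (p ▸ (h.e4_π (ka gc) (mul_mem hz (inv_mem (mem_JE.1 hc).1))).2) (h.toEH.R_H0 (hy i)).2.2.1)
  rw [prod3 h.ij h.ik h.jk y1 (mem_Cx.1 (h.toEH.R_R h.jk.symm (hy k) (hy j)))] at e e1
  have yK := mul_mem (h.e4_R h.ij.symm (hy j)) (h.e4_R h.ik.symm (hy k))
  obtain ⟨u, hu, eu⟩ := h.e4_QQ.ge (mem_inf.2 ⟨conj_mem_of_mem_normalizer' (h.toNH.norm_Q
    (mul_mem (h.toEH.R_H0 (hy j)).1 (h.toEH.R_H0 (hy k)).1)) hq, kr (by
      have := mul_mem (inv_mem yK) gc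
      rwa [e1, ← mul_assoc] at this)⟩)
  exact ⟨_, hy j, _, hy k, u, hu, c, hc, cr i, by rw [e, eu]; group⟩

theorem JL0 : JE z a ⊓ L0 z (a i) (r i) = JJ.map φ := by
  refine le_antisymm (fun c hc => ?_) fun _ ⟨u, hu, e⟩ => e ▸ mem_inf.2
    ⟨h.J5_le ((h.phi_J h).le (mem_map_of_mem φ hu)).1, h.phi_L0 u⟩
  obtain ⟨c1, c2⟩ := mem_inf.1 hc
  have cJ := mul_mem c1 (inv_mem (pow_mem h.xJ (JBx.co π x c j).val))
  have p : π j (c * (x ^ (JBx.co π x c j).val)⁻¹) = 1 := JBx.co_z' x (by rw [h.co_sub c1, sub_self])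
  have p' := RBx.one_of ((h.J_H0 cJ).2.2 k)
    ((h.e4_l0.2.2.2.2 _ (mul_mem c2 (inv_mem (pow_mem h.e4_xL _))) (mem_JE.1 cJ).1).2 p)
  refine (h.phi_J h).ge (mem_inf.2 ⟨?_, kr (h.L0_le c2)⟩)
  exact (mul_mem_cancel_right (inv_mem (pow_mem (subset_closure (by simp)) _))).1 (h.jb_A5 (h.mem_A cJ h.jk p p'))

theorem cL0 (hg : g ∈ L0 z (a i) (r i)) (hz : g ∈ Cx z) : τ g = 1 ∧ ∃ y ∈ RE z Q (r j), ∃ y' ∈ RE z Q (r k),
    ∃ u ∈ SS, g = y * y' * φ u := by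
  have t := (h.e4_l0.2.2.2.2 g hg hz).1
  obtain ⟨y, hy, y', hy', u, hu, c, hc, -, rfl⟩ := h.cK0 (h.L0_le hg) hz t
  obtain ⟨v, hv, rfl⟩ := h.JL0.le (mem_inf.2 ⟨hc,
    (mul_mem_cancel_left (mul_mem (mul_mem (h.R_L0.1 hy) (h.R_L0.2 hy')) (h.phi_L0 u))).1 hg⟩)
  exact ⟨t, y, hy, y', hy', u * v, mul_mem (les.2.1 hu) (les.1 hv), by rw [map_mul, mul_assoc]⟩

theorem e4_c (hg : g ∈ K0 (a i) (r i)) (hz : g ∈ Cx z) (t : τ g = 1) :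
    ∃ l ∈ L0 z (a i) (r i), ∃ c ∈ JE z a, c ∈ Cx (r i) ∧ g = l * c := by
  obtain ⟨y, hy, y', hy', u, -, c, hc⟩ := h.cK0 hg hz t
  exact ⟨_, mul_mem (mul_mem (h.R_L0.1 hy) (h.R_L0.2 hy')) (h.phi_L0 u), c, hc⟩

theorem K0_nosw (hs : NoSw z τ) (hg : g ∈ K0 (a i) (r i)) :
    ∃ l ∈ L0 z (a i) (r i), ∃ c ∈ JE z a, c ∈ Cx (r i) ∧ g = l * c := by
  obtain ⟨l, hl, c, hc, cz, rfl⟩ := h.K0_dec hg
  obtain ⟨l', hl', d, hd, dr, rfl⟩ := h.e4_c hc cz ((fin3 i _ (h.e4_τ hc cz)).2 (hs c cz))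
  exact ⟨l * l', mul_mem hl hl', d, hd, dr, (mul_assoc _ _ _).symm⟩

theorem e4_sw {ω l : G} (hz : ω ∈ Cx z) (t : τ ω ≠ 1) (hl : l ∈ L0 z (a i) (r i)) : l * ω ∉ JE z a := fun c => by
  have lz := (mul_mem_cancel_right hz).1 (mem_JE.1 c).1
  have := (h.J_H0 c).2.1
  rw [h.τm l lz ω hz, (h.cL0 hl lz).1, one_mul] at this
  exact t this

theorem K0_sw {ω : G} (hω : ω ∈ K0 (a i) (r i)) (hz : ω ∈ Cx z) (t : τ ω ≠ 1) :
    ω ∉ L0 z (a i) (r i) ⊔ JE z a ⊓ Cx (r i) ∧ ∀ g ∈ K0 (a i) (r i), ∃ l ∈ L0 z (a i) (r i), ∃ c ∈ JE z a,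
      c ∈ Cx (r i) ∧ (g = l * c ∨ g = l * c * ω) := by
  refine ⟨fun m => ?_, fun g hg => ?_⟩
  · obtain ⟨l, hl, c, hc, e⟩ := (Core.mem_sup_of_le_normalizer_left
      fun c hc => h.L0_norm (h.e4_J (mem_inf.1 hc).1 (mem_inf.1 hc).2)).1 m
    exact h.e4_sw hz t (inv_mem hl) (by rw [← e, inv_mul_cancel_left]; exact hc.1)
  · obtain ⟨l, hl, c, hc, cz, rfl⟩ := h.K0_dec hg
    by_cases tc : τ c = 1
    · obtain ⟨l', hl', d, hd, dr, rfl⟩ := h.e4_c hc cz tc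
      exact ⟨l * l', mul_mem hl hl', d, hd, dr, Or.inl (mul_assoc _ _ _).symm⟩
    · obtain ⟨l', hl', d, hd, dr, e⟩ := h.e4_c (mul_mem hc (inv_mem hω)) (mul_mem cz (inv_mem hz)) (by
        rw [h.τm _ cz _ (inv_mem hz), h.toNH.τ_inv hz, (fin4 i _ (h.e4_τ hc cz) _ (h.e4_τ hω hz)).2 tc t])
      exact ⟨l * l', mul_mem hl hl', d, hd, dr, Or.inr (by rw [mul_assoc l, ← e]; group)⟩

theorem exists_gc {Y : Subgroup G} (h1 : L0 z (a i) (r i) ≤ Y) (h2 : Y ≤ K0 (a i) (r i))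
    (h3 : Y ⊓ JE z a ≤ L0 z (a i) (r i)) : ∃ (ψ : W4 →* Y) (π₁ π₂ : Y → SL), (∀ u, (ψ u : G) = φ u) ∧
      GC ψ ((RE z Q (r j)).subgroupOf Y) π₁ π₂ ∧ Sw ψ := by
  have hφ := fun u => h1 (h.phi_L0 u)
  have hR : ∀ l, RE z Q (r (ix j k l)) ≤ Y := Fin.forall_fin_two.2 ⟨h.R_L0.1.trans h1, h.R_L0.2.trans h1⟩
  have e : ∀ u, (φ.codRestrict Y hφ u : G) = φ u := fun _ => rfl
  generalize φ.codRestrict Y hφ = ψ at e
  have U := h.e4_uh hφ hR h2 (h1 h.e4_zL)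
  rw [show (⟨z, h1 h.e4_zL⟩ : Y) = ψ gz from Subtype.ext (by rw [e, h.ez])] at U
  have X : UX _ _ _ _ _ ψ :=
    { toUH := U
      inj := fun u v l => h.inj (by rw [← e, l, e])
      eQ := by rw [map_sub e, h.e4_QQ]
      e0 := by rw [map_sub e, h.e4_Q1]; rfl
      e1 := by rw [map_sub e, h.e4_Q2]; rfl
      r0 := Subtype.ext ((e _).trans h.er)
      r1 := Subtype.ext ((e _).trans h.es)
      xz := by
        obtain ⟨l, hl, k⟩ := h.e4_xz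
        refine ⟨⟨l, h1 hl⟩, k.imp (fun k => Subtype.ext ?_) fun k => Subtype.ext ?_⟩ <;> simp [e, h.ez, h.ex, k] }
  obtain ⟨R, π₁, π₂, c, s⟩ := X.exists_GC fun g hg t p => by
    rw [GKP.cx_sub, mem_subgroupOf, e, h.ez] at hg
    obtain ⟨l, hl, d, hd, -, ed⟩ := h.e4_c (h2 g.2) hg
      ((fin2 i j k h.ij h.ik h.jk _ (h.e4_τ (h2 g.2) hg)).2 0 (by rw [t]; rfl))
    refine (h.e4_l0.2.2.2.2 g ?_ hg).2 p
    rw [ed]
    exact mul_mem hl (h3 (mem_inf.2 ⟨(mul_mem_cancel_left (h1 hl)).1 (ed ▸ g.2), hd⟩))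
  refine ⟨ψ, π₁, π₂, e, ?_, s⟩
  rwa [eq_of_le_of_card_ge (H := (RE z Q (r j)).subgroupOf Y) (K := R) (fun y hy => c.toGC1.mem_R.2 ⟨?_, fun u hu =>
    Subtype.ext ?_, Subtype.ext (h.toEH.mem_RE.1 hy).2.2.2⟩)
    (by rw [c.card, Core.card_subgroupOf_of_le (h.R_L0.1.trans h1), (h.toEH.q8 _).card])]
  · rw [GKP.cx_sub, mem_subgroupOf, e, h.er]
    exact (h.toEH.mem_RE.1 hy).2.1
  · rw [coe_mul, coe_mul, e]
    exact mem_Cx.1 (h.toEH.R_Q h.jk hy (h.e4_Q2.le (mem_map_of_mem φ hu)))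

theorem X_J {ω : G} (hω : ω ∈ K0 (a i) (r i)) (hz : ω ∈ Cx z) (t : τ ω ≠ 1) (ωω : ω * ω = 1) :
    (L0 z (a i) (r i) ⊔ zpowers ω) ⊓ JE z a ≤ L0 z (a i) (r i) ∧
      (L0 z (a i) (r i)).relIndex (L0 z (a i) (r i) ⊔ zpowers ω) = 2 := by
  have k : ∀ g ∈ L0 z (a i) (r i) ⊔ zpowers ω, ∃ l ∈ L0 z (a i) (r i), g = l ∨ g = l * ω := fun g hg => by
    obtain ⟨l, hl, c, hc, e⟩ := (Core.mem_sup_of_le_normalizer_left (zpowers_le.2 (h.L0_norm hω))).1 hg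
    obtain ⟨n, rfl⟩ := mem_zpowers_iff.1 hc
    have o : ω ^ (2 : ℤ) = 1 := by rw [zpow_two, ωω]
    rcases Int.even_or_odd' n with ⟨m, rfl | rfl⟩
    · exact ⟨l, hl, Or.inl (by rw [← e, zpow_mul, o, one_zpow, mul_one])⟩
    · exact ⟨l, hl, Or.inr (by rw [← e, zpow_add, zpow_mul, o, one_zpow, one_mul, zpow_one])⟩
  have n : ω ∉ L0 z (a i) (r i) := fun m => (h.K0_sw hω hz t).1 (mem_sup_left m)
  refine ⟨fun g hg => ?_, relIndex_eq_two_iff.2 ⟨ω, mem_sup_right (mem_zpowers ω), fun g hg => ?_⟩⟩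
  · obtain ⟨l, hl, rfl | rfl⟩ := k g hg.1
    · exact hl
    · exact absurd hg.2 (h.e4_sw hz t hl)
  · obtain ⟨l, hl, rfl | rfl⟩ := k g hg
    · exact Or.inr ⟨hl, fun m => n ((mul_mem_cancel_left hl).1 m)⟩
    · exact Or.inl ⟨by rwa [mul_assoc, ωω, mul_one], fun m => n ((mul_mem_cancel_left hl).1 m)⟩

theorem e4_gc : ∃ (ψ : W4 →* L0 z (a i) (r i)) (R : Subgroup _) (π₁ π₂ : L0 z (a i) (r i) → SL),
    (∀ u, (ψ u : G) = φ u) ∧ GC ψ R π₁ π₂ ∧ ∀ n, n ∈ NJ ψ ↔ (n : G) ∈ NJ φ := by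
  obtain ⟨ψ, π₁, π₂, e, c, -⟩ := h.exists_gc le_rfl h.L0_le inf_le_left
  refine ⟨ψ, _, π₁, π₂, e, c, fun n => ?_⟩
  rw [NJ, map_sub e]
  exact RDx.norm_sub (L := JJ.map φ) (fun _ ⟨u, _, e⟩ => e ▸ h.phi_L0 u) n

theorem om_L0 {u : W4} (hu : Om u) : ∃ n ∈ L0 z (a i) (r i), n ∈ NJ φ ∧ n * z * n⁻¹ = φ u := by
  obtain ⟨ψ, R, π₁, π₂, e, c, m⟩ := h.e4_gc
  obtain ⟨n, hn, en⟩ := c.om' hu
  exact ⟨n, n.2, (m n).1 (c.N3_le hn), by simpa [e, h.ez] using congrArg Subtype.val en⟩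

theorem perp_L0 {n : G} (hn : n ∈ L0 z (a i) (r i)) (hJ : n ∈ NJ φ) {u v : W4} (hv : v ∈ JJ) (e : n * z * n⁻¹ = φ u) :
    n⁻¹ * φ v * n ∈ Q ↔ Perp u v := by
  obtain ⟨ψ, R, π₁, π₂, e', c, m⟩ := h.e4_gc
  rw [← c.perp ((m ⟨n, hn⟩).2 hJ) hv (Subtype.ext (by simpa [e', h.ez] using e)), map_sub e', h.e4_QQ, mem_subgroupOf,
    mem_inf, and_iff_left (kr (h.L0_le (SetLike.coe_mem _)))]
  simp [e']

theorem types {v : W4} (hv : v ∈ JJ) (h1 : v ≠ 1) : ∃ n ∈ L0 z (a i) (r i), n ∈ NJ φ ∧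
    (n * φ v * n⁻¹ = z ∨ n * φ v * n⁻¹ = a k ∨ n * φ v * n⁻¹ = φ U6x.gy) := by
  obtain ⟨s, hs⟩ := w4a.2.1 (vp v)
  rw [eq_vec hv] at hs
  obtain ⟨n, hn, nJ, en⟩ := h.om_L0 (w10_om s)
  obtain ⟨w, ew⟩ := G2x.exists_vec' nJ (vp v)
  rw [eq_vec hv] at ew
  have wQ : W4.vec w ∈ QQ := (mem_map_iff_mem h.inj).1 (h.e4_QQ.ge (mem_inf.2
    ⟨ew ▸ (h.perp_L0 hn nJ hv en).2 hs, kr (h.phi_K0 _)⟩))
  have w1 : w ≠ 1 := fun e => h1 (h.inj (by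
    rw [e, map_one, map_one] at ew
    rw [map_one, ← conj_eq_one_iff (a := n⁻¹), inv_inv, ew]))
  suffices k : ∃ m ∈ L0 z (a i) (r i), m ∈ NJ φ ∧ (m * φ (W4.vec w) * m⁻¹ = z ∨ m * φ (W4.vec w) * m⁻¹ = a k ∨
      m * φ (W4.vec w) * m⁻¹ = φ U6x.gy) by
    obtain ⟨m, hm, mJ, k⟩ := k
    refine ⟨m * n⁻¹, mul_mem hm (inv_mem hn), mul_mem mJ (inv_mem nJ), ?_⟩
    rwa [show m * n⁻¹ * φ v * (m * n⁻¹)⁻¹ = m * (n⁻¹ * φ v * n) * m⁻¹ by group, ew]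
  rcases w4a.2.2 w wQ w1 with o | ⟨t, o | o | o⟩
  · obtain ⟨m, hm, mJ, em⟩ := h.om_L0 o
    exact ⟨m⁻¹, inv_mem hm, inv_mem mJ, Or.inl (by rw [← em]; group)⟩
  · obtain ⟨ψ, R, π₁, π₂, e, c, m⟩ := h.e4_gc
    obtain ⟨p, hp, ep⟩ := c.conj_ac
    have ep' : (p : G) * φ ga * (p : G)⁻¹ = a k := by simpa [e, h.ec] using congrArg Subtype.val ep
    exact ⟨p * φ (W4.lin t), mul_mem p.2 (h.phi_L0 _), mul_mem ((m p).1 hp) (G2x.mem_NJ _),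
      Or.inr (Or.inl (by rw [← ep', ← o, ← G2x.conj_lin]; group))⟩
  · exact ⟨_, h.phi_L0 (W4.lin t), G2x.mem_NJ _, Or.inr (Or.inl (by rw [G2x.conj_lin, o, h.ec]))⟩
  · exact ⟨_, h.phi_L0 (W4.lin t), G2x.mem_NJ _, Or.inr (Or.inr (by rw [G2x.conj_lin, o]))⟩

theorem rig {Y : Type*} [Group Y] [Finite Y] (ι : K0 (a i) (r i) →* Y) (hi : Function.Injective ι)
    (hN : normalizer (zpowers (ι ⟨φ gz, h.phi_K0 gz⟩) : Set Y) ≤ ι.range)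
    (wc : ∀ g, g * ι ⟨φ gz, h.phi_K0 gz⟩ * g⁻¹ ∈ qim ι (QQ.map φ) →
      g * ι ⟨φ gz, h.phi_K0 gz⟩ * g⁻¹ ∈ zpowers (ι ⟨φ gz, h.phi_K0 gz⟩)) : Function.Surjective ι := by
  rw [show (⟨φ gz, h.phi_K0 gz⟩ : K0 (a i) (r i)) = ⟨z, h.e4_z⟩ from Subtype.ext h.ez] at hN wc
  rw [h.e4_QQ] at wc
  exact uh_rig h.e4_uhK h.e4_nw ι hi hN wc

theorem e4_za (hg : g ∈ Cx (a i)) (hz : g ∈ Cx z) : g ∈ zpowers (a i) ⊔ K0 (a i) (r i) := by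
  obtain ⟨q, hq, c, cz, cρ, rfl, tc, -⟩ := h.toNH.ul_dec hz
  obtain ⟨u, hu, w, hw, rfl⟩ := EBp.dec1 h.toNH hq i
  have cr : c ∈ Cx (r i) := mem_Cx'.2 (by rw [h.toNH.X_r cz cρ, tc, (h.e4_π hg hz).1])
  obtain ⟨⟨w1, -⟩, w2⟩ := hw
  have wz := mul_mem (h.zc w1) cz
  have wa : w * c ∈ Cx (a i) := Cx_comm.1 (EB.F4 h.toNH wz (mul_mem w2 cr) (h.aQ i) ⟨h.toNH.Qz i (h.aQ i), by
    have := h.cmt _ (h.le i (h.aQ i)) _ (inv_mem (h.le i hu))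
    rw [show w * c = u⁻¹ * (u * w * c) by group]
    convert this using 1
    calc _ = a i * u⁻¹ * (u * w * c * (a i)⁻¹ * (u * w * c)⁻¹) * u := by group
      _ = _ := by rw [← conj_inv, mem_Cx'.1 hg]; group⟩)
  have wK : w * c ∈ K0 (a i) (r i) := mem_inf.2 ⟨wa, mul_mem w2 cr⟩
  rw [mul_assoc] at hg ⊢
  exact mul_mem (EBp.le9 h.toNH (h.aQ i) (h.an i) (mem_sup_right h.e4_z) (mem_sup_left (mem_zpowers _))
    (mem_inf.2 ⟨hu, (mul_mem_cancel_right wa).1 hg⟩)) (mem_sup_right wK)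

theorem Ca (hg : g ∈ Cx (a i)) : ∃ c ∈ K0 (a i) (r i), ∃ m : ℕ, g = a i ^ m * c := by
  have a3 := h.jb_a3 i
  have le : K0 (a i) (r i) ≤ Cx (a i) := inf_le_left
  have : ((zpowers (a i)).subgroupOf (Cx (a i))).Normal := ⟨fun n hn g => by
    rw [mem_subgroupOf] at hn ⊢
    rwa [coe_mul, coe_mul, coe_inv, zcj hn g.2]⟩
  obtain ⟨f, hs, hf⟩ : ∃ f : Cx (a i) →* Cx (a i) ⧸ (zpowers (a i)).subgroupOf (Cx (a i)), Function.Surjective f ∧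
      ∀ u v, f u = f v ↔ (u : G)⁻¹ * v ∈ zpowers (a i) :=
    ⟨QuotientGroup.mk' _, QuotientGroup.mk'_surjective _, fun _ _ => QuotientGroup.eq⟩
  have zK : φ gz = z := h.ez
  have rg : ∀ u : Cx (a i), (u : G) ∈ zpowers (a i) ⊔ K0 (a i) (r i) → f u ∈ (f.comp (inclusion le)).range := fun u hu => by
    obtain ⟨w, hw, c, hc, e⟩ := (Core.mem_sup_of_le_normalizer_left
      fun c hc => Rec3.Cx_le_norm _ (le hc)).1 hu
    exact ⟨⟨c, hc⟩, (hf _ _).2 (by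
      show c⁻¹ * u ∈ _
      rw [← e, ← mul_assoc, zc hw (inv_mem (le hc)), inv_mul_cancel_right]; exact hw)⟩
  have key : ∀ u : Cx (a i), ∀ p ∈ Q, ∀ hp : p ∈ Cx (a i), f u * f ⟨z, le h.e4_z⟩ * (f u)⁻¹ = f ⟨p, hp⟩ →
      (u : G) * z * (u : G)⁻¹ ∈ zpowers z := fun u p pQ hp e => by
    rw [← map_inv, ← map_mul, ← map_mul, eq_comm, hf] at e
    by_contra n
    exact h.an i (h.ns1 ((mul_mem_cancel_left (inv_mem pQ)).1 (zpowers_le.2 (h.le i (h.aQ i)) e)) n (h.aQ i)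
      (by simpa only [mem_Cx'.1 u.2] using (conj_mem_cj (g := (u : G))).2 (h.le i (h.aQ i))))
  have zp : ∀ {y}, y ∈ zpowers (f ⟨z, le h.e4_z⟩) ↔ ∃ p ∈ zpowers z, ∃ hp, y = f ⟨p, hp⟩ := fun {y} => by
    rw [← MonoidHom.map_zpowers, GKP.zp_sub]
    exact ⟨fun ⟨p, hp, e⟩ => ⟨p, hp, p.2, e.symm⟩, fun ⟨p, hp, hp', e⟩ => ⟨⟨p, hp'⟩, hp, e.symm⟩⟩
  have ez : f.comp (inclusion le) ⟨φ gz, h.phi_K0 gz⟩ = f ⟨z, le h.e4_z⟩ := congrArg f (Subtype.ext h.ez)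
  obtain ⟨c, e⟩ := h.rig (f.comp (inclusion le)) ((injective_iff_map_eq_one _).2 fun c e => by
      have := (hf _ _).1 ((map_one f).trans e.symm)
      rw [coe_one, inv_one, one_mul] at this
      rcases three_cases a3 this with k | k | k
      · exact Subtype.ext k
      · exact absurd (k ▸ kr c.2) (h.jb_ar i)
      · exact absurd (inv_mem_iff.1 (k ▸ kr c.2)) (h.jb_ar i)) (fun y hy => by
      rw [ez] at hy
      obtain ⟨u, rfl⟩ := hs y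
      obtain ⟨p, hp, hp', e⟩ := zp.1 (conj_mem_of_mem_normalizer hy (mem_zpowers _))
      rcases three_cases h.toNH.z3 (key u p (zpowers_le.2 h.toNH.z_mem hp) hp' e) with k | k | k
      · exact absurd (conj_eq_one_iff.1 k) h.z1
      · exact rg u (h.e4_za u.2 (mem_Cx'.2 k))
      · obtain ⟨n, hn, -, en⟩ := h.om_L0 G2x.om_z.2.1
        rw [map_inv, h.ez] at en
        refine rg u ((mul_mem_cancel_left (mem_sup_right (inv_mem (h.L0_le hn)))).1 (h.e4_za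
          (mul_mem (inv_mem (le (h.L0_le hn))) u.2) (mem_Cx'.2 ?_)))
        calc _ = n⁻¹ * (u * z * (u : G)⁻¹) * n := by group
          _ = _ := by rw [k, ← en]; group) (fun y hy => by
      rw [ez] at hy ⊢
      obtain ⟨u, rfl⟩ := hs y
      obtain ⟨p, hp, e⟩ := hy
      exact zp.2 ⟨_, key u p (h.e4_QQ.le hp).1 (le p.2) e.symm, mul_mem (mul_mem u.2 (le h.e4_z)) (inv_mem u.2),
        by rw [← map_inv, ← map_mul, ← map_mul]; rfl⟩) (f ⟨g, hg⟩)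
  have e' : (c : G)⁻¹ * g ∈ zpowers (a i) := (hf _ _).1 e
  obtain ⟨m, em⟩ := mem_powers_iff_mem_zpowers.2 e'
  exact ⟨c, c.2, m, by rw [← zc (npow_mem_zpowers _ m) (le c.2), show a i ^ m = _ from em, mul_inv_cancel_left]⟩

end EP

end CfsgLib.Rec3E
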