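import Cfsg.Agent.Lib.Rec3E.E4
import Cfsg.Agent.Lib.Rec3E.CP
import Cfsg.Agent.Lib.Rec3B.KMain

/-! The ten quaternion groups (plans/REC3E.md, E6a). -/

set_option autoImplicit false
set_option maxRecDepth 100000
set_option maxHeartbeats 400000
set_option linter.unusedSectionVars false
set_option linter.unusedVariables false

namespace CfsgLib.Rec3E

open Subgroup Cfsg CfsgLib.Tech CfsgLib.PComp CfsgLib.W2 CfsgLib.Rec3 CfsgLib.Rec3B CfsgLib.Rec3B.W4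
open CfsgLib.U43 (SL)

variable {G : Type*} [Group G] [Finite G]
variable {z x σ : G} {Q : Subgroup G} {Qi : Fin 3 → Subgroup G} {r a b : Fin 3 → G} {π : Fin 3 → G → SL}
  {τ : G → Equiv.Perm (Fin 3)} {i j k : Fin 3} {φ : W4 →* G}

namespace E6x

theorem perp_z : ∀ v : V81, Perp gz (vec v) → vec v ∈ AA := by decide +kernel

theorem perp_0 : Perp gz ga ∧ Perp gz gc ∧ Perp gz gz ∧ Perp gx gc ∧ ¬ Perp gz gx ∧ gc ∈ JJ ∧ gx ≠ gz ∧ gx ≠ gz⁻¹ := by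
  decide +kernel

theorem perp_inv0 : ∀ u : V81, Om (vec u) → ∀ v : V81, Perp (vec u)⁻¹ (vec v) ↔ Perp (vec u) (vec v) := by
  decide +kernel

theorem perp_char0 : ∀ u : V81, Om (vec u) → ∀ v : V81, ¬ Perp (vec u) (vec v) ↔
    ∃ m : Fin 3, Om (vec u ^ m.val * vec v) ∧ vec u ^ m.val * vec v ≠ vec u ∧ vec u ^ m.val * vec v ≠ (vec u)⁻¹ := by
  decide +kernel

theorem perp_c : ∀ s : Fin 10, Perp (w10 s) gc ↔ s.val < 4 := by decide +kernel

theorem zi_inj : ∀ l m : Fin 4, zi l = zi m ∨ zi l = (zi m)⁻¹ → l = m := by decide +kernel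

theorem zi_mem : ∀ l : Fin 4, zi l ∈ D3 := by decide +kernel

theorem om_J {u : W4} (hu : Om u) : u ∈ JJ := ((Om_iff u).1 hu).1

theorem om_inv {u : W4} (hu : Om u) : Om u⁻¹ := by
  obtain ⟨u, rfl⟩ : ∃ u' : V81, W4.vec u' = u := ⟨_, eq_vec (om_J hu)⟩
  exact G2x.om_inv _ hu

theorem perp_inv {u v : W4} (hu : Om u) (hv : v ∈ JJ) : Perp u⁻¹ v ↔ Perp u v := by
  obtain ⟨u, rfl⟩ : ∃ u' : V81, W4.vec u' = u := ⟨_, eq_vec (om_J hu)⟩
  rw [← eq_vec hv]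
  exact perp_inv0 _ hu _

theorem perp_char {u v : W4} (hu : Om u) (hv : v ∈ JJ) :
    ¬ Perp u v ↔ ∃ m : Fin 3, Om (u ^ m.val * v) ∧ u ^ m.val * v ≠ u ∧ u ^ m.val * v ≠ u⁻¹ := by
  obtain ⟨u, rfl⟩ : ∃ u' : V81, W4.vec u' = u := ⟨_, eq_vec (om_J hu)⟩
  rw [← eq_vec hv]
  exact perp_char0 _ hu _

omit [Finite G] in
theorem q8_cj {t g : G} {R : Subgroup G} (q : Q8 t R) (hg : g ∈ Cx t) : Q8 t (cj g R) := by
  have e := mem_Cx'.1 hg
  refine ⟨q.rr, q.r1, e ▸ conj_mem_cj.2 q.mem, (card_cj g R).trans q.card, fun y hy => ?_⟩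
  obtain ⟨w, hw, rfl⟩ : ∃ w ∈ R, g * w * g⁻¹ = y := ⟨_, mem_cj.1 hy, by group⟩
  rcases q.sq w hw with k | k | k
  · exact .inl (by rw [k]; group)
  · exact .inr (.inl (by rw [k, e]))
  · exact .inr (.inr (by rw [conj_mul, k, e]))

omit [Finite G] in
theorem kc_equiv {H : Type*} [Group H] {A : Subgroup W3} {ι : W3 → G} {t : G} {R : Subgroup G} {ρ : G → SL}
    (h : KC A ι t R ρ) (e : G ≃* H) :
    KC A (fun a => e (ι a)) (e t) (R.map e.toMonoidHom) fun g => ρ (e.symm g) := by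
  have im : ∀ L, img (fun a => e (ι a)) L = (img ι L).map e.toMonoidHom := GKP.img_comp e.toMonoidHom ι
  have mm : ∀ {K : Subgroup G} {g}, e g ∈ K.map e.toMonoidHom ↔ g ∈ K := fun {K g} => by
    rw [mem_map_equiv, e.symm_apply_apply]
  have nm : ∀ {K : Subgroup G} {g}, e g ∈ normalizer (K.map e.toMonoidHom : Set H) ↔ g ∈ normalizer (K : Set G) :=
    fun {K g} => by rw [← map_equiv_normalizer_eq, mm]
  have cx : ∀ {y g : G}, e g ∈ Cx (e y) ↔ g ∈ Cx y := fun {y g} => by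
    rw [mem_Cx, mem_Cx, ← map_mul, ← map_mul, e.injective.eq_iff]
  refine ⟨⟨fun ha hb => by rw [h.mul ha hb, map_mul], fun ha hb k => h.inj ha hb (e.injective k)⟩,
    ⟨by rw [← map_mul, h.rr, map_one], fun k => h.r1 (e.map_eq_one_iff.1 k), mm.2 h.mem,
      (card_map_of_injective e.injective).trans h.card, ?_⟩, h.hA, e.surjective.forall.2 fun g => ?_,
    e.surjective.forall.2 fun g hg => ?_, e.surjective.forall.2 fun g hg => ?_, ?_, ?_,
    e.surjective.forall.2 fun g hg => ?_, e.surjective.forall.2 fun c hc => e.surjective.forall.2 fun d hd => ?_,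
    fun s => ?_, e.surjective.forall.2 fun c hc => ?_, ?_, e.surjective.forall.2 fun g hg => ?_⟩
  · rintro _ ⟨y, hy, rfl⟩
    rcases h.sq y hy with k | k | k
    · exact .inl (by rw [k, map_one])
    · exact .inr (.inl (by rw [k]; rfl))
    · exact .inr (.inr (by rw [← map_mul, k]; rfl))
  · rw [← map_mul, ← map_mul, h.rc]
  · rw [im, nm] at hg
    obtain ⟨c, hc, k⟩ := h.norm g hg
    exact ⟨c, hc, k.imp (congrArg e) fun k => by rw [k, map_mul]⟩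
  · refine nm.2 (h.nR (nm.1 ?_))
    rwa [MonoidHom.map_zpowers]
  · rintro _ ⟨y, hy, rfl⟩ c hc
    exact mem_Cx.1 (cx.2 (mem_Cx.2 (h.RQ y hy c hc)))
  · rintro _ ⟨y, hy, rfl⟩ k
    exact (h.Re y hy (mem_Cx.1 (cx.1 (mem_Cx.2 k)))).imp (fun k => by rw [k, map_one]) fun k => by rw [k]; rfl
  · rw [im, nm]
    exact h.nQ (cx.1 hg)
  · simp only [← map_mul, e.symm_apply_apply]
    exact h.pm c (cx.1 hc) d (cx.1 hd)
  · obtain ⟨c, hc, k⟩ := h.ps s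
    exact ⟨e c, cx.2 hc, by rw [e.symm_apply_apply, k]⟩
  · rw [im, ← Subgroup.map_sup, mm, e.symm_apply_apply]
    exact h.pk c (cx.1 hc)
  · rintro _ ⟨y, hy, rfl⟩ _ ⟨w, hw, rfl⟩
    have := congrArg e (h.comm y hy w hw)
    simp only [map_mul, map_inv] at this
    exact this
  · obtain ⟨y, hy, w, hw, n, hn, k⟩ := h.cy g (cx.1 hg)
    exact ⟨e y, mm.2 hy, e w, mm.2 hw, e n, by rw [im, nm]; exact hn, by simp only [k, map_mul, map_inv]⟩

variable {i' j' k' : Fin 3} {φ' : W4 →* G} (h : EP z Q Qi r π τ a b x σ i j k φ)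
  (h' : EP z Q Qi r π τ a b x σ i' j' k' φ') {n t : G} {u v w w' : W4}
include h h'

theorem om_conj (hu : Om u) (hv : v ∈ JJ) (e : n * φ u * n⁻¹ = φ' v) : Om v := by
  obtain ⟨g, k⟩ := (h.om4 (om_J hu)).2 hu
  exact (h'.om4 hv).1 ⟨n * g, by rw [← e, ← k]; group⟩

theorem perp_conj (hu : Om u) (hv : v ∈ JJ) (hw : w ∈ JJ) (hw' : w' ∈ JJ) (e : n * φ u * n⁻¹ = φ' v)
    (e' : n * φ w * n⁻¹ = φ' w') (p : Perp v w') : Perp u w := by
  by_contra c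
  obtain ⟨m, m1, m2, m3⟩ := (perp_char hu hw).1 c
  have k : n * φ (u ^ m.val * w) * n⁻¹ = φ' (v ^ m.val * w') := by
    rw [map_mul, map_mul, map_pow, map_pow, ← e, ← e', conj_pow, conj_mul]
  refine (perp_char (om_conj h h' hu hv e) hw').2
    ⟨m, om_conj h h' m1 (mul_mem (pow_mem hv _) hw') k, fun c => m2 (h.inj ?_), fun c => m3 (h.inj ?_)⟩ p
  · rw [c, ← e] at k
    simpa using k
  · rw [c, map_inv, ← e, show (n * φ u * n⁻¹)⁻¹ = n * φ u⁻¹ * n⁻¹ by rw [map_inv]; group] at k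
    exact mul_left_cancel (mul_right_cancel k)

theorem cj_le (hn : n ∈ Cx t) (hJ : ∀ w' ∈ JJ, ∃ w ∈ JJ, n * φ w * n⁻¹ = φ' w') (hu : Om u) (hv : v ∈ JJ)
    (e : n * φ u * n⁻¹ = φ' v) : cj n (RW φ t u) ≤ RW φ' t v := by
  refine map_le_iff_le_comap.2 ((closure_le _).2 fun g hg => subset_closure (?_ : n * g * n⁻¹ ∈ _))
  refine ⟨mul_mem (mul_mem hn hg.1) (inv_mem hn), fun w' hw' p => ?_, by rw [conj_pow, hg.2.2]; group⟩
  obtain ⟨w, hw, k⟩ := hJ w' hw'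
  rw [← k]
  exact conj_mem_Cx.2 (hg.2.1 w hw (perp_conj h h' hu hv hw hw' e k p))

end E6x

open E6x

namespace EP

variable (h : EP z Q Qi r π τ a b x σ i j k φ) {g n : G} {u v : W4}
include h

theorem RW_z : RW φ (r i) gz = RE z Q (r i) := by
  have mv := perp_0
  refine congrArg Subgroup.closure (Set.ext fun g => ⟨fun ⟨h1, h2, h3⟩ => ?_, fun ⟨h1, h2, h3, h4⟩ => ⟨h2, fun v hv p => ?_, h4⟩⟩)
  · have gz' : g ∈ Cx z := h.ez ▸ h2 gz G2x.mems.2.2.2.1 mv.2.2.1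
    have k : ∀ l, g ∈ Cx (a l) → Qi l ≤ Cx g := fun l e q hq => by
      obtain ⟨t1, t2⟩ := h.π_cube gz' (h.aQ l) (h.an l) (by rw [FT.cmt_of e]; exact one_mem _)
      have t3 : π l g ^ 4 = 1 := by rw [← h.π_pow (h.mem_St.2 ⟨gz', t1⟩), h3, h.π_one]
      refine fix_two (W4.eq_map h.inj) 2 g ?_ h3
      rw [h.ez]
      exact ⟨gz', (h.πk l g gz' t1).1 (F3x.ST.one34 t2 t3) q hq⟩
    refine ⟨gz', h1, ?_, h3⟩
    rw [h.QC h.ij h.ik h.jk]
    exact sup_le (k j (h.ea ▸ h2 ga G2x.mems.1 mv.1)) (k _ (h.ec ▸ h2 gc G2x.mems.2.1 mv.2.1))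
  · refine Cx_comm.1 (h3 ((map_le_iff_le_comap.1 le_rfl |>.trans (comap_mono ?_) : AA ≤ (Q ⊓ Cx (r i)).comap φ) ?_))
    · rw [h.QC h.ij h.ik h.jk]
      refine map_le_iff_le_comap.2 (le_of ?_)
      simp only [List.forall_mem_cons, mem_comap, h.ea, h.ec, h.ez]
      exact ⟨mem_sup_left (h.aQ j), mem_sup_right (h.aQ k), mem_sup_left (h.zQ j), by simp⟩
    · rw [← eq_vec hv] at p ⊢
      exact perp_z _ p

theorem RW_inv (hu : Om u) : RW φ (r i) u⁻¹ = RW φ (r i) u := by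
  exact congrArg Subgroup.closure (Set.ext fun g => and_congr_right fun _ => and_congr_left fun _ =>
    forall₂_congr fun v hv => by rw [perp_inv hu hv])

theorem cj_RW (hn : n ∈ Cx (r i)) (hJ : n ∈ NJ φ) (hu : Om u) (hv : v ∈ JJ) (e : n * φ u * n⁻¹ = φ v) :
    cj n (RW φ (r i) u) = RW φ (r i) v := by
  have k : ∀ {n}, n ∈ NJ φ → ∀ w' ∈ JJ, ∃ w ∈ JJ, n * φ w * n⁻¹ = φ w' := fun hn w' hw' => by
    obtain ⟨w, hw, e⟩ := GM.exists_J (inv_mem hn) hw'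
    exact ⟨w, hw, by rw [e]; group⟩
  refine le_antisymm (cj_le h h hn (k hJ) hu hv e) ?_
  rw [← cj_le_cj_iff n⁻¹, cj_inv_cj]
  exact cj_le h h (inv_mem hn) (k (inv_mem hJ)) (om_conj h h hu hv e) (om_J hu) (by rw [← e]; group)

theorem RW_le (hu : Om u) : RW φ (r i) u ≤ E6 φ (r i) := by
  obtain ⟨s, rfl | rfl⟩ := om_w10 u hu
  · exact le_iSup (fun s => RW φ (r i) (w10 s)) s
  · rw [h.RW_inv (w10_om s)]
    exact le_iSup (fun s => RW φ (r i) (w10 s)) s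

theorem RW_perp (hv : v ∈ JJ) (e : Perp u v) : RW φ (r i) u ≤ Cx (φ v) := by
  exact (closure_le _).2 fun g hg => hg.2.1 v hv e

theorem RW_norm (hu : Om u) (hv : v ∈ JJ) : φ v ∈ normalizer (RW φ (r i) u : Set G) := by
  refine mem_normalizer_iff_cj.2 (h.cj_RW (h.phi_K0 v).2 (GKP.phi_NJ v) hu (om_J hu) ?_)
  rw [← map_mul, JJ_comm hv (om_J hu), map_mul, mul_inv_cancel_right]

theorem RW_fpf (hu : Om u) (hv : v ∈ JJ) (e : ¬ Perp u v) (hg : g ∈ RW φ (r i) u) (c : Cj (zpowers (r i)) (φ v) g g) :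
    g = 1 ∨ g = r i := by
  obtain ⟨n, n1, n2, k⟩ := h.om_L0 hu
  have nr := (h.L0_le n1).2
  rw [← h.cj_RW nr n2 G2x.om_z.1 (om_J hu) (by rwa [h.ez]), h.RW_z] at hg
  obtain ⟨w, hw, ew⟩ := GM.exists_J (inv_mem n2) hv
  have wQ : φ w ∉ Q := fun c => e ((h.perp_L0 n1 n2 hv k).1 (by rwa [ew, inv_inv] at c))
  have w5 := (h.phi_J h).le (mem_map_of_mem φ hw)
  have wJ := h.J5_le w5.1
  obtain ⟨w1, w2, w3⟩ := h.J_H0 wJ
  obtain ⟨m, hm⟩ := (h.J5_iff wJ).1 w5.1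
  have x3 := (h.J_H0 h.xJ).2.2
  have c' : Cj (zpowers (r i)) (φ w) (n⁻¹ * g * n) (n⁻¹ * g * n) := by
    have := (FT.conj_zp (g := n⁻¹)).2 c
    rw [mem_Cx'.1 (inv_mem nr)] at this
    rw [Cj, ew]
    convert this using 1
    group
  have ne : π i (φ w) ≠ 1 := fun c => wQ (h.mem_Q w1 w2 fun l => by
    have : Fact (Nat.Prime 3) := ⟨by norm_num⟩
    rw [hm, ← orderOf_dvd_iff_pow_eq_one, orderOf_eq_prime (x3 i) (h.πx i)] at c
    rw [hm, ← orderOf_dvd_iff_pow_eq_one, orderOf_eq_prime (x3 l) (h.πx l)]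
    exact c)
  rcases h.fpf w1 w5.2 (w3 i) ne (mem_cj.1 hg) c' with k | k
  · exact .inl (by rw [show g = n * (n⁻¹ * g * n) * n⁻¹ by group, k]; group)
  · exact .inr (by rw [show g = n * (n⁻¹ * g * n) * n⁻¹ by group, k, mem_Cx'.1 nr])

theorem E6_le {j' k' : Fin 3} {φ' : W4 →* G} (h' : EP z Q Qi r π τ a b x σ i j' k' φ') :
    E6 φ (r i) ≤ E6 φ' (r i) := by
  have e : JJ.map φ = JJ.map φ' := (h.phi_J h).trans (h.phi_J h').symm
  refine iSup_le fun s => ?_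
  obtain ⟨v, hv, ev⟩ := e.le (mem_map_of_mem φ (om_J (w10_om s)))
  have e1 : 1 * φ (w10 s) * 1⁻¹ = φ' v := by simpa using ev.symm
  have := cj_le h h' (one_mem (Cx (r i))) (fun w' hw' => by
    obtain ⟨w, hw, k⟩ := e.ge (mem_map_of_mem φ' hw')
    exact ⟨w, hw, by simpa using k⟩) (w10_om s) hv e1
  rw [cj_one] at this
  exact this.trans (h'.RW_le (om_conj h h' (w10_om s) hv e1))

theorem E6_symm {φ' : W4 →* G} (h' : EP z Q Qi r π τ a b x σ i k j φ') : E6 φ' (r i) = E6 φ (r i) := by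
  exact le_antisymm (h'.E6_le h) (h.E6_le h')

theorem kc0 : ∃ (ι : W3 → (L0 z (a k) (r k) ⊓ Cx (r i) : Subgroup G)) (t : (L0 z (a k) (r k) ⊓ Cx (r i) : Subgroup G))
    (ρ : (L0 z (a k) (r k) ⊓ Cx (r i) : Subgroup G) → SL), KC D3 ι t ((RE z Q (r i)).subgroupOf _) ρ ∧ (t : G) = r i ∧
      (ι z0 : G) = z ∧ (img ι J0).map (Subgroup.subtype _) = closure {a j, x, z} ∧
      (img ι S0).map (Subgroup.subtype _) = Qi j ⊔ zpowers x := by
  obtain ⟨χ, c⟩ := h.toEX.exists_EP h.ik.symm h.jk.symm h.ij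
  obtain ⟨ψ, π₁, π₂, v, gc', -⟩ := c.exists_gc le_rfl c.L0_le inf_le_left
  obtain ⟨A, ι, kc, k1, k2, k3, -⟩ := gc'.kc
  have hK : Fintype.card Classical.GF4 = 4 := FTHM.gf4_card
  obtain ⟨e6⟩ := c.L0_iso hK
  obtain rfl : A = D3 := kc.hA.resolve_right fun e => by
    subst e
    have := kc.conj_eq (mem_B3 i0) (mem_B3 z0) (by decide +kernel : i0 * z0 * i0⁻¹ = z0⁻¹)
    rw [kc.inv (mem_B3 z0)] at this
    refine gc_nonreal gc' hK e6 _ (ι i0).2 ?_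
    rw [← k1]
    exact congrArg Subtype.val this
  have vr : (ψ gr : G) = r i := (v gr).trans c.er
  have cx : ∀ g : L0 z (a k) (r k), g ∈ Cx (ψ gr) ↔ (g : G) ∈ Cx (r i) := fun g => by
    rw [GKP.cx_sub, vr, mem_subgroupOf]
  let e : Cx (ψ gr) ≃* (L0 z (a k) (r k) ⊓ Cx (r i) : Subgroup G) :=
    { toFun := fun g => ⟨g.1.1, g.1.2, (cx _).1 g.2⟩
      invFun := fun g => ⟨⟨g.1, g.2.1⟩, (cx _).2 g.2.2⟩
      left_inv := fun _ => rfl
      right_inv := fun _ => rfl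
      map_mul' := fun _ _ => rfl }
  have im : ∀ (L : Subgroup W3) (l : List W4), (img ι L).map (Cx (ψ gr)).subtype = (closure {u | u ∈ l}).map ψ →
      (img (fun a => e (ι a)) L).map (Subgroup.subtype _) = closure {g | g ∈ l.map χ} := fun L l k => by
    have := congrArg (map (L0 z (a _) (r _)).subtype) k
    rw [map_map, map_map, MonoidHom.map_closure] at this
    rw [show img (fun a => e (ι a)) L = _ from GKP.img_comp e.toMonoidHom ι L, map_map]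
    refine this.trans (congrArg Subgroup.closure (Set.ext fun g => ?_))
    simp only [Set.mem_image, Set.mem_ofPred_eq, List.mem_map, MonoidHom.comp_apply, coe_subtype, v]
  have kc' := kc_equiv kc e
  rw [show (((RE z Q (r i)).subgroupOf _).subgroupOf (Cx (ψ gr))).map e.toMonoidHom = (RE z Q (r i)).subgroupOf _ from
    Subgroup.ext fun g => by rw [mem_map_equiv]; rfl] at kc'
  refine ⟨_, _, _, kc', vr, ((congrArg Subtype.val k1).trans (v gz)).trans c.ez, (im _ _ k2).trans ?_,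
    (im _ _ k3).trans ?_⟩
  · simp only [List.map_cons, List.map_nil, c.ec, c.ex, c.ez]
    exact congrArg Subgroup.closure (Set.ext fun g => by simp)
  · simp only [List.map_cons, List.map_nil, c.ec, c.ed, c.ex]
    rw [← h.gen j, zpowers_eq_closure, ← Subgroup.closure_union]
    exact congrArg Subgroup.closure (Set.ext fun g => by simp; tauto)

theorem kc1 {ι : W3 → (L0 z (a k) (r k) ⊓ Cx (r i) : Subgroup G)} {t : (L0 z (a k) (r k) ⊓ Cx (r i) : Subgroup G)}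
    {ρ : (L0 z (a k) (r k) ⊓ Cx (r i) : Subgroup G) → SL} (c : KC D3 ι t ((RE z Q (r i)).subgroupOf _) ρ)
    (ez : (ι z0 : G) = z) (eJ : (img ι J0).map (Subgroup.subtype _) = closure {a j, x, z}) :
    ∃ f : Fin 4 → Fin 4, Function.Bijective f ∧ ∀ l, (Ri ι ((RE z Q (r i)).subgroupOf _) l).map (Subgroup.subtype _) =
      RW φ (r i) (w10 (Fin.castLE (by norm_num) (f l))) := by
  obtain ⟨χ, c2⟩ := h.toEX.exists_EP h.ik.symm h.jk.symm h.ij
  have RP : RE z Q (r i) ≤ L0 z (a k) (r k) ⊓ Cx (r i) := le_inf c2.R_L0.1 (h.q8 i).le_Cx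
  have key : ∀ l, ∃ s : Fin 4, (Ri ι ((RE z Q (r i)).subgroupOf _) l).map (Subgroup.subtype _) =
      RW φ (r i) (w10 (Fin.castLE (by norm_num) s)) ∧ ((ι (zi l) : G) = φ (w10 (Fin.castLE (by norm_num) s)) ∨
        (ι (zi l) : G) = φ (w10 (Fin.castLE (by norm_num) s))⁻¹) := fun l => by
    have n1 := (ι (gi l)).2
    have nc : (ι (gi l) : G) * φ gc * (ι (gi l) : G)⁻¹ = φ gc := by rw [h.ec]; exact mem_Cx'.1 (c2.L0_le n1.1).1
    have nK : ∀ y ∈ closure {a j, x, z}, (ι (gi l) : G) * y * (ι (gi l) : G)⁻¹ ∈ JJ.map φ := fun y hy => by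
      obtain ⟨y, hy', rfl⟩ := eJ.ge hy
      obtain ⟨d, hd, rfl⟩ := (c.mem_im (J0_le_S0.trans S0_le.2.2.1)).1 hy'
      refine (closure_le _).2 ?_ (eJ.le ⟨_, mem_im_of ((inferInstance : J0.Normal).conj_mem d hd (gi l)),
        (congrArg Subtype.val (c.conj (gi_mem l) (c.J_le hd))).symm⟩)
      rintro _ (rfl | rfl | rfl)
      exacts [⟨ga, G2x.mems.1, h.ea⟩, ⟨gx, G2x.mems.2.2.1, h.ex⟩, ⟨gz, G2x.mems.2.2.2.1, h.ez⟩]
    have nJ : (ι (gi l) : G) ∈ NJ φ := mem_normalizer_of_forall (by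
      rintro _ ⟨v, hv, rfl⟩
      rw [← eq_vec hv, vec_eq]
      simp only [map_mul, map_pow, ← conj_mul, ← conj_pow]
      refine mul_mem (mul_mem (mul_mem (pow_mem (nK _ (subset_closure ?_)) _) (pow_mem ?_ _))
        (pow_mem (nK _ (subset_closure ?_)) _)) (pow_mem (nK _ (subset_closure ?_)) _)
      · simp [h.ea]
      · exact nc.symm ▸ mem_map_of_mem φ perp_0.2.2.2.2.2.1
      · simp [h.ex]
      · simp [h.ez])
    obtain ⟨u, hu, eu⟩ := GM.exists_J nJ G2x.mems.2.2.2.1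
    have ou := om_conj h h G2x.om_z.1 hu eu.symm
    have pu : Perp u gc := perp_conj h h (n := (ι (gi l) : G)⁻¹) ou G2x.mems.2.2.2.1 perp_0.2.2.2.2.2.1
      perp_0.2.2.2.2.2.1 (by rw [eu]; group) (by rw [← nc]; nth_rw 2 [nc]; group) perp_0.2.1
    have e1 : (Ri ι ((RE z Q (r i)).subgroupOf _) l).map (Subgroup.subtype _) = RW φ (r i) u := by
      rw [← h.cj_RW n1.2 nJ G2x.om_z.1 hu eu.symm, h.RW_z, ← map_subgroupOf_eq_of_le RP, Ri, cj, cj, map_map, map_map,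
        map_subgroupOf_eq_of_le RP]
      rfl
    have e2 : (ι (zi l) : G) = φ u := by
      have := congrArg Subtype.val (c.conj (gi_mem l) (by decide +kernel : z0 ∈ D3))
      rw [coe_mul, coe_mul, coe_inv, ez] at this
      rw [eu, h.ez, this]
      rfl
    obtain ⟨s, rfl | rfl⟩ := om_w10 u ou
    · exact ⟨⟨s, (perp_c s).1 pu⟩, e1, .inl e2⟩
    · exact ⟨⟨s, (perp_c s).1 ((perp_inv (w10_om s) perp_0.2.2.2.2.2.1).1 pu)⟩, e1.trans (h.RW_inv (w10_om s)), .inr e2⟩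
  choose f f1 f2 using key
  refine ⟨f, Finite.injective_iff_bijective.1 fun l m e => zi_inj l m ?_, f1⟩
  have k1 := f2 l
  have k2 := f2 m
  rw [← e] at k2
  have iv : ((ι (zi m)⁻¹ : _) : G) = (ι (zi m) : G)⁻¹ := congrArg Subtype.val (c.inv (zi_mem m))
  have j1 : (ι (zi l) : G) = ι (zi m) → zi l = zi m ∨ zi l = (zi m)⁻¹ := fun e =>
    .inl (c.inj (zi_mem l) (zi_mem m) (Subtype.ext e))
  have j2 : (ι (zi l) : G) = (ι (zi m) : G)⁻¹ → zi l = zi m ∨ zi l = (zi m)⁻¹ := fun e =>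
    .inr (c.inj (zi_mem l) (inv_mem (zi_mem m)) (Subtype.ext (e.trans iv.symm)))
  rcases k1 with k1 | k1 <;> rcases k2 with k2 | k2
  · exact j1 (k1.trans k2.symm)
  · exact j2 (by rw [k1, k2, map_inv, inv_inv])
  · exact j2 (by rw [k1, k2, map_inv])
  · exact j1 (k1.trans k2.symm)

theorem kc_k : ∃ (ι : W3 → (L0 z (a k) (r k) ⊓ Cx (r i) : Subgroup G)) (t : (L0 z (a k) (r k) ⊓ Cx (r i) : Subgroup G))
    (ρ : (L0 z (a k) (r k) ⊓ Cx (r i) : Subgroup G) → SL), KC D3 ι t ((RE z Q (r i)).subgroupOf _) ρ ∧ (t : G) = r i ∧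
      (ι z0 : G) = z ∧ (img ι J0).map (Subgroup.subtype _) = closure {a j, x, z} ∧
      (img ι S0).map (Subgroup.subtype _) = Qi j ⊔ zpowers x ∧
      (EE ι ((RE z Q (r i)).subgroupOf _)).map (Subgroup.subtype _) = EV φ (r i) gc := by
  obtain ⟨ι, t, ρ, c, h1, h2, h3, h4⟩ := h.kc0
  obtain ⟨f, f1, f2⟩ := h.kc1 c h2 h3
  refine ⟨ι, t, ρ, c, h1, h2, h3, h4, ?_⟩
  rw [EE, Subgroup.map_iSup]
  refine le_antisymm (iSup_le fun l => ?_) (iSup₂_le fun s hs => ?_)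
  · rw [f2]
    exact le_iSup₂ (f := fun s (_ : Perp (w10 s) gc) => RW φ (r i) (w10 s)) _ ((perp_c _).2 (f l).2)
  · obtain ⟨l, e⟩ := f1.2 ⟨s, (perp_c s).1 hs⟩
    refine le_trans (ge_of_eq ?_) (le_iSup _ l)
    rw [f2, e]
    rfl

theorem EV_norm : L0 z (a k) (r k) ⊓ Cx (r i) ≤ normalizer (EV φ (r i) gc : Set G) := by
  obtain ⟨ι, t, ρ, c, -, -, -, -, e⟩ := h.kc_k
  have := c.normal_E
  rw [← e]
  exact LAE.le_normalizer_map_subtype _

theorem q8_RW (hu : Om u) : Q8 (r i) (RW φ (r i) u) := by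
  obtain ⟨n, n1, n2, e⟩ := h.om_L0 hu
  have nr := (h.L0_le n1).2
  rw [← h.cj_RW nr n2 G2x.om_z.1 (om_J hu) (by rwa [h.ez]), h.RW_z]
  exact q8_cj (h.q8 i) nr

theorem cm_zx : ∀ y ∈ RW φ (r i) gz, ∀ w ∈ RW φ (r i) gx, y * w = w * y := by
  obtain ⟨ι, t, ρ, c, h1, h2, h3, h4⟩ := h.kc0
  obtain ⟨f, f1, f2⟩ := h.kc1 c h2 h3
  obtain ⟨l, el⟩ := f1.2 0
  obtain ⟨m, em⟩ := f1.2 1
  have k1 := f2 l
  have k2 := f2 m
  rw [el] at k1
  rw [em] at k2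
  intro y hy w hw
  obtain ⟨y, hy', rfl⟩ := k1.ge hy
  obtain ⟨w, hw', rfl⟩ := k2.ge hw
  exact congrArg Subtype.val (c.comm_Ri (show l ≠ m from fun e => by
    rw [e, em] at el; exact absurd el (by decide)) hy' hw')

theorem cpr : CPr (n := 9) (r i) fun s => RW φ (r i) (w10 s) := by
  refine ⟨fun s => h.q8_RW (w10_om s), fun s t st => ?_⟩
  obtain ⟨n, n1, n2, e⟩ := h.om_L0 (w10_om s)
  have nr := (h.L0_le n1).2
  obtain ⟨u, hu, eu⟩ := GM.exists_J (inv_mem n2) (om_J (w10_om t))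
  have ou := om_conj h h (w10_om t) hu eu.symm
  have eu' : n * φ u * n⁻¹ = φ (w10 t) := by rw [eu]; group
  rw [← h.ez] at e
  rw [← h.cj_RW nr n2 G2x.om_z.1 (om_J (w10_om s)) e, ← h.cj_RW nr n2 ou (om_J (w10_om t)) eu']
  have k : ∀ y ∈ RW φ (r i) gz, ∀ w ∈ RW φ (r i) u, y * w = w * y := by
    obtain ⟨u, rfl⟩ : ∃ u' : V81, W4.vec u' = u := ⟨_, eq_vec hu⟩
    obtain ⟨v1, v2, v3, v4⟩ := G2x.vecs
    have k : ∀ (d : W36) (w : V81), Om (vec w) → RW φ (r i) (vec w) = RW φ (r i) gx →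
        ∀ y ∈ RW φ (r i) gz, ∀ p ∈ RW φ (r i) (vec (act d w)), y * p = p * y := fun d w ow ew y hy p hp => by
      rw [← h.cj_RW (h.phi_K0 (lin d)).2 (GKP.phi_NJ _) ow (vec_mem _) (G2x.conj_lin d w), ew] at hp
      rw [← h.cj_RW (h.phi_K0 (lin d)).2 (GKP.phi_NJ _) G2x.om_z.1 G2x.mems.2.2.2.1 (mem_Cx'.1 (phi_z φ _))] at hy
      have := (conj_mem_Cx (g := φ (lin d))).2 (mem_Cx.2 (h.cm_zx _ (mem_cj.1 hy) _ (mem_cj.1 hp)))
      simpa [mul_assoc, mem_Cx] using this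
    rcases G2x.om_cases u ou with rfl | rfl | ⟨d, -, rfl | rfl⟩
    · exact absurd (w10_inj s t (.inl (h.inj (by rw [← e, ← eu', v4])))) st
    · refine absurd (w10_inj s t (.inr (h.inj ?_))) st
      rw [← e, map_inv, ← eu', map_inv, v4, map_inv]
      group
    · exact k d _ (v3 ▸ G2x.om_z.2.2.1) (by rw [v3])
    · exact k d _ (by rw [map_inv, v3]; exact G2x.om_z.2.2.2) (by rw [map_inv, v3, h.RW_inv G2x.om_z.2.2.1])
  intro y hy w hw
  have := (conj_mem_Cx (g := n)).2 (mem_Cx.2 (k _ (mem_cj.1 hy) _ (mem_cj.1 hw)))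
  simpa [mul_assoc, mem_Cx] using this

end EP

end CfsgLib.Rec3E
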