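import Cfsg.Agent.Lib.Rec3E.E6a
import Cfsg.Agent.Lib.Rec3E.GR

/-! The group `M = E K₀` (plans/REC3E.md, E6b). -/

set_option autoImplicit false
set_option maxRecDepth 100000
set_option maxHeartbeats 400000
set_option linter.unusedSectionVars false
set_option linter.unusedVariables false

namespace CfsgLib.Rec3E

open Subgroup Cfsg CfsgLib.Tech CfsgLib.PComp CfsgLib.W2 CfsgLib.Rec3 CfsgLib.Rec3B CfsgLib.Rec3B.W4
open CfsgLib.U43 (SL)

variable {G : Type*} [Group G] [Finite G]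
variable {z x σ : G} {Q : Subgroup G} {Qi : Fin 3 → Subgroup G} {r a b : Fin 3 → G} {π : Fin 3 → G → SL}
  {τ : G → Equiv.Perm (Fin 3)} {i j k : Fin 3} {φ : W4 →* G}

namespace E6y

theorem cover : ∀ s, ∃ m : Fin 3, Om ((gd ^ m.val)⁻¹ * w10 s * gd ^ m.val) ∧
    Perp ((gd ^ m.val)⁻¹ * w10 s * gd ^ m.val) gc := by decide +kernel

theorem ex_perp : ∀ v : V81, ∃ s, Perp (w10 s) (W4.vec v) := by decide +kernel

theorem ex_not : ∀ s, ∃ v : V81, ¬ Perp (w10 s) (W4.vec v) := by decide +kernel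

theorem conj_into {E T : Subgroup G} (hE : IsPGroup 2 E) (hT : IsPGroup 3 T) (hn : T ≤ normalizer (E : Set G)) {y : G}
    (hy : y ∈ E ⊔ T) (y3 : y ^ 3 = 1) : ∃ e ∈ E, e * y * e⁻¹ ∈ T := by
  have : Fact (Nat.Prime 3) := ⟨by norm_num⟩
  have : Fact (Nat.Prime 2) := ⟨by norm_num⟩
  have hs : IsSylowIn 3 T (E ⊔ T) := ⟨le_sup_right, hT, fun d => by
    have c1 := Coprime.card_sup_mul_card_inf hn
    rw [Sect.card_eq_relIndex' (le_sup_right : T ≤ E ⊔ T), mul_assoc, mul_comm (Nat.card E)] at c1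
    obtain ⟨m, hm⟩ := IsPGroup.iff_card.1 hE
    have d2 : 3 ∣ 2 ^ m := by
      rw [← hm, ← Nat.eq_of_mul_eq_mul_left Nat.card_pos c1]
      exact d.mul_right _
    exact absurd (Nat.prime_three.dvd_of_dvd_pow d2) (by decide)⟩
  obtain ⟨g, hg, k⟩ := hs.exists_conj_mem hy (isPGroup_zpowers_of_pow (k := 1) y3)
  rw [sup_comm] at hg
  obtain ⟨t, ht, e, he, rfl⟩ := (Sect.mem_sup_of_norm fun t ht e he => conj_mem_of_mem_normalizer (hn ht) he).1 hg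
  refine ⟨e, he, ?_⟩
  convert mul_mem (mul_mem (inv_mem ht) k) ht using 1
  group

end E6y

open E6x E6y

namespace EP

variable (h : EP z Q Qi r π τ a b x σ i j k φ) {g d : G} {v : W4}
include h

theorem E_le : E6 φ (r i) ≤ Cx (r i) := by
  exact iSup_le fun s => (closure_le _).2 fun g hg => hg.1

theorem M_le : M6 φ (a i) (r i) ≤ Cx (r i) := by
  exact sup_le h.E_le inf_le_right

theorem NJ_norm (hr : g ∈ Cx (r i)) (hJ : g ∈ NJ φ) : g ∈ normalizer (E6 φ (r i) : Set G) := by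
  refine mem_normalizer_of_cj_le (map_le_iff_le_comap.2 (iSup_le fun s => map_le_iff_le_comap.1 ?_))
  obtain ⟨u, hu, e⟩ := GM.exists_J hJ (om_J (w10_om s))
  exact (h.cj_RW hr hJ (w10_om s) hu e.symm).le.trans (h.RW_le (om_conj h h (w10_om s) hu e.symm))

theorem EV_le : EV φ (r i) v ≤ E6 φ (r i) := iSup₂_le fun s _ => h.RW_le (w10_om s)

theorem RW_EV {u : W4} (hu : Om u) (hv : v ∈ JJ) (e : Perp u v) : RW φ (r i) u ≤ EV φ (r i) v := by
  obtain ⟨s, rfl | rfl⟩ := om_w10 u hu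
  · exact le_iSup₂ (f := fun s (_ : Perp (w10 s) v) => RW φ (r i) (w10 s)) s e
  · rw [h.RW_inv (w10_om s)]
    exact le_iSup₂ (f := fun s (_ : Perp (w10 s) v) => RW φ (r i) (w10 s)) s ((perp_inv (w10_om s) hv).1 e)

theorem Rj_norm (hg : g ∈ RE z Q (r j)) : g ∈ normalizer (E6 φ (r i) : Set G) := by
  obtain ⟨χ, c⟩ := h.toEX.exists_EP h.ik.symm h.jk.symm h.ij
  have gn := h.EV_norm (mem_inf.2 ⟨c.R_L0.2 hg, (h.R_H0 hg).2.2.2.2 i⟩)
  have gd' : g ∈ Cx (φ gd) := by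
    rw [h.ed]
    exact Cx_comm.1 (h.R_Q h.jk hg (h.gen k ▸ subset_closure (by simp)))
  refine mem_normalizer_of_cj_le (map_le_iff_le_comap.2 (iSup_le fun s y hy => ?_))
  obtain ⟨m, m1, m2⟩ := cover s
  have dr := (h.phi_K0 (gd ^ m.val)).2
  rw [← h.cj_RW dr (GKP.phi_NJ _) m1 (om_J (w10_om s)) (by simp only [map_mul, map_inv]; group)] at hy
  have := conj_mem_of_mem_normalizer (h.NJ_norm dr (GKP.phi_NJ _)) (h.EV_le (conj_mem_of_mem_normalizer gn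
    (h.RW_EV m1 perp_0.2.2.2.2.2.1 m2 (mem_cj.1 hy))))
  have e : g * φ (gd ^ m.val) * g⁻¹ = φ (gd ^ m.val) := by
    rw [map_pow, ← conj_pow, mem_Cx'.1 gd']
  show g * y * g⁻¹ ∈ E6 φ (r i)
  convert this using 1
  calc _ = g * φ (gd ^ m.val) * g⁻¹ * (g * ((φ (gd ^ m.val))⁻¹ * y * φ (gd ^ m.val)) * g⁻¹) *
        (g * φ (gd ^ m.val) * g⁻¹)⁻¹ := by group
    _ = _ := by rw [e]

theorem E_four (hg : g ∈ E6 φ (r i)) : g ^ 4 = 1 := by
  rw [show g ^ 4 = g * g * (g * g) by simp only [pow_succ, pow_zero, one_mul, mul_assoc]]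
  rcases h.cpr.sq hg with e | e <;> rw [e]
  exacts [mul_one 1, h.rr i]

theorem E_two : IsPGroup 2 (E6 φ (r i)) := isPGroup_iff_mem.2 fun g hg => ⟨2, h.E_four hg⟩

theorem t_E : r i ∈ E6 φ (r i) := h.cpr.es.mem

theorem K0_norm : K0 (a i) (r i) ≤ normalizer (E6 φ (r i) : Set G) := by
  have J : ∀ c ∈ JE z a, c ∈ Cx (r i) → c ∈ normalizer (E6 φ (r i) : Set G) := fun c hc hr =>
    h.NJ_norm hr (h.NJ4' hr (le_normalizer hc))
  have L : L0 z (a i) (r i) ≤ normalizer (E6 φ (r i) : Set G) := by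
    obtain ⟨ψ, π₁, π₂, v, gc', sw⟩ := h.exists_gc le_rfl h.L0_le inf_le_left
    have hK : Fintype.card Classical.GF4 = 4 := FTHM.gf4_card
    obtain ⟨e6⟩ := h.L0_iso hK
    obtain ⟨φ', h'⟩ := h.toEX.exists_EP h.ik h.ij h.jk.symm
    refine subgroupOf_eq_top.1 (gc_gen gc' sw hK e6 (fun g hg => ?_) fun g hg => ?_)
    · rw [GKP.cx_sub, v, h.ez, mem_subgroupOf] at hg
      obtain ⟨y, hy, y', hy', u, -, c, hc, cr, e⟩ := h.cK0 (h.L0_le g.2) hg (h.cL0 g.2 hg).1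
      rw [mem_subgroupOf, e]
      exact mul_mem (mul_mem (mul_mem (h.Rj_norm hy) (h.E6_symm h' ▸ h'.Rj_norm hy'))
        (h.NJ_norm (h.phi_K0 u).2 (GKP.phi_NJ u))) (J c hc cr)
    · refine h.NJ_norm (h.L0_le g.2).2 ((GRx.norm_sub (L := JJ.map φ) ?_).1 ?_)
      · rintro _ ⟨u, -, rfl⟩
        exact h.phi_L0 u
      · convert hg using 2
        ext y
        exact ⟨fun ⟨u, hu, e⟩ => ⟨u, hu, Subtype.ext ((v u).trans e)⟩, fun ⟨u, hu, e⟩ => ⟨u, hu, by rw [← v, e]; rfl⟩⟩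
  intro g hg
  by_cases hs : NoSw z τ
  · obtain ⟨l, hl, c, hc, cr, rfl⟩ := h.K0_nosw hs hg
    exact mul_mem (L hl) (J c hc cr)
  · obtain ⟨ω, ω1, ω2, -, ω3⟩ := h.exists_swap hs
    obtain ⟨l, hl, c, hc, cr, rfl | rfl⟩ := (h.K0_sw ω1 (h.ez ▸ ω2.z) ω3).2 g hg
    · exact mul_mem (L hl) (J c hc cr)
    · exact mul_mem (mul_mem (L hl) (J c hc cr))
        (h.NJ_norm ω1.2 ((GM.swap_Rf ω2).mem (by decide +kernel)))

theorem E_K0 : E6 φ (r i) ⊓ K0 (a i) (r i) = ⊥ := by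
  refine (h.L0_min inf_le_right fun l hl => mem_normalizer_of_forall fun y hy => mem_inf.2 ⟨conj_mem_of_mem_normalizer
    (h.K0_norm (h.L0_le hl)) hy.1, mul_mem (mul_mem (h.L0_le hl) hy.2) (inv_mem (h.L0_le hl))⟩).resolve_right fun e => ?_
  have := h.E_four (e (h.phi_L0 gz)).1
  rw [h.ez, pow_succ, h.z3, one_mul] at this
  exact h.z1 this

theorem mem_M : g ∈ M6 φ (a i) (r i) ↔ ∃ e ∈ E6 φ (r i), ∃ c ∈ K0 (a i) (r i), g = e * c := by
  refine ⟨fun hg => ?_, by rintro ⟨e, he, c, hc, rfl⟩; exact mul_mem_sup he hc⟩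
  rw [M6, sup_comm] at hg
  obtain ⟨c, hc, e, he, rfl⟩ :=
    (Sect.mem_sup_of_norm fun c hc e he => conj_mem_of_mem_normalizer (h.K0_norm hc) he).1 hg
  exact ⟨_, conj_mem_of_mem_normalizer (h.K0_norm hc) he, c, hc, by group⟩

theorem uniq {e e' c c' : G} (he : e ∈ E6 φ (r i)) (he' : e' ∈ E6 φ (r i)) (hc : c ∈ K0 (a i) (r i))
    (hc' : c' ∈ K0 (a i) (r i)) (k : e * c = e' * c') : e = e' ∧ c = c' := by
  have k1 : e'⁻¹ * e = c' * c⁻¹ := by rw [← mul_inv_eq_iff_eq_mul.2 k.symm]; group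
  have := mem_bot.1 (h.E_K0.le (mem_inf.2 ⟨mul_mem (inv_mem he') he, k1 ▸ mul_mem hc' (inv_mem hc)⟩))
  exact ⟨(inv_mul_eq_one.1 this).symm, (mul_inv_eq_one.1 (k1 ▸ this)).symm⟩

theorem exists_p : ∃ p : M6 φ (a i) (r i) →* K0 (a i) (r i), (∀ g, p g = 1 ↔ (g : G) ∈ E6 φ (r i)) ∧
    ∀ c : K0 (a i) (r i), p ⟨c, mem_sup_right c.2⟩ = c := by
  choose e he c hc k using fun g : M6 φ (a i) (r i) => h.mem_M.1 g.2
  refine ⟨MonoidHom.mk' (fun g => ⟨c g, hc g⟩) fun g g' => Subtype.ext (h.uniq (he (g * g'))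
    (mul_mem (he g) (conj_mem_of_mem_normalizer (h.K0_norm (hc g)) (he g'))) (hc _) (mul_mem (hc g) (hc g')) ?_).2,
    fun g => ⟨fun e1 => ?_, fun e1 => Subtype.ext (h.uniq (he g) e1 (hc g) (one_mem _) (by rw [← k, mul_one])).2⟩,
    fun d => Subtype.ext (h.uniq (he _) (one_mem _) (hc _) d.2 (by rw [← k, one_mul])).2⟩
  · rw [← k, coe_mul, k g, k g']
    group
  · rw [k g, show c g = 1 from congrArg Subtype.val e1, mul_one]
    exact he g

theorem Nz_le : normalizer (zpowers z : Set G) ⊓ Cx (r i) ≤ M6 φ (a i) (r i) := by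
  have k : ∀ g ∈ Cx z, g ∈ Cx (r i) → g ∈ M6 φ (a i) (r i) := fun g hg hr => by
    have m := h.cj_mem hg (h.aQ i)
    rw [h.ul_τ_of_cr hg hr] at m
    obtain ⟨y, hy, e⟩ := h.R_trans m (fun e => h.an i (by
      rwa [← Es.zcj e (inv_mem hg), show g⁻¹ * (g * a i * g⁻¹) * g⁻¹⁻¹ = a i by group] at e)) (h.aQ i) (h.an i)
    have y1 := mul_mem (h.R_H0 hy).1 hg
    have y2 := mul_mem ((h.R_H0 hy).2.2.2.2 i) hr
    refine (mul_mem_cancel_left (mem_sup_left (h.RW_le G2x.om_z.1 (h.RW_z.ge hy)))).1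
      (mem_sup_right (mem_inf.2 ⟨Cx_comm.1 (EB.F4 h.toNH y1 y2 (h.aQ i) ⟨h.Qz i (h.aQ i), Es.cmt_symm ?_⟩), y2⟩))
    convert e using 1
    group
  intro g hg
  rcases Es.three_cases h.z3 (conj_mem_of_mem_normalizer hg.1 (mem_zpowers z)) with e | e | e
  · exact absurd (by simpa using e) h.z1
  · exact k g (mem_Cx'.2 e) hg.2
  · obtain ⟨n, n1, -, e'⟩ := h.om_L0 G2x.om_z.2.1
    rw [map_inv, h.ez] at e'
    refine (mul_mem_cancel_left (mem_sup_right (inv_mem (h.L0_le n1)))).1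
      (k _ (mem_Cx'.2 ?_) (mul_mem (inv_mem (h.L0_le n1).2) hg.2))
    calc _ = n⁻¹ * (g * z * g⁻¹) * n := by group
      _ = z := by rw [e, ← e']; group

theorem NJ_le : NJ φ ⊓ Cx (r i) ≤ M6 φ (a i) (r i) := by
  intro g hg
  rcases (h.NJ4 hg.2 hg.1).2 with e | e
  · exact mem_sup_right e
  · exact (mul_mem_cancel_right (mem_sup_left h.t_E)).1 (mem_sup_right e)

theorem cM_E (hg : g ∈ M6 φ (a i) (r i)) (e : E6 φ (r i) ≤ Cx g) : g = 1 ∨ g = r i := by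
  obtain ⟨y, hy, c, hc, rfl⟩ := h.mem_M.1 hg
  have cm : ∀ u ∈ E6 φ (r i), ∀ w ∈ centralizer (E6 φ (r i) : Set G), u * w = w * u := fun u hu w hw => hw u hu
  have g1 : y * c ∈ centralizer (E6 φ (r i) : Set G) := fun u hu => mem_Cx.1 (e hu)
  rcases h.L0_min (N := K0 (a i) (r i) ⊓ (E6 φ (r i) ⊔ centralizer (E6 φ (r i) : Set G))) inf_le_left
    (fun l hl => mem_normalizer_of_forall fun u hu => by
      have n := h.K0_norm (h.L0_le hl)
      refine mem_inf.2 ⟨mul_mem (mul_mem (h.L0_le hl) hu.1) (inv_mem (h.L0_le hl)), ?_⟩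
      have := (conj_mem_cj (g := l)).2 hu.2
      rwa [cj_sup, cj_centralizer, mem_normalizer_iff_cj.1 n] at this) with k | k
  · have := mem_bot.1 (k.le (mem_inf.2 ⟨hc, (mul_mem_cancel_left (mem_sup_left hy)).1 (mem_sup_right g1)⟩))
    rw [this, mul_one] at g1 ⊢
    exact h.cpr.es.center y hy g1
  exfalso
  obtain ⟨u, hu, w, hw, ex⟩ := (Sect.mem_sup_of_comm cm).1 (k (h.phi_L0 gx)).2
  have q := h.q8_RW G2x.om_z.1
  have := card_le_of_le (show RW φ (r i) gz ≤ zpowers (r i) from fun p hp => (CPx.mem_zp q).2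
    (h.RW_fpf G2x.om_z.1 G2x.mems.2.2.1 perp_0.2.2.2.2.1 hp (by
      have pE := h.RW_le G2x.om_z.1 hp
      rw [Cj, ex, show u * w * p * (u * w)⁻¹ * p⁻¹ = u * (w * p) * w⁻¹ * (p * u)⁻¹ by group, ← cm p pE w hw,
        ← mul_assoc, mul_inv_cancel_right, CPx.mem_zp q]
      exact (h.cpr.es.comm u hu p pE).imp mul_inv_eq_one.2 mul_inv_eq_iff_eq_mul.2)))
  rw [q.card, Nat.card_zpowers, ord_two q.rr q.r1] at this
  omega

theorem NE_le : normalizer (E6 φ (r i) : Set G) ⊓ Cx (r i) ≤ M6 φ (a i) (r i) := by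
  obtain ⟨N, hN⟩ : ∃ N, N = normalizer (E6 φ (r i) : Set G) ⊓ Cx (r i) := ⟨_, rfl⟩
  rw [← hN]
  have hK : K0 (a i) (r i) ≤ N := hN ▸ le_inf h.K0_norm inf_le_right
  have hE : E6 φ (r i) ≤ N := hN ▸ le_inf le_normalizer h.E_le
  have := normal_subgroupOf_of_le_normalizer (hN.le.trans inf_le_left)
  obtain ⟨f, hf⟩ : ∃ f, f = QuotientGroup.mk' ((E6 φ (r i)).subgroupOf N) := ⟨_, rfl⟩
  have fs : Function.Surjective f := hf ▸ QuotientGroup.mk'_surjective _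
  have fe : ∀ u w : N, f u = f w ↔ (u : G)⁻¹ * w ∈ E6 φ (r i) := fun u w => by
    rw [hf]; exact QuotientGroup.eq
  have z3 : ∀ g : G, (g * z * g⁻¹) ^ 3 = 1 := FT.conj3 h.z3
  have zK : φ gz ∈ K0 (a i) (r i) := h.phi_K0 gz
  have sj := h.rig (f.comp (inclusion hK)) ((injective_iff_map_eq_one _).2 fun c e => Subtype.ext
    (mem_bot.1 (h.E_K0.le (mem_inf.2 ⟨by simpa using (fe 1 _).1 (f.map_one.trans e.symm), c.2⟩))))
    (fs.forall.2 fun g hg => by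
      obtain ⟨m, e⟩ := conj_mem_of_mem_normalizer hg (mem_zpowers _)
      have e1 := (fe (inclusion hK ⟨φ gz, zK⟩ ^ m) (g * inclusion hK ⟨φ gz, zK⟩ * g⁻¹)).1 (by
        simpa only [map_mul, map_inv, map_zpow, MonoidHom.comp_apply] using e)
      simp only [coe_mul, coe_inv, coe_zpow, coe_inclusion, h.ez] at e1
      obtain ⟨y, hy, k⟩ := conj_into h.E_two (isPGroup_zpowers_of_pow (k := 1) h.z3)
        (zpowers_le.2 (h.K0_norm (h.ez ▸ zK))) ((mul_mem_cancel_left (mem_sup_right (inv_mem (zpow_mem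
          (mem_zpowers z) m)))).1 (mem_sup_left e1)) (z3 g)
      obtain ⟨u, hu, c, hc, k'⟩ := h.mem_M.1 (h.Nz_le (mem_inf.2 ⟨mem_normalizer_of_forall (g := y * g) (by
        rintro _ ⟨m, rfl⟩
        rw [← conj_zpow]
        exact zpow_mem (by convert k using 1; group) m), mul_mem (h.E_le hy) (hN.le g.2).2⟩))
      refine ⟨⟨c, hc⟩, (fe _ _).2 ?_⟩
      convert conj_mem_of_mem_normalizer' (h.K0_norm hc) (mul_mem (inv_mem hy) hu) using 1
      rw [coe_inclusion, mul_assoc, mul_assoc, ← k']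
      group)
    (fs.forall.2 fun g hg => by
      obtain ⟨c, hc, e⟩ := exists_of_mem_im hg
      have e1 := (fe (inclusion hK c) (g * inclusion hK ⟨φ gz, zK⟩ * g⁻¹)).1 (by
        simpa only [map_mul, map_inv, MonoidHom.comp_apply] using e)
      simp only [coe_mul, coe_inv, coe_inclusion, h.ez] at e1
      have QC : QQ.map φ ≤ Q ⊓ centralizer (Qi i : Set G) := by
        have bQ : ∀ l, b l ∈ Qi l := fun l => h.gen l ▸ subset_closure (by simp)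
        have k : ∀ {l q}, i ≠ l → q ∈ Qi l → q ∈ Q ⊓ centralizer (Qi i : Set G) := fun e hq =>
          ⟨h.le _ hq, FT.le_cent h.toNH e.symm hq⟩
        refine map_le_iff_le_comap.2 (le_of ?_)
        simp only [List.forall_mem_cons, mem_comap, h.ea, h.eb, h.ec, h.ed]
        exact ⟨k h.ij (h.aQ j), k h.ij (bQ j), k h.ik (h.aQ _), k h.ik (bQ _), by simp⟩
      obtain ⟨y, hy, k⟩ := conj_into h.E_two (h.hz.two.to_le (QC.trans inf_le_left))
        (by rintro _ ⟨u, -, rfl⟩; exact h.K0_norm (h.phi_K0 u))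
        ((mul_mem_cancel_left (mem_sup_right (inv_mem hc))).1 (mem_sup_left e1)) (z3 g)
      rw [show y * (g * z * (g : G)⁻¹) * y⁻¹ = y * g * z * (y * g)⁻¹ by group] at k
      obtain ⟨m, e2⟩ : y * g * z * (y * g)⁻¹ ∈ zpowers z := by
        by_contra c
        exact h.wc _ (QC k).1 c i fun q hq => mem_Cx.2 ((QC k).2 q hq)
      refine ⟨m, ?_⟩
      have := (fe (inclusion hK ⟨φ gz, zK⟩ ^ m) (g * inclusion hK ⟨φ gz, zK⟩ * g⁻¹)).2 (by
        simp only [coe_mul, coe_inv, coe_zpow, coe_inclusion, h.ez]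
        have n : (g : G) * z * (g : G)⁻¹ ∈ normalizer (E6 φ (r i) : Set G) :=
          mul_mem (mul_mem (hN.le g.2).1 (h.K0_norm (h.ez ▸ zK))) (inv_mem (hN.le g.2).1)
        convert mul_mem hy (conj_mem_of_mem_normalizer' n (inv_mem hy)) using 1
        rw [show z ^ m = _ from e2]
        group)
      simpa only [map_mul, map_inv, map_zpow, MonoidHom.comp_apply] using this)
  intro g hg
  obtain ⟨c, e⟩ := sj (f ⟨g, hg⟩)
  exact (mul_mem_cancel_left (mem_sup_right (inv_mem c.2))).1 (mem_sup_left ((fe _ _).1 e))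

theorem cM_d (hd : d ∈ K0 (a i) (r i)) (hg : g ∈ M6 φ (a i) (r i)) (e : g ∈ Cx d) :
    ∃ e ∈ E6 φ (r i), e ∈ Cx d ∧ ∃ c ∈ K0 (a i) (r i), c ∈ Cx d ∧ g = e * c := by
  obtain ⟨y, hy, c, hc, rfl⟩ := h.mem_M.1 hg
  obtain ⟨k1, k2⟩ := h.uniq (conj_mem_of_mem_normalizer (h.K0_norm hd) hy) hy
    (mul_mem (mul_mem hd hc) (inv_mem hd)) hc (by rw [conj_mul, mem_Cx'.1 (Cx_comm.1 e)])
  exact ⟨y, hy, Cx_comm.1 (mem_Cx'.2 k1), c, hc, Cx_comm.1 (mem_Cx'.2 k2), rfl⟩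

theorem cE_v (hv : v ∈ JJ) : E6 φ (r i) ⊓ Cx (φ v) = EV φ (r i) v := by
  refine le_antisymm (fun g hg => ?_) (le_inf h.EV_le (iSup₂_le fun s e => h.RW_perp hv e))
  obtain ⟨y, hy, rfl⟩ := h.cpr.mem.1 hg.1
  refine NBx.prod_mem fun s => ?_
  by_cases e : Perp (w10 s) v
  · exact h.RW_EV (w10_om s) hv e (hy s)
  · rcases h.RW_fpf (w10_om s) hv e (hy s) (h.cpr.fix (h.phi_K0 v).2 (fun s => h.RW_norm (w10_om s) hv) hy
      (by rw [Cj, FT.cmt_of (Cx_comm.1 hg.2)]; exact one_mem _) s) with k | k <;> rw [k]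
    · exact one_mem _
    · obtain ⟨t, ht⟩ := ex_perp (vp v)
      rw [eq_vec hv] at ht
      exact h.RW_EV (w10_om t) hv ht (h.cpr.q8 t).mem

theorem cE_J (hg : g ∈ E6 φ (r i)) (e : ∀ v ∈ JJ, Cj (zpowers (r i)) (φ v) g g) : g = 1 ∨ g = r i := by
  obtain ⟨y, hy, rfl⟩ := h.cpr.mem.1 hg
  refine (CPx.mem_zp (h.cpr.q8 0)).1 (NBx.prod_mem fun s => (CPx.mem_zp (h.cpr.q8 0)).2 ?_)
  obtain ⟨v, hv⟩ := ex_not s
  exact h.RW_fpf (w10_om s) (vec_mem v) hv (hy s) (h.cpr.fix (h.phi_K0 _).2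
    (fun s => h.RW_norm (w10_om s) (vec_mem v)) hy (e _ (vec_mem v)) s)

end EP

end CfsgLib.Rec3E
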