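import Cfsg.Agent.Lib.Rec3E.T3

/-! `⟨z⟩` is not weakly closed in `Q` (three factors, no restriction on `C(z) / Q`). -/

set_option autoImplicit false
set_option maxRecDepth 100000
set_option maxHeartbeats 400000
set_option linter.unusedSectionVars false
set_option linter.unusedVariables false

namespace CfsgLib.Rec3E

open Subgroup Cfsg CfsgLib.Tech CfsgLib.PComp CfsgLib.W2 CfsgLib.Rec3 CfsgLib.Rec3B
open CfsgLib.U43 (SL)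

variable {G : Type*} [Group G] [Finite G]
variable {z : G} {Q : Subgroup G} {Qi : Fin 3 → Subgroup G} {r : Fin 3 → G} {π : Fin 3 → G → SL}
  {τ : G → Equiv.Perm (Fin 3)}

namespace F2y

open CfsgLib.Sect Es NBx FT F3x T3x

section N

variable (h : NH z Q Qi r π τ) {y q c p : G}
include h

theorem zρ (hp : p ∈ zpowers z) : p ∈ Cx (rho r) := (h.inf_X.ge hp).2

theorem rho_a {m : Fin 3} {a : G} (ha : a ∈ Qi m) (ra : r m * a * (r m)⁻¹ = a⁻¹) :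
    rho r * a * (rho r)⁻¹ = a⁻¹ := by
  obtain ⟨u, hu, v, hv, e⟩ := prod_split (K := Cx a) r m fun l hl => Cx_comm.1 (h.rj l m hl ha)
  calc _ = u * (r m * (v * a * v⁻¹) * (r m)⁻¹) * u⁻¹ := by rw [rho, e]; group
    _ = (u * a * u⁻¹)⁻¹ := by rw [mem_Cx'.1 hv, ra]; group
    _ = _ := by rw [mem_Cx'.1 hu]

/-- coordinates for an element of order three that fixes the factors -/
theorem coord (yz : y ∈ Cx z) (hq : q ∈ Q) (cρ : q * y ∈ Cx (rho r)) (c3 : (q * y) ^ 3 ∈ zpowers z) (t : τ y = 1)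
    (i : Fin 3) : ∃ a b, a ∈ Qi i ∧ a ∈ Cx (q * y) ∧ a ∈ Im z (Qi i) y ∧ Qi i ⊓ Cx a ≤ cmz z y ∧
      ((a = 1 ∧ π i y = 1 ∧ Qi i ≤ Cx (q * y)) ∨ (a ∉ zpowers z ∧ r i * a * (r i)⁻¹ = a⁻¹ ∧ b ∈ Qi i ∧
      (b * (q * y) * b⁻¹ * (q * y)⁻¹ = a * z⁻¹ ∨ b * (q * y) * b⁻¹ * (q * y)⁻¹ = (a * z⁻¹)⁻¹))) := by
  have cz := mul_mem (h.zc hq) yz
  have ct : τ (q * y) = 1 := (τ_mul_Q h hq yz).trans t
  have yi : τ y i = i := by rw [t]; rfl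
  have πc : π i (q * y) = π i y := π_mul_Q h hq yz yi
  have E := (h.ezi i).toHz
  have yN := h.norm_Qi yz yi
  have cI : ∀ b ∈ Qi i, b * (q * y) * b⁻¹ * (q * y)⁻¹ ∈ Im z (Qi i) y := fun b hb => by
    refine (mem_Im E yN).2 ⟨b, hb, ?_⟩
    have k := h.cmt q hq _ (conj_mem_of_mem_normalizer (h.norm_Q yz) (inv_mem (h.le i hb)))
    rw [← zcj k (h.Qz i hb)] at k
    convert k using 1
    group
  have cy : ∀ p ∈ Q, q * y * p * (q * y)⁻¹ * p⁻¹ ∈ zpowers z → p ∈ cmz z y := fun p hp e => ⟨h.zc hp, cmt_symm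
    ((mul_mem_cancel_left (show q ∈ cmz z p from ⟨h.zc hq, h.cmt q hq p hp⟩)).1 ⟨cz, e⟩).2⟩
  generalize q * y = c at *
  have ci : τ c i = i := by rw [ct]; rfl
  by_cases e : π i c = 1
  · exact ⟨1, 1, one_mem _, one_mem _, one_mem _, fun p hp => cy p (h.le i hp.1) ((h.πk i c cz ci).1 e p hp.1),
      Or.inl ⟨rfl, πc ▸ e, h.X_cent cz ci (X_cent_r h cz cρ ct i) e⟩⟩
  obtain ⟨a, b, h1, h2, h3, h4, h5, h6⟩ := h.basis cz ci (X_cent_r h cz cρ ct i) c3 e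
  have aQ : a ∈ Qi i := h1 ▸ subset_closure (by simp)
  have bQ : b ∈ Qi i := h1 ▸ subset_closure (by simp)
  have ac : a ∈ Cx c := mem_Cx.2 h5.symm
  have an : a ∉ zpowers z := fun e => h.z1 (by
    rw [Es.zc e (h.Qz i bQ)] at h4
    simpa using h4.symm)
  have h7 : b⁻¹ * c * b⁻¹⁻¹ * c⁻¹ = a * z⁻¹ ∨ b⁻¹ * c * b⁻¹⁻¹ * c⁻¹ = (a * z⁻¹)⁻¹ := by
    refine h6.imp (fun e => ?_) fun e => ?_
    · calc _ = b⁻¹ * (c * b * c⁻¹) := by group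
        _ = _ := by rw [e]; group
    · calc _ = b⁻¹ * c * (b * a * z⁻¹) * c⁻¹ * (c * (a * z⁻¹) * c⁻¹)⁻¹ := by group
        _ = _ := by
          rw [← e, mem_Cx'.1 (Cx_comm.1 (mul_mem ac (inv_mem (Cx_comm.1 cz))))]; group
  refine ⟨a, b⁻¹, aQ, ac, ?_, fun p hp => cy p (h.le i hp.1) ?_, Or.inr ⟨an, h2, inv_mem bQ, h7⟩⟩
  · have := cI _ (inv_mem bQ)
    rw [← mul_mem_cancel_right (inv_mem (z_Im E yN (mem_zpowers z)))]
    rcases h7 with e | e <;> rw [e] at this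
    exacts [this, inv_mem_iff.1 this]
  · rw [cmt_of (Cx_comm.1 (QA_le h aQ an ac (Cx_comm.1 cz) hp))]
    exact one_mem _

theorem Im_mono (yz : y ∈ Cx z) {i : Fin 3} (yi : τ y i = i) : Im z (Qi i) y ≤ Im z Q y := fun m hm => by
  obtain ⟨p, hp, e⟩ := (mem_Im (h.ezi i).toHz (h.norm_Qi yz yi)).1 hm
  exact (mem_Im h.hz (h.norm_Q yz)).2 ⟨p, h.le i hp, e⟩

/-- moving `y` into `C(r i)` -/
theorem good (yz : y ∈ Cx z) (hq : q ∈ Q) (cρ : q * y ∈ Cx (rho r)) (t : τ y = 1) {i : Fin 3} {K : Subgroup G}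
    (hK : K ≤ Qi i) (K1 : K ≤ Cx y) (K2 : K ≤ Cx (q * y))
    (K3 : ∀ u ∈ Qi i, K ≤ Cx u → u ∈ Im z (Qi i) y) : ∃ p ∈ Qi i, p * y * p⁻¹ ∈ Cx (r i) := by
  have yi : τ y i = i := by rw [t]; rfl
  obtain ⟨u, hu, w, hw, w1, w2, e⟩ := split h i hq
  have cr := X_cent_r h (mul_mem (h.zc hq) yz) cρ ((τ_mul_Q h hq yz).trans t) i
  have uI := K3 u hu fun k hk => by
    have k1 : q ∈ Cx k := (mul_mem_cancel_right (Cx_comm.1 (K1 hk))).1 (Cx_comm.1 (K2 hk))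
    rw [e, mul_mem_cancel_right (mem_Cx.2 (w1 k (hK hk)).symm)] at k1
    exact Cx_comm.1 k1
  obtain ⟨p, hp, v, hv, e1⟩ := Im_conj (h.ezi i).toHz (h.norm_Qi yz yi) uI
  refine ⟨p, hp, ?_⟩
  rw [e1]
  refine mul_mem (mem_Cx.2 (Es.zc hv (h.rz i)).symm) ?_
  rw [e, w1 u hu, mul_assoc, mul_mem_cancel_left w2] at cr
  exact cr

theorem good3 (hg : ∀ i, ∃ p ∈ Qi i, p * y * p⁻¹ ∈ Cx (r i)) : ∃ p ∈ Q, p * y * p⁻¹ ∈ Cx (rho r) := by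
  choose p hp e using hg
  refine ⟨p 0 * p 1 * p 2, mul_mem (mul_mem (h.le 0 (hp 0)) (h.le 1 (hp 1))) (h.le 2 (hp 2)),
    Cx_comm.1 (prod_mem fun i => Cx_comm.1 ?_)⟩
  have k : ∀ i j l : Fin 3, i ≠ j → i ≠ l → p j * p l * p i * y * (p j * p l * p i)⁻¹ ∈ Cx (r i) := fun i j l a b => by
    have := mul_mem (h.rj i j a (hp j)) (h.rj i l b (hp l))
    convert mul_mem (mul_mem this (e i)) (inv_mem this) using 1
    group
  have c := fun i j (a : i ≠ j) => h.cm i j a _ (hp i) _ (hp j)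
  fin_cases i
  · have := k 0 1 2 (by decide) (by decide)
    rwa [mul_assoc (p 1), ← c 0 2 (by decide), ← mul_assoc, ← c 0 1 (by decide)] at this
  · have := k 1 0 2 (by decide) (by decide)
    rwa [mul_assoc (p 0), ← c 1 2 (by decide), ← mul_assoc] at this
  · exact k 2 0 1 (by decide) (by decide)

/-- an element of order three that permutes the factors is conjugate into `C(ρ)` -/
theorem reduce_σ (yz : y ∈ Cx z) (y3 : y ^ 3 = 1) (t : τ y ≠ 1) : ∃ p ∈ Q, p * y * p⁻¹ ∈ Cx (rho r) := by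
  obtain ⟨q, hq, q1, q2, q3⟩ := Xdec h yz y3
  have yN := h.norm_Q yz
  have zI := z_Im h.hz yN
  have τ3 : τ y ^ 3 = 1 := by rw [← h.τ_pow yz, y3, h.τ_one]
  obtain ⟨s1, s2, -, s3⟩ := three_orbit _ t τ3 0
  have k : ∀ i, Qi i ≤ Qi 0 ⊔ Im z Q y → Qi (τ y i) ≤ Qi 0 ⊔ Im z Q y := fun i e p hp => by
    rw [← h.τa y yz] at hp
    have h1 := mem_cj.1 hp
    convert mul_mem (e h1) (mem_sup_right (cm_Im h.hz yN (inv_mem (h.le i h1)))) using 1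
    group
  obtain ⟨u, hu, m, hm, rfl⟩ := (mem_sup_of_norm fun a ha m hm => by
    simpa using mul_mem (zI (h.cmt a (h.le 0 ha) m (Im_le h.hz yN hm))) hm).1 (h.gen_le (fun i => by
      rcases s3 i with rfl | rfl | rfl
      exacts [le_sup_left, k _ le_sup_left, k _ (k _ le_sup_left)]) hq)
  obtain ⟨p, hp, w, hw, e⟩ := Im_conj h.hz yN hm
  have h1 := mul_mem hu (inv_mem (h.ZQi 0 hw))
  have h2 := cj_Q h (inv_mem hp) h1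
  have h3 : p⁻¹ * (u * w⁻¹) * p⁻¹⁻¹ ∈ zpowers z := by
    refine h.cen 0 _ h2 fun v hv => ?_
    have h4 := le_cent h s1 (h.cj_mem yz h2)
    have h5 := le_cent h s2 (h.cj_mem yz (h.cj_mem yz h2))
    rw [← zcj q3 (inv_mem (h.zc hp)), ← conj_pow] at q3
    have e1 : p⁻¹ * (u * m * y) * p⁻¹⁻¹ = p⁻¹ * (u * w⁻¹) * p⁻¹⁻¹ * y := by
      calc _ = p⁻¹ * (u * w⁻¹) * (w * (m * y)) * p := by group
        _ = _ := by rw [← e]; group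
    rw [e1] at q3
    generalize p⁻¹ * (u * w⁻¹) * p⁻¹⁻¹ = s at q3 h4 h5
    have e2 : (s * y) ^ 3 = s * (y * s * y⁻¹ * (y * (y * s * y⁻¹) * y⁻¹)) * y ^ 3 := by
      rw [pow_three, pow_three]; group
    rw [e2, y3, mul_one] at q3
    exact (mul_mem_cancel_right (mul_mem h4 h5)).1 (z_cent h q3) v hv
  rw [← zcj h3 (h.zc hp), show p * (p⁻¹ * (u * w⁻¹) * p⁻¹⁻¹) * p⁻¹ = u * w⁻¹ by group] at h3
  refine ⟨p, hp, ?_⟩
  convert mul_mem (inv_mem (zρ h h3)) q2 using 1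
  rw [e]; group

/-- the norm map of an element permuting the factors -/
theorem nrm (yz : y ∈ Cx z) (y3 : y ^ 3 = 1) (t : τ y ≠ 1) {u : G} (hu : u ∈ Qi 0) :
    ∃ n ∈ Q ⊓ Cx y, u⁻¹ * n ∈ centralizer (Qi 0 : Set G) ∧ (∃ p ∈ Q, n = p * y * p⁻¹ * y⁻¹) ∧
      (y ∈ Cx (rho r) → rho r * u * (rho r)⁻¹ = u⁻¹ → rho r * n * (rho r)⁻¹ = n⁻¹) := by
  have τ3 : τ y ^ 3 = 1 := by rw [← h.τ_pow yz, y3, h.τ_one]
  obtain ⟨s1, s2, s3, -⟩ := three_orbit _ t τ3 0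
  have h1 := h.cj_mem yz hu
  have h2 := h.cj_mem yz h1
  have e3 : y * (y * (y * u * y⁻¹) * y⁻¹) * y⁻¹ = u := by
    calc _ = y ^ 3 * u * (y ^ 3)⁻¹ := by rw [pow_three]; group
      _ = u := by rw [y3]; group
  have xi : ∀ p, y ∈ Cx (rho r) → rho r * p * (rho r)⁻¹ = p⁻¹ →
      rho r * (y * p * y⁻¹) * (rho r)⁻¹ = (y * p * y⁻¹)⁻¹ := fun p yρ e => by
    have e1 := mem_Cx'.1 (Cx_comm.1 yρ)
    calc _ = rho r * y * (rho r)⁻¹ * (rho r * p * (rho r)⁻¹) * (rho r * y * (rho r)⁻¹)⁻¹ := by group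
      _ = _ := by rw [e, e1]; group
  have x1 := xi u
  have x2 := xi (y * u * y⁻¹)
  obtain ⟨v, ev⟩ : ∃ v, v = y * u * y⁻¹ := ⟨_, rfl⟩
  rw [← ev] at h1 h2 e3 x1 x2
  obtain ⟨w, ew⟩ : ∃ w, w = y * v * y⁻¹ := ⟨_, rfl⟩
  rw [← ew] at h2 e3 x2
  have uv : Commute u v := h.cm _ _ s1.symm u hu v h1
  have uw : Commute u w := h.cm _ _ s2.symm u hu w h2
  have vw : Commute v w := h.cm _ _ s3.symm v h1 w h2
  refine ⟨u * (v * w), ⟨mul_mem (h.le _ hu) (mul_mem (h.le _ h1) (h.le _ h2)), Cx_comm.1 (mem_Cx'.2 ?_)⟩, ?_,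
    ⟨u⁻¹ * w, mul_mem (inv_mem (h.le _ hu)) (h.le _ h2), ?_⟩, fun yρ e => ?_⟩
  · calc _ = y * u * y⁻¹ * (y * v * y⁻¹) * (y * w * y⁻¹) := by group
      _ = _ := by rw [← ev, ← ew, e3, (uv.mul_right uw).eq]
  · rw [inv_mul_cancel_left]
    exact mul_mem (le_cent h s1 h1) (le_cent h s2 h2)
  · calc _ = u⁻¹ * (u⁻¹ * u ^ 3 * (v * w)) := by rw [pow_three]; group
      _ = u⁻¹ * (u⁻¹ * w * v) := by rw [h.exp u (h.le _ hu), mul_one, vw.eq, mul_assoc]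
      _ = u⁻¹ * w * (u⁻¹ * v) := by
        nth_rw 1 [uw.inv_left.eq]
        group
      _ = u⁻¹ * w * ((y * w * y⁻¹)⁻¹ * (y * u * y⁻¹)) := by rw [e3, ← ev]
      _ = _ := by group
  · calc _ = rho r * u * (rho r)⁻¹ * (rho r * v * (rho r)⁻¹ * (rho r * w * (rho r)⁻¹)) := by group
      _ = (w * v * u)⁻¹ := by rw [e, x1 yρ e, x2 yρ (x1 yρ e)]; group
      _ = _ := by rw [← vw.eq, (uv.mul_right uw).eq]

/-- the centraliser in `Q` of an element permuting the factors -/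
theorem cent_σ (yz : y ∈ Cx z) (y3 : y ^ 3 = 1) (t : τ y ≠ 1) {e : G} (he : e ∈ Q ⊓ Cx y) :
    ∃ k ∈ Q ⊓ Cx y, e * k⁻¹ ∈ zpowers z ∧ (∃ p ∈ Q, k = p * y * p⁻¹ * y⁻¹) ∧
      (y ∈ Cx (rho r) → rho r * k * (rho r)⁻¹ = k⁻¹) := by
  have τ3 : τ y ^ 3 = 1 := by rw [← h.τ_pow yz, y3, h.τ_one]
  obtain ⟨u, hu, w, hw, c1, -, e1⟩ := split h 0 he.1
  obtain ⟨v, hv, e2⟩ := rp h.z3 h.rho_sq.2 (h.Qz 0 hu) (h.rho_inv (h.le 0 hu))
  obtain ⟨k, k1, k2, k3, k4⟩ := nrm h yz y3 t (mul_mem (h.ZQi 0 hv) hu)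
  have k5 := mul_mem he (inv_mem k1)
  refine ⟨k, k1, orbit (i := 0) h yz t τ3 k5.1 (by rw [cmt_of (Cx_comm.1 k5.2)]; exact one_mem _) ?_, k3,
    fun yρ => k4 yρ e2⟩
  have k7 := mul_mem c1 (inv_mem k2)
  convert mul_mem k7 (inv_mem (z_cent h hv)) using 1
  calc _ = u * (w * ((v * u)⁻¹ * k)⁻¹) * u⁻¹ * v⁻¹ := by rw [e1]; group
    _ = _ := by rw [k7 u hu]; group

theorem card_σ (yz : y ∈ Cx z) (y3 : y ^ 3 = 1) (t : τ y ≠ 1) : 27 ≤ Nat.card (Q ⊓ Cx y : Subgroup G) := by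
  obtain ⟨a, ha, an⟩ := SetLike.not_le_iff_exists.1 (h.not_le 0)
  obtain ⟨b, hb, bn⟩ : ∃ b ∈ Qi 0, b ∉ Cx a := by
    by_contra k
    push Not at k
    exact an (h.cen 0 a ha fun y hy => mem_Cx.1 (k y hy))
  obtain ⟨m, m1, m2, -⟩ := nrm h yz y3 t ha
  obtain ⟨n, n1, n2, -⟩ := nrm h yz y3 t hb
  have P3 : IsPGroup 3 (Q ⊓ Cx y : Subgroup G) := h.hz.two.to_le inf_le_left
  have c2 := three_mul (L := Q ⊓ Cx y ⊓ Cx a) (zpowers_le.2 ⟨⟨h.z_mem, Cx_comm.1 yz⟩, Cx_comm.1 (h.Qz 0 ha)⟩)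
    (P3.to_le inf_le_left) fun e => an (h.cen 0 a ha (inv_mem_iff.1 ((mul_mem_cancel_right (z_cent h
      (e (mem_inf.2 ⟨m1, (mul_mem_cancel_left (inv_mem (mem_Cx.2 rfl))).1 (mem_Cx.2 (m2 a ha).symm)⟩)))).1 m2)))
  have c3 := three_mul (inf_le_left : Q ⊓ Cx y ⊓ Cx a ≤ _) P3
    fun e => bn (inv_mem_iff.1 ((mul_mem_cancel_right (mem_inf.1 (e n1)).2).1 (mem_Cx.2 (n2 a ha).symm)))
  rw [cardZ h.z1 h.z3] at c2
  omega

end N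

/-- a conjugate `y` of `z` in `C(z)` outside `Q` -/
structure PR (z : G) (Q : Subgroup G) (Qi : Fin 3 → Subgroup G) (r : Fin 3 → G) (π : Fin 3 → G → SL)
    (τ : G → Equiv.Perm (Fin 3)) (y : G) (R : Subgroup G) : Prop extends NH z Q Qi r π τ where
  M : MQ 3 y R
  yz : y ∈ Cx z
  yQ : y ∉ Q
  zR : z ∉ R
  wc : ∀ q, q * y * q⁻¹ ∈ R → q * y * q⁻¹ ∈ zpowers y
  th : ∀ D ≤ Cx y, (∀ u ∈ D, u ^ 3 = 1) → R.relIndex D ≤ 27
  fr : ∀ s t u v : G, s ∈ Cx y → t ∈ Cx y → s * s = 1 → t * t = 1 → s * t = t * s → u ∈ Cx y → u ^ 3 = 1 → u ∉ R →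
    v ∈ Cx y → v ^ 3 = 1 → v ∉ R → s * u * s⁻¹ = u⁻¹ → t ∈ Cx u → t * v * t⁻¹ = v⁻¹ → False

theorem back {g u : G} (e : u ∈ Cx (g * z * g⁻¹)) : g⁻¹ * u * g ∈ Cx z := by
  simpa [mul_assoc] using (conj_mem_Cx (g := g⁻¹)).2 e

theorem back_inv {g s u : G} (e : s * u * s⁻¹ = u⁻¹) :
    g⁻¹ * s * g * (g⁻¹ * u * g) * (g⁻¹ * s * g)⁻¹ = (g⁻¹ * u * g)⁻¹ := by
  calc _ = g⁻¹ * (s * u * s⁻¹) * g := by group
    _ = _ := by rw [e]; group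

theorem back_sq {g s : G} (e : s * s = 1) : g⁻¹ * s * g * (g⁻¹ * s * g) = 1 := by
  calc _ = g⁻¹ * (s * s) * g := by group
    _ = 1 := by rw [e]; group

theorem mkPR (h : NH z Q Qi r π τ) (wc : ∀ g, g * z * g⁻¹ ∈ Q → g * z * g⁻¹ ∈ zpowers z) {g : G}
    (h1 : g * z * g⁻¹ ∈ Cx z) (h2 : g * z * g⁻¹ ∉ zpowers z) : PR z Q Qi r π τ (g * z * g⁻¹) (cj g Q) := by
  refine ⟨h, (mq h).conj g, h1, fun e => h2 (wc g e), fun e => h2 ?_, fun q e => ?_, fun D hD e3 => ?_,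
    fun s t u v sz tz ss tt st uz u3 uR vz v3 vR su tu tv => ?_⟩
  · have := (conj_zp (g := g)).2 (wc g⁻¹ (by simpa using mem_cj.1 e))
    rw [show g * (g⁻¹ * z * g⁻¹⁻¹) * g⁻¹ = z by group] at this
    exact mem_of_ne (conj3 h.z3 g) this (mem_zpowers z) h.z1
  · have e1 : q * (g * z * g⁻¹) * q⁻¹ = g * (g⁻¹ * q * g * z * (g⁻¹ * q * g)⁻¹) * g⁻¹ := by group
    rw [e1] at e ⊢
    exact conj_zp.2 (wc _ (conj_mem_cj.1 e))
  · have := le27 h (D := cj g⁻¹ D) ((cj_mono g⁻¹ (hD.trans (cj_Cx g z).ge)).trans (cj_inv_cj g _).le) fun u hu => by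
      have := conj3 (e3 _ (mem_cj.1 hu)) g⁻¹
      rwa [show g⁻¹ * (g⁻¹⁻¹ * u * g⁻¹) * g⁻¹⁻¹ = u by group] at this
    rwa [← relIndex_cj g, cj_cj_inv] at this
  · refine four h (back sz) (back tz) (back_sq ss) (back_sq tt) ?_ (back uz) (by simpa using conj3 u3 g⁻¹)
      (fun e => uR (mem_cj.2 e)) (back vz) (by simpa using conj3 v3 g⁻¹) (fun e => vR (mem_cj.2 e)) (back_inv su)
      (by simpa using (conj_mem_Cx (g := g⁻¹)).2 tu) (back_inv tv)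
    calc _ = g⁻¹ * (s * t) * g := by group
      _ = _ := by rw [st]; group

/-- two factors on which `y` is not conjugate into `C(r i)` -/
def Bad (z : G) (Qi : Fin 3 → Subgroup G) (y : G) : Prop :=
  ∃ m l, m ≠ l ∧ ∃ u ∈ Im z (Qi m) y, ∃ v ∈ Im z (Qi l) y, u ∉ Cx y ∧ u * v ∈ Cx y

namespace PR

variable {y q p c e : G} {R K L : Subgroup G} (h : PR z Q Qi r π τ y R)
include h

theorem yN : y ∈ normalizer (Q : Set G) := h.norm_Q h.yz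

theorem zD : z ∈ Q ⊓ Cx y := ⟨h.z_mem, Cx_comm.1 h.yz⟩

theorem ED (h1 : e ∈ Q) (h2 : e ∈ R) (hp : p ∈ Q ⊓ Cx y) : p ∈ Cx e := cmt_one
  (eq_one_of h.z3 (h.cmt p hp.1 e h1)
    (mul_mem (conj_mem_of_mem_normalizer (h.M.nQ hp.2) h2) (inv_mem h2)) h.zR)

theorem star (hq : q ∈ Q) (e : q * y * q⁻¹ * y⁻¹ ∈ R) : q * y * q⁻¹ * y⁻¹ = 1 :=
  eq_one_of h.M.z3 (mul_mem (h.wc q ((mul_mem_cancel_right (inv_mem h.M.zQ)).1 e)) (inv_mem (mem_zpowers y)))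
    (cm_mem h.yN hq) h.yQ

theorem W3 : Nat.card (Q ⊓ cmz z y : Subgroup G) ≤ 3 * Nat.card (Q ⊓ Cx y : Subgroup G) :=
  (card_le3 (K := Q ⊓ cmz z y) h.z1 h.z3 (h.hz.two.to_le inf_le_left) fun _ e => cmt_symm e.2.2).trans
    (Nat.mul_le_mul_left 3 (card_le_of_le (inf_le_inf_right _ inf_le_left)))

theorem ImR (hn : ¬ Q ⊓ cmz z y ≤ Cx y) (h1 : e ∈ Im z Q y) (h2 : e ∈ R) : e = 1 := by
  obtain ⟨u, hu, nu⟩ := SetLike.not_le_iff_exists.1 hn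
  obtain ⟨p, hp, rfl⟩ := Im_all h.hz h.yN hu.1 hu.2.2 nu h1
  exact h.star hp h2

theorem invE (yρ : y ∈ Cx (rho r)) (h1 : e ∈ Q) (h2 : e ∈ R) : rho r * e * (rho r)⁻¹ = e⁻¹ :=
  mul_eq_one_iff_eq_inv.1 (eq_one_of h.z3 (h.rho_inv h1)
    (mul_mem (conj_mem_of_mem_normalizer (h.M.nQ (Cx_comm.1 yρ)) h2) h2) h.zR)

theorem DW : Q ⊓ Cx y ≤ Q ⊓ cmz z y := fun p hp => ⟨hp.1, h.zc hp.1, by rw [cmt_of hp.2]; exact one_mem _⟩

theorem ImW (h1 : e ∈ Im z Q y) (hp : p ∈ Q ⊓ cmz z y) : p ∈ Cx e :=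
  Cx_comm.1 (Im_perp h.hz h.yN h.yz hp.1 (cmt_symm hp.2.2) h1)

theorem E_σ (yρ : y ∈ Cx (rho r)) (t : τ y ≠ 1) (h1 : e ∈ Q) (h2 : e ∈ R) : e = 1 := by
  obtain ⟨k, k1, k6, ⟨p, hp, k3⟩, k4⟩ := cent_σ h.toNH h.yz h.M.z3 t (mem_inf.2 ⟨h1, h.M.zc h2⟩)
  have k8 := un h.z3 h.rho_sq.2 (h.zc k1.1) k6 (k4 yρ) (by rw [inv_mul_cancel_right]; exact h.invE yρ h1 h2)
  rw [mul_inv_eq_one] at k8
  rw [k8, k3] at h2 ⊢
  exact h.star hp h2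

theorem D_σ (t : τ y ≠ 1) : Q ⊓ Cx y ≤ Im z Q y := fun e he => by
  obtain ⟨k, k1, k6, ⟨p, hp, k3⟩, -⟩ := cent_σ h.toNH h.yz h.M.z3 t he
  exact (mem_Im h.hz h.yN).2 ⟨p, hp, k3 ▸ k6⟩

/-- two factors cannot both be good with vectors outside `R` -/
theorem two {i j : Fin 3} (ij : i ≠ j) {a b : G} (ha : a ∈ Qi i) (hb : b ∈ Qi j) (ay : Qi i ⊓ Cx a ≤ Cx y)
    (by' : Qi j ⊓ Cx b ≤ Cx y) (ra : r i * a * (r i)⁻¹ = a⁻¹) (rb : r j * b * (r j)⁻¹ = b⁻¹)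
    (aR : ∀ w ∈ zpowers z, w * a ∉ R) (bR : ∀ w ∈ zpowers z, w * b ∉ R)
    (gi : ∃ p ∈ Qi i, p * y * p⁻¹ ∈ Cx (r i)) (gj : ∃ p ∈ Qi j, p * y * p⁻¹ ∈ Cx (r j)) : False := by
  obtain ⟨p, hp, e1⟩ := gi
  obtain ⟨q, hq, e2⟩ := gj
  have k : ∀ {i : Fin 3} {a p : G}, a ∈ Qi i → p ∈ Qi i → Qi i ⊓ Cx a ≤ Cx y → (∀ w ∈ zpowers z, w * a ∉ R) →
      p⁻¹ * a * p ∈ Cx y ∧ (p⁻¹ * a * p) ^ 3 = 1 ∧ p⁻¹ * a * p ∉ R := fun {i a p} ha hp ay aR => by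
    have c := h.cmt _ (inv_mem (h.le i hp)) a (h.le i ha)
    have e : p⁻¹ * a * p = p⁻¹ * a * p⁻¹⁻¹ * a⁻¹ * a := by group
    refine ⟨ay (mem_inf.2 ⟨mul_mem (mul_mem (inv_mem hp) ha) hp, ?_⟩), by simpa using conj3 (h.exp a (h.le i ha)) p⁻¹,
      e ▸ aR _ c⟩
    rw [e]
    exact mul_mem (mem_Cx.2 (Es.zc c (h.Qz i ha)).symm) (mem_Cx.2 rfl)
  have k2 : ∀ {i : Fin 3} {p : G}, p * y * p⁻¹ ∈ Cx (r i) → p⁻¹ * r i * p ∈ Cx y := fun {i p} e => by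
    simpa [mul_assoc] using (conj_mem_Cx (g := p⁻¹)).2 (Cx_comm.1 e)
  obtain ⟨a1, a2, a3⟩ := k ha hp ay aR
  obtain ⟨b1, b2, b3⟩ := k hb hq by' bR
  have c1 : ∀ u ∈ Qi i, q⁻¹ * r j * q ∈ Cx u := fun u hu => by
    have := mem_Cx.2 (h.cm j i ij.symm q hq u hu)
    exact mul_mem (mul_mem (inv_mem this) (Cx_comm.1 (h.rj j i ij.symm hu))) this
  refine h.fr _ _ _ _ (k2 e1) (k2 e2) (back_sq (h.rr i)) (back_sq (h.rr j)) (mem_Cx.1 ?_) a1 a2 a3 b1 b2 b3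
    (back_inv ra) (c1 _ (mul_mem (mul_mem (inv_mem hp) ha) hp)) (back_inv rb)
  have c2 := Cx_comm.1 (c1 p hp)
  have c3 := Cx_comm.1 (h.rj i j ij hq)
  refine mul_mem (mul_mem (inv_mem c2) (Cx_comm.1 ?_)) c2
  exact mul_mem (mul_mem (inv_mem (Cx_comm.1 c3)) (mem_Cx.2 (h.rm j i))) (Cx_comm.1 c3)

theorem big (hn : ¬ Q ⊓ cmz z y ≤ Cx y) {s t : ℕ} (hD : 27 * s ≤ Nat.card (Q ⊓ Cx y : Subgroup G))
    (hA : t ≤ Nat.card (Im z Q y ⊓ (Q ⊓ cmz z y) : Subgroup G)) (st : 81 ≤ s * t) :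
    Nat.card (Q ⊓ Cx y : Subgroup G) ≤ 81 ∧
      (81 ≤ Nat.card (Q ⊓ Cx y : Subgroup G) → Im z Q y ⊓ (Q ⊓ cmz z y) ≤ Cx y) := by
  obtain ⟨A, eA⟩ : ∃ A, A = Im z Q y ⊓ (Q ⊓ cmz z y) := ⟨_, rfl⟩
  obtain ⟨E, eE⟩ : ∃ E, E = R ⊓ (Q ⊓ Cx y) := ⟨_, rfl⟩
  rw [← eA] at hA ⊢
  have c1 := card_eq_relIndex R (Q ⊓ Cx y)
  have c2 := h.th (Q ⊓ Cx y) inf_le_right fun u hu => h.exp u hu.1
  rw [← eE] at c1
  have c3 : s ≤ Nat.card E := by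
    have := Nat.mul_le_mul_left (Nat.card E) c2
    omega
  have A1 : ∀ u ∈ A, u ∈ Im z Q y ∧ u ∈ Q ⊓ cmz z y := fun u hu => by rw [eA] at hu; exact hu
  have E1 : ∀ u ∈ E, u ∈ R ∧ u ∈ Q ⊓ Cx y := fun u hu => by rw [eE] at hu; exact hu
  have BD : ∀ p ∈ Q ⊓ Cx y, E ⊔ A ≤ Cx p := fun p hp => sup_le
    (fun u hu => Cx_comm.1 (h.ED (E1 u hu).2.1 (E1 u hu).1 hp)) fun u hu => Cx_comm.1 (h.ImW (A1 u hu).1 (h.DW hp))
  have BQ : E ⊔ A ≤ Q := sup_le (fun u hu => (E1 u hu).2.1) fun u hu => (A1 u hu).2.1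
  have Bc : ∀ u ∈ E ⊔ A, ∀ v ∈ E ⊔ A, u * v = v * u := fun u hu v hv => mem_Cx.1 (Cx_comm.1
    ((sup_le (fun p hp => Cx_comm.1 (BD p (E1 p hp).2 hu)) fun p hp => Cx_comm.1
      ((sup_le (fun w hw => h.ImW (A1 p hp).1 (h.DW (E1 w hw).2)) fun w hw => h.ImW (A1 p hp).1 (A1 w hw).2 :
        E ⊔ A ≤ Cx p) hu) : E ⊔ A ≤ Cx u) hv))
  have c4 := card_eq_relIndex' (le_sup_left : E ≤ E ⊔ A)
  have c5 := card_eq_relIndex E A
  rw [(eq_bot_iff_forall (E ⊓ A)).2 fun x hx => h.ImR hn (A1 x hx.2).1 (E1 x hx.1).1, card_bot, one_mul] at c5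
  have c6 : E.relIndex A ≤ E.relIndex (E ⊔ A) := relIndex_le_of_le_right le_sup_right (relIndex_ne _ _)
  have c7 : 3 ^ (3 + 1) ≤ Nat.card (E ⊔ A : Subgroup G) := by
    have := Nat.mul_le_mul c3 (hA.trans (c5.le.trans c6))
    omega
  have DB : Q ⊓ Cx y ≤ E ⊔ A := fun p hp => (mq h.toNH).max BQ Bc c7 hp.1 (BD p hp)
  have c8 := h.abel_le BQ Bc
  refine ⟨(card_le_of_le DB).trans c8, fun k => ?_⟩
  exact le_sup_right.trans ((eq_of_le_of_card_ge DB (c8.trans k)).ge.trans inf_le_right)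

/-- the case of a trivial action on the factors -/
theorem base (t : τ y = 1) : (∃ p ∈ Q, p * y * p⁻¹ ∈ Cx (rho r)) ∨
    ((∀ e ∈ Q, e ∈ R → e = 1) ∧ Q ⊓ Cx y ≤ Im z Q y ∧ 27 ≤ Nat.card (Q ⊓ Cx y : Subgroup G) ∧ Bad z Qi y) := by
  obtain ⟨q, hq, q1, q2, q3⟩ := Xdec h.toNH h.yz h.M.z3
  choose a b aQ ac aI aW A using coord h.toNH h.yz hq q2 q3 t
  have yi : ∀ i, τ y i = i := fun i => by rw [t]; rfl
  have aI' : ∀ i, a i ∈ Im z Q y := fun i => Im_mono h.toNH h.yz (yi i) (aI i)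
  have zI := fun i => z_Im (h.ezi i).toHz (h.norm_Qi h.yz (yi i))
  have aW' : ∀ i, a i ∈ Q ⊓ cmz z y := fun i => ⟨h.le i (aQ i), aW i ⟨aQ i, mem_Cx.2 rfl⟩⟩
  have gd : ∀ i, a i ∉ zpowers z → a i ∈ Cx y → ∃ p ∈ Qi i, p * y * p⁻¹ ∈ Cx (r i) := fun i an ay =>
    good h.toNH h.yz hq q2 t (K := zpowers (a i)) (zpowers_le.2 (aQ i)) (zpowers_le.2 ay) (zpowers_le.2 (ac i))
      fun u hu e => QA_le h.toNH (aQ i) an (aI i) (zI i (mem_zpowers z)) ⟨hu, Cx_comm.1 (e (mem_zpowers _))⟩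
  have o : ∀ {i p}, a i = 1 → p ∈ Cx (a i) := fun e => mem_Cx.2 (by rw [e, mul_one, one_mul])
  by_cases WD : Q ⊓ cmz z y ≤ Cx y
  · refine Or.inl (good3 h.toNH fun i => ?_)
    rcases A i with ⟨e, -, e2⟩ | e
    · exact good h.toNH h.yz hq q2 t le_rfl (fun p hp => WD ⟨h.le i hp, aW i ⟨hp, o e⟩⟩) e2
        fun u hu k => zI i (h.cen i u hu fun v hv => mem_Cx.1 (k hv))
    · exact gd i e.1 (WD (aW' i))
  right
  have W0 : ∀ p ∈ Q, (∀ i, p ∈ Cx (a i)) → p ∈ Q ⊓ cmz z y := fun p hp e => ⟨hp, FT.CA h.toNH aQ aW hp e⟩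
  have c0 := h.card
  have c2 := h.W3
  have c3 := fun i => card_le3' h.hz le_rfl (h.le i (aQ i))
  have c4 := fun i j => card_le3' h.hz (inf_le_left : Q ⊓ Cx (a i) ≤ Q) (h.le j (aQ j))
  have zA : z ∈ Im z Q y ⊓ (Q ⊓ cmz z y) := ⟨z_Im h.hz h.yN (mem_zpowers z), h.DW h.zD⟩
  have aA : ∀ i, a i ∈ Im z Q y ⊓ (Q ⊓ cmz z y) := fun i => ⟨aI' i, aW' i⟩
  have A3 : IsPGroup 3 (Im z Q y ⊓ (Q ⊓ cmz z y) : Subgroup G) := h.hz.two.to_le (inf_le_right.trans inf_le_left)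
  have cZ := cardZ h.z1 h.z3
  have aR : ∀ i, a i ∉ zpowers z → ∀ w ∈ zpowers z, w * a i ∉ R := fun i an w hw e => an (by
    have := h.ImR WD (mul_mem (z_Im h.hz h.yN hw) (aI' i)) e
    rw [mul_eq_one_iff_inv_eq] at this
    exact this ▸ inv_mem hw)
  have tw : ∀ i j, i ≠ j → a i ∉ zpowers z → a j ∉ zpowers z → a i ∈ Cx y → a j ∈ Cx y → False :=
    fun i j ij ai aj yi yj => h.two ij (aQ i) (aQ j) (QA_le h.toNH (aQ i) ai yi h.zD.2)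
      (QA_le h.toNH (aQ j) aj yj h.zD.2) ((A i).resolve_left fun e => ai (e.1 ▸ one_mem _)).2.1
      ((A j).resolve_left fun e => aj (e.1 ▸ one_mem _)).2.1 (aR i ai) (aR j aj) (gd i ai yi) (gd j aj yj)
  have n1 : ∀ i, ¬ ∀ l, l ≠ i → a l = 1 := fun i e => by
    have := card_le_of_le (show Q ⊓ Cx (a i) ≤ _ from fun p hp => W0 p hp.1 fun l => by
      by_cases k : l = i
      exacts [k ▸ hp.2, o (e l k)])
    have := c3 i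
    have an : a i ∉ zpowers z := fun k => h.yQ (h.mem_Q h.yz t fun l => by
      refine ((A l).resolve_right fun k' => k'.1 ?_).2.1
      by_cases k2 : l = i
      exacts [k2 ▸ k, e l k2 ▸ one_mem _])
    have c5 := three_mul (zpowers_le.2 zA) A3 fun k => an (k (aA i))
    have := (h.big WD (s := 9) (t := 9) (by omega) (by omega) (by omega)).1
    omega
  have n2 : ∀ k, a k ∉ zpowers z := fun k e => by
    have e : a k = 1 := ((A k).resolve_right fun k' => k'.1 e).1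
    obtain ⟨i, j, ij, ik, jk, hl⟩ := F2x.others k
    have ai : a i ∉ zpowers z := ((A i).resolve_left fun e' => n1 j fun l lj => by
      rcases hl l with rfl | rfl | rfl
      exacts [e'.1, absurd rfl lj, e]).1
    have aj : a j ∉ zpowers z := ((A j).resolve_left fun e' => n1 i fun l li => by
      rcases hl l with rfl | rfl | rfl
      exacts [absurd rfl li, e'.1, e]).1
    have c5 := card_le_of_le (show Q ⊓ Cx (a i) ⊓ Cx (a j) ≤ _ from fun p hp => W0 p hp.1.1 fun l => by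
      rcases hl l with rfl | rfl | rfl
      exacts [hp.1.2, hp.2, o e])
    have := c3 i
    have := c4 i j
    have c6 := three_mul (L := Im z Q y ⊓ (Q ⊓ cmz z y) ⊓ Qi i) (zpowers_le.2 ⟨zA, h.zQ i⟩) (A3.to_le inf_le_left)
      fun k => ai (k (mem_inf.2 ⟨aA i, aQ i⟩))
    have c7 := three_mul (inf_le_left : Im z Q y ⊓ (Q ⊓ cmz z y) ⊓ Qi i ≤ _) A3
      fun k => aj (h.inf_le ij (k (aA j)).2 (aQ j))
    have := (h.big WD (s := 3) (t := 27) (by omega) (by omega) (by omega)).2 (by omega)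
    exact tw i j ij ai aj (this (aA i)) (this (aA j))
  have DI : Q ⊓ Cx y ≤ Im z Q y := fun e he => FT.CA h.toNH aQ (fun i => QA_le h.toNH (aQ i) (n2 i) (aI' i)
    (z_Im h.hz h.yN (mem_zpowers z))) he.1 fun i => h.ImW (aI' i) (h.DW he)
  refine ⟨fun e h1 h2 => h.ImR WD (DI ⟨h1, h.M.zc h2⟩) h2, DI, ?_, ?_⟩
  · have := card_le3' h.hz (inf_le_left.trans inf_le_left : Q ⊓ Cx (a 0) ⊓ Cx (a 1) ≤ Q) (h.le 2 (aQ 2))
    have := card_le_of_le (show Q ⊓ Cx (a 0) ⊓ Cx (a 1) ⊓ Cx (a 2) ≤ _ from fun p hp => W0 p hp.1.1.1 fun l => by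
      fin_cases l
      exacts [hp.1.1.2, hp.1.2, hp.2])
    have := c3 0
    have := c4 0 1
    omega
  obtain ⟨m, l, ml, hm, hl⟩ : ∃ m l, m ≠ l ∧ a m ∉ Cx y ∧ a l ∉ Cx y := by
    by_cases k0 : a 0 ∈ Cx y
    · exact ⟨1, 2, by decide, tw 0 1 (by decide) (n2 0) (n2 1) k0, tw 0 2 (by decide) (n2 0) (n2 2) k0⟩
    by_cases k1 : a 1 ∈ Cx y
    · exact ⟨0, 2, by decide, k0, tw 1 2 (by decide) (n2 1) (n2 2) k1⟩
    · exact ⟨0, 1, by decide, k0, k1⟩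
  have f : ∀ i, a i ∉ Cx y → a i * y * (a i)⁻¹ * y⁻¹ = z ∨ a i * y * (a i)⁻¹ * y⁻¹ = z⁻¹ := fun i k =>
    (three_cases h.z3 (aW' i).2.2).resolve_left fun e => k (cmt_one e)
  have g1 : ∀ {w}, w ∈ zpowers z → a m * y * (a m)⁻¹ * y⁻¹ = w → a l * y * (a l)⁻¹ * y⁻¹ = w⁻¹ →
      a m * a l ∈ Cx y := fun {w} hw e1 e2 => cmt_one (by
    calc _ = a m * (a l * y * (a l)⁻¹ * y⁻¹) * (a m)⁻¹ * (a m * y * (a m)⁻¹ * y⁻¹) := by group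
      _ = 1 := by rw [e1, e2, zcj (inv_mem hw) (h.Qz m (aQ m)), inv_mul_cancel])
  have g2 : ∀ {w}, w ∈ zpowers z → a m * y * (a m)⁻¹ * y⁻¹ = w → a l * y * (a l)⁻¹ * y⁻¹ = w →
      a m * (a l)⁻¹ ∈ Cx y := fun {w} hw e1 e2 => cmt_one (by
    calc _ = a m * (a l)⁻¹ * (a l * y * (a l)⁻¹ * y⁻¹)⁻¹ * (a m * (a l)⁻¹)⁻¹ * (a m * y * (a m)⁻¹ * y⁻¹) := by group
      _ = 1 := by
        rw [e1, e2, zcj (inv_mem hw) (mul_mem (h.Qz m (aQ m)) (inv_mem (h.Qz l (aQ l)))), inv_mul_cancel])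
  have z1 := mem_zpowers z
  rcases f m hm with e1 | e1 <;> rcases f l hl with e2 | e2
  · exact ⟨m, l, ml, _, aI m, _, inv_mem (aI l), hm, g2 z1 e1 e2⟩
  · exact ⟨m, l, ml, _, aI m, _, aI l, hm, g1 z1 e1 e2⟩
  · exact ⟨m, l, ml, _, aI m, _, aI l, hm, g1 (inv_mem z1) e1 (by rw [e2, inv_inv])⟩
  · exact ⟨m, l, ml, _, aI m, _, inv_mem (aI l), hm, g2 (inv_mem z1) e1 e2⟩

theorem X2 (yρ : y ∈ Cx (rho r)) (t : τ y = 1) :
    (∃ a ∈ Cx y, a ∉ R ∧ a ^ 3 = 1 ∧ rho r * a * (rho r)⁻¹ = a⁻¹) ∧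
      ∃ k l, k ≠ l ∧ ∃ u ∈ Qi k, u ∉ zpowers z ∧ u ∈ R ∧ ∃ v ∈ Qi l, v ∉ zpowers z ∧ v ∈ R := by
  choose a b aQ ac aI aW A using coord h.toNH h.yz (one_mem _) (by rwa [one_mul])
    (by rw [one_mul, h.M.z3]; exact one_mem _) t
  simp only [one_mul] at A ac
  have yr := X_cent_r h.toNH h.yz yρ t
  have C : ∀ i, ∃ c ∈ Qi i, c ∉ zpowers z ∧ c ∈ Cx y ∧ r i * c * (r i)⁻¹ = c⁻¹ ∧ (c ∉ R ∨ c = a i) := fun i => by
    rcases A i with ⟨-, -, e⟩ | e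
    · obtain ⟨u, hu, un⟩ := SetLike.not_le_iff_exists.1 (h.not_le i)
      obtain ⟨w, hw, e2⟩ := rp h.z3 (h.rz i) (h.Qz i hu) (h.ri i u hu)
      have k := mul_mem (h.ZQi i hw) hu
      have kn : w * u ∉ zpowers z := fun k' => un ((mul_mem_cancel_left hw).1 k')
      exact ⟨_, k, kn, e k, e2, Or.inl fun k' => kn (h.cen i _ k fun v hv =>
        mem_Cx.1 (h.ED (h.le i k) k' ⟨h.le i hv, e hv⟩))⟩
    · exact ⟨_, aQ i, e.1, ac i, e.2.1, Or.inr rfl⟩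
  choose c cQ cn cy rc cR using C
  have c3 := fun i => h.exp _ (h.le i (cQ i))
  have two : ∀ i j, i ≠ j → c i ∉ R → c j ∈ R := fun i j ij hi => by
    by_contra hj
    exact h.fr _ _ _ _ (Cx_comm.1 (yr i)) (Cx_comm.1 (yr j)) (h.rr i) (h.rr j) (h.rm i j) (cy i) (c3 i) hi (cy j)
      (c3 j) hj (rc i) (Cx_comm.1 (h.rj j i ij.symm (cQ i))) (rc j)
  obtain ⟨m, hm⟩ : ∃ m, c m ∉ R := by
    by_contra k
    push Not at k
    have ca : ∀ i, c i = a i := fun i => (cR i).resolve_left fun e => e (k i)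
    have an : ∀ i, a i ∉ zpowers z := fun i => ca i ▸ cn i
    have A' := fun i => (A i).resolve_left fun e => an i (e.1 ▸ one_mem _)
    have bQ := fun i => (A' i).2.2.1
    replace k : ∀ i, a i ∈ R := fun i => ca i ▸ k i
    obtain ⟨γ, hγ⟩ : ∃ γ : Fin 3 → G, ∀ i, γ i = b i * y * (b i)⁻¹ * y⁻¹ := ⟨_, fun _ => rfl⟩
    have B : ∀ i, γ i = a i * z⁻¹ ∨ γ i = (a i * z⁻¹)⁻¹ := fun i => hγ i ▸ (A' i).2.2.2
    have γQ : ∀ i, γ i ∈ Qi i := fun i => by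
      have := mul_mem (aQ i) (inv_mem (h.zQ i))
      rcases B i with e | e <;> rw [e]
      exacts [this, inv_mem this]
    have γn : ∀ i, γ i ∉ centralizer (Qi i : Set G) := fun i e => by
      have := h.cen i _ (γQ i) e
      refine an i ((mul_mem_cancel_right (inv_mem (mem_zpowers z))).1 ?_)
      rcases B i with e | e <;> rw [e] at this
      exacts [this, inv_mem_iff.1 this]
    have c : ∀ i, γ i * z ∈ R ∨ γ i * z⁻¹ ∈ R := fun i => (B i).imp (fun e => by simpa [e] using k i) fun e => by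
      rw [e, mul_inv_rev, inv_inv, mem_Cx'.1 (Cx_comm.1 (inv_mem (h.Qz i (aQ i))))]
      exact inv_mem (k i)
    have p2 : ∀ i j, i ≠ j → γ j * γ i = b i * b j * y * (b i * b j)⁻¹ * y⁻¹ := fun i j ij => by
      calc _ = b i * γ j * (b i)⁻¹ * γ i := by rw [h.cm i j ij _ (bQ i) _ (γQ j), mul_inv_cancel_right]
        _ = _ := by rw [hγ, hγ]; group
    have cz : ∀ i, Commute (γ i) z := fun i => mem_Cx.1 (h.Qz i (γQ i))
    have n2 : ∀ i j, γ j * z ∈ R → γ i * z⁻¹ ∈ R → False := fun i j e1 e2 => by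
      have ij : i ≠ j := fun e => h.zR (of_sq h.z3 (by simpa [e, mul_assoc] using mul_mem (inv_mem e2) e1))
      have := mul_mem e1 e2
      rw [mul_assoc, ← mul_assoc z, ← (cz i).eq, mul_inv_cancel_right, p2 i j ij] at this
      have := h.star (mul_mem (h.le i (bQ i)) (h.le j (bQ j))) this
      rw [← p2 i j ij, mul_eq_one_iff_eq_inv] at this
      exact γn j (this ▸ inv_mem (le_cent h.toNH ij (γQ i)))
    have n3 : γ 2 * (γ 1 * γ 0) ∉ R := fun e => by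
      have e1 : γ 2 * (γ 1 * γ 0) = b 0 * b 1 * b 2 * y * (b 0 * b 1 * b 2)⁻¹ * y⁻¹ := by
        calc _ = b 0 * b 1 * γ 2 * (b 0 * b 1)⁻¹ * (γ 1 * γ 0) := by
              rw [← mul_mem (le_cent h.toNH (by decide) (bQ 0)) (le_cent h.toNH (by decide) (bQ 1)) _ (γQ 2),
                mul_inv_cancel_right]
          _ = _ := by rw [p2 0 1 (by decide), hγ]; group
      have := h.star (mul_mem (mul_mem (h.le 0 (bQ 0)) (h.le 1 (bQ 1))) (h.le 2 (bQ 2))) (e1 ▸ e)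
      rw [← e1, mul_eq_one_iff_eq_inv] at this
      exact γn 2 (this ▸ inv_mem (mul_mem (le_cent h.toNH (by decide) (γQ 1)) (le_cent h.toNH (by decide) (γQ 0))))
    have n4 : ∀ w ∈ zpowers z, ¬ ∀ i, γ i * w ∈ R := fun w hw e => n3 (by
      have k : ∀ i u, w * (γ i * u) = γ i * (w * u) := fun i u => by
        rw [← mul_assoc, ← Es.zc hw (h.Qz i (γQ i)), mul_assoc]
      convert mul_mem (e 2) (mul_mem (e 1) (e 0)) using 1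
      simp only [mul_assoc, k]
      rw [← pow_three, zcube h.z3 hw, mul_one])
    rcases c 0 with e | e
    · exact n4 z (mem_zpowers z) fun i => (c i).resolve_right (n2 i 0 e)
    · exact n4 z⁻¹ (inv_mem (mem_zpowers z)) fun i => (c i).resolve_left fun e' => n2 0 i e' e
  obtain ⟨i, j, ij, im, jm, -⟩ := F2x.others m
  exact ⟨⟨c m, cy m, hm, c3 m, rho_a h.toNH (cQ m) (rc m)⟩, i, j, ij, c i, cQ i, cn i, two m i im.symm hm, c j, cQ j,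
    cn j, two m j jm.symm hm⟩

end PR

/-- `Q ∩ Q^g ≠ 1` -/
def En (Q : Subgroup G) (g : G) : Prop := ∃ e ∈ Q, e ∈ cj g Q ∧ e ≠ 1

theorem En.inv {g : G} : En Q g → En Q g⁻¹ := fun ⟨e, h1, h2, h3⟩ =>
  ⟨_, mem_cj.1 h2, by simpa using (conj_mem_cj (g := g⁻¹)).2 h1, fun k => h3 (by
    calc e = g * (g⁻¹ * e * g) * g⁻¹ := by group
      _ = 1 := by rw [k]; group)⟩

theorem En.mul {g p : G} (hp : p ∈ Q) : En Q g → En Q (p * g) := fun ⟨e, h1, h2, h3⟩ =>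
  ⟨p * e * p⁻¹, mul_mem (mul_mem hp h1) (inv_mem hp), mem_cj.2 (by
    convert mem_cj.1 h2 using 1
    group), by simpa using h3⟩

variable (h : NH z Q Qi r π τ) (wc : ∀ g, g * z * g⁻¹ ∈ Q → g * z * g⁻¹ ∈ zpowers z) {g p : G}
include h

theorem shift (hp : p ∈ Q) (h1 : g * z * g⁻¹ ∈ Cx z) (h2 : g * z * g⁻¹ ∉ zpowers z) :
    p * g * z * (p * g)⁻¹ = p * (g * z * g⁻¹) * p⁻¹ ∧ p * g * z * (p * g)⁻¹ ∈ Cx z ∧
      p * g * z * (p * g)⁻¹ ∉ zpowers z ∧ τ (p * g * z * (p * g)⁻¹) = τ (g * z * g⁻¹) := by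
  rw [show p * g * z * (p * g)⁻¹ = p * (g * z * g⁻¹) * p⁻¹ by group]
  refine ⟨rfl, mul_mem (mul_mem (h.zc hp) h1) (inv_mem (h.zc hp)), fun k => h2 ?_, ?_⟩
  · exact (conj_zp (g := p)).1 (by rwa [mem_Cx'.1 (h.zc hp)])
  · rw [h.τm _ (mul_mem (h.zc hp) h1) _ (inv_mem (h.zc hp)), τ_mul_Q h hp h1, h.τ_Q (inv_mem hp), mul_one]

include wc

theorem rev (h1 : g * z * g⁻¹ ∈ Cx z) (h2 : g * z * g⁻¹ ∉ zpowers z) :
    g⁻¹ * z * g⁻¹⁻¹ ∈ Cx z ∧ g⁻¹ * z * g⁻¹⁻¹ ∉ zpowers z :=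
  ⟨by simpa using back (Cx_comm.1 h1), fun e => (mkPR h wc h1 h2).zR (mem_cj.2 (by simpa using h.hz.ZP e))⟩

theorem types (h1 : g * z * g⁻¹ ∈ Cx z) (h2 : g * z * g⁻¹ ∉ zpowers z) :
    (En Q g ∧ ∃ p ∈ Q, p * g * z * (p * g)⁻¹ ∈ Cx (rho r) ∧ τ (p * g * z * (p * g)⁻¹) = 1) ∨
    (¬ En Q g ∧ Q ⊓ Cx (g * z * g⁻¹) ≤ Im z Q (g * z * g⁻¹) ∧
      27 ≤ Nat.card (Q ⊓ Cx (g * z * g⁻¹) : Subgroup G) ∧ (τ (g * z * g⁻¹) = 1 → Bad z Qi (g * z * g⁻¹))) := by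
  have H := mkPR h wc h1 h2
  by_cases t : τ (g * z * g⁻¹) = 1
  · rcases H.base t with ⟨p, hp, e⟩ | ⟨e1, e2, e3, e4⟩
    · obtain ⟨k0, k1, k2, k3⟩ := shift h hp h1 h2
      rw [← k0] at e
      obtain ⟨-, k, l, -, u, u1, u2, u3, -⟩ := (mkPR h wc k1 k2).X2 e (k3.trans t)
      refine Or.inl ⟨?_, p, hp, e, k3.trans t⟩
      simpa using En.mul (inv_mem hp) ⟨u, h.le k u1, u3, fun k => u2 (k ▸ one_mem _)⟩
    · exact Or.inr ⟨fun ⟨e, a1, a2, a3⟩ => a3 (e1 e a1 a2), e2, e3, fun _ => e4⟩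
  · obtain ⟨p, hp, e⟩ := reduce_σ h h1 H.M.z3 t
    obtain ⟨k0, k1, k2, k3⟩ := shift h hp h1 h2
    rw [← k0] at e
    refine Or.inr ⟨fun k => ?_, H.D_σ t, card_σ h h1 H.M.z3 t, fun k => absurd k t⟩
    obtain ⟨u, u1, u2, u3⟩ := k.mul hp
    exact u3 ((mkPR h wc k1 k2).E_σ e (k3 ▸ t) u1 u2)

theorem caseII (h1 : g * z * g⁻¹ ∈ Cx z) (h2 : g * z * g⁻¹ ∉ zpowers z) (h3 : g * z * g⁻¹ ∈ Cx (rho r))
    (h4 : τ (g * z * g⁻¹) = 1) (hE : En Q g) : False := by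
  have H := mkPR h wc h1 h2
  obtain ⟨a, a1, a2, a3, a4⟩ := (H.X2 h3 h4).1
  have tz := back (Cx_comm.1 h3)
  refine h.τ_ne tz (back_sq h.rho_sq.1) (back a1) (by simpa using conj3 a3 g⁻¹) (fun e => a2 (mem_cj.2 e))
    (back_inv a4) ?_
  obtain ⟨r1, r2⟩ := rev h wc h1 h2
  obtain ⟨-, p, hp, k3, k4⟩ := (types h wc r1 r2).resolve_right fun k => k.1 hE.inv
  obtain ⟨-, k1, k2, -⟩ := shift h hp r1 r2
  obtain ⟨k, l, kl, u, u1, u2, u3, v, v1, v2, v3⟩ := ((mkPR h wc k1 k2).X2 k3 k4).2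
  have f : ∀ k, ∀ u ∈ Qi k, u ∉ zpowers z → u ∈ cj (p * g⁻¹) Q → τ (g⁻¹ * rho r * g) k = k := fun k u u1 u2 u3 => by
    by_contra e
    have w1 := cj_Q h (inv_mem hp) u1
    have := back_inv (g := g) (H.invE h3 (e := g * (p⁻¹ * u * p⁻¹⁻¹) * g⁻¹) (by
      convert mem_cj.1 u3 using 1
      group) (conj_mem_cj.2 (h.le k w1)))
    rw [show g⁻¹ * (g * (p⁻¹ * u * p⁻¹⁻¹) * g⁻¹) * g = p⁻¹ * u * p⁻¹⁻¹ by group] at this
    have w2 := inv_mem_iff.1 (h.inf_le e (this ▸ h.cj_mem tz w1) (inv_mem w1))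
    exact u2 ((conj_zp (g := p⁻¹)).1 (by rwa [mem_Cx'.1 (inv_mem (h.zc hp))]))
  exact F2x.fix_two _ k l kl (f k u u1 u2 u3) (f l v v1 v2 v3)

theorem caseI (h1 : g * z * g⁻¹ ∈ Cx z) (h2 : g * z * g⁻¹ ∉ zpowers z) (hE : ¬ En Q g) : False := by
  have H := mkPR h wc h1 h2
  obtain ⟨r1, r2⟩ := rev h wc h1 h2
  have H' := mkPR h wc r1 r2
  obtain ⟨-, -, -, bad⟩ := (types h wc h1 h2).resolve_left fun k => hE k.1
  obtain ⟨-, d1, d2, -⟩ := (types h wc r1 r2).resolve_left fun k => hE (by simpa using k.1.inv)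
  have E1 : ∀ e ∈ Q, e ∈ cj g Q → e = 1 := fun e a b => by
    by_contra k
    exact hE ⟨e, a, b, k⟩
  have eD : cj g (Q ⊓ Cx (g⁻¹ * z * g⁻¹⁻¹)) = cj g Q ⊓ Cx z := by
    rw [cj_inf, cj_Cx, show g * (g⁻¹ * z * g⁻¹⁻¹) * g⁻¹ = z by group]
  have Dc : ∀ u ∈ cj g Q ⊓ Cx z, ∀ v ∈ cj g Q ⊓ Cx z, u * v = v * u := fun u hu v hv => by
    rw [← eD] at hu hv
    have := mem_Cx.1 (H'.ImW (d1 (mem_cj.1 hv)) (H'.DW (mem_cj.1 hu)))
    calc u * v = g * (g⁻¹ * u * g * (g⁻¹ * v * g)) * g⁻¹ := by group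
      _ = _ := by rw [this]; group
  rw [← card_cj g, eD] at d2
  generalize g * z * g⁻¹ = y at *
  generalize cj g Q = R at *
  have e3 : ∀ u ∈ R ⊓ Cx z, u ^ 3 = 1 := fun u hu => H.M.exp u hu.1
  have n9 : ¬ Q.relIndex (R ⊓ Cx z) ≤ 9 := fun k => by
    rw [card_eq_relIndex Q, (eq_bot_iff_forall (Q ⊓ (R ⊓ Cx z))).2 fun x hx => E1 x hx.1 hx.2.1, card_bot] at d2
    omega
  have D0 := ab_le h inf_le_right e3 (fun u hu v hv => by rw [Dc u hu v hv]; simp) n9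
  have yD : y ∈ R ⊓ Cx z := ⟨H.M.zQ, h1⟩
  have t := (h.mem_H0.1 (D0 yD)).2
  obtain ⟨m, l, ml, u, hu, v, hv, un, uv⟩ := bad t
  obtain ⟨e, he, e1, e2⟩ := single h D0 (p3 e3) n9 m
  have fix : ∀ f ∈ R ⊓ Cx z, ∀ i, π i f = 1 → Im z (Qi i) y ≤ Cx f := fun f hf i k =>
    cent_Im h hf.2 (by rw [(h.mem_H0.1 (D0 hf)).2]; rfl) k h1 (by rw [t]; rfl) (H.M.zc hf.1)
  have yi : ∀ i, τ y i = i := fun i => by rw [t]; rfl
  have uQ := Im_le h.hz H.yN (Im_mono h h1 (yi m) hu)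
  have vQ := Im_le h.hz H.yN (Im_mono h h1 (yi l) hv)
  have c1 : u * v ∈ Cx e := cmt_one (E1 _ (cm_mem (h.norm_Q he.2) (mul_mem uQ vQ))
    (mul_mem (conj_mem_of_mem_normalizer (H.M.nQ uv) he.1) (inv_mem he.1)))
  have c2 : e ∈ Cx u := Cx_comm.1 ((mul_mem_cancel_right (fix e he l (e2 l ml.symm) hv)).1 c1)
  have s1 := h.H0_le m (D0 he)
  have s2 := h.H0_le m (D0 yD)
  obtain ⟨k, hk⟩ := (by decide +kernel : ∀ a b : SL, a ^ 3 = 1 → b ^ 3 = 1 → a ≠ 1 → b * a = a * b →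
    ∃ k : Fin 3, b * a ^ k.1 = 1) (π m e) (π m y) (by rw [← h.π_pow s1, e3 e he, h.π_one])
    (by rw [← h.π_pow s2, H.M.z3, h.π_one]) e1 (by rw [← h.π_mul s2 s1, ← h.π_mul s1 s2, Dc y yD e he])
  rw [← h.π_pow s1, ← h.π_mul s2 (pow_mem s1 _)] at hk
  exact un (Cx_comm.1 ((mul_mem_cancel_right (pow_mem c2 k.1)).1
    (Cx_comm.1 (fix _ (mul_mem yD (pow_mem he _)) m hk hu))))

end F2y

open F2y in
/-- `⟨z⟩` is not weakly closed in `Q` -/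
theorem exists_in_Q (h : NH z Q Qi r π τ) (nw : NW z) : ∃ g, g * z * g⁻¹ ∈ Q ∧ g * z * g⁻¹ ∉ zpowers z := by
  by_contra wc
  push Not at wc
  obtain ⟨g, h1, h2⟩ := nw
  rcases types h wc h1 h2 with ⟨e, p, hp, k3, k4⟩ | e
  · obtain ⟨-, k1, k2, -⟩ := shift h hp h1 h2
    exact caseII h wc k1 k2 k3 k4 (e.mul hp)
  · exact caseI h wc h1 h2 e.1

theorem EH.exists_in_Q (h : EH z Q Qi r π τ) (nw : NW z) : ∃ g, g * z * g⁻¹ ∈ Q ∧ g * z * g⁻¹ ∉ zpowers z :=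
  Rec3E.exists_in_Q h.toNH nw

end CfsgLib.Rec3E
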