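import Cfsg.Agent.Lib.Rec3E.E6b

/-! A conjugate of `t` in `E` (plans/REC3E.md, HW). -/

set_option autoImplicit false
set_option maxRecDepth 100000
set_option maxHeartbeats 400000

namespace CfsgLib.Rec3E

open Subgroup Cfsg CfsgLib.Tech CfsgLib.PComp CfsgLib.W2 CfsgLib.Rec3 CfsgLib.Rec3B CfsgLib.Rec3B.W4
open CfsgLib.U43 (SL)

variable {G : Type*} [Group G] [Finite G]
variable {z x σ : G} {Q : Subgroup G} {Qi : Fin 3 → Subgroup G} {r a b : Fin 3 → G} {π : Fin 3 → G → SL}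
  {τ : G → Equiv.Perm (Fin 3)} {i j k : Fin 3} {φ : W4 →* G}

namespace HWx

set_option linter.unusedSectionVars false

/-- `q q^s` -/
def vv (s q : G) : G := q * (s * q * s⁻¹)

section vv

variable {s t d q q' : G} {R : Subgroup G}

theorem vv_mul (c : q' * (s * q * s⁻¹) = s * q * s⁻¹ * q') : vv s (q * q') = vv s q * vv s q' := by
  rw [vv, vv, vv, ← conj_mul, mul_assoc, ← mul_assoc q', c]
  group

theorem vv_conj (ds : d ∈ Cx s) : d * vv s q * d⁻¹ = vv s (d * q * d⁻¹) := by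
  rw [vv, vv, ← conj_mul, show s * (d * q * d⁻¹) * s⁻¹ = s * d * q * (s * d)⁻¹ by group, ← mem_Cx.1 ds]
  group

theorem vv_t (q8 : Q8 t R) (st : s ∈ Cx t) (hq : q ∈ zpowers t) : vv s q = 1 := by
  rw [vv, comm_of_mem_zpowers' st hq, mul_inv_cancel_right]
  rcases (CPx.mem_zp q8).1 hq with rfl | rfl
  · exact one_mul 1
  · exact q8.rr

theorem vv_s (ss : s * s = 1) (c : q * (s * q * s⁻¹) = s * q * s⁻¹ * q) : vv s q ∈ Cx s := by
  rw [Cx_comm, mem_Cx', vv, ← conj_mul, c, show s * (s * q * s⁻¹) * s⁻¹ = s * s * q * (s * s)⁻¹ by group, ss]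
  group

theorem vv_cube (q8 : Q8 t R) (cm : ∀ x ∈ R, ∀ y ∈ R, x * (s * y * s⁻¹) = s * y * s⁻¹ * x) (st : s ∈ Cx t)
    (ds : d ∈ Cx s) (dt : d ∈ Cx t) (d3 : d ^ 3 = 1) (dR : d ∈ normalizer (R : Set G)) (fp : R ⊓ Cx d ≤ zpowers t)
    (hq : q ∈ R) : (vv s q * d) ^ 3 = 1 := by
  have k := ft3_cube (zpowers_le.2 q8.mem) (fun y hy => Rec3B.Cx_le_norm t (mem_Cx.2 (CPx.ct q8 hy)))
    (by rw [q8.card]; norm_num) d3 (Rec3B.Cx_le_norm t dt) dR fp hq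
  have e : ∀ u : G, (u * d) ^ 3 = u * (d * u * d⁻¹) * (d * (d * u * d⁻¹) * d⁻¹) := fun u => by
    rw [← mul_one (u * (d * u * d⁻¹) * (d * (d * u * d⁻¹) * d⁻¹)), ← d3, pow_three', pow_three']
    group
  have q1 := conj_mem_of_mem_normalizer dR hq
  have q2 := conj_mem_of_mem_normalizer dR q1
  rw [e] at k
  rw [e, vv_conj ds, vv_conj ds, ← vv_mul (cm _ q1 _ hq), ← vv_mul (cm _ q2 _ (mul_mem hq q1)), vv_t q8 st k]

end vv

theorem fin1 : gs * w10 4 * gs⁻¹ = w10 5 ∧ gs * w10 6 * gs⁻¹ = w10 7 ∧ ¬ Perp (w10 4) gz ∧ ¬ Perp (w10 6) gz ∧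
    Perp (w10 4) (ga * gx * gz) ∧ Perp (w10 6) (ga⁻¹ * gx * gz) ∧ ga * gx * gz ∈ JJ ∧ ga⁻¹ * gx * gz ∈ JJ ∧
    (∀ l, ¬ Perp (w10 l) gc ∨ ¬ Perp (w10 l) (ga * gx * gz)) ∧
    (∀ l, ¬ Perp (w10 l) gc ∨ ¬ Perp (w10 l) (ga⁻¹ * gx * gz)) ∧ ga ∈ JJ ∧ gc ∈ JJ ∧ gx ∈ JJ ∧ gz ∈ JJ ∧
    ∀ l, w10 l ∈ JJ := by decide +kernel

variable (h : EP z Q Qi r π τ a b x σ i j k φ)
include h

theorem two {u v : W4} (hu : u ∈ JJ) (hv : v ∈ JJ) (all : ∀ l, ¬ Perp (w10 l) u ∨ ¬ Perp (w10 l) v) {g : G}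
    (hg : g ∈ E6 φ (r i)) (c1 : g ∈ Cx (φ u)) (c2 : g ∈ Cx (φ v)) : g ∈ zpowers (r i) := by
  obtain ⟨y, hy, rfl⟩ := h.cpr.mem.1 hg
  have k : ∀ u ∈ JJ, (List.ofFn y).prod ∈ Cx (φ u) → ∀ l, ¬ Perp (w10 l) u → y l ∈ zpowers (r i) :=
    fun u hu c l n => by
      have := h.cpr.fix (d := φ u) (h.phi_K0 u).2 (fun l => h.RW_norm (w10_om l) hu) hy (by
        rw [Cj, mem_Cx'.1 (Cx_comm.1 c), mul_inv_cancel]
        exact one_mem _) l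
      exact (CPx.mem_zp (h.cpr.q8 l)).2 (h.RW_fpf (w10_om l) hu n (hy l) this)
  exact NBx.prod_mem fun l => (all l).elim (k u hu c1 l) (k v hv c2 l)

theorem swap {s s' : Fin 10} (e : gs * w10 s * gs⁻¹ = w10 s') {q : G} (hq : q ∈ RW φ (r i) (w10 s)) :
    r k * q * (r k)⁻¹ ∈ RW φ (r i) (w10 s') := by
  rw [← h.cj_RW (n := φ gs) (h.phi_K0 gs).2 (G2x.mem_NJ gs) (w10_om s) (fin1.2.2.2.2.2.2.2.2.2.2.2.2.2.2 s')
    (by rw [← e, map_mul, map_mul, map_inv]), h.es]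
  exact mem_map_of_mem _ hq

theorem key {φ' : W4 →* G} (h' : EP z Q Qi r π τ a b x σ j k i φ') (hK : Cx (r i) ≤ M6 φ (a i) (r i)) {s s' : Fin 10}
    (ss : s ≠ s') (e : gs * w10 s * gs⁻¹ = w10 s') (nz : ¬ Perp (w10 s) gz) {v : W4} (hv : v ∈ JJ)
    (vD : φ' v ∈ closure {a k, x, z}) (pv : Perp (w10 s) v) (all : ∀ l, ¬ Perp (w10 l) gc ∨ ¬ Perp (w10 l) v)
    {q : G} (hq : q ∈ RW φ' (r j) (w10 s)) : vv (r i) q ∈ E6 φ (r i) := by
  obtain ⟨-, -, -, -, -, -, -, -, -, -, j1, j2, j3, j4, -⟩ := fin1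
  have q8 := h'.cpr.q8 s
  have om := w10_om s
  generalize hR : RW φ' (r j) (w10 s) = R at hq q8
  have cm : ∀ x ∈ R, ∀ y ∈ R, x * (r i * y * (r i)⁻¹) = r i * y * (r i)⁻¹ * x := fun x hx y hy =>
    h'.cpr.cm s s' ss x (hR ▸ hx) _ (swap h' e (hR ▸ hy))
  have st : r i ∈ Cx (r j) := mem_Cx.2 (h.rm i j)
  obtain ⟨p, p1, p2⟩ := h.exists_p
  let vh : R →* M6 φ (a i) (r i) := MonoidHom.mk' (fun q => ⟨vv (r i) q, hK (vv_s (h.rr i) (cm _ q.2 _ q.2))⟩)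
    fun q q' => Subtype.ext (vv_mul (cm _ q'.2 _ q.2))
  let θ : R →* G := (K0 (a i) (r i)).subtype.comp (p.comp vh)
  have θK : ∀ q, θ q ∈ K0 (a i) (r i) := fun q => (p (vh q)).2
  have θc : ∀ d ∈ K0 (a i) (r i), ∀ dR : d ∈ normalizer (R : Set G), ∀ q : R,
      d * θ q * d⁻¹ = θ ⟨d * q * d⁻¹, conj_mem_of_mem_normalizer dR q.2⟩ := fun d dK dR q => by
    have : vh ⟨d * q * d⁻¹, conj_mem_of_mem_normalizer dR q.2⟩ =
        ⟨d, mem_sup_right dK⟩ * vh q * (⟨d, mem_sup_right dK⟩ : M6 φ (a i) (r i))⁻¹ := Subtype.ext (vv_conj dK.2).symm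
    show _ = ((p (vh _) : K0 (a i) (r i)) : G)
    rw [this, map_mul, map_mul, map_inv, p2 ⟨d, dK⟩]
    rfl
  have DD : closure {a k, x, z} ≤ K0 (a i) (r i) ⊓ normalizer (R : Set G) := by
    rw [closure_le]
    rintro _ (rfl | rfl | rfl)
    · exact ⟨h.ec ▸ h.phi_K0 gc, hR ▸ h'.ea ▸ h'.RW_norm om j1⟩
    · exact ⟨h.ex ▸ h.phi_K0 gx, hR ▸ h'.ex ▸ h'.RW_norm om j3⟩
    · exact ⟨h.ez ▸ h.phi_K0 gz, hR ▸ h'.ez ▸ h'.RW_norm om j4⟩
  have zD := DD (subset_closure (by simp : z ∈ ({a k, x, z} : Set G)))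
  have zL : z ∈ L0 z (a i) (r i) := h.ez ▸ h.phi_L0 gz
  have zr : z ∈ Cx (r j) := Cx_comm.1 (h.rz j)
  have θ3 : ∀ q, (θ q * z) ^ 3 = 1 := fun q => by
    have k := vv_cube q8 cm st zD.1.2 zr h.z3 zD.2 (fun g hg => (CPx.mem_zp q8).2 (h'.RW_fpf om j4 nz (hR ▸ hg.1) (by
      rw [Cj, h'.ez, mem_Cx'.1 (Cx_comm.1 hg.2), mul_inv_cancel]
      exact one_mem _))) q.2
    have k2 : (vh q * ⟨z, mem_sup_right zD.1⟩) ^ 3 = 1 := Subtype.ext k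
    have k3 := congrArg p k2
    rw [map_pow, map_mul, p2 ⟨z, zD.1⟩, map_one] at k3
    exact congrArg Subtype.val k3
  have θ2 : ∀ q, θ q * θ q = 1 := fun q => by
    have : vh (q * q) = 1 := Subtype.ext (vv_t q8 st (CPx.sq_mem q8 q.2))
    rw [← map_mul]
    show ((p (vh _) : K0 (a i) (r i)) : G) = 1
    rw [this, map_one]
    rfl
  have θr : ∀ q, θ q ∈ Cx (r j) := fun q => by
    rw [Cx_comm, mem_Cx', θc _ (h.er ▸ h.phi_K0 gr) (le_normalizer q8.mem)]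
    congr 1
    exact Subtype.ext (mul_inv_eq_iff_eq_mul.2 (CPx.ct q8 q.2).symm)
  have θL : ∀ q, θ q ∈ L0 z (a i) (r i) := fun q => by
    have k1 := conj_mem_of_mem_normalizer (h.L0_norm (θK q)) zL
    have k2 := θ3 q
    rw [inv_eq_of_mul_eq_one_left (θ2 q)] at k1
    have : θ q = (θ q * z * θ q * z)⁻¹ * z⁻¹ := by
      rw [eq_mul_inv_iff_mul_eq, eq_inv_iff_mul_eq_one, ← k2, pow_three']
      group
    rw [this]
    exact mul_mem (inv_mem (mul_mem k1 zL)) (inv_mem zL)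
  obtain ⟨ι, t, ρ, kc, -, -, eJ, -, eE⟩ := h'.kc_k
  have sg := kc.sig (W := θ.range.subgroupOf _) (coprime_three_of fun u hu u3 => by
      obtain ⟨q, e⟩ := mem_subgroupOf.1 hu
      exact eq_one_of_sq_cube (Subtype.ext (by rw [Subgroup.coe_mul, ← e]; exact θ2 q)) u3)
    (im_le.2 fun c hc => mem_normalizer_of_forall fun u hu => by
      obtain ⟨q, e⟩ := mem_subgroupOf.1 hu
      have d := DD (eJ ▸ mem_map_of_mem _ (mem_im_of (KC.KE2.J00_le' hc)))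
      exact mem_subgroupOf.2 ⟨_, (θc _ d.1 d.2 q).symm.trans (by rw [e]; rfl)⟩)
  have θE : θ ⟨q, hq⟩ ∈ E6 φ' (r j) := by
    have := mem_map_of_mem (Subgroup.subtype _) (sg (x := ⟨θ ⟨q, hq⟩, θL _, θr _⟩) (mem_subgroupOf.2 ⟨_, rfl⟩))
    rw [eE, ← h'.cE_v j2] at this
    exact this.1
  have θz : θ ⟨q, hq⟩ ∈ zpowers (r j) := by
    refine two h' j2 hv all θE (h'.ec ▸ (θK _).1) ?_
    have d := DD vD
    rw [Cx_comm, mem_Cx', θc _ d.1 d.2]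
    congr 1
    exact Subtype.ext (mem_Cx'.1 (Cx_comm.1 (h'.RW_perp hv pv (hR ▸ hq))))
  have k := θ3 ⟨q, hq⟩
  rw [Commute.mul_pow (comm_of_mem_zpowers' zr θz).symm, h.z3, mul_one] at k
  exact (p1 (vh ⟨q, hq⟩)).1 (Subtype.ext (eq_one_of_sq_cube (θ2 _) k))

omit h in
theorem exists_four {t : G} {R : Subgroup G} (q8 : Q8 t R) : ∃ q ∈ R, q ∉ zpowers t ∧ q * q = t := by
  by_contra hn
  have : R ≤ zpowers t := fun q hq => by
    by_contra k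
    rcases q8.sq q hq with e | e | e
    · exact k (e ▸ one_mem _)
    · exact k (e ▸ mem_zpowers _)
    · exact hn ⟨q, hq, k, e⟩
  have c := card_le_of_le this
  rw [q8.card, Nat.card_zpowers] at c
  have := Nat.le_of_dvd (by norm_num) (orderOf_dvd_of_pow_eq_one (show t ^ 2 = 1 by rw [pow_two, q8.rr]))
  omega

end HWx

theorem EP.hw (h : EP z Q Qi r π τ a b x σ i j k φ) (hK : Cx (r i) ≤ M6 φ (a i) (r i)) :
    ∃ g, g * r i * g⁻¹ ∈ E6 φ (r i) ∧ g * r i * g⁻¹ ≠ r i := by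
  obtain ⟨φ', h'⟩ := h.toEX.exists_EP h.jk h.ij.symm h.ik.symm
  obtain ⟨f1, f2, f3, f4, f5, f6, f7, f8, f9, f10, -⟩ := HWx.fin1
  obtain ⟨q, hq, qn, qq⟩ := HWx.exists_four (h'.cpr.q8 4)
  obtain ⟨p, hp, -, pp⟩ := HWx.exists_four (h'.cpr.q8 6)
  have m1 : a k ∈ closure ({a k, x, z} : Set G) := subset_closure (by simp)
  have m2 : x ∈ closure ({a k, x, z} : Set G) := subset_closure (by simp)
  have m3 : z ∈ closure ({a k, x, z} : Set G) := subset_closure (by simp)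
  have k1 := HWx.key h h' hK (by decide) f1 f3 f7 (by
    rw [map_mul, map_mul, h'.ea, h'.ex, h'.ez]
    exact mul_mem (mul_mem m1 m2) m3) f5 f9 hq
  have k2 := HWx.key h h' hK (by decide) f2 f4 f8 (by
    rw [map_mul, map_mul, map_inv, h'.ea, h'.ex, h'.ez]
    exact mul_mem (mul_mem (inv_mem m1) m2) m3) f6 f10 hp
  have q' := HWx.swap h' f1 hq
  have p' := HWx.swap h' f2 hp
  have e1 : q * p * r i * (q * p)⁻¹ = HWx.vv (r i) q * HWx.vv (r i) p * r i := by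
    have c1 := h'.cpr.cm 5 6 (by decide) _ q' _ hp
    have c2 := h'.cpr.cm 4 6 (by decide) _ hq _ hp
    have c3 : (q * p)⁻¹ = q * p := by
      rw [inv_eq_iff_mul_eq_one, mul_assoc, ← mul_assoc p, ← c2, mul_assoc, pp, ← mul_assoc, qq, h.rr]
    rw [c3, HWx.vv, HWx.vv, mul_assoc q (_ * _), ← mul_assoc _ p, c1, inv_eq_of_mul_eq_one_left (h.rr i)]
    calc _ = q * p * r i * q * 1 * p * 1 := by group
      _ = q * p * r i * q * (r i * r i) * p * (r i * r i) := by rw [h.rr]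
      _ = _ := by group
  have tE : r i ∈ E6 φ (r i) := h.RW_le (w10_om 0) (h.cpr.q8 0).mem
  refine ⟨q * p, e1 ▸ mul_mem (mul_mem k1 k2) tE, fun e => qn (CPx.cen (h'.cpr.q8 4) hq fun y hy => ?_)⟩
  rw [e1, mul_eq_right, HWx.vv, HWx.vv, mul_assoc, mul_eq_one_iff_eq_inv] at e
  have : q ∈ Cx y := by
    rw [e]
    exact inv_mem (mul_mem (mem_Cx.2 (h'.cpr.cm 5 4 (by decide) _ q' _ hy)) (mul_mem
      (mem_Cx.2 (h'.cpr.cm 6 4 (by decide) _ hp _ hy)) (mem_Cx.2 (h'.cpr.cm 7 4 (by decide) _ p' _ hy))))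
  exact (mem_Cx.1 this).symm

end CfsgLib.Rec3E
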