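import Cfsg.Agent.Lib.Rec3E.RB
import Cfsg.Agent.Lib.Rec3E.EB
import Cfsg.Agent.Lib.Rec3B.F4
import Cfsg.Agent.Lib.Rec3E.E3b

/-! The subgroup `J` and its normaliser in `C(z)` (plans/REC3E.md, JB1). -/

set_option autoImplicit false
set_option maxRecDepth 100000
set_option maxHeartbeats 400000
set_option linter.unusedSectionVars false
set_option linter.unusedVariables false

namespace CfsgLib.Rec3E

open Subgroup Cfsg CfsgLib.Tech CfsgLib.PComp CfsgLib.W2 CfsgLib.Rec3 CfsgLib.Rec3B CfsgLib.Rec3B.W4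
open CfsgLib.U43 (SL)

variable {G : Type*} [Group G] [Finite G]
variable {z x σ : G} {Q : Subgroup G} {Qi : Fin 3 → Subgroup G} {r a b : Fin 3 → G} {π : Fin 3 → G → SL}
  {τ : G → Equiv.Perm (Fin 3)} {i j k : Fin 3} {φ : W4 →* G}

namespace JBx

open CfsgLib.Sect Es NBx FT

/-- the exponent of `s` with respect to `t` -/
noncomputable def cf (t s : SL) : ZMod 3 := if s = 1 then 0 else if s = t then 1 else 2

theorem cf_zero : ∀ t s : SL, cf t s = 0 ↔ s = 1 := by decide +kernel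

theorem cf_self : ∀ t : SL, t ≠ 1 → cf t t = 1 := by decide +kernel

theorem cf_spec : ∀ t : SL, t ^ 3 = 1 → t ≠ 1 → ∀ s : SL, s ^ 3 = 1 → s * t = t * s → s = t ^ (cf t s).val := by
  decide +kernel

theorem cf_mul : ∀ t : SL, t ^ 3 = 1 → t ≠ 1 → ∀ s : SL, s ^ 3 = 1 → s * t = t * s →
    ∀ s' : SL, s' ^ 3 = 1 → s' * t = t * s' → cf t (s * s') = cf t s + cf t s' := by
  decide +kernel

theorem sl_real : ∀ s t : SL, t ^ 3 = 1 → s * t * s⁻¹ = t⁻¹ → t = 1 := by decide +kernel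

theorem sl_44 : ∀ s t : SL, s ^ 4 = 1 → (s * t) ^ 4 = 1 → t ^ 3 = 1 → t = 1 := by decide +kernel

/-- the coordinates of `u ∈ J` modulo `A` -/
noncomputable def co (π : Fin 3 → G → SL) (x u : G) (i : Fin 3) : ZMod 3 := cf (π i x) (π i u)

theorem co_zero {u : G} : co π x u i = 0 ↔ π i u = 1 := cf_zero _ _

theorem co_z {u : G} (x : G) (e : π i u = 1) : co π x u i = 0 := co_zero.2 e

theorem co_z' {u : G} (x : G) (e : co π x u i = 0) : π i u = 1 := co_zero.1 e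

theorem cm4 {K : Subgroup G} (hc : ∀ u ∈ K, ∀ v ∈ K, u * v = v * u) {p1 p2 p3 p4 q1 q2 q3 q4 : G} (h2 : p2 ∈ K)
    (h3 : p3 ∈ K) (h4 : p4 ∈ K) (k1 : q1 ∈ K) (k2 : q2 ∈ K) (k3 : q3 ∈ K) :
    p1 * p2 * p3 * p4 * (q1 * q2 * q3 * q4) = p1 * q1 * (p2 * q2) * (p3 * q3) * (p4 * q4) := by
  rw [Commute.mul_mul_mul_comm (hc _ h4 _ (mul_mem (mul_mem k1 k2) k3)),
    Commute.mul_mul_mul_comm (hc _ h3 _ (mul_mem k1 k2)), Commute.mul_mul_mul_comm (hc _ h2 _ k1)]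

theorem shift {c p w : G} (z3 : z ^ 3 = 1) (cz : c ∈ Cx z) (e : c * p * c⁻¹ * p⁻¹ ∈ zpowers z) (n : c ∉ Cx p)
    (hw : w ∈ zpowers z) : ∃ q ∈ zpowers c, q * p * q⁻¹ = w * p := by
  obtain ⟨v, hv⟩ : ∃ v, v = c * p * c⁻¹ * p⁻¹ := ⟨_, rfl⟩
  rw [← hv] at e
  have v1 : v ≠ 1 := fun k => n (cmt_one (hv ▸ k))
  have k : w = 1 ∨ w = v ∨ w = v⁻¹ := by
    rcases three_cases z3 e with e | e | e
    · exact absurd e v1
    · rw [e]; exact three_cases z3 hw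
    · rw [e, inv_inv]; exact (three_cases z3 hw).imp_right Or.symm
  rcases k with rfl | rfl | rfl
  · exact ⟨1, one_mem _, by group⟩
  · exact ⟨c, mem_zpowers c, by rw [hv]; group⟩
  · refine ⟨c⁻¹, inv_mem (mem_zpowers c), ?_⟩
    rw [← zcj (inv_mem e) (inv_mem cz), hv]
    group

theorem pow_Z {c : G} {K : Subgroup G} (c3 : c ^ 3 = 1) (n : c ∉ K) (m : ℕ) : c ^ m ∈ K ↔ 3 ∣ m := by
  have : Fact (Nat.Prime 3) := ⟨by norm_num⟩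
  refine ⟨fun e => ?_, by rintro ⟨l, rfl⟩; rw [pow_mul, c3, one_pow]; exact one_mem _⟩
  rw [← orderOf_eq_prime c3 fun k => n (k ▸ one_mem _), orderOf_dvd_iff_pow_eq_one]
  exact eq_one_of c3 (pow_mem (mem_zpowers c) m) e n

theorem ofFn3 (y : Fin 3 → G) : (List.ofFn y).prod = y 0 * y 1 * y 2 := by
  simp [List.ofFn_succ, mul_assoc]

theorem cj1 {t y : Fin 3 → G} (ht : ∀ i j, i ≠ j → Qi j ≤ Cx (t i)) (hy : ∀ i, y i ∈ Qi i)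
    (hn : ∀ i, t i * y i * (t i)⁻¹ ∈ Qi i) (i : Fin 3) :
    t 0 * t 1 * t 2 * y i * (t 0 * t 1 * t 2)⁻¹ = t i * y i * (t i)⁻¹ := by
  have f : ∀ i j, i ≠ j → ∀ p ∈ Qi j, t i * p * (t i)⁻¹ = p := fun i j e p hp => mem_Cx'.1 (Cx_comm.1 (ht i j e hp))
  have e : t 0 * t 1 * t 2 * y i * (t 0 * t 1 * t 2)⁻¹ = t 0 * (t 1 * (t 2 * y i * (t 2)⁻¹) * (t 1)⁻¹) * (t 0)⁻¹ := by
    group
  rw [e]
  obtain rfl | rfl | rfl : i = 0 ∨ i = 1 ∨ i = 2 := by omega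
  · rw [f 2 0 (by decide) _ (hy 0), f 1 0 (by decide) _ (hy 0)]
  · rw [f 2 1 (by decide) _ (hy 1), f 0 1 (by decide) _ (hn 1)]
  · rw [f 1 2 (by decide) _ (hn 2), f 0 2 (by decide) _ (hn 2)]

theorem cj3 {t y : Fin 3 → G} (ht : ∀ i j, i ≠ j → Qi j ≤ Cx (t i)) (hy : ∀ i, y i ∈ Qi i)
    (hn : ∀ i, t i * y i * (t i)⁻¹ ∈ Qi i) :
    t 0 * t 1 * t 2 * (y 0 * y 1 * y 2) * (t 0 * t 1 * t 2)⁻¹ =
      t 0 * y 0 * (t 0)⁻¹ * (t 1 * y 1 * (t 1)⁻¹) * (t 2 * y 2 * (t 2)⁻¹) := by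
  rw [← cj1 ht hy hn 0, ← cj1 ht hy hn 1, ← cj1 ht hy hn 2]
  group

section NH

variable (H : NH z Q Qi r π τ)
include H

theorem dec3 {q : G} (hq : q ∈ Q) : ∃ y : Fin 3 → G, (∀ i, y i ∈ Qi i) ∧ q = y 0 * y 1 * y 2 := by
  obtain ⟨y, hy, e⟩ := H.dec q hq
  exact ⟨y, hy, e.trans (ofFn3 y)⟩

theorem split3 {y : Fin 3 → G} {w : G} (hy : ∀ i, y i ∈ Qi i) (hw : w ∈ zpowers z) (i : Fin 3) :
    ∃ v ∈ Q, v ∈ centralizer (Qi i : Set G) ∧ v ∈ Cx (r i) ∧ y 0 * y 1 * y 2 * w = y i * v := by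
  obtain ⟨v, hv, e⟩ := EBp.split1 H hy i
  rw [ofFn3] at e
  exact ⟨v * w, mul_mem hv.1.1 (H.hz.ZP hw), mul_mem hv.1.2 (z_cent H hw),
    mul_mem hv.2 (mem_Cx.2 (Es.zc hw (H.rz i)).symm), by rw [e, mul_assoc]⟩

theorem comp3 {y : Fin 3 → G} {w : G} (hy : ∀ i, y i ∈ Qi i) (hw : w ∈ zpowers z) (i : Fin 3) :
    Qi i ≤ Cx (y 0 * y 1 * y 2 * w) ↔ y i ∈ zpowers z := by
  obtain ⟨v, -, hv, -, e⟩ := split3 H hy hw i
  rw [e]
  refine ⟨fun k => H.cen i _ (hy i) fun p hp => ?_, fun k p hp => Cx_comm.1 (mul_mem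
    (mem_Cx.2 (Es.zc k (H.Qz i hp)).symm) (mem_Cx.2 (hv p hp).symm))⟩
  exact (mem_Cx.1 ((mul_mem_cancel_right (mem_Cx.2 (hv p hp).symm)).1 (Cx_comm.1 (k hp)))).symm

theorem killz {p w : G} (hp : p ∈ Q) (n : p ∉ zpowers z) (hw : w ∈ zpowers z) :
    ∃ q ∈ Q, q * (p * w) * q⁻¹ = p := by
  obtain ⟨c, hc, k⟩ : ∃ c ∈ Q, c ∉ Cx p := by
    by_contra! k
    exact n (H.cenQ hp fun y hy => mem_Cx.1 (k y hy))
  obtain ⟨q, hq, e⟩ := shift H.z3 (H.zc hc) (H.cmt c hc p hp) k (inv_mem hw)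
  have qQ : q ∈ Q := zpowers_le.2 hc hq
  refine ⟨q, qQ, ?_⟩
  calc _ = q * p * q⁻¹ * (q * w * q⁻¹) := by group
    _ = _ := by rw [e, zcj hw (H.zc qQ), mul_assoc, Es.zc hw (H.zc hp), inv_mul_cancel_left]

end NH

end JBx

namespace EX

open CfsgLib.Sect Es NBx FT JBx

variable (h : EX z Q Qi r π τ a b x σ) {g u : G}
include h

theorem jb_rl (i : Fin 3) : Rel z (a i) (b i) (a (i + 1)) (b (i + 1)) x (r i) (r (i + 1)) :=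
  h.rel _ _ ((by decide : ∀ i : Fin 3, i ≠ i + 1) i)

theorem jb_bQ (i : Fin 3) : b i ∈ Qi i := h.gen i ▸ subset_closure (by simp)

theorem jb_a3 (i : Fin 3) : a i ^ 3 = 1 := (h.jb_rl i).a3

theorem jb_xz : x ∈ Cx z := (mem_JE.1 h.xJ).1

theorem jb_AQ : AE z a ≤ Q := E3.A_Q h.toNH h.aQ

theorem jb_AJ : AE z a ≤ JE z a := E3.A_J h.toNH h.aQ

theorem jb_J0 (hu : u ∈ JE z a) : u ∈ h.H0 := (E3.J_H0 h.toNH h.aQ h.an hu).1

theorem jb_JC (hu : u ∈ JE z a) : JE z a ≤ Cx u := fun v hv => mem_Cx.2 (h.Jc v hv u hu)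

theorem J_H0 (hu : u ∈ JE z a) : u ∈ Cx z ∧ τ u = 1 ∧ ∀ i, π i u ^ 3 = 1 := by
  have k := E3.J_H0 h.toNH h.aQ h.an hu
  exact ⟨(h.mem_H0.1 k.1).1, (h.mem_H0.1 k.1).2, k.2⟩

theorem a_J (i : Fin 3) : a i ∈ JE z a := by
  exact h.jb_AJ (E3.aA i)

theorem z_J : z ∈ JE z a := by
  exact h.jb_AJ E3.zA

theorem QJ : Q ⊓ JE z a = AE z a := by
  exact le_antisymm (fun q hq => E3.QJ_A h.toNH h.aQ h.an hq.1 (mem_JE.1 hq.2).2) (le_inf h.jb_AQ h.jb_AJ)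

theorem A_coord (hu : u ∈ AE z a) : ∃ (c : Fin 3 → ℕ) (m : ℕ), u = a 0 ^ c 0 * a 1 ^ c 1 * a 2 ^ c 2 * z ^ m := by
  have k : ∀ u v : G, (∃ (c : Fin 3 → ℕ) (m : ℕ), u = a 0 ^ c 0 * a 1 ^ c 1 * a 2 ^ c 2 * z ^ m) →
      (∃ (c : Fin 3 → ℕ) (m : ℕ), v = a 0 ^ c 0 * a 1 ^ c 1 * a 2 ^ c 2 * z ^ m) →
      ∃ (c : Fin 3 → ℕ) (m : ℕ), u * v = a 0 ^ c 0 * a 1 ^ c 1 * a 2 ^ c 2 * z ^ m := by
    rintro _ _ ⟨c, m, rfl⟩ ⟨d, n, rfl⟩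
    refine ⟨c + d, m + n, ?_⟩
    rw [cm4 h.Jc (pow_mem (h.a_J 1) _) (pow_mem (h.a_J 2) _) (pow_mem h.z_J _) (pow_mem (h.a_J 0) _)
      (pow_mem (h.a_J 1) _) (pow_mem (h.a_J 2) _)]
    simp only [Pi.add_apply, pow_add]
  induction hu using closure_induction with
  | mem y hy =>
    rcases hy with rfl | rfl | rfl | rfl
    · exact ⟨![1, 0, 0], 0, by simp⟩
    · exact ⟨![0, 1, 0], 0, by simp⟩
    · exact ⟨![0, 0, 1], 0, by simp⟩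
    · exact ⟨0, 1, by simp⟩
  | one => exact ⟨0, 0, by simp⟩
  | mul y w _ _ h1 h2 => exact k _ _ h1 h2
  | inv y hy h1 =>
    rw [show y⁻¹ = y * y from inv_eq_of_mul_eq_one_right (by rw [← pow_three, h.J3 y (h.jb_AJ hy)])]
    exact k _ _ h1 h1

theorem card_A : Nat.card (AE z a) = 81 := by
  exact E3.cardA h.toNH h.aQ h.an

theorem J5_le : J5 z x a ≤ JE z a := by
  exact F4x.J_le.2 ⟨h.a_J, h.xJ, h.z_J⟩

theorem jb_A5 : AE z a ≤ J5 z x a := E3.AE_le.2 ⟨F4x.aJ, F4x.zJ⟩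

theorem jb_xQ : x ∉ Q := fun e => h.πx 0 (h.π_Q e)

theorem jb_J3 : IsPGroup 3 (JE z a) := isPGroup_iff_mem.2 fun u hu => ⟨1, h.J3 u hu⟩

theorem jb_dec5 (hu : u ∈ J5 z x a) : ∃ α ∈ AE z a, ∃ m : ℕ, u = α * x ^ m := by
  obtain ⟨α, hα, k, hk, e⟩ := (Sect.mem_sup_of_comm (A := AE z a) (B := zpowers x) fun α hα k hk =>
    Es.zc hk (h.jb_JC h.xJ (h.jb_AJ hα))).1 (F4x.J_le.2
    ⟨fun i => mem_sup_left (E3.aA i), mem_sup_right (mem_zpowers x), mem_sup_left E3.zA⟩ hu)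
  obtain ⟨m, rfl⟩ := mem_powers_iff_mem_zpowers.2 hk
  exact ⟨α, hα, m, e⟩

theorem jb_πm {v : G} (hu : u ∈ JE z a) (hv : v ∈ JE z a) (i : Fin 3) : π i (u * v) = π i u * π i v :=
  h.ul_hm i _ (h.jb_J0 hu) _ (h.jb_J0 hv)

theorem jb_πA (hu : u ∈ AE z a) (i : Fin 3) : π i u = 1 := h.π_Q (h.jb_AQ hu)

theorem jb_toA (hu : u ∈ JE z a) (e : ∀ i, π i u = 1) : u ∈ AE z a :=
  h.QJ.le ⟨h.mem_Q (h.J_H0 hu).1 (h.J_H0 hu).2.1 e, hu⟩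

theorem jb_πc (hu : u ∈ JE z a) (i : Fin 3) : π i u * π i x = π i x * π i u := by
  rw [← h.jb_πm hu h.xJ, ← h.jb_πm h.xJ hu, h.Jc u hu x h.xJ]

theorem co_spec (hu : u ∈ JE z a) (i : Fin 3) : π i u = π i x ^ (co π x u i).val :=
  cf_spec _ ((h.J_H0 h.xJ).2.2 i) (h.πx i) _ ((h.J_H0 hu).2.2 i) (h.jb_πc hu i)

theorem co_mul {v : G} (hu : u ∈ JE z a) (hv : v ∈ JE z a) (i : Fin 3) :
    co π x (u * v) i = co π x u i + co π x v i := by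
  rw [co, h.jb_πm hu hv]
  exact cf_mul _ ((h.J_H0 h.xJ).2.2 i) (h.πx i) _ ((h.J_H0 hu).2.2 i) (h.jb_πc hu i) _ ((h.J_H0 hv).2.2 i)
    (h.jb_πc hv i)

theorem co_A (hu : u ∈ AE z a) (i : Fin 3) : co π x u i = 0 := co_zero.2 (h.jb_πA hu i)

theorem co_x (i : Fin 3) : co π x x i = 1 := cf_self _ (h.πx i)

theorem co_inv (hu : u ∈ JE z a) (i : Fin 3) : co π x u⁻¹ i = -co π x u i := by
  rw [eq_neg_iff_add_eq_zero, ← h.co_mul (inv_mem hu) hu, inv_mul_cancel]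
  exact h.co_A (one_mem _) i

theorem co_pow (hu : u ∈ JE z a) (m : ℕ) (i : Fin 3) : co π x (u ^ m) i = m * co π x u i := by
  induction m with
  | zero => simpa using h.co_A (one_mem _) i
  | succ m ih => rw [pow_succ, h.co_mul (pow_mem hu m) hu, ih]; push_cast; ring

theorem co_sub (hu : u ∈ JE z a) (c : ZMod 3) (i : Fin 3) : co π x (u * (x ^ c.val)⁻¹) i = co π x u i - c := by
  rw [h.co_mul hu (inv_mem (pow_mem h.xJ _)), h.co_inv (pow_mem h.xJ _), h.co_pow h.xJ, h.co_x]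
  simp [sub_eq_add_neg]

theorem card_J5 : Nat.card (J5 z x a) = 243 := by
  have c1 := ul_lt3 (h.jb_J3.to_le h.J5_le) h.jb_A5 F4x.xJ fun e => h.jb_xQ (h.jb_AQ e)
  have c2 := E3b.idxQ h.toET (fun u hu => h.jb_J0 (h.J5_le hu)) (h.jb_J3.to_le h.J5_le) 0 fun v hv e => by
    obtain ⟨α, hα, m, rfl⟩ := h.jb_dec5 hv
    have k := fun i => h.co_mul (h.jb_AJ hα) (pow_mem h.xJ m) i
    simp only [h.co_A hα, h.co_pow h.xJ, h.co_x] at k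
    exact h.jb_AQ (h.jb_toA (h.J5_le hv) fun i => co_zero.1 (by rw [k i, ← k 0]; exact co_zero.2 e))
  have c3 := card_le_of_le ((inf_le_inf_left Q h.J5_le).trans h.QJ.le)
  have c4 := h.card_A
  omega

theorem jb_ar (i : Fin 3) : a i ∉ Cx (r i) := fun k => h.an i (by
  have := h.ra i
  rw [mem_Cx'.1 (Cx_comm.1 k), eq_inv_iff_mul_eq_one] at this
  rw [eq_one (h.jb_a3 i) this]
  exact one_mem _)

theorem phi_J (e : EP z Q Qi r π τ a b x σ i j k φ) : JJ.map φ = J5 z x a ⊓ Cx (r i) := by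
  have Kr : ∀ l, i ≠ l → a l ∈ J5 z x a ⊓ Cx (r i) := fun l hl => ⟨F4x.aJ l, h.rj i l hl (h.aQ l)⟩
  have le : JJ.map φ ≤ J5 z x a ⊓ Cx (r i) := by
    rintro _ ⟨v, hv, rfl⟩
    rw [← eq_vec hv, vec_eq]
    simp only [map_mul, map_pow, e.ea, e.ec, e.ex, e.ez]
    exact mul_mem (mul_mem (mul_mem (pow_mem (Kr j e.ij) _) (pow_mem (Kr k e.ik) _))
      (pow_mem (mem_inf.2 ⟨F4x.xJ, h.xr i⟩) _)) (pow_mem (mem_inf.2 ⟨F4x.zJ, Cx_comm.1 (h.rz i)⟩) _)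
  refine le_antisymm le fun u hu => ?_
  obtain ⟨v, hv, w, hw, k⟩ := (Sect.mem_sup_of_comm (A := zpowers (a i)) (B := JJ.map φ) fun v hv w hw =>
    (Es.zc hv ((mem_JE.1 (h.J5_le (le hw).1)).2 i)).symm).1 (F4x.J_le.2 ⟨fun l => by
      have := e.ij
      have := e.ik
      have := e.jk
      obtain rfl | rfl | rfl : l = i ∨ l = j ∨ l = k := by omega
      exacts [mem_sup_left (mem_zpowers _), mem_sup_right (e.ea ▸ mem_map_of_mem φ (mem_JJ.2 (by decide +kernel))),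
        mem_sup_right (e.ec ▸ mem_map_of_mem φ (mem_JJ.2 (by decide +kernel)))],
      mem_sup_right (e.ex ▸ mem_map_of_mem φ (mem_JJ.2 (by decide +kernel))),
      mem_sup_right (e.ez ▸ mem_map_of_mem φ (mem_JJ.2 (by decide +kernel)))⟩ hu.1)
  have vr := (mem_inf.1 hu).2
  rw [k, mul_mem_cancel_right (mem_inf.1 (le hw)).2] at vr
  rwa [k, eq_one_of (h.jb_a3 i) hv vr (h.jb_ar i), one_mul]

theorem mem_N (hg : g ∈ Cx z) (e : ∀ i, g * a i * g⁻¹ ∈ JE z a) : g ∈ NE z a := by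
  refine inv_mem_iff.1 (mem_normalizer_of_forall fun u hu => mem_JE.2
    ⟨mul_mem (mul_mem (inv_mem hg) (mem_JE.1 hu).1) (inv_mem (inv_mem hg)), fun i => ?_⟩)
  have := (conj_mem_Cx (g := g⁻¹)).2 (h.jb_JC (e i) hu)
  simpa [mul_assoc] using this

theorem Q_N : Q ≤ NE z a := by
  refine fun q hq => h.mem_N (h.zc hq) fun i => ?_
  simpa using mul_mem (zpowers_le.2 h.z_J (h.cmt _ hq _ (h.le i (h.aQ i)))) (h.a_J i)

theorem r_N (i : Fin 3) : r i ∈ NE z a := by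
  refine h.mem_N (h.rz i) fun j => ?_
  by_cases e : i = j
  · rw [← e, h.ra]; exact inv_mem (h.a_J i)
  · rw [mem_Cx'.1 (Cx_comm.1 (h.rj i j e (h.aQ j)))]; exact h.a_J j

theorem σ_N : σ ∈ NE z a := by
  exact h.mem_N h.σz fun i => by rw [h.σa]; exact h.a_J _

theorem J_split (hu : u ∈ JE z a) : ∃ α ∈ AE z a, ∃ c ∈ JE z a, (∀ i, c ∈ Cx (r i)) ∧ u = α * c := by
  obtain ⟨q, hq, c, hc, k, e⟩ := E3.decJ h.toNH h.aQ h.an hu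
  exact ⟨q, hq, c, hc, X_cent_r h.toNH (h.J_H0 hc).1 k (h.J_H0 hc).2.1, e⟩

theorem Jr (hu : u ∈ JE z a) (i : Fin 3) : u * r i * u⁻¹ * (r i)⁻¹ ∈ zpowers (a i) := by
  obtain ⟨α, hα, c, hc, k, rfl⟩ := h.J_split hu
  exact (mul_mem (RA h.toNH (h.aQ i) (h.an i) (h.ra i) ⟨h.jb_AQ hα, (mem_JE.1 (h.jb_AJ hα)).2 i⟩)
    (E3.cx_cmz ((mem_JE.1 hc).2 i) (k i))).2

theorem mem_QJ (hg : g ∈ Cx z) (e : ∀ i, g * a i * g⁻¹ * (a i)⁻¹ ∈ zpowers z) :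
    ∃ q ∈ Q, ∃ c ∈ JE z a, (∀ i, c ∈ Cx (r i)) ∧ g = q * c := by
  obtain ⟨q, hq, c, hc, k, e⟩ := E3.dec h.toNH h.aQ h.an hg fun i => ⟨hg, e i⟩
  exact ⟨q, hq, c, hc, X_cent_r h.toNH (h.J_H0 hc).1 k (h.J_H0 hc).2.1, e⟩

theorem jb_cjn (hg : g ∈ Cx z) (hu : u ∉ zpowers z) : g * u * g⁻¹ ∉ zpowers z := fun k => hu (by
  rwa [← zcj k (inv_mem hg), show g⁻¹ * (g * u * g⁻¹) * g⁻¹⁻¹ = u by group] at k)

theorem jb_Rn {y : G} (hy : y ∈ RE z Q (r i)) (hu : u ∈ Qi j) : y * u * y⁻¹ ∈ Qi j := by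
  simpa [(h.R_H0 hy).2.1] using h.cj_mem (h.R_H0 hy).1 hu

theorem dec0 (hg : g ∈ Cx z) (t : τ g = 1) : ∃ q ∈ Q, ∃ y : Fin 3 → G, (∀ i, y i ∈ RE z Q (r i)) ∧
    ∃ c ∈ JE z a, (∀ i, c ∈ Cx (r i)) ∧ g = q * (y 0 * y 1 * y 2) * c := by
  choose y hy ey using fun i => h.R_trans (h.aQ i) (h.an i)
    (show g * a i * g⁻¹ ∈ Qi i by simpa [t] using h.cj_mem hg (h.aQ i)) (h.jb_cjn hg (h.an i))
  have Yz : y 0 * y 1 * y 2 ∈ Cx z := mul_mem (mul_mem (h.R_H0 (hy 0)).1 (h.R_H0 (hy 1)).1) (h.R_H0 (hy 2)).1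
  have k := cj1 (fun i j e => h.R_Q e (hy i)) h.aQ fun i => h.jb_Rn (hy i) (h.aQ i)
  obtain ⟨q, hq, c, hc, cr, e⟩ := h.mem_QJ (mul_mem (inv_mem Yz) hg) fun i => by
    have := inv_mem (ey i)
    rw [← k] at this
    rw [← zcj this (inv_mem Yz)] at this
    convert this using 1
    group
  exact ⟨_, conj_mem_of_mem_normalizer (h.norm_Q Yz) hq, y, hy, c, hc, cr, by
    rw [inv_mul_eq_iff_eq_mul] at e
    rw [e]
    group⟩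

theorem π_J (hu : u ∈ JE z a) (i : Fin 3) : ∃ m : ℕ, π i u = π i x ^ m := by
  exact ⟨_, h.co_spec hu i⟩

theorem J5_iff (hu : u ∈ JE z a) : u ∈ J5 z x a ↔ ∃ m : ℕ, ∀ i, π i u = π i x ^ m := by
  refine ⟨fun e => ?_, fun ⟨m, e⟩ => ?_⟩
  · obtain ⟨α, hα, m, rfl⟩ := h.jb_dec5 e
    exact ⟨m, fun i => by
      rw [h.jb_πm (h.jb_AJ hα) (pow_mem h.xJ m), h.jb_πA hα, one_mul, (h.ul_hm i).pow (h.jb_J0 h.xJ)]⟩
  · have xm := pow_mem h.xJ m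
    refine (mul_mem_cancel_right (inv_mem (pow_mem F4x.xJ m))).1 (h.jb_A5 (h.jb_toA (mul_mem hu (inv_mem xm)) fun i => ?_))
    rw [h.jb_πm hu (inv_mem xm), (h.ul_hm i).inv (h.jb_J0 xm), (h.ul_hm i).pow (h.jb_J0 h.xJ), e, mul_inv_cancel]

theorem mem_A (hu : u ∈ JE z a) (jk : j ≠ k) (e : π j u = 1) (e' : π k u = 1) : u ∈ AE z a := by
  obtain ⟨i, ij, ik⟩ := E3.third j k
  have k1 : ∀ l, l ≠ i → π l u = 1 := fun l hl => by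
    obtain rfl | rfl : l = j ∨ l = k := by omega
    exacts [e, e']
  refine h.jb_toA hu fun l => ?_
  by_cases hl : l = i
  · rw [hl]
    exact RBx.one_of ((h.J_H0 hu).2.2 i) (h.nD u (h.J_H0 hu).1 (h.J_H0 hu).2.1 i k1)
  · exact k1 l hl

theorem co_toA (hu : u ∈ JE z a) (jk : j ≠ k) (e : co π x u j = co π x u k) :
    u * (x ^ (co π x u j).val)⁻¹ ∈ AE z a :=
  h.mem_A (mul_mem hu (inv_mem (pow_mem h.xJ _))) jk (co_zero.1 (by rw [h.co_sub hu, sub_self]))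
    (co_zero.1 (by rw [h.co_sub hu, e, sub_self]))

theorem co_to5 (hu : u ∈ JE z a) (jk : j ≠ k) (e : co π x u j = co π x u k) : u ∈ J5 z x a :=
  (mul_mem_cancel_right (inv_mem (pow_mem F4x.xJ _))).1 (h.jb_A5 (h.co_toA hu jk e))

theorem co_of5 (hu : u ∈ J5 z x a) (i j : Fin 3) : co π x u i = co π x u j := by
  obtain ⟨α, hα, m, rfl⟩ := h.jb_dec5 hu
  simp only [h.co_mul (h.jb_AJ hα) (pow_mem h.xJ m), h.co_A hα, h.co_pow h.xJ, h.co_x]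

theorem co_sum (hu : u ∈ JE z a) : co π x u 0 + co π x u 1 + co π x u 2 = 0 := by
  refine (by decide : ∀ c d e : ZMod 3, (c = d ∨ c = e ∨ d = e → c = d ∧ c = e) → c + d + e = 0) _ _ _ fun k => ?_
  have : u ∈ J5 z x a := by
    rcases k with k | k | k <;> exact h.co_to5 hu (by decide) k
  exact ⟨h.co_of5 this _ _, h.co_of5 this _ _⟩

theorem sm_iff : Sm z π τ ↔ JE z a ≤ J5 z x a := by
  refine ⟨fun s u hu => ?_, fun s g hg t e i => ?_⟩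
  · have hv := mul_mem hu (inv_mem (pow_mem h.xJ (co π x u 0).val))
    obtain ⟨v1, v2, v3⟩ := h.J_H0 hv
    have e0 : π 0 (u * (x ^ (co π x u 0).val)⁻¹) = 1 := co_z' x (by rw [h.co_sub hu, sub_self])
    have := co_z x (RBx.one_of (v3 1) (s _ v1 v2 (by rw [e0, one_pow]) 1))
    rw [h.co_sub hu, sub_eq_zero] at this
    exact h.co_to5 hu (by decide) this
  · obtain ⟨q, hq, y, hy, c, hc, -, rfl⟩ := h.dec0 hg t
    have y0 : ∀ i, y i ∈ h.H0 := fun i => h.mem_H0.2 ⟨(h.R_H0 (hy i)).1, (h.R_H0 (hy i)).2.1⟩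
    have y4 : ∀ i l, π l (y i) ^ 4 = 1 := fun i l => by
      by_cases k : l = i
      · rw [k]; exact (h.R_H0 (hy i)).2.2.1
      · rw [(h.R_H0 (hy i)).2.2.2.1 l k, one_pow]
    have Y0 := mul_mem (mul_mem (y0 0) (y0 1)) (y0 2)
    have Y4 : ∀ l, π l (y 0 * y 1 * y 2) ^ 4 = 1 := fun l => by
      rw [h.ul_hm l _ (mul_mem (y0 0) (y0 1)) _ (y0 2), h.ul_hm l _ (y0 0) _ (y0 1)]
      exact (by decide +kernel : ∀ s : SL, s ^ 4 = 1 → ∀ t : SL, t ^ 4 = 1 → ∀ u : SL, u ^ 4 = 1 →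
        (s * t * u) ^ 4 = 1) _ (y4 0 l) _ (y4 1 l) _ (y4 2 l)
    have k : ∀ l, π l (q * (y 0 * y 1 * y 2) * c) = π l (y 0 * y 1 * y 2) * π l c := fun l => by
      rw [h.ul_hm l _ (mul_mem (h.ul_QH0 hq) Y0) _ (h.jb_J0 hc), h.ul_hm l _ (h.ul_QH0 hq) _ Y0, h.π_Q hq, one_mul]
    rw [k] at e ⊢
    rw [co_zero.1 ((h.co_of5 (s hc) i 0).trans (co_zero.2 (sl_44 _ _ (Y4 0) e ((h.J_H0 hc).2.2 0)))), mul_one]
    exact Y4 i

theorem J_le_of {y : G} (hy : y ∈ JE z a) (hn : y ∉ J5 z x a) : JE z a ≤ J5 z x a ⊔ zpowers y := by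
  intro u hu
  have n : co π x y 0 ≠ co π x y 1 := fun e => hn (h.co_to5 hy (by decide) e)
  rcases (by decide : ∀ c d e f : ZMod 3, c ≠ d → e = f ∨ e + c = f + d ∨ e + -c = f + -d) _ _
    (co π x u 0) (co π x u 1) n with e | e | e
  · exact mem_sup_left (h.co_to5 hu (by decide) e)
  · rw [← h.co_mul hu hy, ← h.co_mul hu hy] at e
    exact (mul_mem_cancel_right (mem_sup_right (mem_zpowers y))).1
      (mem_sup_left (h.co_to5 (mul_mem hu hy) (by decide) e))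
  · rw [← h.co_inv hy, ← h.co_inv hy, ← h.co_mul hu (inv_mem hy), ← h.co_mul hu (inv_mem hy)] at e
    exact (mul_mem_cancel_right (mem_sup_right (inv_mem (mem_zpowers y)))).1
      (mem_sup_left (h.co_to5 (mul_mem hu (inv_mem hy)) (by decide) e))

theorem exists_y (hs : ¬ Sm z π τ) (i : Fin 3) : ∃ y ∈ JE z a, y ∉ J5 z x a ∧ π i y = 1 ∧ (∀ l, y ∈ Cx (r l)) ∧
    JE z a ≤ J5 z x a ⊔ zpowers y := by
  obtain ⟨u, hu, n⟩ := SetLike.not_le_iff_exists.1 (mt h.sm_iff.2 hs)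
  obtain ⟨α, hα, c, hc, k, e⟩ := h.J_split (mul_mem hu (inv_mem (pow_mem h.xJ (co π x u i).val)))
  have n' : c ∉ J5 z x a := fun k => n ((mul_mem_cancel_right (inv_mem (pow_mem F4x.xJ _))).1
    (e ▸ mul_mem (h.jb_A5 hα) k))
  refine ⟨c, hc, n', co_z' x ?_, k, h.J_le_of hc n'⟩
  rw [← zero_add (co π x c i), ← h.co_A hα i, ← h.co_mul (h.jb_AJ hα) hc, ← e, h.co_sub hu, sub_self, h.co_A hα]

theorem full_J (hu : u ∈ JE z a) (e : ∀ i, π i u ≠ 1) : u * x⁻¹ ∈ AE z a ∨ u * x ∈ AE z a := by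
  have n : ∀ i, co π x u i ≠ 0 := fun i k => e i (co_zero.1 k)
  rcases (by decide : ∀ c d e : ZMod 3, c ≠ 0 → d ≠ 0 → e ≠ 0 → c + d + e = 0 →
    (c + -1 = 0 ∧ d + -1 = 0) ∨ (c + 1 = 0 ∧ d + 1 = 0)) _ _ _ (n 0) (n 1) (n 2) (h.co_sum hu) with k | k
  · exact Or.inl (h.mem_A (j := 0) (k := 1) (mul_mem hu (inv_mem h.xJ)) (by decide)
      (co_zero.1 (by rw [h.co_mul hu (inv_mem h.xJ), h.co_inv h.xJ, h.co_x, k.1]))
      (co_zero.1 (by rw [h.co_mul hu (inv_mem h.xJ), h.co_inv h.xJ, h.co_x, k.2])))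
  · exact Or.inr (h.mem_A (j := 0) (k := 1) (mul_mem hu h.xJ) (by decide)
      (co_zero.1 (by rw [h.co_mul hu h.xJ, h.co_x, k.1])) (co_zero.1 (by rw [h.co_mul hu h.xJ, h.co_x, k.2])))

theorem N_a (hg : g ∈ Cx z) (hN : g ∈ NE z a) (i : Fin 3) :
    g * a i * g⁻¹ * (a (τ g i))⁻¹ ∈ zpowers z ∨ g * a i * g⁻¹ * a (τ g i) ∈ zpowers z := by
  obtain ⟨s, hs, w, hw, e⟩ := QA h.toNH (h.aQ _) (h.an _) (h.cj_mem hg (h.aQ i))
    ((mem_JE.1 (conj_mem_of_mem_normalizer hN (h.a_J i))).2 _)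
  have n := h.jb_cjn hg (h.an i)
  rw [e] at n ⊢
  rw [Es.zc hw (zpowers_le.2 (h.Qz _ (h.aQ _)) hs)] at n ⊢
  rcases three_cases (h.jb_a3 _) hs with rfl | rfl | rfl
  · exact absurd (by simpa using hw) n
  · exact Or.inl (by simpa using hw)
  · exact Or.inr (by simpa using hw)

theorem N_x (hg : g ∈ Cx z) (hN : g ∈ NE z a) : g * x * g⁻¹ * x⁻¹ ∈ AE z a := by
  have key : ∀ g ∈ Cx z, g ∈ NE z a → τ g 0 = 0 → g * x * g⁻¹ * x⁻¹ ∈ AE z a := fun g hg hN t => by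
    have gx := conj_mem_of_mem_normalizer hN h.xJ
    refine (h.full_J gx fun i k => ?_).resolve_right fun k => ?_
    · obtain ⟨j, rfl⟩ := (τ g).surjective i
      exact h.πx j ((E3.π_cj1 h.toNH hg (h.jb_J0 h.xJ)).1 k)
    · have s := h.mem_St.2 ⟨hg, t⟩
      have sx := h.H0_le 0 (h.jb_J0 h.xJ)
      have := h.jb_πA k 0
      rw [h.jb_πm gx h.xJ, h.π_mul (mul_mem s sx) (inv_mem s), h.π_mul s sx, h.π_inv s,
        mul_eq_one_iff_eq_inv] at this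
      exact h.πx 0 (sl_real _ _ ((h.J_H0 h.xJ).2.2 0) this)
  have step : ∀ g ∈ Cx z, g * σ * x * (g * σ)⁻¹ * x⁻¹ ∈ AE z a → g * x * g⁻¹ * x⁻¹ ∈ AE z a := fun g hg e => by
    have k := h.σx
    rw [← zcj k hg] at k
    convert mul_mem (inv_mem (zpowers_le.2 E3.zA k)) e using 1
    group
  have t1 : τ (g * σ) 0 = τ g 1 := by rw [h.τm g hg σ h.σz, Equiv.Perm.mul_apply, h.τσ]; rfl
  have t2 : τ (g * σ * σ) 0 = τ g 2 := by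
    rw [h.τm _ (mul_mem hg h.σz) σ h.σz, h.τm g hg σ h.σz, Equiv.Perm.mul_apply, Equiv.Perm.mul_apply, h.τσ, h.τσ]
    rfl
  obtain ⟨j, e⟩ := (τ g).surjective 0
  obtain rfl | rfl | rfl : j = 0 ∨ j = 1 ∨ j = 2 := by omega
  · exact key g hg hN e
  · exact step g hg (key _ (mul_mem hg h.σz) (mul_mem hN h.σ_N) (t1.trans e))
  · exact step g hg (step _ (mul_mem hg h.σz) (key _ (mul_mem (mul_mem hg h.σz) h.σz)
      (mul_mem (mul_mem hN h.σ_N) h.σ_N) (t2.trans e)))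

theorem co_cj (hg : g ∈ Cx z) (hN : g ∈ NE z a) (hu : u ∈ JE z a) (i : Fin 3) :
    co π x (g * u * g⁻¹) (τ g i) = co π x u i := by
  have hv := mul_mem hu (inv_mem (pow_mem h.xJ (co π x u i).val))
  have gx := conj_mem_of_mem_normalizer hN h.xJ
  have k := co_z x ((E3.π_cj1 h.toNH hg (h.jb_J0 hv)).2
    (co_z' (i := i) x (by rw [h.co_sub hu, sub_self])))
  have e := h.co_A (h.N_x hg hN) (τ g i)
  rw [h.co_mul gx (inv_mem h.xJ), h.co_inv h.xJ, h.co_x, add_neg_eq_zero] at e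
  rw [← conj_mul, ← conj_inv, ← conj_pow, h.co_mul (conj_mem_of_mem_normalizer hN hu) (inv_mem (pow_mem gx _)),
    h.co_inv (pow_mem gx _), h.co_pow gx, e, add_neg_eq_zero] at k
  simpa using k

theorem N_J (hg : g ∈ Cx z) (hN : g ∈ NE z a) (hu : u ∈ JE z a) :
    (τ g ^ 3 = 1 → g * u * g⁻¹ * u⁻¹ ∈ J5 z x a) ∧ (τ g ^ 3 ≠ 1 → g * u * g⁻¹ * u ∈ J5 z x a) := by
  have gu := conj_mem_of_mem_normalizer hN hu
  have k := (by decide +kernel : ∀ s : Equiv.Perm (Fin 3), ∀ c : Fin 3 → ZMod 3, c 0 + c 1 + c 2 = 0 →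
    ∀ d : Fin 3 → ZMod 3, (∀ i, d (s i) = c i) → (s ^ 3 = 1 → d 0 + -c 0 = d 1 + -c 1) ∧
      (s ^ 3 ≠ 1 → d 0 + c 0 = d 1 + c 1)) (τ g) _ (h.co_sum hu) _ (h.co_cj hg hN hu)
  refine ⟨fun t => h.co_to5 (j := 0) (k := 1) (mul_mem gu (inv_mem hu)) (by decide) ?_,
    fun t => h.co_to5 (j := 0) (k := 1) (mul_mem gu hu) (by decide) ?_⟩
  · rw [h.co_mul gu (inv_mem hu), h.co_mul gu (inv_mem hu), h.co_inv hu, h.co_inv hu, k.1 t]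
  · rw [h.co_mul gu hu, h.co_mul gu hu, k.2 t]

theorem σ_cube : σ ^ 3 ∈ J5 z x a := by
  have σ3 : σ ^ 3 ∈ JE z a := mem_JE.2 ⟨pow_mem h.σz 3, fun i => mem_Cx'.2 (by
    calc _ = σ * (σ * (σ * a i * σ⁻¹) * σ⁻¹) * σ⁻¹ := by rw [pow_three]; group
      _ = _ := by rw [h.σa, h.σa, h.σa, (by decide : ∀ i : Fin 3, i + 1 + 1 + 1 = i)])⟩
  have := h.co_cj h.σz h.σ_N σ3 0
  rw [h.τσ, show σ * σ ^ 3 * σ⁻¹ = σ ^ 3 by group] at this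
  exact h.co_to5 σ3 (by decide) this

theorem jb_a3n : a 0 * a 1 * a 2 ∉ zpowers z := fun k => h.an 0 (h.uniq h.aQ (by rwa [ofFn3]))

theorem FS_Q (hu : u ∈ Q) (hf : Full Qi u) : ∃ g ∈ Cx z, τ g = 1 ∧ g * u * g⁻¹ = a 0 * a 1 * a 2 := by
  obtain ⟨y, hy, rfl⟩ := dec3 h.toNH hu
  have n : ∀ i, y i ∉ zpowers z := fun i k => hf i (by
    simpa using (comp3 h.toNH hy (one_mem _) i).2 k)
  choose t ht et using fun i => h.R_trans (hy i) (n i) (h.aQ i) (h.an i)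
  have k := cj3 (fun i j e => h.R_Q e (ht i)) hy fun i => h.jb_Rn (ht i) (hy i)
  have t0 : ∀ i, t i ∈ h.H0 := fun i => h.mem_H0.2 ⟨(h.R_H0 (ht i)).1, (h.R_H0 (ht i)).2.1⟩
  obtain ⟨q, hq, e⟩ := killz h.toNH (mul_mem (mul_mem (h.le 0 (h.aQ 0)) (h.le 1 (h.aQ 1))) (h.le 2 (h.aQ 2)))
    h.jb_a3n (mul_mem (mul_mem (et 0) (et 1)) (et 2))
  have g0 := h.mem_H0.1 (mul_mem (h.ul_QH0 hq) (mul_mem (mul_mem (t0 0) (t0 1)) (t0 2)))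
  refine ⟨_, g0.1, g0.2, ?_⟩
  have zJ := fun i => zpowers_le.2 h.z_J (et i)
  have e1 := cm4 (p1 := t 0 * y 0 * (t 0)⁻¹ * (a 0)⁻¹) (q4 := 1) h.Jc (zJ 1) (zJ 2) (one_mem _) (h.a_J 0)
    (h.a_J 1) (h.a_J 2)
  simp only [mul_one, inv_mul_cancel_right] at e1
  rw [← e, Es.zc (mul_mem (mul_mem (et 0) (et 1)) (et 2)) (h.J_H0 (mul_mem (mul_mem (h.a_J 0) (h.a_J 1)) (h.a_J 2))).1,
    e1, ← k]
  group

theorem FS_A (hu : u ∈ AE z a) : u ∈ zpowers z ∨ ∃ g ∈ Cx z, g ∈ NE z a ∧ τ g = 1 ∧ ((∃ i, g * u * g⁻¹ = a i) ∨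
    (∃ j k, j ≠ k ∧ g * u * g⁻¹ = a j * a k) ∨ g * u * g⁻¹ = a 0 * a 1 * a 2) := by
  obtain ⟨c, m, rfl⟩ := h.A_coord hu
  have ex : ∀ i, ∃ t, t ∈ h.H0 ∧ t ∈ NE z a ∧ (∀ j, i ≠ j → Qi j ≤ Cx t) ∧
      (t * a i ^ c i * t⁻¹ = 1 ∨ t * a i ^ c i * t⁻¹ = a i) := fun i => by
    have o : ∀ j, i ≠ j → Qi j ≤ Cx (1 : G) := fun _ _ _ _ => Cx_comm.1 (one_mem _)
    rcases three_cases (h.jb_a3 i) (pow_mem (mem_zpowers _) (c i)) with e | e | e <;> rw [e]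
    · exact ⟨1, one_mem _, one_mem _, o, Or.inl (by group)⟩
    · exact ⟨1, one_mem _, one_mem _, o, Or.inr (by group)⟩
    · exact ⟨r i, h.mem_H0.2 ⟨h.rz i, h.τ_r⟩, h.r_N i, h.rj i, Or.inr (by rw [← conj_inv, h.ra, inv_inv])⟩
  choose t t0 tN tQ et using ex
  have sQ : ∀ i, t i * a i ^ c i * (t i)⁻¹ ∈ Qi i := fun i => EBp.H0n h.toNH (t0 i) (pow_mem (h.aQ i) _)
  have k := cj3 (y := fun i => a i ^ c i) tQ (fun i => pow_mem (h.aQ i) _) sQ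
  have T0 := mul_mem (mul_mem (t0 0) (t0 1)) (t0 2)
  have TN := mul_mem (mul_mem (tN 0) (tN 1)) (tN 2)
  have zm := pow_mem (mem_zpowers z) m
  have pQ := mul_mem (mul_mem (h.le 0 (sQ 0)) (h.le 1 (sQ 1))) (h.le 2 (sQ 2))
  rw [← k] at pQ
  generalize t 0 * t 1 * t 2 = T at k T0 TN pQ
  have Tz := (h.mem_H0.1 T0).1
  by_cases n : a 0 ^ c 0 * a 1 ^ c 1 * a 2 ^ c 2 ∈ zpowers z
  · exact Or.inl (mul_mem n zm)
  have n' := h.jb_cjn Tz n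
  obtain ⟨q, hq, e⟩ := killz h.toNH pQ n' zm
  have g0 := h.mem_H0.1 (mul_mem (h.ul_QH0 hq) T0)
  refine Or.inr ⟨q * T, g0.1, mul_mem (h.Q_N hq) TN, g0.2, ?_⟩
  have e' : q * T * (a 0 ^ c 0 * a 1 ^ c 1 * a 2 ^ c 2 * z ^ m) * (q * T)⁻¹ =
      T * (a 0 ^ c 0 * a 1 ^ c 1 * a 2 ^ c 2) * T⁻¹ := by
    rw [← e, ← zcj zm Tz]
    simp only [zcj zm Tz]
    conv_rhs => rw [← zcj zm Tz]
    group
  rw [e', k]
  rw [k] at n'
  rcases et 0 with e0 | e0 <;> rcases et 1 with e1 | e1 <;> rcases et 2 with e2 | e2 <;> rw [e0, e1, e2] at n' ⊢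
  · exact absurd (by simpa using one_mem _) n'
  · exact Or.inl ⟨2, by simp⟩
  · exact Or.inl ⟨1, by simp⟩
  · exact Or.inr (Or.inl ⟨1, 2, by decide, by simp⟩)
  · exact Or.inl ⟨0, by simp⟩
  · exact Or.inr (Or.inl ⟨0, 2, by decide, by simp⟩)
  · exact Or.inr (Or.inl ⟨0, 1, by decide, by simp⟩)
  · exact Or.inr (Or.inr rfl)

theorem full_iff (c : Fin 3 → ℕ) (m : ℕ) : Full Qi (a 0 ^ c 0 * a 1 ^ c 1 * a 2 ^ c 2 * z ^ m) ↔ ∀ i, ¬ 3 ∣ c i := by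
  refine forall_congr' fun i => not_congr ?_
  rw [← pow_Z (h.jb_a3 i) (h.an i)]
  exact comp3 h.toNH (y := fun i => a i ^ c i) (fun i => pow_mem (h.aQ i) _) (pow_mem (mem_zpowers z) m) i

theorem jb_AIm (hu : u ∈ JE z a) (e : ∀ i, π i u ≠ 1) : AE z a ≤ Im z Q u :=
  E3.AE_le.2 ⟨fun i => E3b.a_Im h.toET (h.jb_J0 hu) (by rw [h.J3 u hu]; exact one_mem _) (e i)
    (E3.cx_cmz (mem_JE.1 hu).1 ((mem_JE.1 hu).2 i)), z_Im h.hz (h.norm_Q (mem_JE.1 hu).1) (mem_zpowers z)⟩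

theorem conj_Q (hu : u ∈ JE z a) (e : ∀ i, π i u ≠ 1) : ∃ q ∈ Q, ∀ i, q * u * q⁻¹ ∈ Cx (r i) := by
  obtain ⟨α, hα, c, hc, k, e'⟩ := h.J_split hu
  obtain ⟨p, hp, w, hw, e1⟩ := Im_conj h.hz (h.norm_Q (mem_JE.1 hu).1) (h.jb_AIm hu e (inv_mem hα))
  refine ⟨p, hp, fun i => ?_⟩
  rw [e1, e', inv_mul_cancel_left]
  exact mul_mem (mem_Cx.2 (Es.zc hw (h.rz i)).symm) (k i)

end EX

end CfsgLib.Rec3E
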