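import Cfsg.Agent.Lib.Rec3E.JB2a
import Cfsg.Agent.Lib.Rec3E.E3p

/-! Conjugates of `z` in `J` (plans/REC3E.md, JB2). -/

set_option autoImplicit false
set_option maxRecDepth 100000
set_option maxHeartbeats 400000
set_option linter.unusedSectionVars false
set_option linter.unusedVariables false

namespace CfsgLib.Rec3E

open Subgroup Cfsg CfsgLib.Tech CfsgLib.PComp CfsgLib.W2 CfsgLib.Rec3 CfsgLib.Rec3B CfsgLib.Rec3B.W4
open CfsgLib.U43 (SL)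

variable {G : Type*} [Group G] [Finite G]
variable {z x σ : G} {Q : Subgroup G} {Qi : Fin 3 → Subgroup G} {r a b : Fin 3 → G} {π : Fin 3 → G → SL}
  {τ : G → Equiv.Perm (Fin 3)} {i j k : Fin 3} {φ : W4 →* G}

namespace JBy

open CfsgLib.Sect Es NBx FT E3y

set_option synthInstance.maxSize 2000 in
theorem sw : ∀ t s : Equiv.Perm (Fin 3), t ^ 3 ≠ 1 → (∀ l, s l = l + 1) →
    ∀ i j k : Fin 3, i ≠ j → i ≠ k → j ≠ k → ∃ m : Fin 3, (s ^ m.1 * t) i = i ∧ (s ^ m.1 * t) j = k ∧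
      (s ^ m.1 * t) k = j := by decide +kernel

theorem c3 : ∀ l : Fin 3, l = 0 ∨ l = 1 ∨ l = 2 := by decide

variable (h : EX z Q Qi r π τ a b x σ) {g n u w d : G}
include h

theorem rl (i : Fin 3) : Rel z (a i) (b i) (a (i + 1)) (b (i + 1)) x (r i) (r (i + 1)) :=
  h.rel i (i + 1) ((by decide : ∀ i : Fin 3, i ≠ i + 1) i)

theorem bQ (i : Fin 3) : b i ∈ Qi i := h.gen i ▸ subset_closure (by simp)

theorem a3 (i : Fin 3) : a i ^ 3 = 1 := (rl h i).a3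

theorem aQ' (i : Fin 3) : a i ∈ Q := h.le i (h.aQ i)

theorem xz : x ∈ Cx z := (mem_JE.1 h.xJ).1

theorem xQ : x ∉ Q := fun e => h.πx 0 (h.π_Q e)

theorem xρ : x ∈ Cx (rho r) := Cx_comm.1 (prod_mem fun i => Cx_comm.1 (h.xr i))

theorem JC (hu : u ∈ JE z a) : JE z a ≤ Cx u := fun v hv => mem_Cx.2 (h.Jc v hv u hu)

theorem AQ : AE z a ≤ Q := h.QJ.ge.trans inf_le_left

theorem AJ : AE z a ≤ JE z a := h.QJ.ge.trans inf_le_right

theorem AJ5 : AE z a ≤ J5 z x a := AE_le.2 ⟨F4x.aJ, F4x.zJ⟩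

theorem a_Im (i : Fin 3) : a i ∈ Im z Q x := by
  have n := h.norm_Q (xz h)
  convert mul_mem (cm_Im h.hz n (inv_mem (h.le i (bQ h i)))) (z_Im h.hz n (mem_zpowers z)) using 1
  calc _ = (b i)⁻¹ * (b i * a i * z⁻¹) * z := by group
    _ = _ := by rw [← (rl h i).xb]; group

theorem memA (hu : u ∈ Q) (e : x ∈ cmz z u) : u ∈ AE z a := h.QJ.le (mem_inf.2 ⟨hu, mem_JE.2 ⟨h.zc hu, fun i =>
  Cx_comm.1 (Im_perp h.hz (h.norm_Q (xz h)) (xz h) hu e.2 (a_Im h i))⟩⟩)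

/-- an element of `Q` centralising a factor is not conjugate to `z` -/
theorem nf (hu : u ∈ Q) (hn : u ∉ zpowers z) (hi : u ∈ centralizer (Qi i : Set G)) : g * z * g⁻¹ ≠ u := fun e =>
  h.wc g (e ▸ hu) (e ▸ hn) i fun q hq => mem_Cx.2 (e ▸ hi q hq)

theorem aa_n (jk : j ≠ k) {s t : G} (hs : s ∈ zpowers (a j)) (ht : t ∈ zpowers (a k)) (e : s * t ∈ Qi j) : t = 1 :=
  eq_one_of (a3 h k) ht (h.inf_le jk ((mul_mem_cancel_left (zpowers_le.2 (h.aQ j) hs)).1 e)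
    (zpowers_le.2 (h.aQ k) ht)) (h.an k)

theorem b_n (jk : j ≠ k) : a j * a k ∉ Qi j := fun e =>
  h.an k (aa_n h jk (mem_zpowers _) (mem_zpowers _) e ▸ one_mem _)

theorem inv_a (hd : d ∈ JE z a) (e : r i * d * (r i)⁻¹ = d⁻¹) : d ∈ zpowers (a i) := by
  refine of_sq (h.J3 d hd) ?_
  convert h.Jr hd i using 1
  calc d * d = d * (r i * d * (r i)⁻¹)⁻¹ := by rw [e, inv_inv]
    _ = _ := by group

theorem K0_of (hg : g ∈ Cx (r i)) (hd : g * a i * g⁻¹ ∈ JE z a) :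
    g * a i * g⁻¹ ∈ zpowers (a i) ∧ (g ∈ K0 (a i) (r i) ∨ g * r i ∈ K0 (a i) (r i)) := by
  have k := inv_a h (i := i) hd (by
    calc _ = r i * g * (r i)⁻¹ * (r i * a i * (r i)⁻¹) * (r i * g * (r i)⁻¹)⁻¹ := by group
      _ = _ := by rw [mem_Cx'.1 (Cx_comm.1 hg), h.ra]; group)
  refine ⟨k, ?_⟩
  rcases three_cases (a3 h i) k with e | e | e
  · exact absurd (by simpa using e : a i = 1) fun e => h.an i (e ▸ one_mem _)
  · exact Or.inl (mem_inf.2 ⟨mem_Cx'.2 e, hg⟩)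
  · refine Or.inr (mem_inf.2 ⟨mem_Cx'.2 ?_, mul_mem hg (mem_Cx.2 rfl)⟩)
    calc _ = g * (r i * a i * (r i)⁻¹) * g⁻¹ := by group
      _ = (g * a i * g⁻¹)⁻¹ := by rw [h.ra]; group
      _ = _ := by rw [e, inv_inv]

theorem conjN (hu : u ∈ Q) (hf : Full Qi u) (hJ : u ∈ JE z a) : ∃ n ∈ NE z a, n * z * n⁻¹ = u := by
  obtain ⟨g, e⟩ := h.full_conj hu hf
  obtain ⟨n, hn, e'⟩ := h.ctl z h.z_J g (e ▸ hJ)
  exact ⟨n, hn, e'.trans e⟩

theorem full_n (hf : Full Qi u) : u ∉ zpowers z := fun e =>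
  hf 0 fun q hq => mem_Cx.2 (Es.zc e (h.Qz 0 hq))

theorem full_of {c : Fin 3 → G} (hc : ∀ l, c l ∈ Qi l) (hn : ∀ l, c l ∉ zpowers z) (hw : w ∈ zpowers z) :
    Full Qi (c 0 * c 1 * c 2 * w) := fun l e => hn l (h.comp hc fun q hq => by
  have := (mul_mem_cancel_right (mem_Cx.2 (Es.zc hw (h.Qz l hq)).symm)).1 (Cx_comm.1 (e hq))
  simpa [mul_assoc] using this)

omit h in
/-- the elements acting trivially on `J / J5` -/
def Np (z x : G) (a : Fin 3 → G) : Subgroup G where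
  carrier := {n | n ∈ NE z a ∧ ∀ u ∈ JE z a, n * u * n⁻¹ * u⁻¹ ∈ J5 z x a}
  one_mem' := ⟨one_mem _, fun u hu => by simp⟩
  mul_mem' := fun {s t} hs ht => ⟨mul_mem hs.1 ht.1, fun u hu => by
    convert mul_mem (hs.2 _ (conj_mem_of_mem_normalizer ht.1 hu)) (ht.2 u hu) using 1
    group⟩
  inv_mem' := fun {s} hs => ⟨inv_mem hs.1, fun u hu => by
    convert inv_mem (hs.2 _ (conj_mem_of_mem_normalizer (inv_mem hs.1) hu)) using 1
    group⟩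

theorem Np_cj (hn : n ∈ NE z a) (hg : g ∈ Np z x a) : n * g * n⁻¹ ∈ Np z x a :=
  ⟨mul_mem (mul_mem hn hg.1) (inv_mem hn), fun u hu => by
    convert conj_mem_of_mem_normalizer (h.NJ5 hn) (hg.2 _ (conj_mem_of_mem_normalizer (inv_mem hn) hu)) using 1
    group⟩

theorem Np_of (hs : NoSw z τ) (hg : g ∈ Cx z) (hn : g ∈ NE z a) : g ∈ Np z x a :=
  ⟨hn, fun u hu => (h.N_J hg hn hu).1 (hs g hg)⟩

theorem to_w (hs : NoSw z τ) (hn : n ∈ NE z a) (e : g * z * g⁻¹ ∈ cj n Q) (hJ : g * z * g⁻¹ ∈ JE z a)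
    (h1 : g * z * g⁻¹ ∉ zpowers (n * z * n⁻¹)) :
    ∃ m ∈ Np z x a, m * (g * z * g⁻¹) * m⁻¹ = n * (a 0 * a 1 * a 2) * n⁻¹ := by
  have e0 : n⁻¹ * (g * z * g⁻¹) * n = n⁻¹ * g * z * (n⁻¹ * g)⁻¹ := by group
  have k1 := mem_cj.1 e
  have k2 : n⁻¹ * (g * z * g⁻¹) * n ∉ zpowers z := fun k => h1 (by
    convert (conj_zp (g := n)).2 k using 1
    group)
  rcases h.FS_A (h.QJ.le (mem_inf.2 ⟨k1, conj_mem_of_mem_normalizer' hn hJ⟩)) with k | ⟨c, cz, cN, -, k⟩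
  · exact absurd k k2
  have e1 : c * (n⁻¹ * (g * z * g⁻¹) * n) * c⁻¹ = c * n⁻¹ * g * z * (c * n⁻¹ * g)⁻¹ := by group
  have k3 : c * (n⁻¹ * (g * z * g⁻¹) * n) * c⁻¹ ∉ zpowers z := fun k =>
    k2 ((conj_zp (g := c)).1 (by rwa [mem_Cx'.1 cz]))
  rcases k with ⟨l, k⟩ | ⟨l, m, lm, k⟩ | k
  · obtain ⟨p, p1, -⟩ := F4x.third l l
    exact absurd (e1.symm.trans k) (nf h (aQ' h l) (h.an l) (le_cent h.toNH p1 (h.aQ l)))
  · obtain ⟨p, p1, p2⟩ := F4x.third l m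
    exact absurd (e1.symm.trans k) (nf h (mul_mem (aQ' h l) (aQ' h m)) (k ▸ k3)
      (mul_mem (le_cent h.toNH p1 (h.aQ l)) (le_cent h.toNH p2 (h.aQ m))))
  · exact ⟨_, Np_cj h hn (Np_of h hs cz cN), by rw [← k]; group⟩

end JBy

open CfsgLib.Sect Es NBx FT E3y JBy

namespace EX

variable (h : EX z Q Qi r π τ a b x σ) {g n u w : G}
include h

theorem ns1 (hw : g * z * g⁻¹ ∈ Q) (hn : g * z * g⁻¹ ∉ zpowers z) (hu : u ∈ Qi i) (hu' : u ∈ cj g Q) :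
    u ∈ zpowers z := (mkPQ h.toNH hw hn).RQi hu hu'

theorem bw (jk : j ≠ k) : ∃ g ∈ NE z a, g ∈ Cx (a j * a k) ∧ g * z * g⁻¹ ∈ Q ∧ g * z * g⁻¹ ∉ zpowers z := by
  obtain ⟨i, ji, ki⟩ := F4x.third j k
  have cm : ∀ l m, a l * a m = a m * a l := fun l m => h.Jc _ (h.a_J l) _ (h.a_J m)
  have wQ : a i * a j * (a k)⁻¹ ∈ Q := mul_mem (mul_mem (aQ' h i) (aQ' h j)) (inv_mem (aQ' h k))
  have wf : Full Qi (a i * a j * (a k)⁻¹) := fun l e => by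
    have c : ∀ m, m ≠ l → ∀ q ∈ Qi l, a m ∈ Cx q := fun m ml q hq => mem_Cx.2 (h.cm m l ml _ (h.aQ m) q hq)
    refine h.an l (h.cen l _ (h.aQ l) fun q hq => (mem_Cx.1 ?_).symm)
    have := Cx_comm.1 (e hq)
    rcases (by decide : ∀ i j k l : Fin 3, j ≠ k → j ≠ i → k ≠ i → l = i ∨ l = j ∨ l = k) i j k l jk ji ki with
      rfl | rfl | rfl
    · rwa [mul_mem_cancel_right (inv_mem (c k ki q hq)), mul_mem_cancel_right (c j ji q hq)] at this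
    · rwa [mul_mem_cancel_right (inv_mem (c k jk.symm q hq)), mul_mem_cancel_left (c i ji.symm q hq)] at this
    · rwa [mul_mem_cancel_left (mul_mem (c i ki.symm q hq) (c j jk q hq)), inv_mem_iff] at this
  obtain ⟨n, hn, e⟩ := conjN h wQ wf (mul_mem (mul_mem (h.a_J i) (h.a_J j)) (inv_mem (h.a_J k)))
  have wn := full_n h wf
  rw [← e] at wQ wn
  have P := mkPQ h.toNH wQ wn
  obtain ⟨c, cR, cA⟩ : ∃ c ∈ cj n Q, c * x⁻¹ ∈ AE z a := by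
    obtain ⟨c, hc, cQ⟩ := SetLike.not_le_iff_exists.1 fun k : cj n (AE z a) ≤ Q =>
      h.an i (P.RQi (h.aQ i) (cj_mono n (AQ h) ((eq_of_le_of_card_ge (le_trans (le_inf k
        ((cj_mono n (AJ h)).trans (mem_normalizer_iff_cj.1 hn).le)) h.QJ.le) (card_cj n _).ge).ge (aA i))))
    have c5 : c ∈ J5 z x a := (mem_normalizer_iff_cj.1 (h.NJ5 hn)).le (cj_mono n (AJ5 h) hc)
    have cJ := h.J5_le c5
    obtain ⟨m, hm⟩ := (h.J5_iff cJ).1 c5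
    rcases h.full_J cJ (fun l e => cQ (h.mem_Q (h.J_H0 cJ).1 (h.J_H0 cJ).2.1 fun p => by
      rw [hm] at e ⊢
      exact (by decide +kernel : ∀ s t : SL, s ^ 3 = 1 → t ^ 3 = 1 → s ≠ 1 → ∀ m : Fin 3, s ^ m.1 = 1 → t ^ m.1 = 1)
        _ _ ((h.J_H0 h.xJ).2.2 l) ((h.J_H0 h.xJ).2.2 p) (h.πx l) ⟨m % 3, Nat.mod_lt _ (by decide)⟩
        (by rwa [← pow_eq_pow_mod _ ((h.J_H0 h.xJ).2.2 l)]) ▸ pow_eq_pow_mod _ ((h.J_H0 h.xJ).2.2 p))) with k | k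
    · exact ⟨c, cj_mono n (AQ h) hc, k⟩
    · refine ⟨c⁻¹, inv_mem (cj_mono n (AQ h) hc), ?_⟩
      rw [← mul_inv_rev, h.Jc _ h.xJ _ cJ]
      exact inv_mem k
  have R := h.rel j k jk
  have βQ := mul_mem (h.le j (bQ h j)) (h.le k (bQ h k))
  have βw : b j * b k ∈ Cx (n * z * n⁻¹) := by
    rw [e, mem_Cx']
    have e1 : b j * a j * (b j)⁻¹ = z⁻¹ * a j := by
      rw [eq_inv_mul_iff_mul_eq, ← mul_assoc, ← R.ab, mul_inv_cancel_right]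
    have e2 : b k * a k * (b k)⁻¹ = z⁻¹ * a k := by
      rw [eq_inv_mul_iff_mul_eq, ← mul_assoc, ← R.cd, mul_inv_cancel_right]
    have f : ∀ {l m}, l ≠ m → b l * a m * (b l)⁻¹ = a m := fun {l m} e => by
      rw [h.cm l m e _ (bQ h l) _ (h.aQ m), mul_inv_cancel_right]
    calc _ = b j * (b k * a i * (b k)⁻¹) * (b j)⁻¹ * (b j * (b k * a j * (b k)⁻¹) * (b j)⁻¹) *
          (b j * (b k * a k * (b k)⁻¹) * (b j)⁻¹)⁻¹ := by group
      _ = a i * (z⁻¹ * a j) * (b j * z⁻¹ * (b j)⁻¹ * (b j * a k * (b j)⁻¹))⁻¹ := by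
          rw [f ki, f ji, f jk.symm, e1, e2]; group
      _ = a i * (z⁻¹ * (a j * (a k)⁻¹) * z⁻¹⁻¹) := by
          rw [f jk, zcj (inv_mem (mem_zpowers z)) (h.Qz j (bQ h j))]; group
      _ = _ := by
          rw [mem_Cx'.1 (inv_mem (Cx_comm.1 (h.zc (mul_mem (aQ' h j) (inv_mem (aQ' h k)))))), mul_assoc]
  have bR : a j * a k ∈ cj n Q := by
    have k1 := mul_mem (conj_mem_of_mem_normalizer (P.M.nQ (inv_mem βw)) cR) (inv_mem cR)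
    have k2 := h.cmt _ (AQ h cA) _ (conj_mem_of_mem_normalizer (h.norm_Q (xz h)) βQ)
    have k3 := zpowers_le.2 P.zR k2
    rw [← zcj k2 (inv_mem (h.zc βQ))] at k3
    have e1 : (b j * b k)⁻¹ * (x * (b j * b k) * x⁻¹) = a j * z⁻¹ * (a k * z⁻¹) := by
      calc _ = (b k)⁻¹ * ((b j)⁻¹ * (x * b j * x⁻¹)) * b k * ((b k)⁻¹ * (x * b k * x⁻¹)) := by group
        _ = (b k)⁻¹ * (a j * z⁻¹) * (b k)⁻¹⁻¹ * (a k * z⁻¹) := by rw [R.xb, R.xd]; group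
        _ = _ := by
          rw [h.cm k j jk.symm _ (inv_mem (bQ h k)) _ (mul_mem (h.aQ j) (inv_mem (h.zQ j))), mul_inv_cancel_right]
    have k4 : a j * z⁻¹ * (a k * z⁻¹) ∈ cj n Q := by
      rw [← e1]
      convert mul_mem (inv_mem k3) k1 using 1
      group
    rw [mul_assoc, ← mul_assoc z⁻¹, mem_Cx.1 (inv_mem (Cx_comm.1 (h.Qz k (h.aQ k)))), ← mul_assoc, ← mul_assoc] at k4
    exact (mul_mem_cancel_right (inv_mem P.zR)).1 ((mul_mem_cancel_right (inv_mem P.zR)).1 k4)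
  have bQ' := mul_mem (aQ' h j) (aQ' h k)
  have bn : a j * a k ∉ zpowers z := fun e => b_n h jk (h.ZQi j e)
  have bc := mul_mem (le_cent h.toNH ji (h.aQ j)) (le_cent h.toNH ki (h.aQ k))
  have z' := mem_cj.1 P.zR
  have zn' : n⁻¹ * z * n ∉ zpowers z := fun k => P.zn (by
    convert (conj_zp (g := n)).2 k using 1
    group)
  have fin : ∀ c ∈ Cx z, c * n⁻¹ * z * (c * n⁻¹)⁻¹ ∈ Q ∧ c * n⁻¹ * z * (c * n⁻¹)⁻¹ ∉ zpowers z := fun c cz => by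
    rw [show c * n⁻¹ * z * (c * n⁻¹)⁻¹ = c * (n⁻¹ * z * n) * c⁻¹ by group]
    exact ⟨conj_mem_of_mem_normalizer (h.norm_Q cz) z', fun k => zn' ((conj_zp (g := c)).1 (by rwa [mem_Cx'.1 cz]))⟩
  rcases h.FS_A (h.QJ.le (mem_inf.2 ⟨mem_cj.1 bR, conj_mem_of_mem_normalizer' hn (mul_mem (h.a_J j) (h.a_J k))⟩))
    with k1 | ⟨c, cz, cN, -, ⟨l, k1⟩ | ⟨l, m, lm, k1⟩ | k1⟩
  · exfalso
    rcases three_cases h.z3 k1 with k2 | k2 | k2
    · exact bn ((by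
        calc a j * a k = n * (n⁻¹ * (a j * a k) * n) * n⁻¹ := by group
          _ = 1 := by rw [k2]; group : a j * a k = 1) ▸ one_mem _)
    · exact nf h bQ' bn bc (g := n) (by rw [← k2]; group)
    · exact nf h (inv_mem bQ') (fun e => bn (inv_mem_iff.1 e)) (inv_mem bc) (g := n) (by
        rw [← inv_inv z, ← k2]; group)
  · refine absurd (h.ns1 (fin c cz).1 (fin c cz).2 (h.aQ l) (mem_cj.2 ?_)) (h.an l)
    convert bQ' using 1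
    rw [← k1]; group
  · obtain ⟨s, hs⟩ := (by decide : ∀ j k l m : Fin 3, j ≠ k → l ≠ m → ∃ s : Fin 3,
      (l + s = j ∧ m + s = k) ∨ (l + s = k ∧ m + s = j)) j k l m jk lm
    have σp : ∀ (s : Fin 3) l, σ ^ s.1 * a l * (σ ^ s.1)⁻¹ = a (l + s) := fun s l => by
      fin_cases s
      · simp
      · simpa using h.σa l
      · calc _ = σ * (σ * a l * σ⁻¹) * σ⁻¹ := by simp [sq, mul_assoc]
          _ = _ := by rw [h.σa, h.σa, add_assoc]; rfl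
    have cz' := mul_mem (pow_mem h.σz s.1) cz
    refine ⟨σ ^ s.1 * c * n⁻¹, mul_mem (mul_mem (pow_mem h.σ_N _) cN) (inv_mem hn), mem_Cx'.2 ?_, fin _ cz'⟩
    calc _ = σ ^ s.1 * (c * (n⁻¹ * (a j * a k) * n) * c⁻¹) * (σ ^ s.1)⁻¹ := by group
      _ = σ ^ s.1 * a l * (σ ^ s.1)⁻¹ * (σ ^ s.1 * a m * (σ ^ s.1)⁻¹) := by rw [k1]; group
      _ = _ := by
        rw [σp, σp]
        rcases hs with ⟨e1, e2⟩ | ⟨e1, e2⟩ <;> rw [e1, e2]
        exact cm _ _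
  · obtain ⟨g, m, e1⟩ := h.zc3
    obtain ⟨g', e2⟩ := h.full_conj (mul_mem (mul_mem (aQ' h 0) (aQ' h 1)) (aQ' h 2))
      (by simpa using full_of h h.aQ h.an (one_mem _))
    exact absurd (by
      calc _ = n * c⁻¹ * (g' * z * g'⁻¹) * (n * c⁻¹)⁻¹ := by group
        _ = _ := by rw [e2, ← k1]; group) (nf h bQ' bn bc (g := n * c⁻¹ * g'))

theorem eps (hs : NoSw z τ) (hn : n ∈ NE z a) (hu : u ∈ JE z a) : n * u * n⁻¹ * u⁻¹ ∈ J5 z x a := by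
  have wQ := mul_mem (mul_mem (aQ' h 0) (aQ' h 1)) (aQ' h 2)
  have wJ := mul_mem (mul_mem (h.a_J 0) (h.a_J 1)) (h.a_J 2)
  have wf : Full Qi (a 0 * a 1 * a 2) := by simpa using full_of h h.aQ h.an (one_mem _)
  obtain ⟨m, hm, e⟩ := conjN h wQ wf wJ
  have P := mkPQ h.toNH (e ▸ wQ : m * z * m⁻¹ ∈ Q) (e ▸ full_n h wf)
  have tz : ∀ g, g * z * g⁻¹ ∈ cj m Q → g * z * g⁻¹ ∈ JE z a → g * z * g⁻¹ ∉ zpowers (m * z * m⁻¹) →
      ∃ p ∈ Np z x a, p * (g * z * g⁻¹) * p⁻¹ = z := fun g h1 h2 h3 => by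
    obtain ⟨p, hp, e1⟩ := to_w h hs hm h1 h2 h3
    obtain ⟨q, hq, e2⟩ := to_w h hs hm (g := 1) (by simpa using P.zR) (by simpa using h.z_J) (by simpa using P.zn)
    refine ⟨q⁻¹ * p, mul_mem (inv_mem hq) hp, ?_⟩
    calc _ = q⁻¹ * (p * (g * z * g⁻¹) * p⁻¹) * q := by group
      _ = _ := by rw [e1, ← e2]; group
  have tw : ∀ g, g * z * g⁻¹ ∈ Q → g * z * g⁻¹ ∈ JE z a → g * z * g⁻¹ ∉ zpowers z →
      ∃ p ∈ Np z x a, p * (g * z * g⁻¹) * p⁻¹ = z := fun g h1 h2 h3 => by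
    have o : ∀ g, g * z * g⁻¹ ∈ Q → g * z * g⁻¹ ∈ JE z a → g * z * g⁻¹ ∉ zpowers z →
        ∃ p ∈ Np z x a, p * (g * z * g⁻¹) * p⁻¹ = a 0 * a 1 * a 2 := fun g h1 h2 h3 => by
      simpa using to_w h hs (one_mem _) (g := g) (by rwa [cj_one]) h2 (by simpa using h3)
    have wf' := full_of h h.aQ h.an (mem_zpowers z)
    obtain ⟨g', e'⟩ := h.full_conj (mul_mem wQ h.z_mem) wf'
    obtain ⟨p, hp, e1⟩ := o g h1 h2 h3
    obtain ⟨q, hq, e2⟩ := o g' (e' ▸ mul_mem wQ h.z_mem) (e' ▸ mul_mem wJ h.z_J) (e' ▸ full_n h wf')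
    obtain ⟨s, hs, e3⟩ := tz g' (by rw [e', ← e]; exact mul_mem P.M.zQ P.zR) (e' ▸ mul_mem wJ h.z_J) (by
      rw [e', ← e, mul_mem_cancel_left (mem_zpowers _)]; exact P.zn)
    refine ⟨s * q⁻¹ * p, mul_mem (mul_mem hs (inv_mem hq)) hp, ?_⟩
    calc _ = s * q⁻¹ * (p * (g * z * g⁻¹) * p⁻¹) * (s * q⁻¹)⁻¹ := by group
      _ = s * (g' * z * g'⁻¹) * s⁻¹ := by rw [e1, ← e2]; group
      _ = _ := e3
  have xR : x ∈ cj m Q := by
    obtain ⟨n1, h1, e1⟩ := h.x_conj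
    have k := fun l => h.refl h1 (e1 ▸ h.xr l)
    have := h.sym (n1⁻¹ * m) (by
      convert mul_mem (mul_mem (k 0) (k 1)) (k 2) using 1
      calc _ = n1⁻¹ * (m * z * m⁻¹) * n1 := by group
        _ = _ := by rw [e]; group)
    refine mem_cj.2 ?_
    convert this using 1
    rw [← e1]; group
  have xn : x ∉ zpowers (m * z * m⁻¹) := fun k => xQ h (zpowers_le.2 P.yQ k)
  obtain ⟨p, hp, e1⟩ : ∃ p ∈ Np z x a, p * (n * z * n⁻¹) * p⁻¹ = z := by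
    have nJ := conj_mem_of_mem_normalizer hn h.z_J
    rcases h.om nJ with k | k | ⟨q, hq, k⟩
    · exact tz n (zpowers_le.2 P.zR k) nJ fun k' =>
        h.z1 (by simpa using eq_one_of h.z3 k k' P.zn)
    · exact tw n (AQ h k.1) nJ (full_n h k.2)
    · have e2 : q * n * z * (q * n)⁻¹ = q * (n * z * n⁻¹) * q⁻¹ := by group
      obtain ⟨p, hp, e3⟩ := tz (q * n) (by
        rcases k with k | k <;> rw [e2, k]
        exacts [xR, inv_mem xR]) (conj_mem_of_mem_normalizer (mul_mem (h.Q_N hq) hn) h.z_J) (by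
        rcases k with k | k <;> rw [e2, k]
        exacts [xn, fun k' => xn (inv_mem_iff.1 k')])
      exact ⟨p * q, mul_mem hp (Np_of h hs (h.zc hq) (h.Q_N hq)), Eq.trans (by group) e3⟩
  exact ((mul_mem_cancel_left hp).1 (Np_of h hs (mem_Cx'.2 (by rw [mul_inv_rev, ← mul_assoc]; convert e1 using 1; group)) (mul_mem hp.1 hn))).2 u hu

theorem nab (hs : ¬ Sm z π τ) (jk : j ≠ k) (hn : n ∈ NE z a) : n * a j * n⁻¹ ≠ a j * a k := fun e => by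
  obtain ⟨i, ji, ki⟩ := F4x.third j k
  have b3 : (a j * a k) ^ 3 = 1 := h.J3 _ (mul_mem (h.a_J j) (h.a_J k))
  have tN := mul_mem (mul_mem hn (h.r_N j)) (inv_mem hn)
  have tJ : ∀ u ∈ JE z a, n * r j * n⁻¹ * u * (n * r j * n⁻¹)⁻¹ * u⁻¹ ∈ zpowers (a j * a k) := fun u hu => by
    have := (conj_zp (g := n)).2 (cmt_symm (h.Jr (conj_mem_of_mem_normalizer' hn hu) j))
    rw [e] at this
    convert this using 1
    group
  have tb : n * r j * n⁻¹ * (a j * a k) * (n * r j * n⁻¹)⁻¹ = (a j * a k)⁻¹ := by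
    rw [← e]
    calc _ = n * (r j * a j * (r j)⁻¹) * n⁻¹ := by group
      _ = _ := by rw [h.ra]; group
  have tt : n * r j * n⁻¹ * (n * r j * n⁻¹) = 1 := by
    calc _ = n * (r j * r j) * n⁻¹ := by group
      _ = 1 := by rw [h.rr]; group
  generalize n * r j * n⁻¹ = t at *
  have bQ' := mul_mem (aQ' h j) (aQ' h k)
  have bn : a j * a k ∉ zpowers z := fun e => b_n h jk (h.ZQi j e)
  have bc := mul_mem (le_cent h.toNH ji (h.aQ j)) (le_cent h.toNH ki (h.aQ k))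
  have tz : t ∈ Cx z := by
    by_contra c
    have k1 := tJ z h.z_J
    exact nf h (g := t) (u := t * z * t⁻¹ * z⁻¹ * z) (mul_mem (zpowers_le.2 bQ' k1) h.z_mem)
      (fun k2 => c (cmt_one (eq_one_of b3 k1 ((mul_mem_cancel_right (mem_zpowers z)).1 k2) bn)))
      (mul_mem (zpowers_le.2 bc k1) (z_cent h.toNH (mem_zpowers z))) (by group)
  by_cases c : τ t ^ 3 = 1
  · have t1 : τ t = 1 := by
      rw [pow_three, ← h.τm t tz t tz, tt, h.τ_one, mul_one] at c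
      exact c
    have f : ∀ l, a j * a k ∉ Qi l → t ∈ Cx (a l) := fun l hl => cmt_one (eq_one_of b3 (tJ _ (h.a_J l))
      (mul_mem (by simpa [t1] using h.cj_mem tz (h.aQ l)) (inv_mem (h.aQ l))) hl)
    have := mem_Cx'.1 (Cx_comm.1 (mul_mem (Cx_comm.1 (f j (b_n h jk))) (Cx_comm.1 (f k (by
      rw [h.Jc _ (h.a_J j) _ (h.a_J k)]; exact b_n h jk.symm)))))
    rw [tb, inv_eq_iff_mul_eq_one] at this
    exact bn (eq_one b3 this ▸ one_mem _)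
  · refine hs (h.sm_iff.2 fun u hu => of_sq (h.J3 u hu) ?_)
    convert mul_mem (inv_mem (zpowers_le.2 (mul_mem (F4x.aJ j) (F4x.aJ k)) (tJ u hu))) ((h.N_J tz tN hu).2 c) using 1
    group

theorem nw0 (i : Fin 3) : ∃ g ∈ K0 (a i) (r i), g * z * g⁻¹ ∈ JE z a ∧ g * z * g⁻¹ ∉ zpowers z := by
  obtain ⟨n, hn, e⟩ := h.x_conj
  obtain ⟨j, ij, -⟩ := F4x.third i i
  have back : ∀ {u v : G}, u ∈ Cx v → n⁻¹ * u * n ∈ Cx (n⁻¹ * v * n) := fun e => by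
    simpa using (conj_mem_Cx (g := n⁻¹)).2 e
  have tz : n⁻¹ * r i * n ∈ Cx z := F2y.back (Cx_comm.1 (e ▸ h.xr i))
  have yJ : ∀ {u}, u ∈ JE z a → n⁻¹ * u * n ∈ JE z a := fun e => conj_mem_of_mem_normalizer' hn e
  have yQ := h.refl hn (e ▸ h.xr j)
  have wQ : n⁻¹ * z * n ∉ Q := fun k => xQ h (by
    have := h.sym n⁻¹ (by rwa [inv_inv])
    rwa [inv_inv, e] at this)
  have yz : n⁻¹ * a j * n ∉ zpowers z := fun k => by
    rw [← conj_zp (g := n), show n * (n⁻¹ * a j * n) * n⁻¹ = a j by group, e] at k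
    exact h.an j (eq_one_of (rl h 0).x3 k (aQ' h j) (xQ h) ▸ one_mem _)
  have yt : n⁻¹ * a j * n ∈ Cx (n⁻¹ * r i * n) := back (h.rj i j ij (h.aQ j))
  obtain ⟨u, uQ, ut, uy⟩ : ∃ u ∈ Q, u ∈ Cx (n⁻¹ * r i * n) ∧ u ∉ Cx (n⁻¹ * a j * n) := by
    have t2 := F2y.back_sq (g := n) (h.rr i)
    generalize n⁻¹ * a j * n = y at yQ yz yt
    generalize n⁻¹ * r i * n = t at tz t2 yt
    by_contra k
    push Not at k
    refine yz (h.cenQ yQ fun q hq => ?_)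
    obtain ⟨p, hp, v, hv, rfl⟩ := h.hz.split (h.norm_Q tz) tz (t2 ▸ one_mem _) hq
    rw [mul_assoc, ← h.hz.comm_pn tz y ⟨yQ, yt⟩ v hv, ← mul_assoc, mem_Cx.1 (k p hp.1 hp.2), mul_assoc]
  have ur : n * u * n⁻¹ ∈ Cx (r i) := by simpa [mul_assoc] using (conj_mem_Cx (g := n)).2 ut
  have uN := mul_mem (mul_mem hn (h.Q_N uQ)) (inv_mem hn)
  have uJ := conj_mem_of_mem_normalizer uN h.z_J
  have wJ := yJ h.z_J
  have un : n * u * n⁻¹ * z * (n * u * n⁻¹)⁻¹ ∉ zpowers z := fun k => by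
    have c : u ∈ Cx (n⁻¹ * z * n) := cmt_one (eq_one_of (h.J3 _ wJ) (by
      rw [← conj_zp (g := n⁻¹), inv_inv] at k
      convert mul_mem k (inv_mem (mem_zpowers _)) using 1
      group) (cm_mem (h.norm_Q (mem_JE.1 wJ).1) uQ) wQ)
    have c2 := cmz_of (mem_JE.1 wJ).1 (Cx_comm.1 c)
    refine uy (JC h (yJ (h.a_J j)) (AJ h (memA h uQ ?_)))
    rcases h.full_J wJ (fun l k => wQ (by
      simpa using h.ZT (g := n⁻¹) (by rwa [inv_inv]) (by rwa [inv_inv]))) with k | k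
    · exact inv_mem_iff.1 ((mul_mem_cancel_left c2).1 (Q_cmz h.toNH uQ (AQ h k)))
    · exact (mul_mem_cancel_left c2).1 (Q_cmz h.toNH uQ (AQ h k))
  rcases (K0_of h ur (conj_mem_of_mem_normalizer uN (h.a_J i))).2 with k | k
  · exact ⟨_, k, uJ, un⟩
  · refine ⟨_, k, ?_⟩
    rw [show n * u * n⁻¹ * r i * z * (n * u * n⁻¹ * r i)⁻¹ = n * u * n⁻¹ * (r i * z * (r i)⁻¹) * (n * u * n⁻¹)⁻¹ by
      group, mem_Cx'.1 (h.rz i)]
    exact ⟨uJ, un⟩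

end EX

namespace EP

variable (h : EP z Q Qi r π τ a b x σ i j k φ) {g : G}
include h

theorem cent_J4 (hg : ∀ v ∈ JJ, g ∈ Cx (φ v)) : g ∈ JE z a ∨ g * r i ∈ JE z a := by
  have H := h.toEX
  have gz : g ∈ Cx z := h.ez ▸ hg gz (by decide +kernel)
  have gx : g ∈ Cx x := h.ex ▸ hg gx (by decide +kernel)
  have gj : g ∈ Cx (a j) := h.ea ▸ hg ga (by decide +kernel)
  have gk : g ∈ Cx (a k) := h.ec ▸ hg gc (by decide +kernel)
  have f : ∀ l, g ∈ Cx (a l) → τ g l = l := fun l e =>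
    (h.π_cube gz (h.aQ l) (h.an l) (by rw [cmt_of e]; exact one_mem _)).1
  have t := F2x.fix_two _ j k h.jk (f j gj) (f k gk)
  have al := (by decide : ∀ i j k l : Fin 3, i ≠ j → i ≠ k → j ≠ k → l = i ∨ l = j ∨ l = k) i j k
  have fin : ∀ c ∈ Cx z, c ∈ Cx x → c ∈ Cx (a j) → c ∈ Cx (a k) → c * a i * c⁻¹ * (a i)⁻¹ ∈ zpowers z →
      c ∈ JE z a := fun c cz cx cj ck ci => by
    obtain ⟨q, hq, d, hd, -, rfl⟩ := H.mem_QJ cz fun l => by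
      rcases al l h.ij h.ik h.jk with rfl | rfl | rfl
      · exact ci
      · rw [cmt_of cj]; exact one_mem _
      · rw [cmt_of ck]; exact one_mem _
    exact mul_mem (AJ H (memA H hq (cmz_of (JBy.xz H)
      (Cx_comm.1 ((mul_mem_cancel_right (JC H h.xJ hd)).1 cx))))) hd
  have d1 : g * a i * g⁻¹ ∈ Qi i := by simpa [t] using h.cj_mem gz (h.aQ i)
  have d2 : g * a i * g⁻¹ ∈ Cx x := mul_mem (mul_mem gx (JC H h.xJ (H.a_J i))) (inv_mem gx)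
  obtain ⟨u, hu, w, hw, e⟩ := QA h.toNH (h.aQ i) (h.an i) d1
    (JC H (H.a_J i) (AJ H (memA H (h.le i d1) (cmz_of (JBy.xz H) (Cx_comm.1 d2)))))
  rw [Es.zc hw (h.Qz i (zpowers_le.2 (h.aQ i) hu))] at e
  rcases three_cases (a3 H i) hu with rfl | rfl | rfl
  · exact absurd ((conj_zp (g := g)).1 (by rwa [mem_Cx'.1 gz, e, mul_one])) (h.an i)
  · exact Or.inl (fin g gz gx gj gk (by rwa [e, mul_inv_cancel_right]))
  · refine Or.inr (fin _ (mul_mem gz (h.rz i)) (mul_mem gx (Cx_comm.1 (h.xr i)))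
      (mul_mem gj (Cx_comm.1 (h.rj i j h.ij (h.aQ j)))) (mul_mem gk (Cx_comm.1 (h.rj i k h.ik (h.aQ k)))) ?_)
    convert inv_mem hw using 1
    calc _ = g * (r i * a i * (r i)⁻¹) * g⁻¹ * (a i)⁻¹ := by group
      _ = (g * a i * g⁻¹)⁻¹ * (a i)⁻¹ := by rw [h.ra]; group
      _ = a i * w⁻¹ * (a i)⁻¹ := by rw [e]; group
      _ = _ := zcj (inv_mem hw) (h.Qz i (h.aQ i))

theorem NJ4 (hg : g ∈ Cx (r i)) (hn : g ∈ NJ φ) : g ∈ NE z a ∧ (g ∈ K0 (a i) (r i) ∨ g * r i ∈ K0 (a i) (r i)) := by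
  have H := h.toEX
  have J4 : JJ.map φ ≤ JE z a := (H.phi_J h).le.trans (inf_le_left.trans H.J5_le)
  have k1 : ∀ u ∈ JE z a, ∀ v ∈ JJ, g * u * g⁻¹ ∈ Cx (φ v) := fun u hu v hv => by
    simpa [mul_assoc] using (conj_mem_Cx (g := g)).2
      (JC H (J4 (conj_mem_of_mem_normalizer' hn (mem_map_of_mem φ hv))) hu)
  have k2 : g * a i * g⁻¹ ∈ JE z a := (h.cent_J4 (k1 _ (H.a_J i))).resolve_right fun e => by
    have e1 : g * a i * g⁻¹ * r i * (g * a i * g⁻¹ * r i) = 1 := by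
      calc _ = g * a i * g⁻¹ * (r i * g * (r i)⁻¹ * (r i * a i * (r i)⁻¹) * (r i * g * (r i)⁻¹)⁻¹) * (r i * r i) := by
            group
        _ = 1 := by rw [mem_Cx'.1 (Cx_comm.1 hg), h.ra, h.rr]; group
    have e2 := eq_inv_of_mul_eq_one_left (eq_one (h.J3 _ e) e1)
    have e3 : g * a i * g⁻¹ = 1 := eq_one (conj3 (a3 H i) g) (by rw [e2, ← mul_inv_rev, h.rr, inv_one])
    exact h.an i ((by simpa using e3 : a i = 1) ▸ one_mem _)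
  obtain ⟨k3, k4⟩ := K0_of H hg k2
  refine ⟨mem_normalizer_of_forall fun u hu => mem_JE.2 ⟨h.ez ▸ k1 u hu gz (by decide +kernel), fun l => ?_⟩, k4⟩
  rcases (by decide : ∀ i j k l : Fin 3, i ≠ j → i ≠ k → j ≠ k → l = i ∨ l = j ∨ l = k) i j k l h.ij h.ik h.jk with
    rfl | rfl | rfl
  · refine Cx_comm.1 (mem_of_ne (a3 H l) k3 (Cx_comm.1 (conj_mem_Cx.2 ((mem_JE.1 hu).2 l))) fun e => ?_)
    exact h.an l ((by simpa using e : a l = 1) ▸ one_mem _)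
  · exact h.ea ▸ k1 u hu ga (by decide +kernel)
  · exact h.ec ▸ k1 u hu gc (by decide +kernel)

theorem NJ4' (hg : g ∈ Cx (r i)) (hn : g ∈ NE z a) : g ∈ NJ φ := by
  rw [NJ, h.toEX.phi_J h]
  exact mem_normalizer_of_forall fun u hu => mem_inf.2 ⟨conj_mem_of_mem_normalizer (h.toEX.NJ5 hn) hu.1,
    mul_mem (mul_mem hg hu.2) (inv_mem hg)⟩

theorem exists_swap (hs : ¬ NoSw z τ) : ∃ ω ∈ K0 (a i) (r i), Swap φ ω ∧ ω * ω = 1 ∧ τ ω ≠ 1 := by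
  have H := h.toEX
  obtain ⟨g, gz, gρ, t1, t2, t3⟩ : ∃ g ∈ Cx z, g ∈ Cx (rho r) ∧ τ g i = i ∧ τ g j = k ∧ τ g k = j := by
    rw [NoSw] at hs
    push Not at hs
    obtain ⟨g, gz, e⟩ := hs
    obtain ⟨m, hm⟩ := sw _ _ e h.τσ i j k h.ij h.ik h.jk
    have c := mul_mem (pow_mem h.σz m.1) gz
    obtain ⟨q, hq, e⟩ := h.exists_X c
    refine ⟨_, mul_mem (inv_mem (h.zc hq)) c, e, ?_⟩
    rwa [τ_mul_Q h.toNH (inv_mem hq) c, h.τm _ (pow_mem h.σz _) _ gz, h.τ_pow h.σz]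
  have Y : ∀ l, ∃ y ∈ RE z Q (r (τ g l)), y * (g * a l * g⁻¹) * y⁻¹ = a (τ g l) := fun l => by
    obtain ⟨y, hy, e⟩ := h.toEH.R_trans (h.cj_mem gz (h.aQ l))
      (fun k => h.an l ((conj_zp (g := g)).1 (by rwa [mem_Cx'.1 gz]))) (h.aQ _) (h.an _)
    refine ⟨y, hy, mul_inv_eq_one.1 (un h.z3 (h.rz (τ g l)) (h.Qz _ (h.aQ _)) e (h.ra _) ?_)⟩
    have c := mem_Cx'.1 (Cx_comm.1 ((h.toEH.R_H0 hy).2.2.2.2 (τ g l)))
    rw [inv_mul_cancel_right]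
    calc _ = r (τ g l) * y * (r (τ g l))⁻¹ * (r (τ g l) * (g * a l * g⁻¹) * (r (τ g l))⁻¹) *
          (r (τ g l) * y * (r (τ g l))⁻¹)⁻¹ := by group
      _ = y * (g * (r l * a l * (r l)⁻¹) * g⁻¹) * y⁻¹ := by rw [c, ← h.X_r gz gρ]; group
      _ = _ := by rw [h.ra]; group
  choose y hy ey using Y
  have y0 := fun l => h.toEH.R_H0 (hy l)
  have yc : ∀ l m, l ≠ m → ∀ q ∈ Qi (τ g m), y l * q * (y l)⁻¹ = q := fun l m e q hq =>
    mem_Cx'.1 (Cx_comm.1 (h.toEH.R_Q (fun k => e ((τ g).injective k)) (hy l) hq))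
  have yρ : ∀ l, y l ∈ Cx (rho r) := fun l => Cx_comm.1 (prod_mem fun m => Cx_comm.1 ((y0 l).2.2.2.2 m))
  have Yz := mul_mem (mul_mem (y0 0).1 (y0 1).1) (y0 2).1
  have cz := mul_mem Yz gz
  have cρ := mul_mem (mul_mem (mul_mem (yρ 0) (yρ 1)) (yρ 2)) gρ
  have cτ : τ (y 0 * y 1 * y 2 * g) = τ g := by
    rw [h.τm _ Yz _ gz, h.τm _ (mul_mem (y0 0).1 (y0 1).1) _ (y0 2).1, h.τm _ (y0 0).1 _ (y0 1).1, (y0 0).2.1,
      (y0 1).2.1, (y0 2).2.1]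
    simp
  have ca : ∀ l, y 0 * y 1 * y 2 * g * a l * (y 0 * y 1 * y 2 * g)⁻¹ = a (τ g l) := fun l => by
    have p := h.cj_mem gz (h.aQ l)
    rw [show y 0 * y 1 * y 2 * g * a l * (y 0 * y 1 * y 2 * g)⁻¹ =
      y 0 * (y 1 * (y 2 * (g * a l * g⁻¹) * (y 2)⁻¹) * (y 1)⁻¹) * (y 0)⁻¹ by group]
    rcases c3 l with rfl | rfl | rfl
    · rw [yc 2 0 (by decide) _ p, yc 1 0 (by decide) _ p, ey]
    · rw [yc 2 1 (by decide) _ p, ey, yc 0 1 (by decide) _ (h.aQ _)]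
    · rw [ey, yc 1 2 (by decide) _ (h.aQ _), yc 0 2 (by decide) _ (h.aQ _)]
  rw [← cτ] at t1 t2 t3 ca
  generalize y 0 * y 1 * y 2 * g = c at *
  have tt : ∀ l, τ c (τ c l) = l := fun l => by
    rcases (by decide : ∀ i j k l : Fin 3, i ≠ j → i ≠ k → j ≠ k → l = i ∨ l = j ∨ l = k) i j k l h.ij h.ik h.jk with
      rfl | rfl | rfl
    · rw [t1, t1]
    · rw [t2, t3]
    · rw [t3, t2]
  have c2 : c * c ∈ JE z a := mem_JE.2 ⟨mul_mem cz cz, fun l => mem_Cx'.2 (by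
    calc _ = c * (c * a l * c⁻¹) * c⁻¹ := by group
      _ = _ := by rw [ca, ca, tt])⟩
  have ωz := mul_mem cz (mul_mem cz cz)
  have ωρ := mul_mem cρ (mul_mem cρ cρ)
  have ωa : ∀ l, c * (c * c) * a l * (c * (c * c))⁻¹ = a (τ c l) := fun l => by
    calc _ = c * (c * c * a l * (c * c)⁻¹) * c⁻¹ := by group
      _ = _ := by rw [mem_Cx'.1 ((mem_JE.1 c2).2 l), ca]
  have ωτ : τ (c * (c * c)) = τ c := by rw [h.τm _ cz _ (mul_mem cz cz), (H.J_H0 c2).2.1, mul_one]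
  have ω2 : c * (c * c) * (c * (c * c)) = 1 := by rw [← h.J3 _ c2, pow_three]; group
  rw [← ωτ] at t1 t2 t3 ωa
  generalize c * (c * c) = ω at *
  have xρ := JBy.xρ H
  have k : ω * x * ω⁻¹ * x⁻¹ ∈ zpowers z := h.inf_X.le (mem_inf.2 ⟨AQ H (H.N_x ωz (H.mem_N ωz fun l =>
    ωa l ▸ H.a_J _)), mul_mem (mul_mem (mul_mem ωρ xρ) (inv_mem ωρ)) (inv_mem xρ)⟩)
  refine ⟨ω, mem_inf.2 ⟨mem_Cx'.2 (by rw [ωa, t1]), mem_Cx'.2 (by rw [h.X_r ωz ωρ, t1])⟩,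
    ⟨h.ez ▸ ωz, h.ex ▸ cmt_one (eq_one (zcube h.z3 k) ?_), by rw [h.ea, h.ec, ωa, t2], by rw [h.ea, h.ec, ωa, t3]⟩,
    ω2, fun e => h.jk (by rw [← t2, e]; rfl)⟩
  calc _ = ω * (ω * x * ω⁻¹ * x⁻¹) * ω⁻¹ * (ω * x * ω⁻¹ * x⁻¹) := by rw [zcj k ωz]
    _ = ω * ω * x * (ω * ω)⁻¹ * x⁻¹ := by group
    _ = 1 := by rw [ω2]; group

end EP

end CfsgLib.Rec3E
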