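import Cfsg.Agent.Lib.Rec3E.JB1
import Cfsg.Agent.Lib.Rec3E.T3

/-! Conjugates of `z` in `J` (plans/REC3E.md, JB2). -/

set_option autoImplicit false
set_option maxRecDepth 100000
set_option maxHeartbeats 400000
set_option linter.unusedSectionVars false

namespace CfsgLib.Rec3E

open Subgroup Cfsg CfsgLib.Tech CfsgLib.PComp CfsgLib.W2 CfsgLib.Rec3 CfsgLib.Rec3B CfsgLib.Rec3B.W4
open CfsgLib.U43 (SL)

variable {G : Type*} [Group G] [Finite G]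
variable {z x σ : G} {Q : Subgroup G} {Qi : Fin 3 → Subgroup G} {r a b : Fin 3 → G} {π : Fin 3 → G → SL}
  {τ : G → Equiv.Perm (Fin 3)} {i j k : Fin 3} {φ : W4 →* G}

open CfsgLib.Sect Es NBx FT G2x

namespace J2a

theorem q8_root {t : G} {R : Subgroup G} (q : Q8 t R) : ∃ y ∈ R, y * y = t := by
  by_contra k
  push Not at k
  have : R ≤ zpowers t := fun y hy => by
    rcases q.sq y hy with e | e | e
    exacts [e ▸ one_mem _, e ▸ mem_zpowers _, absurd e (k y hy)]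
  have := card_le_of_le this
  rw [q.card, Nat.card_zpowers] at this
  have := orderOf_le_of_pow_eq_one (n := 2) (by norm_num) ((pow_two t).trans q.rr)
  omega

theorem shift {p u v : G} (z3 : z ^ 3 = 1) (pz : p ∈ Cx z) (e : p * u * p⁻¹ * u⁻¹ ∈ zpowers z) (ne : p ∉ Cx u)
    (hv : v ∈ zpowers z) : ∃ y, y * u * y⁻¹ = v * u := by
  have c1 : p * u * p⁻¹ * u⁻¹ ≠ 1 := fun k => ne (cmt_one k)
  have c3 : (p * u * p⁻¹ * u⁻¹) ^ 3 = 1 := by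
    rcases three_cases z3 e with k | k | k <;> rw [k] <;> simp [z3]
  rcases three_cases c3 (zpowers_le.2 (mem_of_ne z3 e (mem_zpowers _) c1) hv) with k | k | k <;> rw [k]
  · exact ⟨1, by group⟩
  · exact ⟨p, by group⟩
  · refine ⟨p⁻¹, ?_⟩
    calc _ = p⁻¹ * ((p * u * p⁻¹ * u⁻¹)⁻¹ * p) * u * p⁻¹ * p := by group
      _ = _ := by rw [← Es.zc (inv_mem e) pz]; group

theorem others : ∀ i : Fin 3, ∃ j k, i ≠ j ∧ i ≠ k ∧ j ≠ k := by decide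

theorem om_or : ∀ v, W4.vec v ∉ QQ → Om (W4.vec v) ∨
    ∃ s, W4.vec (W4.act s v) = gx * gz ∨ W4.vec (W4.act s v) = gx * gz⁻¹ ∨ W4.vec (W4.act s v⁻¹) = gx * gz ∨ W4.vec (W4.act s v⁻¹) = gx * gz⁻¹ := by
  decide +kernel

variable (h : EX z Q Qi r π τ a b x σ) {g n u w : G}
include h

theorem rl (i : Fin 3) : Rel z (a i) (b i) (a (i + 1)) (b (i + 1)) x (r i) (r (i + 1)) :=
  h.rel _ _ ((by decide : ∀ i : Fin 3, i ≠ i + 1) i)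

theorem bQ (i : Fin 3) : b i ∈ Qi i := h.gen i ▸ subset_closure (by simp)

theorem ab_n (i : Fin 3) : a i ∉ Cx (b i) := fun e => h.z1 (by
  have := (rl h i).ab
  rw [mem_Cx.1 e] at this
  simpa using this.symm)

theorem Jz : JE z a ≤ Cx z := fun _ hu => (h.J_H0 hu).1

theorem JH (hu : u ∈ JE z a) : u ∈ h.H0 := h.mem_H0.2 ⟨Jz h hu, (h.J_H0 hu).2.1⟩

theorem A_Q : AE z a ≤ Q := h.QJ ▸ inf_le_left

theorem bx (i : Fin 3) : (b i)⁻¹ * x * (b i)⁻¹⁻¹ = a i * z⁻¹ * x := by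
  calc _ = (b i)⁻¹ * (x * b i * x⁻¹) * x := by group
    _ = _ := by rw [(rl h i).xb]; group

/-- a conjugate of `z` in `Q` that centralises a factor lies in `⟨z⟩` -/
theorem nO (hu : u ∈ Q) (hc : Qi i ≤ Cx u) (e : ∃ g, g * z * g⁻¹ = u) : u ∈ zpowers z := by
  obtain ⟨g, rfl⟩ := e
  by_contra k
  exact h.wc g hu k i hc

theorem nO_a (i : Fin 3) : ¬ ∃ g, g * z * g⁻¹ = a i := fun e => by
  obtain ⟨j, -, ij, -⟩ := others i
  exact h.an i (nO h (h.le i (h.aQ i)) (fun p hp => mem_Cx.2 (h.cm j i ij.symm p hp _ (h.aQ i))) e)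

theorem aa_n (jk : j ≠ k) : a j * a k ∉ Cx (b j) := fun e =>
  ab_n h j ((mul_mem_cancel_right (mem_Cx.2 (h.cm k j jk.symm _ (h.aQ k) _ (bQ h j)))).1 e)

end J2a

open J2a

namespace EX

variable (h : EX z Q Qi r π τ a b x σ) {g n u w : G}
include h

theorem full_conj (hu : u ∈ Q) (hf : Full Qi u) : ∃ g, g * z * g⁻¹ = u := by
  obtain ⟨g, -, -, e⟩ := h.FS_Q hu hf
  obtain ⟨g', m, e'⟩ := h.zc3
  obtain ⟨g'', -, -, e''⟩ := h.FS_Q (u := a 0 * a 1 * a 2 * z ^ m) (mul_mem (mul_mem (mul_mem (h.le 0 (h.aQ 0))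
    (h.le 1 (h.aQ 1))) (h.le 2 (h.aQ 2))) (pow_mem h.z_mem m)) (by
      simpa using (h.full_iff (fun _ => 1) m).2 fun _ => by norm_num)
  refine ⟨g⁻¹ * g'' * g', ?_⟩
  calc _ = g⁻¹ * (g'' * (g' * z * g'⁻¹) * g''⁻¹) * g := by group
    _ = _ := by rw [e', e'', ← e]; group

theorem real : ∃ n ∈ NE z a, n * z * n⁻¹ = z⁻¹ := by
  have f : Full Qi (a 0 * a 1 * a 2) := by simpa using (h.full_iff (fun _ => 1) 0).2 fun _ => by norm_num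
  have q := mul_mem (mul_mem (h.le 0 (h.aQ 0)) (h.le 1 (h.aQ 1))) (h.le 2 (h.aQ 2))
  obtain ⟨g, e⟩ := h.full_conj q f
  obtain ⟨g', e'⟩ := h.full_conj (inv_mem q) fun i k => f i fun p hp => Cx_comm.1 (inv_mem_iff.1 (Cx_comm.1 (k hp)))
  have k : g⁻¹ * g' * z * (g⁻¹ * g')⁻¹ = z⁻¹ := by
    calc _ = g⁻¹ * (g' * z * g'⁻¹) * g := by group
      _ = _ := by rw [e', ← e]; group
  exact k ▸ h.ctl z h.z_J _ (k ▸ inv_mem h.z_J)

theorem om_inv (e : ∃ g, g * z * g⁻¹ = u) : ∃ g, g * z * g⁻¹ = u⁻¹ := by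
  obtain ⟨g, rfl⟩ := e
  obtain ⟨n, -, e⟩ := h.real
  refine ⟨g * n, ?_⟩
  calc _ = g * (n * z * n⁻¹) * g⁻¹ := by group
    _ = _ := by rw [e]; group

omit h [Finite G] in
theorem om_cj (e : ∃ g, g * z * g⁻¹ = u) (y : G) : ∃ g, g * z * g⁻¹ = y * u * y⁻¹ := by
  obtain ⟨g, rfl⟩ := e
  exact ⟨y * g, by group⟩

theorem x_conj : ∃ n ∈ NE z a, n * z * n⁻¹ = x := by
  obtain ⟨g, e⟩ : ∃ g, g * z * g⁻¹ = x := by
    obtain ⟨g, e | e⟩ := h.xz'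
    exacts [⟨g, e⟩, inv_inv x ▸ h.om_inv ⟨g, e⟩]
  exact e ▸ h.ctl z h.z_J _ (e ▸ h.xJ)

theorem refl (hn : n ∈ NE z a) (e : n * z * n⁻¹ ∈ Cx (r i)) : n⁻¹ * a i * n ∈ Q := by
  have tz : n⁻¹ * r i * n ∈ Cx z := by simpa [mul_assoc] using (conj_mem_Cx (g := n⁻¹)).2 (Cx_comm.1 e)
  have tt : n⁻¹ * r i * n * (n⁻¹ * r i * n) = 1 := by
    calc _ = n⁻¹ * (r i * r i) * n := by group
      _ = 1 := by rw [h.rr]; group
  have yJ : n⁻¹ * a i * n ∈ JE z a := conj_mem_of_mem_normalizer' hn (h.a_J i)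
  have y3 := h.J3 _ yJ
  by_contra k
  have t1 := h.τ_ne tz tt (Jz h yJ) y3 k (by
    calc _ = n⁻¹ * (r i * a i * (r i)⁻¹) * n := by group
      _ = _ := by rw [h.ra]; group)
  refine t1 (Equiv.ext fun j => (h.π_cube tz (h.aQ j) (h.an j) ?_).1)
  have k1 := cmt_symm (h.Jr (conj_mem_of_mem_normalizer hn (h.a_J j)) i)
  rw [← conj_zp (g := n⁻¹), inv_inv] at k1
  rw [eq_one_of y3 (w := n⁻¹ * r i * n * a j * (n⁻¹ * r i * n)⁻¹ * (a j)⁻¹)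
    (by convert k1 using 1; group) (mul_mem (h.le _ (h.cj_mem tz (h.aQ j))) (inv_mem (h.le j (h.aQ j)))) k]
  exact one_mem _

theorem of_mem (hu : u ∈ cj g Q) (hn : u ∉ zpowers (g * z * g⁻¹)) (m : ℕ) (e : ∃ n, n * z * n⁻¹ = (g * z * g⁻¹) ^ m * u) :
    ∃ n, n * z * n⁻¹ = u := by
  obtain ⟨n, e⟩ := om_cj e g⁻¹
  rw [mem_cj] at hu
  rw [EBp.memz] at hn
  have e' : n * z * n⁻¹ = z ^ m * (g⁻¹ * u * g) := by rw [e, conj_pow]; group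
  have zm := pow_mem (mem_zpowers z) m
  have f := h.wc n (e' ▸ mul_mem (pow_mem h.z_mem m) hu) (by rwa [e', mul_mem_cancel_left zm])
  have := om_cj (h.full_conj hu fun i k => f i fun p hp => e' ▸ Cx_comm.1
    (mul_mem (pow_mem (Cx_comm.1 (h.Qz i hp)) m) (Cx_comm.1 (k hp)))) g
  rwa [show g * (g⁻¹ * u * g) * g⁻¹ = u by group] at this

theorem ZT (hw : g * z * g⁻¹ ∈ JE z a) (e : π i (g * z * g⁻¹) = 1) : g * z * g⁻¹ ∈ Q := by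
  by_contra wQ
  obtain ⟨j, -, ij, -⟩ := others i
  have w3 : (g * z * g⁻¹) ^ 3 ∈ Q := h.J3 _ hw ▸ one_mem _
  have ej : π j (g * z * g⁻¹) ≠ 1 := fun k => wQ (A_Q h (h.mem_A hw ij e k))
  obtain ⟨p, hp, k⟩ := EB.to_r h.toNH (JH h hw) w3 ej (h.aQ j) (h.an j) (Cx_comm.1 ((mem_JE.1 hw).2 j))
  have pQ := h.le j hp
  have wJ := conj_mem_of_mem_normalizer (h.Q_N pQ) hw
  have pS := h.H0_le i (T3x.Q_H0 h.toNH pQ)
  have wS := h.H0_le i (JH h hw)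
  have e1 : π i (p * (g * z * g⁻¹) * p⁻¹) = 1 := by
    rw [h.π_mul (mul_mem pS wS) (inv_mem pS), h.π_mul pS wS, h.π_inv pS, e, mul_one, mul_inv_cancel]
  have q1 : p * (g * z * g⁻¹) * p⁻¹ ∉ Q := by rwa [mul_mem_cancel_right (inv_mem pQ), mul_mem_cancel_left pQ]
  rw [show p * (g * z * g⁻¹) * p⁻¹ = p * g * z * (p * g)⁻¹ by group] at k wJ e1 q1
  obtain ⟨n, hn, en⟩ := h.ctl z h.z_J _ wJ
  rw [← en] at k wJ e1 q1
  have aj := mem_cj.2 (h.refl hn k)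
  have N := EB.conj h.toNH n
  have w3 := h.J3 _ wJ
  by_cases c : Qi i ≤ Cx (n * z * n⁻¹)
  · have wr : n * z * n⁻¹ ∈ Cx (r i) := cmt_one (eq_one_of (rl h i).a3 (h.Jr wJ i) (K := Cx (b i)) (by
      rw [mul_assoc, mul_assoc]
      refine mul_mem (Cx_comm.1 (c (bQ h i))) ?_
      have k2 := (conj_mem_Cx (g := r i)).2 (inv_mem (Cx_comm.1 (c (inv_mem (bQ h i)))))
      rwa [show r i * (b i)⁻¹ * (r i)⁻¹ = (r i * b i * (r i)⁻¹)⁻¹ by group, (rl h i).rb, inv_inv, mul_assoc] at k2)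
      (ab_n h i))
    obtain ⟨y, hy, yy⟩ := q8_root (h.q8 i)
    have yc := (h.cent_of (Jz h wJ) wr e1).2 hy
    have t : τ (n⁻¹ * r i * n) = 1 := by
      have t4 := N.τ_pow yc 4
      rw [(h.q8 i).pow_four hy, N.τ_one] at t4
      have := N.τm y yc y yc
      rw [yy] at this
      exact this.trans ((by decide : ∀ s : Equiv.Perm (Fin 3), 1 = s ^ 4 → s * s = 1) _ t4)
    have k1 : ∀ u ∈ Qi i, r i * u * (r i)⁻¹ = u⁻¹ → u ∈ cj n Q := fun u hu e => by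
      by_contra k
      exact N.τ_ne (Cx_comm.1 wr) (h.rr i) (c hu) (h.exp u (h.le i hu)) k e t
    have k2 := N.cmt _ (k1 _ (h.aQ i) (h.ra i)) _ (k1 _ (bQ h i) (rl h i).rb)
    rw [(rl h i).ab, show z * (b i * a i) * (a i)⁻¹ * (b i)⁻¹ = z by group] at k2
    exact h.z1 (eq_one_of w3 k2 h.z_mem q1)
  · obtain ⟨p, hp, c⟩ := SetLike.not_le_iff_exists.1 c
    have ej : π j (n * z * n⁻¹) ≠ 1 := fun k => q1 (A_Q h (h.mem_A wJ ij e1 k))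
    obtain ⟨p', -, e2⟩ := EB.F3 h.toNH (JH h wJ) (w3 ▸ one_mem _) ej (h.aQ j) ⟨h.Qz j (h.aQ j), by
      rw [cmt_of (Cx_comm.1 ((mem_JE.1 wJ).2 j))]; exact one_mem _⟩
    have pa : p ∈ Cx (a j) := mem_Cx.2 (h.cm i j ij p hp _ (h.aQ j))
    have e3 := ((EB.pk h.toNH (JH h wJ)).1 e1 hp).2
    have e4 : p * (a j * (n * z * n⁻¹)) * p⁻¹ * (a j * (n * z * n⁻¹))⁻¹ =
        p * (n * z * n⁻¹) * p⁻¹ * (n * z * n⁻¹)⁻¹ := by
      calc _ = (p * a j * p⁻¹) * (p * (n * z * n⁻¹) * p⁻¹ * (n * z * n⁻¹)⁻¹) * (a j)⁻¹ := by group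
        _ = _ := by rw [mem_Cx'.1 pa, Es.zc e3 (h.Qz j (h.aQ j))]; group
    obtain ⟨y, ey⟩ := shift (rl h i).z3 (h.Qz i hp) (e4 ▸ e3) (fun k => c (cmt_one (e4 ▸ cmt_of k))) e2
    refine nO_a h j (h.of_mem aj (fun k => h.an j (eq_one_of w3 k (h.le j (h.aQ j)) q1 ▸ one_mem _)) 1
      ⟨y⁻¹ * p' * n, ?_⟩)
    rw [pow_one, mem_Cx.1 ((mem_JE.1 wJ).2 j)]
    calc _ = y⁻¹ * (p' * (n * z * n⁻¹) * p'⁻¹ * (n * z * n⁻¹)⁻¹ * (a j)⁻¹ * (a j * (n * z * n⁻¹))) * y := by group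
      _ = _ := by rw [← ey]; group

theorem xz_not : g * z * g⁻¹ ≠ x * z ∧ g * z * g⁻¹ ≠ x * z⁻¹ := by
  have key : ∀ v ∈ zpowers z, ∀ u ∈ Q, (∀ K : Subgroup G, (∀ i, a i ∈ K) → u ∈ K) → u ∉ zpowers z →
      (∃ i, Qi i ≤ Cx u) → (∃ y, y * x * y⁻¹ = x * v * u) → g * z * g⁻¹ ≠ x * v := by
    rintro v hv u uQ hu un ⟨i, hi⟩ ⟨y, ey⟩ e
    obtain ⟨n, hn, en⟩ := h.ctl z h.z_J g (e ▸ mul_mem h.xJ (zpowers_le.2 h.z_J hv))
    rw [e] at en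
    have wQ : n * z * n⁻¹ ∉ Q := fun k => by
      rw [en, mul_mem_cancel_right (zpowers_le.2 h.z_mem hv)] at k
      exact h.πx 0 (h.π_Q k)
    obtain ⟨n', -, e'⟩ := h.x_conj
    exact un (nO h uQ hi (h.of_mem (hu _ fun l => mem_cj.2 (h.refl hn
      (en ▸ mul_mem (h.xr l) (zpowers_le.2 (Cx_comm.1 (h.rz l)) hv))))
      (fun k => un (eq_one_of (conj3 (rl h 0).z3 n) k uQ wQ ▸ one_mem _)) 1
      (by rw [pow_one, en, ← ey]; exact om_cj ⟨n', e'⟩ y)))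
  have R := h.rel 1 2 (by decide)
  have c : ∀ l, l ≠ 0 → Qi 0 ≤ Cx (a l) := fun l hl p hp => mem_Cx.2 (h.cm 0 l hl.symm p hp _ (h.aQ l))
  refine ⟨key z (mem_zpowers z) (a 1 * a 2) (mul_mem (h.le 1 (h.aQ 1)) (h.le 2 (h.aQ 2)))
    (fun K hK => mul_mem (hK 1) (hK 2))
    (fun k => aa_n h (j := 1) (k := 2) (by decide) (mem_Cx.2 (Es.zc k (h.Qz 1 (bQ h 1))).symm))
    ⟨0, fun p hp => Cx_comm.1 (mul_mem (Cx_comm.1 (c 1 (by decide) hp)) (Cx_comm.1 (c 2 (by decide) hp)))⟩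
    ⟨(b 2)⁻¹ * (b 1)⁻¹, ?_⟩, key z⁻¹ (inv_mem (mem_zpowers z)) (a 1) (h.le 1 (h.aQ 1)) (fun K hK => hK 1) (h.an 1)
    ⟨0, c 1 (by decide)⟩ ⟨(b 1)⁻¹, ?_⟩⟩
  · have zz : z⁻¹ * z⁻¹ = z := by
      rw [← mul_inv_rev, inv_eq_iff_mul_eq_one, ← pow_three', R.z3]
    calc _ = (b 2)⁻¹ * ((b 1)⁻¹ * x * (b 1)⁻¹⁻¹) * b 2 := by group
      _ = (b 2)⁻¹ * (a 1 * z⁻¹ * b 2) * ((b 2)⁻¹ * x * (b 2)⁻¹⁻¹) := by rw [bx h 1]; group
      _ = a 1 * z⁻¹ * (a 2 * z⁻¹ * x) := by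
          rw [bx h 2, (R.ad.mul_left R.dz.symm.inv_left).eq]; group
      _ = a 1 * a 2 * (z⁻¹ * z⁻¹) * x := by
          rw [mul_assoc (a 1), ← mul_assoc z⁻¹, ← mul_assoc z⁻¹, R.cz.symm.inv_left.eq]; group
      _ = _ := by
          rw [zz, ((R.az.mul_left R.cz).eq), ← (R.xz.mul_right (R.xa.mul_right R.xc)).eq]; group
  · rw [bx h 1, R.az.inv_right.eq, ← (R.xz.inv_right.mul_right R.xa).eq, mul_assoc]

theorem om (hw : g * z * g⁻¹ ∈ JE z a) : g * z * g⁻¹ ∈ zpowers z ∨ (g * z * g⁻¹ ∈ AE z a ∧ Full Qi (g * z * g⁻¹)) ∨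
    ∃ q ∈ Q, q * (g * z * g⁻¹) * q⁻¹ = x ∨ q * (g * z * g⁻¹) * q⁻¹ = x⁻¹ := by
  by_cases wQ : g * z * g⁻¹ ∈ Q
  · by_cases k : g * z * g⁻¹ ∈ zpowers z
    exacts [Or.inl k, Or.inr (Or.inl ⟨h.QJ ▸ ⟨wQ, hw⟩, h.wc g wQ k⟩)]
  obtain ⟨q, hq, e⟩ := h.conj_Q hw fun i k => wQ (h.ZT hw k)
  refine Or.inr (Or.inr ⟨q, hq, ?_⟩)
  have wJ := conj_mem_of_mem_normalizer (h.Q_N hq) hw
  have q1 : q * (g * z * g⁻¹) * q⁻¹ ∉ Q := by rwa [mul_mem_cancel_right (inv_mem hq), mul_mem_cancel_left hq]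
  rw [show q * (g * z * g⁻¹) * q⁻¹ = q * g * z * (q * g)⁻¹ by group] at e wJ q1 ⊢
  have ρ : ∀ {u : G}, (∀ i, u ∈ Cx (r i)) → u ∈ Cx (rho r) := fun k =>
    Cx_comm.1 (prod_mem fun i => Cx_comm.1 (k i))
  have key : ∀ g : G, (∀ i, g * z * g⁻¹ ∈ Cx (r i)) → g * z * g⁻¹ * x⁻¹ ∈ AE z a → g * z * g⁻¹ = x := fun g e k => by
    have k1 : g * z * g⁻¹ * x⁻¹ ∈ zpowers z := h.inf_X ▸ mem_inf.2 ⟨A_Q h k, mul_mem (ρ e) (inv_mem (ρ h.xr))⟩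
    have xz := (rl h 0).xz
    rcases three_cases (rl h 0).z3 k1 with k | k | k <;> rw [mul_inv_eq_iff_eq_mul] at k
    · rw [k, one_mul]
    · exact absurd (k.trans xz.eq.symm) h.xz_not.1
    · exact absurd (k.trans xz.inv_right.eq.symm) h.xz_not.2
  rcases h.full_J wJ fun i k => q1 (h.ZT wJ k) with k | k
  · exact Or.inl (key _ e k)
  · obtain ⟨g', e'⟩ := h.om_inv ⟨q * g, rfl⟩
    refine Or.inr (inv_eq_iff_eq_inv.1 (e' ▸ key g' (fun i => e' ▸ inv_mem (e i)) ?_))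
    rw [e', ← mul_inv_rev, h.Jc _ h.xJ _ wJ]
    exact inv_mem k

theorem A_J5 : AE z a ≤ J5 z x a := (closure_le _).2 (by
  rintro _ (rfl | rfl | rfl | rfl)
  exacts [F4x.aJ 0, F4x.aJ 1, F4x.aJ 2, F4x.zJ])

theorem om_J5 (hw : g * z * g⁻¹ ∈ JE z a) : g * z * g⁻¹ ∈ J5 z x a := by
  rcases h.om hw with k | k | ⟨q, hq, k⟩
  · exact zpowers_le.2 F4x.zJ k
  · exact h.A_J5 k.1
  · have k1 : q⁻¹ * x * q⁻¹⁻¹ ∈ J5 z x a := (mul_mem_cancel_right (inv_mem F4x.xJ)).1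
      (h.A_J5 (h.N_x (h.zc (inv_mem hq)) (h.Q_N (inv_mem hq))))
    rcases k with k | k
    · convert k1 using 1
      rw [← k]; group
    · convert inv_mem k1 using 1
      rw [← inv_inv x, ← k]; group

theorem NJ5 : NE z a ≤ normalizer (J5 z x a : Set G) := fun n hn => by
  have key : ∀ u ∈ JE z a, (∃ g, g * z * g⁻¹ = u) → u ∈ (J5 z x a).comap (MulAut.conj n).toMonoidHom := by
    rintro _ hu ⟨g, rfl⟩
    have := conj_mem_of_mem_normalizer hn hu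
    change n * _ * n⁻¹ ∈ J5 z x a
    rw [show n * (g * z * g⁻¹) * n⁻¹ = n * g * z * (n * g)⁻¹ by group] at this ⊢
    exact h.om_J5 this
  obtain ⟨n', -, e'⟩ := h.x_conj
  have kx := key x h.xJ ⟨n', e'⟩
  have kz := key z h.z_J ⟨1, by group⟩
  refine mem_normalizer_of_forall fun u hu => F4x.J_le.2 ⟨fun i => ?_, kx, kz⟩ hu
  have := key _ (conj_mem_of_mem_normalizer (h.Q_N (inv_mem (h.le i (bQ h i)))) h.xJ) (om_cj ⟨n', e'⟩ _)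
  rwa [bx h i, mul_mem_cancel_right kx, mul_mem_cancel_right (inv_mem kz)] at this

end EX

namespace EP

variable (h : EP z Q Qi r π τ a b x σ i j k φ) {g : G}
include h

theorem phi_QQ {u : W4} (hu : u ∈ QQ) : φ u ∈ Q ∧ Qi i ≤ Cx (φ u) := by
  have k : ∀ l, i ≠ l → Qi l ≤ Q ⊓ centralizer (Qi i : Set G) := fun l il => le_inf (h.le l) (le_cent h.toNH il.symm)
  have := le_of (K := (Q ⊓ centralizer (Qi i : Set G)).comap φ) (l := [ga, gb, gc, gd]) (by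
    simp only [List.mem_cons, List.not_mem_nil, or_false, forall_eq_or_imp, forall_eq, mem_comap, h.ea, h.eb, h.ec, h.ed]
    exact ⟨k j h.ij (h.aQ j), k j h.ij (bQ h.toEX j), k _ h.ik (h.aQ _), k _ h.ik (bQ h.toEX _)⟩) hu
  exact ⟨this.1, fun p hp => mem_Cx.2 (this.2 p hp)⟩

theorem om4 {u : W4} (hu : u ∈ JJ) : (∃ g, g * z * g⁻¹ = φ u) ↔ Om u := by
  obtain ⟨v, rfl⟩ : ∃ v, W4.vec v = u := ⟨_, eq_vec hu⟩
  have cjv : ∀ s v, φ (W4.vec (W4.act s v)) = φ (W4.lin s) * φ (W4.vec v) * (φ (W4.lin s))⁻¹ := fun s v => by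
    rw [← W4.lin_vec, map_mul, map_mul, map_inv]
  constructor
  · intro e
    by_cases c : W4.vec v ∈ QQ
    · obtain ⟨c1, c2⟩ := h.phi_QQ c
      rcases three_cases (rl h.toEX 0).z3 (nO h.toEX c1 c2 e) with k | k | k
      · obtain ⟨g, e⟩ := e
        rw [k, mul_inv_eq_one, mul_eq_left] at e
        exact absurd e h.z1
      · rw [h.inj (k.trans h.ez.symm)]; exact om_z.1
      · rw [← h.ez, ← map_inv] at k
        rw [h.inj k]; exact om_z.2.1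
    · refine (om_or v c).resolve_right ?_
      rintro ⟨s, k⟩
      obtain ⟨g, e1⟩ := EX.om_cj e (φ (W4.lin s))
      obtain ⟨g', e2⟩ := EX.om_cj (h.om_inv e) (φ (W4.lin s))
      rw [← map_inv φ (W4.vec v), ← map_inv W4.vec] at e2
      rw [← cjv] at e1 e2
      rcases k with k | k | k | k
      · exact h.xz_not.1 (by rw [e1, k, map_mul, h.ex, h.ez])
      · exact h.xz_not.2 (by rw [e1, k, map_mul, map_inv, h.ex, h.ez])
      · exact h.xz_not.1 (by rw [e2, k, map_mul, h.ex, h.ez])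
      · exact h.xz_not.2 (by rw [e2, k, map_mul, map_inv, h.ex, h.ez])
  · intro e
    obtain ⟨n, -, ex⟩ := h.x_conj
    rcases om_cases v e with rfl | rfl | ⟨s, -, rfl | rfl⟩
    · exact ⟨1, by rw [vecs.2.2.2, h.ez]; group⟩
    · rw [map_inv, map_inv, vecs.2.2.2, h.ez]; exact h.om_inv ⟨1, by group⟩
    · rw [cjv, vecs.2.2.1, h.ex]; exact EX.om_cj ⟨n, ex⟩ _
    · rw [cjv, map_inv, map_inv, vecs.2.2.1, h.ex]; exact EX.om_cj (h.om_inv ⟨n, ex⟩) _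

end EP

end CfsgLib.Rec3E
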