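import Cfsg.Agent.Lib.Rec3E.Defs
import Cfsg.Agent.Lib.E62.RExt

/-! A subgroup of index two when `C(t) = 2^{1+20} . U₆(2) . S₃` (plans/REC3E.md, OV). -/

set_option autoImplicit false
set_option maxRecDepth 100000
set_option maxHeartbeats 400000

set_option linter.unusedSectionVars false

namespace CfsgLib.Rec3E.OV

open Subgroup Module CfsgLib.E62 CfsgLib.LargeExtra CfsgLib.ExtraTwo CfsgLib.Tech
open scoped commutatorElement

variable {G L X : Type*} [Group G] [Finite G] [Group L] [Group X] {T A P : Subgroup L} {Q Qs : Subgroup G} {z s : G}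

theorem card_le_two6 [Finite X] {ι : L →* X} (o : Rec3E.Ov6 ι) {B : Subgroup X} (hB : IsPGroup 2 B) :
    Nat.card (B.comap ι) ≤ Nat.card B ∧ Nat.card B ≤ 2 * Nat.card (B.comap ι) := by
  have e : Nat.card (B.comap ι) = Nat.card (ι.range ⊓ B : Subgroup X) := by
    rw [← map_comap_eq, card_map_of_injective o.inj]
  have h1 := card_mul_relIndex' (inf_le_right : ι.range ⊓ B ≤ B)
  rw [inf_relIndex_right] at h1
  have h2 : ι.range.relIndex B ∣ 2 := relIndex_dvd_two_iff.2 (by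
    by_cases H : B ≤ ι.range
    · exact ⟨1, one_mem _, fun b hb => .inr (H hb)⟩
    · obtain ⟨a, ha, hn⟩ := SetLike.not_le_iff_exists.1 H
      exact ⟨a, ha, fun b hb => or_iff_not_imp_right.2 fun h => o.two B hB b hb a ha h hn⟩)
  rw [e]
  exact ⟨card_le_of_le inf_le_right, h1 ▸ (mul_comm 2 _ ▸ Nat.mul_le_mul_left _ (Nat.le_of_dvd two_pos h2))⟩

theorem small6 (hM : U6Mod L) [Finite X] {ι : L →* X} (o : Rec3E.Ov6 ι) {W : Type} [AddCommGroup W] [Module (ZMod 2) W]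
    [Finite W] (ρ : X →* (W ≃ₗ[ZMod 2] W)) (hρ : Function.Injective ρ) {a : X}
    (ha : finrank (ZMod 2) (LinearMap.range ((ρ a).toLinearMap - 1)) ≤ 2) (l : L) : Commute a (ι l) := by
  have hn := o.nrm
  let e := MonoidHom.ofInjective o.inj
  let α : MulAut L := e.trans ((MulAut.conjNormal a).trans e.symm)
  have hα : ∀ l, ι (α l) = a * ι l * a⁻¹ := fun l => MonoidHom.apply_ofInjective_symm o.inj _
  by_cases h1 : α = 1
  · exact mul_inv_eq_iff_eq_mul.1 (by rw [← hα, h1]; rfl)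
  obtain ⟨l, hl⟩ := hM.big α h1
  have := hM.simple
  have h2 := hl (ρ.comp ι) fun e => by
    obtain ⟨x, hx⟩ := exists_ne (1 : L)
    exact hx (o.inj (hρ (by simpa using DFunLike.congr_fun e x)))
  rw [MonoidHom.comp_apply, map_mul, hα, map_inv, map_mul, map_mul, map_mul, map_inv, map_inv] at h2
  have := finrank_comm_le (ρ a) (ρ (ι l))
  omega

variable {f : centralizer ({z} : Set G) →* X} (h : Six Q z f)
include h

theorem zr6 (hM : U6Mod L) {ι : L →* X} (o : Rec3E.Ov6 ι) (p : Pair Q Qs z s) {x : G} (hx : x ∈ Q) (hs : x * s = s * x)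
    (hu : ∀ u ∈ Qs, u * z = z * u → u * x * u⁻¹ * x⁻¹ ∈ closure ({z, s} : Set G)) : x ∈ Qs := by
  classical
  have := h.finite
  obtain ⟨k, q, π, ρ, c, hρ, act⟩ := h.exists_rho
  obtain ⟨n, n1, n2⟩ := Pair.exists_swap p
  obtain ⟨a, ha, -, a2⟩ := p.exists_a
  have n1' : n⁻¹ * z * n⁻¹⁻¹ = s := by rw [← n2]; group
  have hy : n * x * n⁻¹ * z = z * (n * x * n⁻¹) := by rw [← n2, conj_mul, conj_mul, hs]
  let y : centralizer ({z} : Set G) := ⟨_, mem_cent.2 hy⟩
  let S := Submodule.span (ZMod 2) {π s, ((ρ (f y)).toLinearMap - 1) (π a)}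
  have key : ∀ w ∈ Q, w * s = s * w → π w ∈ S.comap ((ρ (f y)).toLinearMap - 1) := by
    intro w hw hws
    have h1 := p.mem_V.1 (hu _ (p.conj _ n1' w hw) (by
      rw [← n1] at hws; simpa [mul_assoc] using congrArg (fun g => n⁻¹ * g * n) hws))
    have e : n * x * n⁻¹ * w * (n * x * n⁻¹)⁻¹ * w⁻¹ =
      n * (n⁻¹ * w * n⁻¹⁻¹ * x * (n⁻¹ * w * n⁻¹⁻¹)⁻¹ * x⁻¹)⁻¹ * n⁻¹ := by group
    have e2 : ((ρ (f y)).toLinearMap - 1) (π w) = π (n * x * n⁻¹ * w * (n * x * n⁻¹)⁻¹ * w⁻¹) := by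
      rw [c.map_mul _ (p.h0.norm _ hy w hw) _ (Q.inv_mem hw), c.map_inv hw, ← sub_zmod2]
      exact congrArg (· - π w) (act y w hw)
    have hs' : π s ∈ S := Submodule.subset_span (by simp)
    rw [Submodule.mem_comap, e2, e]
    rcases h1 with h1 | h1 | h1 | h1 <;> rw [h1]
    · simp [c.map_one]
    · rwa [p.h0.es.inv_eq, n1]
    · simp [p.h1.es.inv_eq, n2, c.map_z]
    · rwa [mul_inv_rev, p.h0.es.inv_eq, p.h1.es.inv_eq, ← conj_mul, n1, n2, c.map_mul_z p.tQ]
  have hr : LinearMap.range ((ρ (f y)).toLinearMap - 1) ≤ S := by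
    rintro _ ⟨v, rfl⟩
    obtain ⟨w, hw, rfl⟩ := c.surj v
    by_cases hws : w * s = s * w
    · exact key w hw hws
    have := Submodule.add_mem _ (key _ (Q.mul_mem hw ha) (p.h0.es.mul_comm_of_not_comm p.tQ hw ha hws fun e => by
      rw [e, mul_inv_cancel_right, left_eq_mul] at a2; exact p.h0.es.ne_one a2))
      (Submodule.subset_span (by simp) : π a ∈ S.comap ((ρ (f y)).toLinearMap - 1))
    rwa [c.map_mul _ hw _ ha, add_assoc, add_self_zmod2, add_zero] at this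
  have h3 := (h.ker y).1 (o.cen _ (small6 hM o ρ hρ ((Submodule.finrank_mono hr).trans
    ((finrank_span_le_card _).trans (by simpa using Finset.card_le_two))))
    (p.map_mul_self f h.ker ⟨y, p.conj n n1 x hx, rfl⟩))
  simpa [y, mul_assoc] using p.conj _ n1' _ h3

theorem fix6 (hM : U6Mod L) {ι : L →* X} (o : Rec3E.Ov6 ι) (p : Pair Q Qs z s) {x : G} (hx : x ∈ Q)
    (hu : ∀ u ∈ Qs, u * z = z * u → u * x * u⁻¹ = x ∨ u * x * u⁻¹ = x * z) : x ∈ closure ({z, s} : Set G) := by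
  have hs : x * s = s * x := by
    obtain ⟨u, hu1, w, hw1, hu2, hw2, hne⟩ := exists_not_comm_cent p.h1.es (by
      rw [Pair.card_eq p, h.card]; norm_num) p.zQ1
    have e := (p.h1.es.commutator hu1 hw1).resolve_left fun e => hne (commutatorElement_eq_one_iff_mul_comm.1 e)
    have key : ∀ u ∈ Qs, u * z = z * u → ∃ v, (∀ g, g * z = z * g → Commute v g) ∧ v * z = z * v ∧
        x⁻¹ * u * x = v * u := fun u h1 h2 => by
      rcases hu u h1 h2 with e | e
      · exact ⟨1, fun _ _ => Commute.one_left _, by simp, by rw [mul_assoc, comm_of_conj_eq e]; simp⟩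
      · exact ⟨z, fun _ hg => hg.symm, rfl, by rw [mul_assoc, mul_inv_eq_iff_eq_mul.1 e]; group⟩
    obtain ⟨v, v1, v2, v3⟩ := key u hu1 hu2
    obtain ⟨v', v1', v2', v3'⟩ := key w hw1 hw2
    have : x⁻¹ * s * x = s := by
      calc _ = x⁻¹ * u * x * (x⁻¹ * w * x) * (x⁻¹ * u * x)⁻¹ * (x⁻¹ * w * x)⁻¹ := by rw [← e]; group
        _ = v * (u * (v' * w) * u⁻¹) * v⁻¹ * (v' * w)⁻¹ := by rw [v3, v3']; group
        _ = v' * s * v'⁻¹ := by
          rw [(((v1 u hu2).mul_right ((v1 v' v2').mul_right (v1 w hw2))).mul_right (v1 u hu2).inv_right).eq,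
            mul_inv_cancel_right, ← mul_assoc, ← (v1' u hu2).eq, ← e]; group
        _ = s := by rw [(v1' s p.comm).eq, mul_inv_cancel_right]
    rw [mul_assoc, inv_mul_eq_iff_eq_mul] at this
    exact this.symm
  have hE := zr6 h hM o p hx hs fun u h1 h2 => p.mem_V.2 (by
    rcases hu u h1 h2 with e | e <;> rw [e]
    · simp
    · rw [p.h0.es.comm_z x hx]; simp)
  rw [Pair.V_comm, p.symm.mem_V]
  refine double_cent p.h1.es p.zQ1 hE fun u h1 h2 => ?_
  rcases hu u h1 h2 with e | e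
  · exact comm_of_conj_eq e
  · by_contra hne
    exact p.ne (mul_left_cancel ((p.h1.es.conj_of_ne hE h1 hne).symm.trans e))

theorem core6 (hM : U6Mod L) (hL : U6Loc T A P) {ι : L →* X} (o : Rec3E.Ov6 ι) (p : Pair Q Qs z s) :
    ∃ l : L, (Qs.subgroupOf _).map f = (Tech.cj l A).map ι ∧
      ∀ a ∈ Tech.cj l P, ∃ b : centralizer ({z} : Set G), (b : G) * s = s * b ∧ f b = ι a := by
  have := h.finite
  have := Finite.of_injective ι o.inj
  obtain ⟨k, q, π, ρ, c, hρ, act⟩ := h.exists_rho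
  have cs := (Pair.card_eq p).trans h.card
  have e1 := p.card_E_sq_le
  have e2 := p.card_E_mul_card_map f h.ker
  have sq := fun r => p.map_mul_self f h.ker (r := r)
  have hp := p.isPGroup_map f
  have nA := fun g hg r => p.map_conj_mem f h.ker g hg (r := r)
  have vec : ∀ v, (∀ a ∈ (Qs.subgroupOf _).map f, ρ a v = v) → v = 0 ∨ v = π s := fun v hv => by
    obtain ⟨x, hx, rfl⟩ := c.surj v
    rcases p.mem_V.1 (fix6 h hM o p hx fun u h1 h2 => (c.eq_iff hx (p.h0.norm u h2 x hx)).1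
      ((hv _ ⟨⟨u, mem_cent.2 h2⟩, h1, rfl⟩).symm.trans (act _ x hx))) with e | e | e | e <;> rw [e]
    exacts [.inl c.map_one, .inl c.map_z, .inr rfl, .inr (c.map_mul_z p.tQ)]
  have sub : ∀ K ≤ Qs ⊓ centralizer {z}, (K.subgroupOf _).map f ≤ (Qs.subgroupOf _).map f := fun K hK =>
    map_mono fun _ hg => (hK hg).1
  generalize hA : (Qs.subgroupOf _).map f = A₁ at *
  rw [h.card] at e1
  rw [cs] at e2
  have ab : ∀ x ∈ A₁, ∀ y ∈ A₁, x * y = y * x := fun x hx y hy => by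
    rw [← inv_eq_of_mul_eq_one_right (sq _ (A₁.mul_mem hx hy)), mul_inv_rev, inv_eq_of_mul_eq_one_right (sq _ hx),
      inv_eq_of_mul_eq_one_right (sq _ hy)]
  have s0 : π s ≠ 0 := fun e => ((c.ker s p.tQ).1 e).elim p.t_ne_one p.ne
  have lift : ∀ a, ρ a (π s) = π s → ∃ b : centralizer ({z} : Set G), (b : G) * s = s * b ∧ f b = a := fun a ha => by
    obtain ⟨g, rfl⟩ := h.surj a
    exact h.lift p g ((c.eq_iff p.tQ (p.h0.norm _ (mem_cent.1 g.2) s p.tQ)).1 (ha.symm.trans (act g s p.tQ)))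
  have e3 : 2 ^ 9 ≤ Nat.card A₁ := by
    have : Nat.card (Q ⊓ Qs : Subgroup G) ≤ 2 ^ 11 := Nat.mul_self_le_mul_self_iff.1 (e1.trans (by norm_num))
    nlinarith
  obtain ⟨T₁, hT, hAT⟩ := exists_isSylowIn_ge hp le_top
  have fT : ∀ a ∈ T₁, ρ a (π s) = π s := by
    let _ := MulAction.compHom (Fin k → ZMod 2) (ρ.comp T₁.subtype)
    obtain ⟨v, hv, h0⟩ := hT.pgroup.exists_fixed_point_of_prime_dvd_card_of_fixed_point (Fin k → ZMod 2)
      (by have := c.card_eq; rw [h.card] at this; omega) (a := 0) fun a => map_zero (ρ a)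
    exact (vec v fun a ha => hv ⟨a, hAT ha⟩).resolve_left h0.symm ▸ fun a ha => hv ⟨a, ha⟩
  obtain ⟨l, -, hl⟩ := IsSylowIn.exists_cj_eq (p := 2) (T := T) (T' := T₁.comap ι) (H := ⊤)
    ⟨le_top, hL.two, by rw [relIndex_top_right]; exact hL.odd.not_two_dvd_nat⟩
    ⟨le_top, hT.pgroup.comap_of_injective _ o.inj, by
      have := (hT.inf_of_le_normalizer (N := ι.range) (by rw [normalizer_eq_top_iff.2 o.nrm])).not_dvd
      rwa [top_inf_eq, inf_relIndex_right, ← index_comap, ← relIndex_top_right] at this⟩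
  refine ⟨l, ?_⟩
  replace hL := hL.conj l
  rw [hl] at hL
  generalize Tech.cj l A = A, Tech.cj l P = P at hL ⊢
  have nK : ∀ {K : Subgroup X} {a : L}, (∀ r ∈ K, ι a * r * (ι a)⁻¹ ∈ K) → a ∈ normalizer (K.comap ι : Set L) :=
    fun H => mem_normalizer_of_forall fun x hx => by simpa using H _ hx
  obtain ⟨e4, e5⟩ := card_le_two6 o hp
  have hA0 : A₁.comap ι ≤ A := hL.ab _ (comap_mono hAT) (fun x hx y hy => o.inj (by simpa using ab _ hx _ hy))
    (fun a ha => nK (by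
      obtain ⟨b, h1, h2⟩ := lift _ (fT _ ha)
      exact h2 ▸ nA b (.inl (conj_eq_of_comm h1)))) (by omega)
  have fP : ∀ a ∈ P, ρ (ι a) (π s) = π s := by
    let _ := MulAction.compHom (Fin k → ZMod 2) ((ρ.comp ι).comp P.subtype)
    have h0 : ∀ v ∈ MulAction.orbit P (π s), ∀ a ∈ A₁.comap ι, ρ (ι a) v = v := by
      rintro _ ⟨g, rfl⟩ a ha
      have := congrArg (ρ (ι g)) (fT _ (hL.le_T (conj_mem_of_mem_normalizer' (hL.norm g.2) (hA0 ha))))
      rwa [← LinearEquiv.mul_apply, ← map_mul, ← map_mul, ← mul_assoc, mul_inv_cancel_left, map_mul, map_mul] at this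
    obtain ⟨a, ha, h1⟩ : ∃ a ∈ A₁, ∀ v, (∀ b ∈ A₁.comap ι, ρ (ι b) v = v) → ρ a v = v → v = 0 ∨ v = π s := by
      by_cases H : A₁ ≤ ι.range
      · exact ⟨1, one_mem _, fun v hv _ => vec v fun a ha => by obtain ⟨b, rfl⟩ := H ha; exact hv b ha⟩
      obtain ⟨a, ha, hn⟩ := SetLike.not_le_iff_exists.1 H
      refine ⟨a, ha, fun v hv h1 => vec v fun b hb => ?_⟩
      by_cases hb' : b ∈ ι.range
      · obtain ⟨b, rfl⟩ := hb'; exact hv b hb
      obtain ⟨d, hd⟩ := o.two _ hp b hb a ha hb' hn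
      rw [← h1, ← LinearEquiv.mul_apply, ← map_mul, ← hd, h1]
      exact hv d (show ι d ∈ A₁ from hd ▸ A₁.mul_mem hb ha)
    have h2 : ∀ v ∈ MulAction.orbit P (π s), ρ a v + v = 0 ∨ ρ a v + v = π s := fun v hv => h1 _ (fun b hb => by
      rw [map_add, h0 v hv b hb, ← LinearEquiv.mul_apply, ← map_mul, ab _ hb _ ha, map_mul, LinearEquiv.mul_apply,
        h0 v hv b hb]) (by rw [map_add, ← LinearEquiv.mul_apply, ← map_mul, sq a ha, map_one, add_comm]; rfl)
    obtain ⟨w, hw⟩ : ∃ w, MulAction.orbit P (π s) ⊆ {0, π s, w, w + π s} := by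
      by_cases H : ∃ w ∈ MulAction.orbit P (π s), ρ a w + w = π s
      · obtain ⟨w, hw, e⟩ := H
        refine ⟨w, fun v hv => ?_⟩
        rcases h2 v hv with e' | e'
        · rcases h1 v (h0 v hv) (add_eq_zero_zmod2.1 e') with e' | e' <;> simp [e']
        · rcases h1 (v + w) (fun b hb => by rw [map_add, h0 v hv b hb, h0 w hw b hb]) (by
            rw [map_add, ← add_eq_zero_zmod2, add_add_add_comm, e, e', add_self_zmod2]) with e' | e'
          · simp [add_eq_zero_zmod2.1 e']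
          · simp [← e', add_comm v, ← add_assoc, add_self_zmod2]
      · refine ⟨0, fun v hv => ?_⟩
        rcases h1 v (h0 v hv) (add_eq_zero_zmod2.1 ((h2 v hv).resolve_right fun e => H ⟨v, hv, e⟩)) with e | e <;>
          simp [e]
    exact fun a ha => smul_eq_of_perfect (map_injective P.subtype_injective (by
      rw [_root_.commutator_def, map_commutator, ← MonoidHom.range_eq_map, range_subtype, hL.perf])) hw (⟨a, ha⟩ : P)
  refine ⟨?_, fun a ha => lift _ (fP a ha)⟩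
  have e6 : A₁.comap ι = A := (hL.irr _ hA0 fun a ha => nK (by
    obtain ⟨b, h1, h2⟩ := lift _ (fP _ ha)
    exact h2 ▸ nA b (.inl (conj_eq_of_comm h1)))).resolve_left fun e => by rw [e, card_bot] at e5; omega
  rw [← e6]
  refine (eq_of_le_of_card_ge (map_comap_le _ _) ?_).symm
  rw [card_map_of_injective o.inj]
  by_contra hlt
  obtain ⟨j, hj⟩ := card_dvd_of_le (map_comap_le ι A₁)
  rw [card_map_of_injective o.inj] at hj
  rw [e6, hL.card] at e5 hj hlt
  have e7 : Nat.card (Q ⊓ Qs : Subgroup G) = 2 ^ 10 := by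
    obtain rfl : j = 2 := by omega
    rw [hj] at e2
    omega
  have e8 := card_mul_card_centralizer p.h1.es (inf_le_right : Q ⊓ Qs ≤ Qs) ⟨p.tQ, p.h1.es.mem⟩
  have hK : Qs ⊓ centralizer ((Q ⊓ Qs : Subgroup G) : Set G) ≤ Qs ⊓ centralizer {z} :=
    inf_le_inf_left _ (centralizer_le (Set.singleton_subset_iff.2 ⟨p.h0.es.mem, p.zQ1⟩))
  have e9 := h.card_img (Pair.E_le p le_rfl) hK
  obtain ⟨e10, e11⟩ := card_le_two6 o (hp.to_le (sub _ hK))
  rw [e7] at e8 e9
  rcases hL.irr _ ((comap_mono (sub _ hK)).trans hA0) fun a ha => nK (by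
    obtain ⟨b, h1, h2⟩ := lift _ (fP _ ha)
    rintro _ ⟨u, hu, rfl⟩
    exact ⟨b * u * b⁻¹, conj_mem_of_mem_normalizer (x := (u : G)) (Pair.norm_cent p ⟨b.2, mem_cent.2 h1⟩
      (Pair.norm_E p ⟨b.2, mem_cent.2 h1⟩)) hu, by
      rw [← h2, map_mul, map_mul, map_inv]⟩) with e | e
  · rw [e, card_bot] at e11; omega
  · rw [e, hL.card] at e10; omega

theorem exists_index_two6 (hM : U6Mod L) (hL : U6Loc T A P) {ι : L →* X} (o : Rec3E.Ov6 ι) {X0 : Subgroup X}
    (h0 : ι.range ≤ X0) (hi : X0.index = 2) : ∃ M : Subgroup G, M.index = 2 := by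
  by_contra hG
  have h8 : 8 < Nat.card Q := by rw [h.card]; norm_num
  obtain ⟨φ, hφ⟩ := Transfer.exists_hom_of_relIndex_two (X0.relIndex_top_right.trans hi)
  let ψ := (φ.comp topEquiv.symm.toMonoidHom).comp f
  have h1 : ∀ g, f g ∈ X0 → ψ g = 1 := fun g hg => (hφ ⟨_, mem_top _⟩).1 hg
  obtain ⟨a, ha, -⟩ := index_eq_two_iff_exists_notMem_and.1 hi
  obtain ⟨a, rfl⟩ := h.surj a
  refine absurd (((hφ ⟨_, mem_top _⟩).2 ha).symm.trans (DFunLike.congr_fun
    (h.pre.hom_eq_one (not_exists.1 hG) ψ fun g hg hg' => ?_) a))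
    (show Multiplicative.ofAdd (1 : ZMod 2) ≠ 1 by decide)
  rcases h.pre.relIndex_fixE hg hg' with ⟨h2, ht⟩ | h4
  · have p := h.pre.pair h8 (g := g⁻¹) (by simpa using mem_map_conj.1 (h.pre.mem_conj h8 ht))
      fun e => hg' (mem_cent.2 (Commute.inv_left_iff.1 (comm_of_conj_eq e)))
    obtain ⟨l, hl, -⟩ := core6 h hM hL o p
    have h3 : ∀ e ∈ Q, ∀ he : g⁻¹ * e * g ∈ centralizer ({z} : Set G), ψ ⟨_, he⟩ = 1 := fun e he he' =>
      h1 _ (h0 (map_le_range _ _ (hl.le ⟨_, mem_map_conj.2 (by simpa [mul_assoc] using he), rfl⟩)))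
    exact ⟨2, le_rfl, by omega, fun _ => h3 z h.pre.es.mem hg, fun _ => h3⟩
  by_cases h5 : 8 ≤ (fixE Q z g).relIndex Q
  · exact ⟨0, by omega, by omega, by omega, by omega⟩
  refine ⟨1, by omega, by omega, fun _ => ?_, by omega⟩
  rcases h.pre.fixE_cases hg with h6 | h6
  · have := ((fixE Q z g).subgroupOf Q).index_mul_card
    rw [Nat.card_congr (subgroupOfEquivOfLe (show fixE Q z g ≤ Q from inf_le_left)).toEquiv, h.card] at this
    change (fixE Q z g).relIndex Q * _ = _ at this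
    nlinarith
  · exact Abelianization.commutator_subset_ker ψ h6

end CfsgLib.Rec3E.OV

namespace CfsgLib.Rec3E

open Subgroup Cfsg CfsgLib.Tech CfsgLib.PComp CfsgLib.W2 CfsgLib.Rec3 CfsgLib.Rec3B CfsgLib.Rec3B.W4
open CfsgLib.U43 (SL)

variable {G : Type*} [Group G] [Finite G]

theorem six_index_two {L X : Type*} [Group L] [Group X] {T A P : Subgroup L} {E : Subgroup G} {t : G}
    {f : centralizer ({t} : Set G) →* X} {ι : L →* X} (hM : E62.U6Mod L) (hL : E62.U6Loc T A P) (h : E62.Six E t f)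
    (o : Ov6 ι) {X0 : Subgroup X} (h0 : ι.range ≤ X0) (hi : X0.index = 2) : ∃ M : Subgroup G, M.index = 2 :=
  OV.exists_index_two6 h hM hL o h0 hi

end CfsgLib.Rec3E
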