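import Cfsg.Agent.Lib.Rec3E.T2
import Cfsg.Agent.Lib.Rec3E.OV

/-! A subgroup of index two (plans/REC3E.md, T4). -/

set_option autoImplicit false
set_option maxRecDepth 100000
set_option maxHeartbeats 400000

namespace CfsgLib.Rec3E

open Subgroup Cfsg CfsgLib.Tech CfsgLib.PComp CfsgLib.W2 CfsgLib.Rec3 CfsgLib.Rec3B CfsgLib.Rec3B.W4
open CfsgLib.U43 (SL)

variable {G : Type*} [Group G] [Finite G]
variable {z x σ : G} {Q : Subgroup G} {Qi : Fin 3 → Subgroup G} {r a b : Fin 3 → G} {π : Fin 3 → G → SL}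
  {τ : G → Equiv.Perm (Fin 3)} {i j k : Fin 3} {φ : W4 →* G}

namespace T4x

theorem odd_mem {N : Subgroup G} (hN : N.index = 2) {g : G} {m : ℕ} (hm : Odd m) (e : g ^ m = 1) : g ∈ N := by
  obtain ⟨k, rfl⟩ := hm
  have := inv_mem (pow_mem (sq_mem_of_index_two hN g) k)
  rwa [← pow_mul, inv_eq_of_mul_eq_one_right ((pow_succ g _).symm.trans e)] at this

theorem sl_norm : ∀ s α : SL, s ^ 3 = 1 → s ≠ 1 → α ^ 4 = 1 →
    α * (s * α * s⁻¹) * (s * (s * α * s⁻¹) * s⁻¹) * (α * (s * α * s⁻¹) * (s * (s * α * s⁻¹) * s⁻¹)) = 1 := by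
  decide +kernel

theorem exists_N (e : EP z Q Qi r π τ a b x σ i j k φ) (hs : ¬ NoSw z τ) : ∃ N : Subgroup G, N.index = 2 := by
  obtain ⟨ω, ω0, sw, ωω, τω⟩ := e.exists_swap hs
  have ωz : ω ∈ Cx z := e.ez ▸ sw.z
  obtain ⟨f, hf, -⟩ := e.six (e.cK (Or.inr hs))
  have hK : Fintype.card CfsgLib.Classical.GF4 = 4 := CfsgLib.Classical.card_GF4
  obtain ⟨ε⟩ := e.L0_iso hK
  obtain ⟨T, A, P, hL⟩ := E62.u6Loc hK
  obtain ⟨n0, dec⟩ := e.K0_sw ω0 ωz τω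
  let ι := (inclusion e.L0_le).comp ε.symm.toMonoidHom
  have hι : ι.range = (L0 z (a i) (r i)).subgroupOf (K0 (a i) (r i)) := by
    rw [MonoidHom.range_comp, MonoidHom.range_eq_top.2 ε.symm.surjective, ← MonoidHom.range_eq_map,
      inclusion_range]
  have nr : ((L0 z (a i) (r i)).subgroupOf (K0 (a i) (r i))).Normal :=
    (normal_subgroupOf_iff_le_normalizer e.L0_le).2 e.L0_norm
  have hi : ((L0 z (a i) (r i) ⊔ JE z a ⊓ Cx (r i)).subgroupOf (K0 (a i) (r i))).index = 2 := by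
    refine index_eq_two_iff.2 ⟨⟨ω, ω0⟩, fun g => ?_⟩
    obtain ⟨l, hl, c, hc, cr, k⟩ := dec g g.2
    have m : l * c ∈ L0 z (a i) (r i) ⊔ JE z a ⊓ Cx (r i) := mul_mem_sup hl ⟨hc, cr⟩
    simp only [mem_subgroupOf, coe_mul]
    rcases k with k | k <;> rw [k]
    · exact Or.inr ⟨m, fun c => n0 ((mul_mem_cancel_left m).1 c)⟩
    · exact Or.inl ⟨by rwa [mul_assoc, ωω, mul_one], fun c => n0 ((mul_mem_cancel_left m).1 c)⟩
  have key : ∀ g : K0 (a i) (r i), (∃ m : ℕ, g ^ 2 ^ m = 1) →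
      g ∈ (L0 z (a i) (r i) ⊔ JE z a ⊓ Cx (r i)).subgroupOf (K0 (a i) (r i)) →
      g ∈ (L0 z (a i) (r i)).subgroupOf (K0 (a i) (r i)) := by
    rintro g ⟨m, hm⟩ hg
    obtain ⟨l, hl, c, hc, cr, k⟩ := dec g g.2
    have m1 : l * c ∈ L0 z (a i) (r i) ⊔ JE z a ⊓ Cx (r i) := mul_mem_sup hl ⟨hc, cr⟩
    have k := k.resolve_right fun k => n0 ((mul_mem_cancel_left m1).1 (k ▸ mem_subgroupOf.1 hg))
    have c0 : c ∈ K0 (a i) (r i) := ⟨(mem_JE.1 hc).2 i, cr⟩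
    let q := QuotientGroup.mk' ((L0 z (a i) (r i)).subgroupOf (K0 (a i) (r i)))
    have k1 : q g = q ⟨c, c0⟩ := by
      rw [show g = ⟨l, e.L0_le hl⟩ * ⟨c, c0⟩ from Subtype.ext k, map_mul,
        (QuotientGroup.eq_one_iff (⟨l, e.L0_le hl⟩ : K0 (a i) (r i))).2 hl |> show _ → q _ = 1 from id, one_mul]
    have k2 : q g ^ 3 = 1 := by rw [k1, ← map_pow, show (⟨c, c0⟩ : K0 (a i) (r i)) ^ 3 = 1 from
      Subtype.ext (e.J3 c hc), map_one]
    have k3 : q g ^ 2 ^ m = 1 := by rw [← map_pow, hm, map_one]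
    have k4 := pow_gcd_eq_one.2 ⟨k3, k2⟩
    rw [Nat.Coprime.gcd_eq_one (Nat.Coprime.pow_left m (by decide)), pow_one] at k4
    exact (QuotientGroup.eq_one_iff g).1 k4
  refine six_index_two (E62.u6Mod hK) hL hf (ι := ι) ⟨(inclusion_injective e.L0_le).comp ε.symm.injective, hι ▸ nr,
    fun B hB u hu v hv nu nv => ?_, fun u hu uu => ?_⟩ (hι ▸ comap_mono le_sup_left) hi
  · have p2 : ∀ w ∈ B, ∃ m : ℕ, w ^ 2 ^ m = 1 := isPGroup_iff_mem.1 hB
    rw [hι] at nu nv ⊢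
    exact key _ (p2 _ (mul_mem hu hv)) ((mul_mem_iff_of_index_two hi).2
      (iff_of_false (mt (key u (p2 u hu)) nu) (mt (key v (p2 v hv)) nv)))
  · have u2 : (u : G) ^ 2 = 1 := by rw [pow_two]; exact congrArg Subtype.val uu
    rcases e.L0_min (N := zpowers (u : G)) (zpowers_le.2 u.2) (fun l hl => by
      have k : Commute u ⟨l, e.L0_le hl⟩ := by
        have := hu (ε ⟨l, hl⟩)
        rwa [show ι (ε ⟨l, hl⟩) = ⟨l, e.L0_le hl⟩ from Subtype.ext (by simp [ι])] at this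
      have k' : l * u * l⁻¹ = u := by
        rw [mul_inv_eq_iff_eq_mul]; exact (congrArg Subtype.val k.eq).symm
      exact mem_normalizer_iff_cj.2 (by rw [cj_zpowers, k'])) with k | k
    · exact Subtype.ext (zpowers_eq_bot.1 k)
    · obtain ⟨m, hm⟩ := k (e.ez ▸ e.phi_L0 gz)
      have z2 : z ^ 2 = 1 := by
        rw [← hm]
        change ((u : G) ^ m) ^ 2 = 1
        rw [← zpow_natCast, ← zpow_mul, mul_comm, zpow_mul, zpow_natCast, u2, one_zpow]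
      have z3 := e.z3
      rw [pow_succ, z2, one_mul] at z3
      exact absurd z3 e.z1

end T4x

theorem EX.exists_two (h : EX z Q Qi r π τ a b x σ) (hs : ¬ NoSw z τ) : ∃ N : Subgroup G, N.index = 2 ∧ Q ≤ N ∧
    (∀ i, RE z Q (r i) ≤ N) ∧ (∀ g, ∃ n ∈ N, ∃ c ∈ Cx z, g = n * c) ∧ ∀ g ∈ N, g ∈ Cx z → τ g ^ 3 = 1 := by
  have : Fact (Nat.Prime 3) := ⟨by norm_num⟩
  obtain ⟨φ, e⟩ := h.exists_EP (i := 0) (j := 1) (k := 2) (by decide) (by decide) (by decide)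
  obtain ⟨N, hN⟩ := T4x.exists_N e hs
  have nN := normal_of_index_eq_two hN
  have m3 : ∀ g : G, g ^ 3 = 1 → g ∈ N := fun g => T4x.odd_mem hN (by decide)
  have SN : Q ⊔ JE z a ⊔ zpowers σ ≤ N := fun g hg => by
    obtain ⟨m, hm⟩ := isPGroup_iff_mem.1 h.syl.pgroup g hg
    exact T4x.odd_mem hN (Odd.pow (by decide : Odd 3)) hm
  have QN : Q ≤ N := fun g hg => m3 g (h.exp g hg)
  have RN : ∀ i, RE z Q (r i) ≤ N := fun i y hy => by
    have q8 := h.toEH.q8 i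
    have rN : r i ∈ N := by
      obtain ⟨α, α4, α2⟩ := (by decide +kernel : ∃ α : SL, α ^ 4 = 1 ∧ α * α ≠ 1)
      obtain ⟨u, hu, rfl⟩ := h.toEH.R_onto i α4
      have us : u ∈ h.St i := h.H0_le i (h.mem_H0.2 ⟨(h.toEH.R_H0 hu).1, (h.toEH.R_H0 hu).2.1⟩)
      rw [← h.π_mul us us] at α2
      rcases q8.sq u hu with k | k | k
      · exact absurd (by rw [k, mul_one, h.π_one]) α2
      · exact absurd (by rw [k, q8.rr, h.π_one]) α2
      · exact k ▸ mul_self_mem_of_index_two hN u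
    obtain ⟨xz, τx, x3⟩ := h.J_H0 h.xJ
    have xn := h.toEH.nR i ⟨RBx.nz h.toNH xz, h.xr i⟩
    have xs : x ∈ h.St i := h.H0_le i (h.mem_H0.2 ⟨xz, τx⟩)
    have y1 := conj_mem_of_mem_normalizer xn hy
    have y2 := conj_mem_of_mem_normalizer xn y1
    have w := mul_mem (mul_mem hy y1) y2
    have st : ∀ {u}, u ∈ RE z Q (r i) → u ∈ h.St i := fun hu =>
      h.H0_le i (h.mem_H0.2 ⟨(h.toEH.R_H0 hu).1, (h.toEH.R_H0 hu).2.1⟩)
    have cj : ∀ {u}, u ∈ RE z Q (r i) → π i (x * u * x⁻¹) = π i x * π i u * (π i x)⁻¹ := fun hu => by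
      rw [h.π_mul (mul_mem xs (st hu)) (inv_mem xs), h.π_mul xs (st hu), h.π_inv xs]
    have w2 := h.toEH.R_inj (mul_mem w w) (by
      rw [h.π_mul (st w) (st w), h.π_mul (st (mul_mem hy y1)) (st y2), h.π_mul (st hy) (st y1), cj y1, cj hy]
      exact T4x.sl_norm _ _ (x3 i) (h.πx i) (h.toEH.R_H0 hy).2.2.1)
    have wN : y * (x * y * x⁻¹) * (x * (x * y * x⁻¹) * x⁻¹) ∈ N := by
      rcases q8.sq _ w with k | k | k
      · rw [k]; exact one_mem _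
      · rw [k]; exact rN
      · exact absurd (k.symm.trans w2) q8.r1
    by_contra c
    have c1 : x * y * x⁻¹ ∉ N := fun k => c (by simpa [mul_assoc] using nN.conj_mem _ k x⁻¹)
    have c2 : x * (x * y * x⁻¹) * x⁻¹ ∉ N := fun k => c1 (by simpa [mul_assoc] using nN.conj_mem _ k x⁻¹)
    exact c2 ((mul_mem_cancel_left ((mul_mem_iff_of_index_two hN).2 (iff_of_false c c1))).1 wN)
  have Sz : Q ⊔ JE z a ⊔ zpowers σ ≤ Cx z := sup_le (sup_le h.zc inf_le_left) (zpowers_le.2 h.σz)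
  have fr : ∀ g, ∃ n ∈ N, ∃ c ∈ Cx z, g = n * c := fun g => by
    have s1 := h.syl.of_le SN le_top
    have s2 := s1.cj g
    rw [cj_eq_of_normal g N] at s2
    obtain ⟨n, hn, k⟩ := s1.exists_cj_eq s2
    have mS : n⁻¹ * g ∈ normalizer ((Q ⊔ JE z a ⊔ zpowers σ : Subgroup G) : Set G) :=
      mem_normalizer_iff_cj.2 (by rw [cj_mul, ← k, cj_inv_cj])
    obtain ⟨m, rfl⟩ : ∃ m, g = n * m := ⟨n⁻¹ * g, by group⟩
    rw [inv_mul_cancel_left] at mS
    have z1 := Sz (conj_mem_of_mem_normalizer mS (mem_sup_left (mem_sup_left h.z_mem)))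
    have z2 : ∀ q ∈ Q, q * (m * z * m⁻¹) = m * z * m⁻¹ * q := fun q hq => by
      have := (conj_mem_Cx (g := m)).2 (Sz (conj_mem_of_mem_normalizer (inv_mem mS) (mem_sup_left (mem_sup_left hq))))
      rw [show m * (m⁻¹ * q * m⁻¹⁻¹) * m⁻¹ = q by group] at this
      exact mem_Cx.1 this
    have z3 := h.cenQ (h.faith _ z1 fun q hq => by
      rw [← z2 q hq, mul_inv_cancel_right, mul_inv_cancel]; exact one_mem _) z2
    rcases Es.three_cases h.z3 z3 with k | k | k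
    · exact absurd (by simpa using k) h.z1
    · exact ⟨n, hn, m, mem_Cx'.2 k, rfl⟩
    · obtain ⟨l, hl, -, k'⟩ := e.om_L0 (u := gz⁻¹) (by decide +kernel)
      rw [map_inv, e.ez] at k'
      have lN : l ∈ N := (closure_le N).2 (by
        rintro _ ⟨u, -, rfl⟩
        exact nN.conj_mem _ (QN h.z_mem) u) hl
      refine ⟨n * l, mul_mem hn lN, l⁻¹ * m, mem_Cx'.2 ?_, by group⟩
      calc _ = l⁻¹ * (m * z * m⁻¹) * l := by group
        _ = z := by rw [k, ← k']; group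
  refine ⟨N, hN, QN, RN, fr, fun g hg gz => by_contra fun c => ?_⟩
  have H0N : ∀ u ∈ Cx z, τ u = 1 → u ∈ N := fun u hu t => by
    obtain ⟨q, hq, y, hy, d, hd, -, rfl⟩ := h.dec0 hu t
    exact mul_mem (mul_mem (QN hq) (mul_mem (mul_mem (RN 0 (hy 0)) (RN 1 (hy 1))) (RN 2 (hy 2)))) (m3 d (h.J3 d hd))
  have σN : σ ∈ N := SN (mem_sup_right (mem_zpowers σ))
  have CN : Cx z ≤ N := fun u hu => by
    obtain ⟨m, k⟩ := (by decide +kernel : ∀ s t v : Equiv.Perm (Fin 3), (∀ i, s i = i + 1) → t ^ 3 ≠ 1 →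
      ∃ m : Fin 3, s ^ m.val * v = 1 ∨ s ^ m.val * t * v = 1) _ _ (τ u) h.τσ c
    have σm := pow_mem h.σz m.val
    rcases k with k | k
    · exact (mul_mem_cancel_left (pow_mem σN m.val)).1 (H0N _ (mul_mem σm hu) (by rw [h.τm _ σm _ hu, h.τ_pow h.σz, k]))
    · exact (mul_mem_cancel_left (mul_mem (pow_mem σN m.val) hg)).1 (H0N _ (mul_mem (mul_mem σm gz) hu) (by
        rw [h.τm _ (mul_mem σm gz) _ hu, h.τm _ σm _ gz, h.τ_pow h.σz, k]))
  have : N = ⊤ := eq_top_iff.2 fun u _ => by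
    obtain ⟨n, hn, d, hd, rfl⟩ := fr u
    exact mul_mem hn (CN hd)
  rw [this, index_top] at hN
  omega

end CfsgLib.Rec3E
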