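import Cfsg.Agent.Lib.Rec3E.RB

/-! Restriction to subgroups (plans/REC3E.md, TR). -/

set_option autoImplicit false
set_option maxRecDepth 100000
set_option maxHeartbeats 400000

namespace CfsgLib.Rec3E

open Subgroup Cfsg CfsgLib.Tech CfsgLib.PComp CfsgLib.W2 CfsgLib.Rec3 CfsgLib.Rec3B CfsgLib.Rec3B.W4
open CfsgLib.U43 (SL)

variable {G : Type*} [Group G] [Finite G]
variable {z x σ : G} {Q : Subgroup G} {Qi : Fin 3 → Subgroup G} {r a b : Fin 3 → G} {π : Fin 3 → G → SL}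
  {τ : G → Equiv.Perm (Fin 3)} {i j k : Fin 3} {φ : W4 →* G}

namespace TR

omit [Finite G] in
theorem sC {N : Subgroup G} {u g : N} : g ∈ Cx u ↔ (g : G) ∈ Cx (u : G) := by
  rw [mem_Cx, mem_Cx, Subtype.ext_iff]; rfl

omit [Finite G] in
theorem sZ {N : Subgroup G} {u g : N} : g ∈ zpowers u ↔ (g : G) ∈ zpowers (u : G) := by
  rw [mem_zpowers_iff, mem_zpowers_iff]
  refine exists_congr fun m => ?_
  rw [Subtype.ext_iff, SubgroupClass.coe_zpow]

omit [Finite G] in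
theorem sN {N : Subgroup G} {u g : N} (hg : g ∈ normalizer (zpowers u : Set N)) :
    (g : G) ∈ normalizer (zpowers (u : G) : Set G) := by
  have e : zpowers (u : G) = (zpowers u).map N.subtype := (MonoidHom.map_zpowers N.subtype u).symm
  rw [e]
  exact le_normalizer_map N.subtype ⟨g, hg, rfl⟩

omit [Finite G] in
theorem coe_prod {N : Subgroup G} {n : ℕ} (y : Fin n → N) :
    (((List.ofFn y).prod : N) : G) = (List.ofFn fun i => (y i : G)).prod := by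
  have := map_list_prod N.subtype (List.ofFn y)
  rw [List.map_ofFn] at this
  exact this

omit [Finite G] in
theorem nh {n : ℕ} {Qi : Fin n → Subgroup G} {r : Fin n → G} {π : Fin n → G → SL} {τ : G → Equiv.Perm (Fin n)}
    (h : NH z Q Qi r π τ) {N : Subgroup G} (hQ : Q ≤ N) (hz : z ∈ N) (hr : ∀ i, r i ∈ N) :
    NH (⟨z, hz⟩ : N) (Q.subgroupOf N) (fun i => (Qi i).subgroupOf N) (fun i => ⟨r i, hr i⟩)
      (fun i g => π i g) (fun g => τ g) where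
  z1 e := h.z1 (congrArg Subtype.val e)
  zQ i := h.zQ i
  le i _ hq := h.le i hq
  zc _ hq := sC.2 (h.zc hq)
  nQ g hg := by
    have k := h.nQ (sN hg)
    rw [mem_normalizer_iff] at k ⊢
    exact fun q => k q
  card := (Nat.card_congr (subgroupOfEquivOfLe hQ).toEquiv).trans h.card
  cardi i := (Nat.card_congr (subgroupOfEquivOfLe ((h.le i).trans hQ)).toEquiv).trans (h.cardi i)
  exp q hq := Subtype.ext (h.exp q hq)
  cmt p hp q hq := sZ.2 (h.cmt p hp q hq)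
  cen i q hq e := sZ.2 (h.cen i q hq fun y hy => congrArg Subtype.val (e ⟨y, hQ (h.le i hy)⟩ hy))
  cm i j ij p hp q hq := Subtype.ext (h.cm i j ij p hp q hq)
  dec q hq := by
    obtain ⟨y, hy, e⟩ := h.dec q hq
    exact ⟨fun i => ⟨y i, hQ (h.le i (hy i))⟩, hy, Subtype.ext (e.trans (coe_prod (N := N) fun i => ⟨y i, hQ (h.le i (hy i))⟩).symm)⟩
  faith g hg e := h.faith g (sC.1 hg) fun q hq => sZ.1 (e ⟨q, hQ hq⟩ hq)
  τm a ha b hb := h.τm a (sC.1 ha) b (sC.1 hb)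
  τa g hg i := by
    ext u
    rw [mem_cj, mem_subgroupOf, mem_subgroupOf, ← h.τa g (sC.1 hg) i, mem_cj]
    rfl
  πm i a ha e b hb e' := h.πm i a (sC.1 ha) e b (sC.1 hb) e'
  πk i g hg e := (h.πk i g (sC.1 hg) e).trans
    ⟨fun k q hq => sZ.2 (k q hq), fun k q hq => sZ.1 (k ⟨q, hQ (h.le i hq)⟩ hq)⟩
  rz i := sC.2 (h.rz i)
  rr i := Subtype.ext (h.rr i)
  rm i j := Subtype.ext (h.rm i j)
  ri i q hq := sZ.2 (h.ri i q hq)
  rj i j ij _ hq := sC.2 (h.rj i j ij hq)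

end TR

theorem EH.sub (h : EH z Q Qi r π τ) {N : Subgroup G} (hQ : Q ≤ N) (hR : ∀ i, RE z Q (r i) ≤ N) :
    EH (⟨z, hQ h.z_mem⟩ : N) (Q.subgroupOf N) (fun i => (Qi i).subgroupOf N) (fun i => ⟨r i, hR i (h.q8 i).mem⟩)
      (fun i g => π i g) (fun g => τ g) := by
  refine ⟨TR.nh h.toNH hQ _ _, fun α hα => ?_⟩
  obtain ⟨g, hg, t, e⟩ := h.full α hα
  obtain ⟨q, hq, y, hy, e'⟩ := h.decR hg t fun i => by rw [e i]; exact hα i
  have gN : g ∈ N := by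
    rw [e']
    exact mul_mem (hQ hq) (mul_mem (mul_mem (hR 0 (hy 0)) (hR 1 (hy 1))) (hR 2 (hy 2)))
  exact ⟨⟨g, gN⟩, TR.sC.2 hg, t, e⟩

omit [Finite G] in
theorem NW.sub (nw : NW z) {N : Subgroup G} (hz : z ∈ N) (hN : ∀ g, ∃ n ∈ N, ∃ c ∈ Cx z, g = n * c) :
    NW (⟨z, hz⟩ : N) := by
  obtain ⟨g, h1, h2⟩ := nw
  obtain ⟨n, hn, c, hc, rfl⟩ := hN g
  have e : n * c * z * (n * c)⁻¹ = n * z * n⁻¹ := by
    rw [← mem_Cx'.1 hc]; nth_rewrite 1 [mem_Cx'.1 hc]; group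
  rw [e] at h1 h2
  exact ⟨⟨n, hn⟩, TR.sC.2 h1, fun k => h2 (TR.sZ.1 k)⟩

end CfsgLib.Rec3E
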