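import Cfsg.Agent.Lib.Rec3E.JB2
import Cfsg.Agent.Lib.Rec3E.TR
import Cfsg.Agent.Lib.Rec3E.F2
import Cfsg.Agent.Lib.Rec3E.E3a
import Cfsg.Agent.S4215

/-! A normal subgroup of index three (plans/REC3E.md, TI). -/

set_option autoImplicit false
set_option maxRecDepth 100000
set_option maxHeartbeats 400000
set_option linter.unusedSectionVars false
set_option linter.unusedVariables false

namespace CfsgLib.Rec3E

open Subgroup Cfsg CfsgLib.Tech CfsgLib.PComp CfsgLib.W2 CfsgLib.Rec3 CfsgLib.Rec3B CfsgLib.Rec3B.W4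
open CfsgLib.U43 (SL)

variable {G : Type*} [Group G] [Finite G]
variable {z x σ : G} {Q : Subgroup G} {Qi : Fin 3 → Subgroup G} {r a b : Fin 3 → G} {π : Fin 3 → G → SL}
  {τ : G → Equiv.Perm (Fin 3)} {i j k : Fin 3} {φ : W4 →* G}

namespace TIx

open CfsgLib.Sect Es NBx FT E3y JBy

theorem not_res0 {S U : Subgroup G} {c : G} (hi : ¬ 3 ∣ U.index) (SU : S ≤ U) (cU : c ∈ U)
    (hU : U ≤ S ⊔ zpowers c) (c3 : c ^ 3 = 1) (cS : c ∉ S) (cen : ∀ g, g * c * g⁻¹ * c⁻¹ ∈ S) :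
    c ∉ pResidual 3 G := fun hc => by
  have cN : zpowers c ≤ normalizer (S : Set G) := zpowers_le.2 (mem_normalizer_of_forall fun s hs => by
    convert mul_mem (inv_mem (cen s)) hs using 1
    group)
  haveI : (S.subgroupOf U).Normal := normal_subgroupOf_of_le_normalizer (hU.trans (sup_le le_normalizer cN))
  have gen : ∀ q : U ⧸ S.subgroupOf U, q ∈ zpowers ((⟨c, cU⟩ : U) : U ⧸ S.subgroupOf U) := fun q => by
    obtain ⟨u, rfl⟩ := QuotientGroup.mk_surjective q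
    obtain ⟨_, ⟨m, rfl⟩, s, hs, e⟩ := (mem_sup_of_norm fun a ha b hb => conj_mem_of_mem_normalizer (cN ha) hb).1
      (sup_comm S _ ▸ hU u.2)
    refine ⟨m, ?_⟩
    change _ ^ m = _
    rw [← QuotientGroup.mk_zpow, QuotientGroup.eq, mem_subgroupOf]
    simpa [e] using hs
  haveI : IsCyclic (U ⧸ S.subgroupOf U) := ⟨⟨_, gen⟩⟩
  letI : CommGroup (U ⧸ S.subgroupOf U) := IsCyclic.commGroup
  have a3 : ((⟨c, cU⟩ : U) : U ⧸ S.subgroupOf U) ^ 3 = 1 := by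
    rw [← QuotientGroup.mk_pow, show (⟨c, cU⟩ : U) ^ 3 = 1 from Subtype.ext c3]; rfl
  have t := Transfer.transfer_eq_pow_of_forall (QuotientGroup.mk' (S.subgroupOf U)) c
    ((⟨c, cU⟩ : U) : U ⧸ S.subgroupOf U) fun m t h _ => by
      have k : t⁻¹ * c * t ∈ U := by simpa using mul_mem (SU (cen t⁻¹)) cU
      rw [show (⟨_, h⟩ : U) = ⟨_, k⟩ ^ m from Subtype.ext (by simpa using (conj_pow (a := t⁻¹) (b := c) (i := m)).symm),
        map_pow]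
      congr 1
      refine (QuotientGroup.eq.2 (mem_subgroupOf.2 ?_)).symm
      convert conj_mem_of_mem_normalizer' (zpowers_le.1 cN) (cen t⁻¹) using 1
      simp [mul_assoc]
  have k : pResidual 3 G ≤ (MonoidHom.transfer (QuotientGroup.mk' (S.subgroupOf U))).ker :=
    (closure_le _).2 fun g hg => (pow_eq_one_iff_of_coprime (show (orderOf g).Coprime 3 from hg)).1
      ⟨by rw [← map_pow, pow_orderOf_eq_one, map_one], zcube a3 (gen _)⟩
  have := (pow_eq_one_iff_of_coprime ((Nat.prime_three.coprime_iff_not_dvd).2 hi)).1 ⟨a3, t.symm.trans (k hc)⟩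
  exact cS (mem_subgroupOf.1 ((QuotientGroup.eq_one_iff _).1 this))

theorem not_res {M S U : Subgroup G} {c : G} (hS : IsSylowIn 3 U M) (SU : S ≤ U) (cU : c ∈ U)
    (hU : U ≤ S ⊔ zpowers c) (c3 : c ^ 3 = 1) (cS : c ∉ S) (cen : ∀ g ∈ M, g * c * g⁻¹ * c⁻¹ ∈ S) :
    c ∉ pResidualOf 3 M := by
  rintro ⟨c, hc, rfl⟩
  refine not_res0 (S := S.subgroupOf M) (U := U.subgroupOf M) hS.not_dvd (fun g hg => SU hg) cU (fun u hu => ?_)
    (Subtype.ext c3) cS (fun g => cen g g.2) hc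
  have cN : zpowers (c : G) ≤ normalizer (S : Set G) := zpowers_le.2 (mem_normalizer_of_forall fun s hs => by
    convert mul_mem (inv_mem (cen s (hS.le (SU hs)))) hs using 1
    simp [mul_assoc])
  obtain ⟨_, ⟨m, rfl⟩, s, hs, e⟩ := (mem_sup_of_norm fun a ha b hb => conj_mem_of_mem_normalizer (cN ha) hb).1
    (sup_comm S _ ▸ hU hu)
  rw [show u = c ^ m * ⟨s, hS.le (SU hs)⟩ from Subtype.ext (by simpa using e)]
  exact mul_mem (mem_sup_right (zpow_mem_zpowers c m)) (mem_sup_left hs)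

variable (h : EX z Q Qi r π τ a b x σ) {y g : G}
include h

theorem SN : Q ⊔ JE z a ⊔ zpowers σ ≤ NE z a := sup_le (sup_le h.Q_N le_normalizer) (zpowers_le.2 h.σ_N)

theorem Sz : Q ⊔ JE z a ⊔ zpowers σ ≤ Cx z :=
  sup_le (sup_le h.zc fun u hu => (mem_JE.1 hu).1) (zpowers_le.2 h.σz)

theorem S1J (hy : y ∈ JE z a) (e : y ∈ Q ⊔ J5 z x a ⊔ zpowers σ) : y ∈ J5 z x a := by
  have n5 : Q ≤ normalizer (J5 z x a : Set G) := h.Q_N.trans h.NJ5
  have dec : ∀ {u}, u ∈ Q ⊔ J5 z x a → ∃ q ∈ Q, ∃ v ∈ J5 z x a, u = q * v := fun hu =>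
    (mem_sup_of_norm fun a ha b hb => conj_mem_of_mem_normalizer (n5 ha) hb).1 hu
  obtain ⟨_, ⟨m, rfl⟩, u, hu, e1⟩ := (mem_sup_of_norm (A := zpowers σ) (B := Q ⊔ J5 z x a) fun s hs u hu => by
    obtain ⟨q, hq, v, hv, rfl⟩ := dec hu
    convert mul_mem_sup (conj_mem_of_mem_normalizer (h.norm_Q (zpowers_le.2 h.σz hs)) hq)
      (conj_mem_of_mem_normalizer (h.NJ5 (zpowers_le.2 h.σ_N hs)) hv) using 1
    group).1 (sup_comm (Q ⊔ J5 z x a) _ ▸ e)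
  obtain ⟨q, hq, v, hv, rfl⟩ := dec hu
  have H0 : ∀ {u}, u ∈ JE z a → u ∈ h.H0 := fun hu => h.mem_H0.2 ⟨(h.J_H0 hu).1, (h.J_H0 hu).2.1⟩
  have k1 : σ ^ m ∈ h.H0 := (mul_mem_cancel_right (mul_mem (T3x.Q_H0 h.toNH hq) (H0 (h.J5_le hv)))).1 (e1 ▸ H0 hy)
  have k2 : σ ^ m ∈ J5 z x a := by
    have e2 : σ ^ m = (σ ^ 3) ^ (m / 3) * σ ^ (m % 3) := by
      rw [← zpow_natCast, ← zpow_mul, ← zpow_add]; congr 1; omega
    have s1 : σ ∉ h.H0 := fun k => (PQ.cyc h.τσ).1 (h.mem_H0.1 k).2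
    have c := zpow_mem h.σ_cube (m / 3)
    rw [e2, mul_mem_cancel_left (H0 (h.J5_le c))] at k1
    rw [e2, mul_mem_cancel_left c]
    rcases (by omega : m % 3 = 0 ∨ m % 3 = 1 ∨ m % 3 = 2) with e | e | e <;> rw [e] at k1 ⊢
    · simp
    · exact absurd (by simpa using k1) s1
    · exact absurd (by
        have := mul_mem (H0 (h.J5_le h.σ_cube)) (inv_mem k1)
        rwa [show σ ^ 3 * (σ ^ (2 : ℤ))⁻¹ = σ by group] at this) s1
  change y = σ ^ m * (q * v) at e1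
  have k3 : q ∈ JE z a := by
    rw [e1, mul_mem_cancel_left (h.J5_le k2), mul_mem_cancel_right (h.J5_le hv)] at hy
    exact hy
  exact e1 ▸ mul_mem k2 (mul_mem (AJ5 h (h.QJ.le ⟨hq, k3⟩)) hv)

theorem resJ (h2 : NoSw z τ) (hy : y ∈ JE z a) (e : y ∈ pResidual 3 G) : y ∈ J5 z x a := by
  by_contra yn
  haveI : Fact (Nat.Prime 3) := ⟨by norm_num⟩
  have JS : JE z a ≤ Q ⊔ JE z a ⊔ zpowers σ := le_sup_right.trans le_sup_left
  have := Agent.S4215.result h.syl.toSylowTop (JE z a) ⟨JS, fun g hg => eq_of_le_of_card_ge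
    (h.uq (cj g (JE z a)) hg (fun u hu v hv => by
      have := (conj_mem_Cx (g := g)).2 (JC h (mem_cj.1 hv) (mem_cj.1 hu))
      simpa [mul_assoc, mem_Cx] using this) (card_cj g _).ge) (card_cj g _).ge⟩ fun p hp w hw => by
    have k1 : p⁻¹ * w⁻¹ * p * w ∈ JE z a :=
      mul_mem (by simpa using conj_mem_of_mem_normalizer (inv_mem (SN h hp)) (inv_mem hw)) hw
    change (p⁻¹ * w⁻¹ * p * w)⁻¹ * w⁻¹ * (p⁻¹ * w⁻¹ * p * w) * w = 1
    rw [mul_assoc, mul_assoc, h.Jc _ k1 _ hw]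
    group
  refine not_res (S := Q ⊔ J5 z x a ⊔ zpowers σ) (h.syl.of_le (SN h) le_top)
    (sup_le_sup_right (sup_le_sup_left h.J5_le _) _) (JS hy) (sup_le (sup_le
      (le_sup_left.trans (le_sup_left.trans le_sup_left)) ((h.J_le_of hy yn).trans
      (sup_le_sup_right (le_sup_right.trans le_sup_left) _))) (le_sup_right.trans le_sup_left))
    (h.J3 y hy) (fun k => yn (S1J h hy k)) (fun g hg => mem_sup_left (mem_sup_right (h.eps h2 hg hy))) ?_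
  rw [this]
  exact ⟨e, le_normalizer hy⟩

end TIx

open CfsgLib.Sect Es NBx FT E3y JBy TIx

theorem EX.exists_three (h : EX z Q Qi r π τ a b x σ) (h1 : ¬ Sm z π τ) (h2 : NoSw z τ) : ∃ N : Subgroup G, N.Normal ∧
    N.index = 3 ∧ Q ≤ N ∧ (∀ i, RE z Q (r i) ≤ N) ∧ (∀ g, ∃ n ∈ N, ∃ c ∈ Cx z, g = n * c) ∧
      ∀ g ∈ N, g ∈ Cx z → τ g = 1 → π 0 g ^ 4 = 1 → ∀ i, π i g ^ 4 = 1 := by
  haveI : Fact (Nat.Prime 3) := ⟨by norm_num⟩
  have res := fun {y} => resJ h (y := y) h2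
  have top := Transfer.pResidual_sup_sylow h.syl.toSylowTop
  have two : ∀ g : G, g ^ 4 = 1 → g ∈ pResidual 3 G := fun g e =>
    subset_closure (Nat.Coprime.coprime_dvd_left (orderOf_dvd_of_pow_eq_one e) (by norm_num))
  have nrm : (pResidual 3 G).Normal := Transfer.pResidual_normal 3 G
  generalize pResidual 3 G = N at *
  have RN : ∀ i, RE z Q (r i) ≤ N := fun i g hg => two g (h.toEH.mem_RE.1 hg).2.2.2
  have rN : ∀ i, r i ∈ N := fun i => two _ (by rw [show 4 = 2 * 2 by rfl, pow_mul, sq (r i), h.rr, one_pow])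
  have inv : ∀ i p, p ^ 3 = 1 → r i * p * (r i)⁻¹ = p⁻¹ → p ∈ N := fun i p p3 e => of_sq p3 (by
    convert mul_mem (nrm.conj_mem _ (rN i) p) (inv_mem (rN i)) using 1
    calc p * p = p * (r i * p * (r i)⁻¹)⁻¹ := by rw [e, inv_inv]
      _ = _ := by group)
  have QN : Q ≤ N := h.gen_le fun i => (h.gen i).ge.trans ((closure_le _).2 (by
    rintro _ (rfl | rfl)
    exacts [inv i _ (rl h i).a3 (rl h i).ra, inv i _ (rl h i).b3 (rl h i).rb]))
  have dec : ∀ g ∈ Cx z, τ g = 1 → ∃ n ∈ N, ∃ c ∈ JE z a, g = n * c ∧ n ∈ h.H0 ∧ ∀ i, π i n ^ 4 = 1 :=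
    fun g gz t => by
      obtain ⟨q, hq, y, hy, c, hc, -, e⟩ := h.dec0 gz t
      have y0 := fun i => h.toEH.R_H0 (hy i)
      have y1 : ∀ i, y i ∈ h.H0 := fun i => h.mem_H0.2 ⟨(y0 i).1, (y0 i).2.1⟩
      have Y := mul_mem (mul_mem (y1 0) (y1 1)) (y1 2)
      refine ⟨_, mul_mem (QN hq) (mul_mem (mul_mem (RN 0 (hy 0)) (RN 1 (hy 1))) (RN 2 (hy 2))), c, hc, e,
        mul_mem (T3x.Q_H0 h.toNH hq) Y, fun i => ?_⟩
      rw [h.π_mul (h.H0_le i (T3x.Q_H0 h.toNH hq)) (h.H0_le i Y), h.π_Q hq, one_mul,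
        h.π_mul (h.H0_le i (mul_mem (y1 0) (y1 1))) (h.H0_le i (y1 2)), h.π_mul (h.H0_le i (y1 0)) (h.H0_le i (y1 1))]
      rcases c3 i with rfl | rfl | rfl
      · rw [(y0 1).2.2.2.1 0 (by decide), (y0 2).2.2.2.1 0 (by decide), mul_one, mul_one, (y0 0).2.2.1]
      · rw [(y0 0).2.2.2.1 1 (by decide), (y0 2).2.2.2.1 1 (by decide), mul_one, one_mul, (y0 1).2.2.1]
      · rw [(y0 0).2.2.2.1 2 (by decide), (y0 1).2.2.2.1 2 (by decide), mul_one, one_mul, (y0 2).2.2.1]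
  refine ⟨N, nrm, ?_, QN, RN, fun g => ?_, fun g gN gz t e i => ?_⟩
  · obtain ⟨y, hy, yn, -, -, hJ⟩ := h.exists_y h1 0
    obtain ⟨n, -, e⟩ := h.x_conj
    have JN : JE z a ≤ N ⊔ zpowers y := hJ.trans (sup_le_sup_right (F4x.J_le.2
      ⟨fun i => QN (aQ' h i), e ▸ nrm.conj_mem _ (QN h.z_mem) n, QN h.z_mem⟩) _)
    obtain ⟨g, m, e1⟩ := h.zc3
    have f := full_of h h.aQ h.an (pow_mem (mem_zpowers z) m)
    rw [← e1] at f
    obtain ⟨s, hs, s1⟩ := (mkPQ h.toNH (g := g) (e1 ▸ mul_mem (mul_mem (mul_mem (aQ' h 0) (aQ' h 1)) (aQ' h 2))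
      (pow_mem h.z_mem m)) (full_n h f)).ex_s
    have sN : s ∈ N := by simpa [mul_assoc] using nrm.conj_mem _ (QN (mem_cj.1 hs.1)) g
    obtain ⟨p, hp, c, hc, e2, -⟩ := dec _ (mul_mem h.σz (inv_mem hs.2)) (by
      rw [h.τm _ h.σz _ (inv_mem hs.2), h.τ_inv hs.2, mul_inv_eq_one]
      exact Equiv.ext fun i => (h.τσ i).trans (s1 i).symm)
    have σN : σ ∈ N ⊔ zpowers y := (mul_mem_cancel_right (inv_mem (mem_sup_left sN))).1
      (e2 ▸ mul_mem (mem_sup_left hp) (JN hc))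
    have t2 : N ⊔ zpowers y = ⊤ := eq_top_iff.2 (top.ge.trans (sup_le le_sup_left
      (sup_le (sup_le (QN.trans le_sup_left) JN) (zpowers_le.2 σN))))
    have y1 : y ≠ 1 := fun k => yn (k ▸ one_mem _)
    have d : N.index ∣ 3 := by
      rw [← relIndex_top_right, ← t2, relIndex_sup_left, ← cardZ y1 (h.J3 y hy)]
      exact relIndex_dvd_card _ _
    exact ((Nat.dvd_prime Nat.prime_three).1 d).resolve_left fun k =>
      yn (res hy (index_eq_one.1 k ▸ mem_top y))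
  · obtain ⟨n, hn, c, hc, e⟩ := mem_sup_of_normal_left.1 (top.ge (mem_top g))
    exact ⟨n, hn, c, Sz h hc, e.symm⟩
  · obtain ⟨n, hn, c, hc, rfl, n0, n4⟩ := dec g gz t
    obtain ⟨m, hm⟩ := (h.J5_iff hc).1 (res hc ((mul_mem_cancel_left hn).1 gN))
    have c0 : c ∈ h.H0 := h.mem_H0.2 ⟨(h.J_H0 hc).1, (h.J_H0 hc).2.1⟩
    have x3 := (h.J_H0 h.xJ).2.2
    rw [h.π_mul (h.H0_le _ n0) (h.H0_le _ c0), hm, pow_eq_pow_mod _ (x3 _)] at e ⊢
    exact (by decide +kernel : ∀ s t : SL, s ^ 3 = 1 → t ^ 3 = 1 → s ≠ 1 → ∀ m : Fin 3, ∀ u : SL, u ^ 4 = 1 →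
      (u * s ^ m.1) ^ 4 = 1 → ∀ v : SL, v ^ 4 = 1 → (v * t ^ m.1) ^ 4 = 1) _ _ (x3 0) (x3 i) (h.πx 0)
      ⟨m % 3, Nat.mod_lt _ (by decide)⟩ _ (n4 0) e _ (n4 i)

end CfsgLib.Rec3E
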