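import Cfsg.Agent.Lib.Rec3E.E3b
import Cfsg.Agent.Lib.Rec3E.TI
import Cfsg.Agent.Lib.Rec3E.T4

/-! Recognition of `²E₆(2)` (plans/REC3E.md, Main). -/

set_option autoImplicit false
set_option maxRecDepth 100000
set_option maxHeartbeats 400000

namespace CfsgLib.Rec3E

open Subgroup Cfsg CfsgLib.Tech CfsgLib.PComp CfsgLib.W2 CfsgLib.Rec3 CfsgLib.Rec3B CfsgLib.Rec3B.W4
open CfsgLib.U43 (SL)

variable {G : Type*} [Group G] [Finite G]
variable {z x σ : G} {Q : Subgroup G} {Qi : Fin 3 → Subgroup G} {r a b : Fin 3 → G} {π : Fin 3 → G → SL}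
  {τ : G → Equiv.Perm (Fin 3)} {i j k : Fin 3} {φ : W4 →* G}

theorem EH.mainA (h : EH z Q Qi r π τ) (nw : NW z) (h1 : Sm z π τ) (h2 : NoSw z τ) {K : Type*} [Field K] [Fintype K]
    (hK : Fintype.card K = 4) : Nonempty (G ≃* Cfsg.Lie.twistedE6 K 2) ∧ IsSimpleGroup G := by
  obtain ⟨a, x, σ, e⟩ := h.exists_ET (h.exists_in_Q nw)
  obtain ⟨b, x', e'⟩ := e.exists_EX
  exact e'.simple h1 h2 hK

omit [Finite G] in
theorem cx_sub {N : Subgroup G} {hz : z ∈ N} {g : N} (hg : g ∈ Cx (⟨z, hz⟩ : N)) : (g : G) ∈ Cx z :=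
  mem_Cx.2 (congrArg Subtype.val (mem_Cx.1 hg))

theorem EH.mainB (h : EH z Q Qi r π τ) (nw : NW z) (h2 : NoSw z τ) {K : Type*} [Field K] [Fintype K]
    (hK : Fintype.card K = 4) : ∃ N : Subgroup G, N.Normal ∧ Nonempty (N ≃* Cfsg.Lie.twistedE6 K 2) ∧
      IsSimpleGroup N ∧ Q ≤ N ∧ N.index ∣ 3 := by
  by_cases h1 : Sm z π τ
  · obtain ⟨⟨e⟩, hs⟩ := h.mainA nw h1 h2 hK
    exact ⟨⊤, inferInstance, ⟨topEquiv.trans e⟩, (topEquiv (G := G)).isSimpleGroup, le_top, by rw [index_top]; exact one_dvd _⟩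
  · obtain ⟨a, x, σ, e⟩ := h.exists_ET (h.exists_in_Q nw)
    obtain ⟨b, x', e'⟩ := e.exists_EX
    obtain ⟨N, n1, n2, n3, n4, n5, n6⟩ := e'.exists_three h1 h2
    obtain ⟨k1, k2⟩ := (h.sub n3 n4).mainA (nw.sub (n3 h.z_mem) n5) (fun g hg => n6 g g.2 (cx_sub hg))
      (fun g hg => h2 g (cx_sub hg)) hK
    exact ⟨N, n1, k1, k2, n3, n2 ▸ dvd_rfl⟩

theorem EH.cent_bot (h : EH z Q Qi r π τ) {N : Subgroup G} (hs : IsSimpleGroup N) (hQ : Q ≤ N) :
    centralizer (N : Set G) = ⊥ := by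
  rw [eq_bot_iff]
  intro c hc
  have cq : ∀ q ∈ Q, q * c = c * q := fun q hq => mem_centralizer_iff.1 hc q (hQ hq)
  have cN : c ∈ N := hQ (h.faith c (mem_Cx.2 (cq z h.z_mem).symm) fun q hq => by
    rw [← cq q hq, mul_inv_cancel_right, mul_inv_cancel]; exact one_mem _)
  rcases hs.eq_bot_or_eq_top_of_normal (center N) inferInstance with e | e
  · have : (⟨c, cN⟩ : N) ∈ center N := mem_center_iff.2 fun g => Subtype.ext (mem_centralizer_iff.1 hc g g.2)
    rw [e, mem_bot] at this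
    exact congrArg Subtype.val this
  · exfalso
    exact h.not_le 0 fun q hq => h.cen 0 q hq fun y hy => by
      have : (⟨q, hQ (h.le 0 hq)⟩ : N) ∈ center N := e ▸ mem_top _
      exact congrArg Subtype.val (mem_center_iff.1 this ⟨y, hQ (h.le 0 hy)⟩)

omit [Finite G] in
theorem normal_of_simple {M : Subgroup G} [hM : M.Normal] {N : Subgroup M} [hN : N.Normal] (hs : IsSimpleGroup N)
    (hc : (N.map M.subtype).index * (N.map M.subtype).index < Nat.card G) : (N.map M.subtype).Normal := by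
  set L := N.map M.subtype with hL
  have nm : ∀ v ∈ M, ∀ u ∈ L, v * u * v⁻¹ ∈ L := by
    rintro v hv _ ⟨u, hu, rfl⟩
    exact ⟨_, hN.conj_mem u hu ⟨v, hv⟩, rfl⟩
  have hs' : IsSimpleGroup L := (N.equivMapOfInjective _ M.subtype_injective).symm.isSimpleGroup
  refine ⟨fun n hn g => ?_⟩
  let L' := L.comap (MulAut.conj g).toMonoidHom
  have m' : ∀ {u}, u ∈ L' ↔ g * u * g⁻¹ ∈ L := Iff.rfl
  have : (L'.subgroupOf L).Normal := ⟨fun u hu v => by
    rw [mem_subgroupOf, m'] at hu ⊢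
    have := nm _ (hM.conj_mem v (map_subtype_le _ v.2) g) _ hu
    convert this using 1
    simp only [coe_mul, coe_inv]
    group⟩
  rcases hs'.eq_bot_or_eq_top_of_normal _ this with e | e
  · exfalso
    rw [subgroupOf_eq_bot, disjoint_iff] at e
    have k := index_inf_le (H := L') (K := L)
    rw [e, index_bot, index_comap_of_surjective _ (MulAut.conj g).surjective] at k
    omega
  · exact m'.1 (subgroupOf_eq_top.1 e hn)

theorem EH.main (h : EH z Q Qi r π τ) (nw : NW z) {K : Type*} [Field K] [Fintype K] (hK : Fintype.card K = 4) :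
    ∃ N : Subgroup G, N.Normal ∧ Nonempty (N ≃* Cfsg.Lie.twistedE6 K 2) ∧ centralizer (N : Set G) = ⊥ ∧ N.index ∣ 6 := by
  by_cases h2 : NoSw z τ
  · obtain ⟨N, n1, n2, n3, n4, n5⟩ := h.mainB nw h2 hK
    exact ⟨N, n1, n2, h.cent_bot n3 n4, n5.trans (by norm_num)⟩
  · obtain ⟨a, x, σ, e⟩ := h.exists_ET (h.exists_in_Q nw)
    obtain ⟨b, x', e'⟩ := e.exists_EX
    obtain ⟨M, m1, m2, m3, m4, m5⟩ := e'.exists_two h2
    obtain ⟨N, n1, ⟨n2⟩, n3, n4, n5⟩ := (h.sub m2 m3).mainB (nw.sub (m2 h.z_mem) m4)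
      (fun g hg => m5 g g.2 (cx_sub hg)) hK
    have := normal_of_index_eq_two m1
    have i6 : (N.map M.subtype).index ∣ 6 := by
      rw [index_map_subtype, m1]
      exact Nat.mul_dvd_mul_right n5 2
    have e := N.equivMapOfInjective _ M.subtype_injective
    have hQ : Q ≤ N.map M.subtype := fun q hq => ⟨⟨q, m2 hq⟩, n4 hq, rfl⟩
    refine ⟨N.map M.subtype, normal_of_simple n3 ?_, ⟨e.symm.trans n2⟩, h.cent_bot e.symm.isSimpleGroup hQ, i6⟩
    have k := Nat.le_of_dvd (by norm_num) i6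
    have k2 := card_le_card_group Q
    rw [h.card] at k2
    have := Nat.mul_le_mul k k
    omega

end CfsgLib.Rec3E
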