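import Cfsg.Agent.Lib.Rec3E.Defs
import Cfsg.Agent.Lib.Rec3B.ULa
import Cfsg.Agent.Lib.Rec3B.F5
import Cfsg.Agent.Lib.Rec3B.KE1a

/-! The three quaternion groups (plans/REC3E.md, RB). -/

set_option autoImplicit false
set_option maxRecDepth 100000
set_option maxHeartbeats 400000
set_option linter.unusedSectionVars false
set_option linter.unusedVariables false

namespace CfsgLib.Rec3E

open Subgroup Cfsg CfsgLib.Tech CfsgLib.PComp CfsgLib.W2 CfsgLib.Rec3 CfsgLib.Rec3B CfsgLib.Rec3B.W4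
open CfsgLib.U43 (SL)

variable {G : Type*} [Group G] [Finite G]
variable {z x σ : G} {Q : Subgroup G} {Qi : Fin 3 → Subgroup G} {r a b : Fin 3 → G} {π : Fin 3 → G → SL}
  {τ : G → Equiv.Perm (Fin 3)} {i j k : Fin 3} {φ : W4 →* G}

namespace RBx

theorem sl_pm : ∀ a : SL, a * a = 1 → a = 1 ∨ a * SL.o 1 = 1 := by decide +kernel

theorem sl_cmt : ∀ a b : SL, a ^ 4 = 1 → b ^ 4 = 1 → a * b * a⁻¹ * b⁻¹ * (a * b * a⁻¹ * b⁻¹) = 1 := by
  decide +kernel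

theorem sl_four : ∀ a : SL, a ^ 4 = 1 → a = 1 ∨ a * SL.o 1 = 1 ∨ a * a * SL.o 1 = 1 := by decide +kernel

theorem sl_fpf : ∀ a b : SL, a ^ 3 = 1 → a ≠ 1 → b ^ 4 = 1 →
    a * b * a⁻¹ * b⁻¹ = 1 ∨ a * b * a⁻¹ * b⁻¹ = SL.o 1 → b = 1 ∨ b * SL.o 1 = 1 := by decide +kernel

theorem sl_card : Nat.card {a : SL // a ^ 4 = 1} = 8 := by
  rw [Nat.card_eq_fintype_card, Fintype.card_subtype]; decide +kernel

theorem one_of {M : Type*} [Group M] {s : M} (h3 : s ^ 3 = 1) (h4 : s ^ 4 = 1) : s = 1 := by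
  rwa [pow_succ, h3, one_mul] at h4

theorem f4 {M : Type*} [Group M] (a : M) : a ^ 4 = a * a * (a * a) := by
  simp only [pow_succ, pow_zero, one_mul, mul_assoc]

theorem count {ι : Type*} {P Z : Subgroup G} (hZ : Z ≤ P) (v : ι → G) (hv : ∀ a, v a ∈ P)
    (e : ∀ a b, v a * (v b)⁻¹ ∈ Z → a = b) : Nat.card ι * Nat.card Z ≤ Nat.card P := by
  rw [← Nat.card_prod]
  refine Nat.card_le_card_of_injective (fun c : ι × Z => (⟨c.2 * v c.1, mul_mem (hZ c.2.2) (hv _)⟩ : P)) ?_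
  rintro ⟨a, w⟩ ⟨b, w'⟩ k
  have k : (w : G) * v a = w' * v b := congrArg Subtype.val k
  obtain rfl := e a b (by
    rw [show v a * (v b)⁻¹ = (w : G)⁻¹ * (w * v a) * (v b)⁻¹ by group, k, ← mul_assoc, mul_inv_cancel_right]
    exact mul_mem (inv_mem w.2) w'.2)
  rw [Subtype.ext (mul_right_cancel k)]

/-- the centraliser of `z`, `t` and `C_Q(t)` -/
def DD (z : G) (Q : Subgroup G) (t : G) : Subgroup G :=
  Cx z ⊓ Cx t ⊓ centralizer ((Q ⊓ Cx t : Subgroup G) : Set G)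

theorem mem_DD {t g : G} : g ∈ DD z Q t ↔ g ∈ Cx z ∧ g ∈ Cx t ∧ Q ⊓ Cx t ≤ Cx g :=
  ⟨fun k => ⟨k.1.1, k.1.2, fun q hq => mem_Cx.2 (mem_centralizer_iff.1 k.2 q hq)⟩,
    fun k => ⟨⟨k.1, k.2.1⟩, mem_centralizer_iff.2 fun q hq => mem_Cx.1 (k.2.2 hq)⟩⟩

theorem Dz {t g : G} (k : g ∈ DD z Q t) : g ∈ Cx z := (mem_DD.1 k).1

theorem Dr {t g : G} (k : g ∈ DD z Q t) : g ∈ Cx t := (mem_DD.1 k).2.1

variable (h : NH z Q Qi r π τ) {g g' u y p q : G}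
include h

theorem Qj_le (ij : j ≠ i) : Qi j ≤ Q ⊓ Cx (r i) := le_inf (h.le j) (h.rj i j ij.symm)

theorem QC_le {K : Subgroup G} (hz : z ∈ K) (hK : ∀ j, j ≠ i → Qi j ≤ K) : Q ⊓ Cx (r i) ≤ K := fun q hq => by
  obtain ⟨y, hy, rfl⟩ := h.dec q hq.1
  obtain ⟨u, hu, v, hv, e⟩ := NBx.prod_split (K := K ⊓ Cx (r i)) y i fun j ij =>
    ⟨hK j ij (hy j), h.rj i j ij.symm (hy j)⟩
  have h1 : y i ∈ Cx (r i) := by
    have := (mem_inf.1 hq).2
    rwa [e, mul_mem_cancel_right (mem_inf.1 hv).2, mul_mem_cancel_left (mem_inf.1 hu).2] at this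
  have h2 := h.ri i _ (hy i)
  rw [mem_Cx'.1 (Cx_comm.1 h1)] at h2
  rw [e]
  exact mul_mem (mul_mem hu.1 (zpowers_le.2 hz (NBx.of_sq (h.exp _ (h.le i (hy i))) h2))) hv.1

theorem mk_DD (hg : g ∈ Cx z) (hr : g ∈ Cx (r i)) (e : ∀ j, j ≠ i → Qi j ≤ Cx g) : g ∈ DD z Q (r i) :=
  mem_DD.2 ⟨hg, hr, QC_le h (Cx_comm.1 hg) e⟩

theorem D_Q (hg : g ∈ DD z Q (r i)) (ij : j ≠ i) : Qi j ≤ Cx g := (Qj_le h ij).trans (mem_DD.1 hg).2.2

theorem D_H0 (hg : g ∈ DD z Q (r i)) : g ∈ h.H0 := h.mem_H0.2 ⟨(Dz hg), Equiv.ext fun j => by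
  by_cases e : j = i
  · rw [e]; exact h.ul_τ_of_cr (Dz hg) (Dr hg)
  · exact h.τ_fix (Dz hg) fun p hp => by rwa [mem_Cx'.1 (Cx_comm.1 (D_Q h hg e hp))]⟩

theorem D_St (hg : g ∈ DD z Q (r i)) (j : Fin 3) : g ∈ h.St j := h.H0_le j (D_H0 h hg)

theorem D_π (hg : g ∈ DD z Q (r i)) (ij : j ≠ i) : π j g = 1 :=
  (h.πk j g (Dz hg) (h.mem_St.1 (D_St h hg j)).2).2 fun p hp => by
    rw [mem_Cx'.1 (Cx_comm.1 (D_Q h hg ij hp)), mul_inv_cancel]; exact one_mem _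

theorem D_ker (hg : g ∈ DD z Q (r i)) (e : π i g = 1) : g ∈ zpowers z := by
  have hQ : g ∈ Q := h.mem_Q (Dz hg) (h.mem_H0.1 (D_H0 h hg)).2 fun j => by
    by_cases k : j = i
    · rw [k, e]
    · exact D_π h hg k
  refine h.cenQ hQ fun y hy => mem_Cx.1 (h.gen_le (K := Cx g) (fun j => ?_) hy)
  by_cases k : j = i
  · rw [k]; exact h.X_cent (Dz hg) (h.mem_St.1 (D_St h hg i)).2 (Dr hg) e
  · exact D_Q h hg k

theorem r_D (i : Fin 3) : r i ∈ DD z Q (r i) := mem_DD.2 ⟨h.rz i, mem_Cx.2 rfl, inf_le_right⟩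

theorem D_r (hg : g ∈ DD z Q (r i)) (j : Fin 3) : g ∈ Cx (r j) := by
  by_cases e : j = i
  · rw [e]; exact (Dr hg)
  have rn : ∀ p ∈ Q ⊓ Cx (r i), r j * p * (r j)⁻¹ ∈ Q ⊓ Cx (r i) := fun p hp =>
    mem_inf.2 ⟨conj_mem_of_mem_normalizer (h.norm_Q (h.rz j)) hp.1,
      mul_mem (mul_mem (mem_Cx.2 (h.rm j i)) (mem_inf.1 hp).2) (inv_mem (mem_Cx.2 (h.rm j i)))⟩
  have g' : r j * g⁻¹ * (r j)⁻¹ ∈ DD z Q (r i) := mem_DD.2
    ⟨mul_mem (mul_mem (h.rz j) (inv_mem (Dz hg))) (inv_mem (h.rz j)),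
      mul_mem (mul_mem (mem_Cx.2 (h.rm j i)) (inv_mem (Dr hg))) (inv_mem (mem_Cx.2 (h.rm j i))), fun p hp => by
        have := conj_mem_Cx (g := r j).2 ((mem_DD.1 (inv_mem hg)).2.2 (rn p hp))
        rwa [show r j * (r j * p * (r j)⁻¹) * (r j)⁻¹ = r j * r j * p * (r j * r j)⁻¹ by group, h.rr,
          one_mul, inv_one, mul_one] at this⟩
  have s := h.H0_le i (F5.r0 h j)
  have hw := D_ker h (mul_mem hg g') (by
    rw [h.π_mul (D_St h hg i) (D_St h g' i), h.π_mul (mul_mem s (inv_mem (D_St h hg i))) (inv_mem s),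
      h.π_mul s (inv_mem (D_St h hg i)), h.π_inv s, h.π_inv (D_St h hg i), F5.π_rj h (Ne.symm e)]
    group)
  have h1 := Es.zcj hw (h.rz j)
  have h2 : (g * (r j * g⁻¹ * (r j)⁻¹)) ^ 4 = 1 := by
    have : (g * (r j * g⁻¹ * (r j)⁻¹)) ^ 2 = 1 := by
      rw [pow_two]
      nth_rw 2 [← h1]
      calc _ = g * (r j * g⁻¹ * g * r j) * g⁻¹ * (r j * r j)⁻¹ := by group
        _ = 1 := by rw [inv_mul_cancel_right, h.rr]; group
    rw [show 4 = 2 * 2 from rfl, pow_mul, this, one_pow]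
  have h3 := one_of (Es.zcube h.z3 hw) h2
  refine mem_Cx.2 ?_
  calc g * r j = g * (r j * g⁻¹ * (r j)⁻¹) * (r j * g) := by group
    _ = _ := by rw [h3, one_mul]

theorem D_cen (hg : g ∈ DD z Q (r i)) (e : π i g * π i g = 1) (hu : u ∈ DD z Q (r i)) : u * g = g * u := by
  rcases sl_pm _ e with k | k
  · exact Es.zc (D_ker h hg k) (Dz hu)
  · have := Es.zc (D_ker h (mul_mem hg (r_D h i))
      (by rw [h.π_mul (D_St h hg i) (D_St h (r_D h i) i), F5.π_rr h, k])) (Dz hu)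
    rw [mul_assoc, ← mem_Cx.1 (Dr hu), ← mul_assoc, ← mul_assoc] at this
    exact mul_right_cancel this

theorem D_mul (hg : g ∈ DD z Q (r i)) (hu : u ∈ DD z Q (r i)) (g4 : g ^ 4 = 1) (u4 : u ^ 4 = 1) :
    (g * u) ^ 4 = 1 := by
  have sg := D_St h hg i
  have su := D_St h hu i
  have p4 : ∀ {g}, g ∈ h.St i → g ^ 4 = 1 → π i g ^ 4 = 1 := fun s e => by rw [← h.π_pow s, e, h.π_one]
  have c1 : g * g * u = u * (g * g) :=
    (D_cen h (mul_mem hg hg) (by rw [h.π_mul sg sg, ← p4 sg g4]; exact (f4 (M := SL) _).symm) hu).symm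
  have hc := mul_mem (mul_mem (mul_mem hg hu) (inv_mem hg)) (inv_mem hu)
  have c2 : ∀ {w}, w ∈ DD z Q (r i) → w * (g * u * g⁻¹ * u⁻¹) = g * u * g⁻¹ * u⁻¹ * w := D_cen h hc (by
    rw [h.π_mul (mul_mem (mul_mem sg su) (inv_mem sg)) (inv_mem su), h.π_mul (mul_mem sg su) (inv_mem sg),
      h.π_mul sg su, h.π_inv sg, h.π_inv su]
    exact sl_cmt _ _ (p4 sg g4) (p4 su u4))
  have c3 : g * u = g * u * g⁻¹ * u⁻¹ * (u * g) := by group
  generalize g * u * g⁻¹ * u⁻¹ = c at hc c2 c3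
  have c4 : c * c = 1 := by
    have : g * g * u = c * c * (u * (g * g)) := by
      calc g * g * u = g * (c * (u * g)) := by rw [mul_assoc, c3]
        _ = c * (g * u) * g := by rw [← mul_assoc, c2 hg]; group
        _ = _ := by rw [c3]; group
    rw [c1] at this
    exact (mul_eq_right.1 this.symm)
  have c5 : g * u * (g * u) = c * (u * u * (g * g)) := by
    calc g * u * (g * u) = c * (u * (g * g * u)) := by nth_rw 1 [c3]; group
      _ = _ := by rw [c1]; group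
  have c6 : u * u * (g * g) * (u * u * (g * g)) = 1 := by
    calc _ = u * u * (g * g * u) * u * (g * g) := by group
      _ = u * u * (u * (g * g)) * u * (g * g) := by rw [c1]
      _ = u * u * u * (g * g * u) * (g * g) := by group
      _ = u ^ 4 * g ^ 4 := by rw [c1, f4, f4]; group
      _ = 1 := by rw [u4, g4, one_mul]
  rw [f4, c5, mul_assoc, ← mul_assoc _ c, c2 (mul_mem (mul_mem hu hu) (mul_mem hg hg)), mul_assoc, c6,
    mul_one, c4]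

theorem mem_R : g ∈ RE z Q (r i) ↔ g ∈ DD z Q (r i) ∧ g ^ 4 = 1 := by
  let M : Subgroup G :=
    { carrier := {g | g ∈ DD z Q (r i) ∧ g ^ 4 = 1}
      one_mem' := ⟨one_mem _, one_pow 4⟩
      mul_mem' := fun ha hb => ⟨mul_mem ha.1 hb.1, D_mul h ha.1 hb.1 ha.2 hb.2⟩
      inv_mem' := fun ha => ⟨inv_mem ha.1, by rw [inv_pow, ha.2, inv_one]⟩ }
  exact ⟨fun k => ((closure_le M).2 fun _ e => ⟨mem_DD.2 ⟨e.1, e.2.1, e.2.2.1⟩, e.2.2.2⟩) k,
    fun k => subset_closure ⟨k.1.1.1, k.1.1.2, (mem_DD.1 k.1).2.2, k.2⟩⟩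

theorem R_St (hg : g ∈ RE z Q (r i)) (j : Fin 3) : g ∈ h.St j := D_St h ((mem_R h).1 hg).1 j

theorem r_R (i : Fin 3) : r i ∈ RE z Q (r i) :=
  (mem_R h).2 ⟨r_D h i, by rw [show 4 = 2 * 2 from rfl, pow_mul, pow_two (r i), h.rr, one_pow]⟩

theorem R_π (hg : g ∈ RE z Q (r i)) : π i g ^ 4 = 1 := by
  rw [← h.π_pow (R_St h hg i), ((mem_R h).1 hg).2, h.π_one]

theorem inj (hg : g ∈ RE z Q (r i)) (e : π i g = 1) : g = 1 :=
  one_of (Es.zcube h.z3 (D_ker h ((mem_R h).1 hg).1 e)) ((mem_R h).1 hg).2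

theorem inj_r (hg : g ∈ RE z Q (r i)) (e : π i g * SL.o 1 = 1) : g = r i := by
  have := inj h (mul_mem hg (r_R h i)) (by rw [h.π_mul (R_St h hg i) (R_St h (r_R h i) i), F5.π_rr h, e])
  rw [eq_inv_of_mul_eq_one_left this, inv_eq_of_mul_eq_one_right (h.rr i)]

theorem cj_le (hg : g ∈ normalizer (zpowers z : Set G)) (e : g * r i * g⁻¹ = r j) :
    cj g (RE z Q (r i)) ≤ RE z Q (r j) := cj_le_iff.2 fun y hy => by
  obtain ⟨hy, y4⟩ := (mem_R h).1 hy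
  refine (mem_R h).2 ⟨mem_DD.2 ⟨?_, e ▸ conj_mem_Cx.2 (Dr hy), fun q hq => ?_⟩, by rw [conj_pow, y4]; group⟩
  · have := conj_mem_Cx (g := g).2
      (mem_Cx.2 (Es.zc (conj_mem_of_mem_normalizer' hg (mem_zpowers z)) (Dz hy)))
    rwa [show g * (g⁻¹ * z * g) * g⁻¹ = z by group] at this
  · have h1 : g⁻¹ * q * g ∈ Cx (r i) := conj_mem_Cx (g := g).1 (by
      rw [e, show g * (g⁻¹ * q * g) * g⁻¹ = q by group]; exact hq.2)
    have := conj_mem_Cx (g := g).2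
      ((mem_DD.1 hy).2.2 ⟨conj_mem_of_mem_normalizer' (h.nQ hg) hq.1, h1⟩)
    rwa [show g * (g⁻¹ * q * g) * g⁻¹ = q by group] at this

theorem nz (hg : g ∈ Cx z) : g ∈ normalizer (zpowers z : Set G) :=
  mem_normalizer_iff_cj.2 (by rw [cj_zpowers, mem_Cx'.1 hg])

end RBx

open RBx

namespace EH

variable (h : EH z Q Qi r π τ) {g u y p q : G}
include h

theorem mem_RE : g ∈ RE z Q (r i) ↔ g ∈ Cx z ∧ g ∈ Cx (r i) ∧ Q ⊓ Cx (r i) ≤ Cx g ∧ g ^ 4 = 1 := by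
  rw [mem_R h.toNH, mem_DD, and_assoc, and_assoc]

theorem QC (ij : i ≠ j) (ik : i ≠ k) (jk : j ≠ k) : Q ⊓ Cx (r i) = Qi j ⊔ Qi k := by
  refine le_antisymm (QC_le h.toNH (mem_sup_left (h.zQ j)) fun l li => ?_)
    (sup_le (Qj_le h.toNH ij.symm) (Qj_le h.toNH ik.symm))
  obtain rfl | rfl : l = j ∨ l = k := by omega
  exacts [le_sup_left, le_sup_right]

theorem R_H0 (hg : g ∈ RE z Q (r i)) :
    g ∈ Cx z ∧ τ g = 1 ∧ π i g ^ 4 = 1 ∧ (∀ j, j ≠ i → π j g = 1) ∧ ∀ j, g ∈ Cx (r j) := by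
  have d := ((mem_R h.toNH).1 hg).1
  exact ⟨(Dz d), (h.toNH.mem_H0.1 (D_H0 h.toNH d)).2, R_π h.toNH hg, fun j => D_π h.toNH d, D_r h.toNH d⟩

theorem R_onto (i : Fin 3) {α : SL} (hα : α ^ 4 = 1) : ∃ g ∈ RE z Q (r i), π i g = α := by
  have H := h.toNH
  obtain ⟨g, hg, t, e⟩ := h.full (Function.update 1 i α) fun j => by
    by_cases k : j = i
    · rw [k, Function.update_self, hα]
    · rw [Function.update_of_ne k]; exact one_pow 4
  obtain ⟨-, -, c, hc, cρ, -, tc, πc⟩ := H.ul_dec hg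
  rw [t] at tc
  have π' : ∀ j, π j c = Function.update (1 : Fin 3 → SL) i α j := fun j => (πc j (by rw [t]; rfl)).trans (e j)
  have cr := H.ul_cr hc cρ tc
  have d : c ∈ DD z Q (r i) := mk_DD H hc (cr i) fun j k =>
    H.X_cent hc (by rw [tc]; rfl) (cr j) (by rw [π', Function.update_of_ne k]; rfl)
  have e1 : π i c = α := by rw [π', Function.update_self]
  have c4 := Es.zcube H.z3 (D_ker H (pow_mem d 4) (by rw [H.π_pow (D_St H d i), e1, hα]))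
  refine ⟨c ^ 9, (mem_R H).2 ⟨pow_mem d 9, ?_⟩, ?_⟩
  · rw [← pow_mul, show 9 * 4 = 4 * 3 * 3 from rfl, pow_mul, pow_mul, c4, one_pow]
  · rw [H.π_pow (D_St H d i), e1, show 9 = 4 * 2 + 1 from rfl, pow_succ, pow_mul, hα, one_pow, one_mul]

theorem R_inj (hg : g ∈ RE z Q (r i)) (e : π i g = 1) : g = 1 := inj h.toNH hg e

theorem q8 (i : Fin 3) : Q8 (r i) (RE z Q (r i)) := by
  have H := h.toNH
  refine ⟨h.rr i, F5.r_ne H i, r_R H i, ?_, fun y hy => ?_⟩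
  · rw [← sl_card]
    refine Nat.card_congr (Equiv.ofBijective (fun g => ⟨π i g, R_π H g.2⟩) ⟨fun a b e => ?_, fun s => ?_⟩)
    · have e : π i a = π i b := congrArg Subtype.val e
      exact Subtype.ext (mul_inv_eq_one.1 (inj H (mul_mem a.2 (inv_mem b.2)) (by
        rw [H.π_mul (R_St H a.2 i) (inv_mem (R_St H b.2 i)), H.π_inv (R_St H b.2 i), e, mul_inv_cancel])))
    · obtain ⟨g, hg, e⟩ := h.R_onto i s.2
      exact ⟨⟨g, hg⟩, Subtype.ext e⟩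
  · exact (sl_four _ (R_π H hy)).imp (inj H hy) fun k => k.imp (inj_r H hy) fun k =>
      inj_r H (mul_mem hy hy) (by rw [H.π_mul (R_St H hy i) (R_St H hy i), k])

theorem nR (i : Fin 3) : normalizer (zpowers z : Set G) ⊓ Cx (r i) ≤ normalizer (RE z Q (r i) : Set G) :=
  fun _ hg => mem_normalizer_of_cj_le (cj_le h.toNH hg.1 (mem_Cx'.1 hg.2))

theorem cj_R (hg : g ∈ Cx z) (hρ : g ∈ Cx (rho r)) (i : Fin 3) : cj g (RE z Q (r i)) = RE z Q (r (τ g i)) :=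
  eq_of_le_of_card_ge (cj_le h.toNH (nz h.toNH hg) (h.toNH.X_r hg hρ i))
    (by rw [card_cj, (h.q8 i).card, (h.q8 _).card])

theorem R_Q (ij : i ≠ j) (hg : g ∈ RE z Q (r i)) : Qi j ≤ Cx g :=
  D_Q h.toNH ((mem_R h.toNH).1 hg).1 ij.symm

theorem cent_of (hu : u ∈ Cx z) (hr : u ∈ Cx (r i)) (e : π i u = 1) : Qi i ≤ Cx u ∧ RE z Q (r i) ≤ Cx u := by
  have H := h.toNH
  have t := H.ul_τ_of_cr hu hr
  have s := H.mem_St.2 ⟨hu, t⟩
  refine ⟨H.X_cent hu t hr e, fun y hy => Cx_comm.1 (mem_Cx'.2 (mul_inv_eq_one.1 ?_))⟩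
  have sy := R_St H hy i
  refine inj H (mul_mem (conj_mem_of_mem_normalizer (h.nR i ⟨nz H hu, hr⟩) hy) (inv_mem hy)) ?_
  rw [H.π_mul (mul_mem (mul_mem s sy) (inv_mem s)) (inv_mem sy), H.π_mul (mul_mem s sy) (inv_mem s),
    H.π_mul s sy, H.π_inv s, H.π_inv sy, e]
  group

theorem R_R (ij : i ≠ j) (hg : g ∈ RE z Q (r i)) : RE z Q (r j) ≤ Cx g := by
  obtain ⟨h1, -, -, h2, h3⟩ := h.R_H0 hg
  exact (h.cent_of h1 (h3 j) (h2 j ij.symm)).2

theorem fpf (hu : u ∈ Cx z) (hr : u ∈ Cx (r i)) (e : π i u ^ 3 = 1) (e' : π i u ≠ 1) (hy : y ∈ RE z Q (r i))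
    (c : Cj (zpowers (r i)) u y y) : y = 1 ∨ y = r i := by
  have H := h.toNH
  have s := H.mem_St.2 ⟨hu, H.ul_τ_of_cr hu hr⟩
  have sy := R_St H hy i
  refine (sl_fpf _ _ e e' (R_π H hy) ?_).imp (inj H hy) (inj_r H hy)
  rw [← H.π_inv s, ← H.π_inv sy, ← H.π_mul s sy, ← H.π_mul (mul_mem s sy) (inv_mem s),
    ← H.π_mul (mul_mem (mul_mem s sy) (inv_mem s)) (inv_mem sy)]
  exact ((ExtraTwo.mem_zpowers_iff_of_mul_self (h.rr i)).1 c).imp (fun k => by rw [k, H.π_one])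
    fun k => by rw [k, F5.π_rr H]

theorem R_trans (hp : p ∈ Qi i) (hp' : p ∉ zpowers z) (hq : q ∈ Qi i) (hq' : q ∉ zpowers z) :
    ∃ y ∈ RE z Q (r i), y * p * y⁻¹ * q⁻¹ ∈ zpowers z := by
  have H := h.toNH
  by_contra! hn
  have cz : ∀ y : RE z Q (r i), (y : G) ∈ Cx z := fun y => (h.R_H0 y.2).1
  have n1 : ∀ y : RE z Q (r i), y * p * (y : G)⁻¹ ∉ zpowers z := fun y k => hp' (by
    rwa [← Es.zcj k (inv_mem (cz y)), show (y : G)⁻¹ * (y * p * (y : G)⁻¹) * (y : G)⁻¹⁻¹ = p by group] at k)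
  have := count (ι := Option (Option (RE z Q (r i)))) (H.ZQi i)
    (fun c => c.elim 1 fun c => c.elim q fun y => y * p * (y : G)⁻¹) ?_ ?_
  · rw [Finite.card_option, Finite.card_option, (h.q8 i).card, Es.cardZ h.z1 H.z3, h.cardi] at this
    omega
  · rintro (_ | _ | y)
    exacts [one_mem _, hq,
      conj_mem_of_mem_normalizer (H.norm_Qi (cz y) (H.mem_St.1 (R_St H y.2 i)).2) hp]
  · rintro (_ | _ | y) (_ | _ | y') k <;> simp only [Option.elim, one_mul, inv_one, mul_one, inv_mem_iff] at k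
    · rfl
    · exact absurd k hq'
    · exact absurd k (n1 y')
    · exact absurd k hq'
    · rfl
    · exact absurd (by simpa [mul_assoc] using inv_mem k) (hn y' y'.2)
    · exact absurd k (n1 y)
    · exact absurd k (hn y y.2)
    · have hw := mul_mem (inv_mem y'.2) y.2
      have k1 := (H.π_cube (h.R_H0 hw).1 hp hp' (by
        rw [← Es.zcj k (inv_mem (cz y'))] at k
        convert k using 1
        group)).2
      rw [Subtype.ext (inv_mul_eq_one.1 (inj H hw (one_of k1 (R_π H hw))))]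

theorem decR (hg : g ∈ Cx z) (t : τ g = 1) (e : ∀ i, π i g ^ 4 = 1) :
    ∃ q ∈ Q, ∃ y : Fin 3 → G, (∀ i, y i ∈ RE z Q (r i)) ∧ g = q * (y 0 * y 1 * y 2) := by
  have H := h.toNH
  choose y hy ey using fun i => h.R_onto i (e i)
  have s : ∀ i, y i ∈ H.H0 := fun i => D_H0 H ((mem_R H).1 (hy i)).1
  have s' := mul_mem (mul_mem (s 0) (s 1)) (s 2)
  have g0 := H.mem_H0.2 ⟨hg, t⟩
  have hq := H.mem_H0.1 (mul_mem g0 (inv_mem s'))
  refine ⟨_, H.mem_Q hq.1 hq.2 fun l => ?_, y, hy, (inv_mul_cancel_right _ _).symm⟩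
  have o : ∀ i, l ≠ i → π l (y i) = 1 := fun i k => (h.R_H0 (hy i)).2.2.2.1 l k
  rw [H.π_mul (H.H0_le l g0) (inv_mem (H.H0_le l s')), H.π_inv (H.H0_le l s'),
    H.π_mul (H.H0_le l (mul_mem (s 0) (s 1))) (H.H0_le l (s 2)), H.π_mul (H.H0_le l (s 0)) (H.H0_le l (s 1)),
    mul_inv_eq_one, ← ey l]
  obtain rfl | rfl | rfl : l = 0 ∨ l = 1 ∨ l = 2 := by omega
  · rw [o 1 (by decide), o 2 (by decide), mul_one, mul_one]
  · rw [o 0 (by decide), o 2 (by decide), one_mul, mul_one]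
  · rw [o 0 (by decide), o 1 (by decide), one_mul, one_mul]

end EH

end CfsgLib.Rec3E
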