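import Cfsg.Agent.Lib.Rec3E.E10
import Cfsg.Agent.Lib.Rec3E.HW
import Cfsg.Agent.Lib.E62.RFin

/-! The simple group (plans/REC3E.md, T2). -/

set_option autoImplicit false
set_option maxRecDepth 100000
set_option maxHeartbeats 400000

namespace CfsgLib.Rec3E

open Subgroup Cfsg CfsgLib.Tech CfsgLib.PComp CfsgLib.W2 CfsgLib.Rec3 CfsgLib.Rec3B CfsgLib.Rec3B.W4
open CfsgLib.U43 (SL)

variable {G : Type*} [Group G] [Finite G]
variable {z x σ : G} {Q : Subgroup G} {Qi : Fin 3 → Subgroup G} {r a b : Fin 3 → G} {π : Fin 3 → G → SL}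
  {τ : G → Equiv.Perm (Fin 3)} {i j k : Fin 3} {φ : W4 →* G}

theorem EP.six (h : EP z Q Qi r π τ a b x σ i j k φ) (hK : Cx (r i) ≤ M6 φ (a i) (r i)) :
    ∃ f : Cx (r i) →* K0 (a i) (r i), E62.Six (E6 φ (r i)) (r i) f ∧
      ∀ c : K0 (a i) (r i), f ⟨c, c.2.2⟩ = c := by
  obtain ⟨p, h1, h2⟩ := h.exists_p
  have es : ExtraTwo.ES (E6 φ (r i)) (r i) := h.cpr.es
  refine ⟨p.comp (inclusion hK), ⟨⟨es, fun g hg => ?_, fun g hg => ?_⟩, h.cpr.card, fun c => ⟨⟨c, c.2.2⟩, h2 c⟩,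
    fun g => h1 _⟩, h2⟩
  · exact h.cM_E (hK (mem_Cx.2 (hg _ es.mem).symm)) fun q hq => mem_Cx.2 (hg q hq)
  · exact fun x => conj_mem_of_mem_normalizer (sup_le le_normalizer h.K0_norm (hK (mem_Cx.2 hg)))

theorem EX.simple (h : EX z Q Qi r π τ a b x σ) (h1 : Sm z π τ) (h2 : NoSw z τ) {K : Type*} [Field K] [Fintype K]
    (hK : Fintype.card K = 4) : Nonempty (G ≃* Cfsg.Lie.twistedE6 K 2) ∧ IsSimpleGroup G := by
  obtain ⟨φ, e⟩ := h.exists_EP (i := 0) (j := 1) (k := 2) (by decide) (by decide) (by decide)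
  have hc := e.cK (.inl h1)
  obtain ⟨f, s, -⟩ := e.six hc
  obtain ⟨ι⟩ := e.L0_iso hK
  have h3 : K0 (a 0) (r 0) = L0 z (a 0) (r 0) := le_antisymm (fun g hg => by
    obtain ⟨l, hl, c, hc, hc', rfl⟩ := e.K0_nosw h2 hg
    obtain ⟨u, -, rfl⟩ := (h.phi_J e).ge ⟨h.sm_iff.1 h1 hc, hc'⟩
    exact mul_mem hl (e.phi_L0 u)) e.L0_le
  let κ := (MulEquiv.subgroupCongr h3).trans ι
  exact E62.Six.recog hK (f := κ.toMonoidHom.comp f) ⟨s.pre, s.card, κ.surjective.comp s.surj,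
    fun g => (map_eq_one_iff κ κ.injective).trans (s.ker g)⟩ (e.hw hc)

end CfsgLib.Rec3E
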